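import Mathlib
import Groth.Agent.S3245

/-!
# Skolem–Noether for automorphisms of finite-dimensional central simple algebras

* `bijective_mulLeftRight_of_csa` : `A ⊗ Aᵐᵒᵖ → End_K A` is bijective for a f.d. CSA.
* `exists_unit_conj_algEquiv` : every `K`-algebra automorphism of a f.d. CSA is inner.
* `exists_unit_conj_of_fix_center` : every ring automorphism of a simple ring, f.d. over a field
  `k`, fixing the centre pointwise, is inner.
-/

set_option autoImplicit false
set_option linter.style.haveILetI false

namespace Groth.Agent.Lib.Helper59.SkolemNoether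

open TensorProduct MulOpposite

section CSA

variable {K : Type*} [Field K] {A : Type*} [Ring A] [Algebra K A]

theorem bijective_mulLeftRight_of_csa [FiniteDimensional K A] [Algebra.IsCentral K A]
    [IsSimpleRing A] : Function.Bijective (AlgHom.mulLeftRight K A) := by
  have hs := Groth.Agent.S3245.surjective_mulLeftRight_of_csa (k := K) (B := A)
  refine ⟨?_, hs⟩
  have hop : Module.finrank K Aᵐᵒᵖ = Module.finrank K A :=
    (MulOpposite.opLinearEquiv K (M := A)).symm.finrank_eq
  have : Module.finrank K (A ⊗[K] Aᵐᵒᵖ) = Module.finrank K (Module.End K A) := by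
    rw [Module.finrank_tensorProduct, Module.finrank_linearMap, hop]
  exact (LinearMap.injective_iff_surjective_of_finrank_eq_finrank
    (f := (AlgHom.mulLeftRight K A).toLinearMap) this).mpr hs

/-- Skolem–Noether for automorphisms. -/
theorem exists_unit_conj_algEquiv [FiniteDimensional K A] [Algebra.IsCentral K A]
    [IsSimpleRing A] (f : A ≃ₐ[K] A) : ∃ u : Aˣ, ∀ x, f x = u * x * ((u⁻¹ : Aˣ) : A) := by
  let μ : A ⊗[K] Aᵐᵒᵖ ≃ₐ[K] Module.End K A :=
    AlgEquiv.ofBijective (AlgHom.mulLeftRight K A) bijective_mulLeftRight_of_csa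
  have hμ : ∀ (a : A) (b : Aᵐᵒᵖ) (x : A), μ (a ⊗ₜ b) x = a * x * b.unop := by
    intro a b x
    simp [μ, AlgHom.mulLeftRight_apply]
  let g : Module.End K A ≃ₐ[K] Module.End K A :=
    μ.symm.trans ((Algebra.TensorProduct.congr f (AlgEquiv.refl (A₁ := Aᵐᵒᵖ))).trans μ)
  obtain ⟨T, hT⟩ := g.eq_linearEquivConjAlgEquiv
  have key : ∀ a b x : A, T (a * x * b) = f a * T x * b := by
    intro a b x
    have h1 : g (μ (a ⊗ₜ op b)) = μ (f a ⊗ₜ op b) := by simp [g]
    rw [hT] at h1
    have h2 := congrArg (fun φ : Module.End K A => φ (T x)) h1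
    simp only [LinearEquiv.conjAlgEquiv_apply, LinearMap.coe_comp, LinearEquiv.coe_coe,
      Function.comp_apply, LinearEquiv.symm_apply_apply, hμ, unop_op] at h2
    exact h2
  have keyS : ∀ a b x : A, T.symm (f a * x * b) = a * T.symm x * b := by
    intro a b x
    apply T.injective
    rw [key]
    simp
  have hTb : ∀ b : A, T b = T 1 * b := by
    intro b
    have := key 1 b 1
    simpa using this
  have hTa : ∀ a : A, T a = f a * T 1 := by
    intro a
    have := key a 1 1
    simpa using this
  have hSb : ∀ b : A, T.symm b = T.symm 1 * b := by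
    intro b
    have := keyS 1 b 1
    simpa using this
  have huv : T 1 * T.symm 1 = 1 := by
    rw [← hTb]; simp
  have hvu : T.symm 1 * T 1 = 1 := by
    rw [← hSb]; simp
  refine ⟨⟨T 1, T.symm 1, huv, hvu⟩, fun x => ?_⟩
  show f x = T 1 * x * T.symm 1
  have h := hTa x
  rw [hTb x] at h
  rw [h, mul_assoc, huv, mul_one]

end CSA

section general

variable (k : Type*) [Field k] {A : Type*} [Ring A] [Algebra k A]

/-- the `k`-algebra structure on the centre (as a subring). -/
@[instance_reducible] noncomputable def centerAlgebra : Algebra k (Subring.center A) :=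
  ((algebraMap k A).codRestrict (Subring.center A) (fun c => by
    rw [Subring.mem_center_iff]
    intro a
    exact (Algebra.commutes c a).symm)).toAlgebra

/-- Skolem–Noether: ring automorphisms of a simple ring, finite-dimensional over a field,
fixing the centre pointwise are inner. -/
theorem exists_unit_conj_of_fix_center [IsSimpleRing A] [FiniteDimensional k A]
    (f : A ≃+* A) (hf : ∀ c ∈ Subring.center A, f c = c) :
    ∃ u : Aˣ, ∀ x, f x = u * x * ((u⁻¹ : Aˣ) : A) := by
  letI : Field (Subring.center A) := (IsSimpleRing.isField_center A).toField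
  letI alg : Algebra (Subring.center A) A :=
    { algebraMap :=
      { toFun := Subtype.val
        map_one' := rfl
        map_mul' := fun _ _ => rfl
        map_zero' := rfl
        map_add' := fun _ _ => rfl }
      smul := fun c a => (c : A) * a
      commutes' := fun r x => (Subring.mem_center_iff.1 r.2 x).symm
      smul_def' := fun _ _ => rfl }
  letI : Algebra k (Subring.center A) := centerAlgebra k
  haveI : IsScalarTower k (Subring.center A) A := IsScalarTower.of_algebraMap_eq (fun x => rfl)
  haveI : FiniteDimensional (Subring.center A) A :=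
    Module.Finite.of_restrictScalars_finite k (Subring.center A) A
  haveI : Algebra.IsCentral (Subring.center A) A := by
    refine ⟨fun x hx => ?_⟩
    rw [Subalgebra.mem_center_iff] at hx
    have hx' : x ∈ Subring.center A := Subring.mem_center_iff.2 (fun a => hx a)
    exact Algebra.mem_bot.2 ⟨⟨x, hx'⟩, rfl⟩
  let F : A ≃ₐ[Subring.center A] A := AlgEquiv.ofRingEquiv (f := f) (fun c => hf c.1 c.2)
  obtain ⟨u, hu⟩ := exists_unit_conj_algEquiv F
  exact ⟨u, fun x => hu x⟩

end general

end Groth.Agent.Lib.Helper59.SkolemNoether
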