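import Mathlib
import Groth.Agent.S3245
import Groth.Agent.Lib.Helper46.Azumaya
import Groth.Agent.Lib.Helper59.SkolemNoether

/-!
# Central simple algebras: Azumaya over a field, base change, tensor products

* `isAzumaya_of_csa` : a f.d. central simple algebra is Azumaya.
* `isSimpleRing_of_surjective_mulLeftRight` : over a field, `A ⊗ Aᵐᵒᵖ → End A` surjective and
  `A` nontrivial imply `A` simple.
* `isSimpleRing_of_isAzumaya`, `isCentral_of_isAzumaya`, `finiteDimensional_of_isAzumaya`.
* `isSimpleRing_baseChange`, `isCentral_baseChange` : `L ⊗[K] A` is central simple over `L`.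
* `isSimpleRing_tensorProduct`, `isCentral_tensorProduct` : `A ⊗[K] B` is central simple.
-/

set_option autoImplicit false
set_option linter.style.haveILetI false

namespace Groth.Agent.Lib.Helper59.CSA

open TensorProduct MulOpposite

variable {K : Type*} [Field K] {A : Type*} [Ring A] [Algebra K A]

theorem isAzumaya_of_csa [FiniteDimensional K A] [Algebra.IsCentral K A] [IsSimpleRing A] :
    IsAzumaya K A :=
  { bij := Groth.Agent.Lib.Helper59.SkolemNoether.bijective_mulLeftRight_of_csa }

theorem isSimpleRing_of_surjective_mulLeftRight [Nontrivial A]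
    (h : Function.Surjective (AlgHom.mulLeftRight K A)) : IsSimpleRing A := by
  apply IsSimpleRing.of_eq_bot_or_eq_top
  intro I
  by_cases hI : I = ⊥
  · exact Or.inl hI
  · right
    obtain ⟨x, hxI, hx0⟩ : ∃ x ∈ I, x ≠ 0 := by
      by_contra hcon
      push Not at hcon
      apply hI
      rw [eq_bot_iff]
      intro x hx
      rw [TwoSidedIdeal.mem_bot]
      exact hcon x hx
    obtain ⟨d, hd⟩ := Module.Projective.exists_dual_eq_one K hx0
    obtain ⟨z, hz⟩ := h (d.smulRight (1 : A))
    obtain ⟨l, hl⟩ := Groth.Agent.S3245.mulLeftRight_eq_sandwich (S := K) z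
    have h1 : (1 : A) ∈ I := by
      have hmem := Groth.Agent.S3245.sandwich_mem I l hxI
      rw [← hl, hz] at hmem
      simpa [hd] using hmem
    rw [eq_top_iff]
    intro y _
    have := I.mul_mem_left y 1 h1
    simpa using this

theorem finiteDimensional_of_isAzumaya [IsAzumaya K A] : FiniteDimensional K A :=
  inferInstance

theorem nontrivial_of_isAzumaya [IsAzumaya K A] : Nontrivial A := by
  have : FaithfulSMul K A := inferInstance
  by_contra hn
  rw [not_nontrivial_iff_subsingleton] at hn
  have h01 : (0 : K) = 1 := by
    apply FaithfulSMul.eq_of_smul_eq_smul (α := A)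
    intro a
    exact Subsingleton.elim _ _
  exact zero_ne_one h01

theorem isSimpleRing_of_isAzumaya [IsAzumaya K A] : IsSimpleRing A := by
  haveI := nontrivial_of_isAzumaya (K := K) (A := A)
  exact isSimpleRing_of_surjective_mulLeftRight (K := K) (IsAzumaya.bij).2

theorem isCentral_of_isAzumaya [IsAzumaya K A] : Algebra.IsCentral K A :=
  inferInstance

section baseChange

variable (K A) (L : Type*) [Field L] [Algebra K L]
variable [FiniteDimensional K A] [Algebra.IsCentral K A] [IsSimpleRing A]

theorem isAzumaya_baseChange : IsAzumaya L (L ⊗[K] A) := by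
  haveI := isAzumaya_of_csa (K := K) (A := A)
  exact Groth.Agent.Lib.Helper46.Azumaya.isAzumaya_baseChange K L A

theorem isSimpleRing_baseChange : IsSimpleRing (L ⊗[K] A) := by
  haveI := isAzumaya_baseChange K A L
  exact isSimpleRing_of_isAzumaya (K := L)

theorem isCentral_baseChange : Algebra.IsCentral L (L ⊗[K] A) := by
  haveI := isAzumaya_baseChange K A L
  exact isCentral_of_isAzumaya (K := L)

end baseChange

section tensor

variable (K A) (B : Type*) [Ring B] [Algebra K B]
variable [FiniteDimensional K A] [Algebra.IsCentral K A] [IsSimpleRing A]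
variable [FiniteDimensional K B] [Algebra.IsCentral K B] [IsSimpleRing B]

theorem isAzumaya_tensorProduct : IsAzumaya K (A ⊗[K] B) := by
  haveI := isAzumaya_of_csa (K := K) (A := A)
  haveI := isAzumaya_of_csa (K := K) (A := B)
  exact Groth.Agent.Lib.Helper46.Azumaya.isAzumaya_tensorProduct K A B

theorem isSimpleRing_tensorProduct : IsSimpleRing (A ⊗[K] B) := by
  haveI := isAzumaya_tensorProduct K A B
  exact isSimpleRing_of_isAzumaya (K := K)

theorem isCentral_tensorProduct : Algebra.IsCentral K (A ⊗[K] B) := by
  haveI := isAzumaya_tensorProduct K A B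
  exact isCentral_of_isAzumaya (K := K)

end tensor

end Groth.Agent.Lib.Helper59.CSA
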