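import Mathlib

/-!
# Norm and trace of left multiplication: matrices, base change, transport
-/

set_option autoImplicit false

namespace Groth.Agent.Lib.Helper59.RedNorm

open TensorProduct

section matrix

variable (K : Type*) [CommRing K] (n : ℕ)

theorem toMatrix_mulLeft (X : Matrix (Fin n) (Fin n) K) :
    LinearMap.toMatrix (Matrix.stdBasis K (Fin n) (Fin n)) (Matrix.stdBasis K (Fin n) (Fin n))
      (LinearMap.mulLeft K X) = Matrix.kroneckerMap (· * ·) X (1 : Matrix (Fin n) (Fin n) K) := by
  ext ⟨i, j⟩ ⟨i', j'⟩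
  rw [LinearMap.toMatrix_apply, Matrix.stdBasis_eq_single, LinearMap.mulLeft_apply]
  have hrepr : ∀ (M : Matrix (Fin n) (Fin n) K) (p : Fin n × Fin n),
      (Matrix.stdBasis K (Fin n) (Fin n)).repr M p = M p.1 p.2 := by
    intro M p
    simp [Matrix.stdBasis]
  rw [hrepr]
  simp only [Matrix.kroneckerMap_apply, Matrix.one_apply, Matrix.mul_apply, Matrix.single_apply]
  by_cases hj : j = j'
  · subst hj
    simp
  · have hj' : ¬ j' = j := fun h => hj h.symm
    simp [hj, hj']

theorem det_mulLeft (X : Matrix (Fin n) (Fin n) K) :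
    LinearMap.det (LinearMap.mulLeft K X) = X.det ^ n := by
  rw [← LinearMap.det_toMatrix (Matrix.stdBasis K (Fin n) (Fin n)), toMatrix_mulLeft]
  rw [Matrix.det_kronecker X (1 : Matrix (Fin n) (Fin n) K)]
  simp

theorem trace_mulLeft (X : Matrix (Fin n) (Fin n) K) :
    LinearMap.trace K _ (LinearMap.mulLeft K X) = n • X.trace := by
  rw [LinearMap.trace_eq_matrix_trace K (Matrix.stdBasis K (Fin n) (Fin n)), toMatrix_mulLeft]
  rw [Matrix.trace_kronecker X (1 : Matrix (Fin n) (Fin n) K)]
  simp [mul_comm]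

end matrix

section transport

variable {K : Type*} [CommRing K] {E F : Type*} [Ring E] [Algebra K E] [Ring F] [Algebra K F]

theorem det_mulLeft_algEquiv (φ : E ≃ₐ[K] F) (x : E) :
    LinearMap.det (LinearMap.mulLeft K (φ x)) = LinearMap.det (LinearMap.mulLeft K x) := by
  have : LinearMap.mulLeft K (φ x) = φ.toLinearEquiv.conj (LinearMap.mulLeft K x) := by
    ext y
    simp [LinearEquiv.conj_apply]
  rw [this]
  exact LinearMap.det_conj (LinearMap.mulLeft K x) φ.toLinearEquiv

theorem trace_mulLeft_algEquiv (φ : E ≃ₐ[K] F) (x : E) :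
    LinearMap.trace K F (LinearMap.mulLeft K (φ x)) = LinearMap.trace K E (LinearMap.mulLeft K x) := by
  have : LinearMap.mulLeft K (φ x) = φ.toLinearEquiv.conj (LinearMap.mulLeft K x) := by
    ext y
    simp [LinearEquiv.conj_apply]
  rw [this, LinearMap.trace_conj']

end transport

section baseChange

variable {k : Type*} [CommRing k] (K : Type*) [CommRing K] [Algebra k K]
  {A : Type*} [Ring A] [Algebra k A]

theorem baseChange_mulLeft (a : A) :
    (LinearMap.mulLeft k a).baseChange K = LinearMap.mulLeft K ((1 : K) ⊗ₜ[k] a) := by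
  ext y
  simp

theorem det_mulLeft_baseChange [Module.Free k A] [Module.Finite k A] (a : A) :
    LinearMap.det (LinearMap.mulLeft K ((1 : K) ⊗ₜ[k] a)) =
      algebraMap k K (LinearMap.det (LinearMap.mulLeft k a)) := by
  rw [← baseChange_mulLeft, LinearMap.det_baseChange]

theorem trace_mulLeft_baseChange [Module.Free k A] [Module.Finite k A] (a : A) :
    LinearMap.trace K _ (LinearMap.mulLeft K ((1 : K) ⊗ₜ[k] a)) =
      algebraMap k K (LinearMap.trace k A (LinearMap.mulLeft k a)) := by
  rw [← baseChange_mulLeft, LinearMap.trace_baseChange]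

end baseChange

end Groth.Agent.Lib.Helper59.RedNorm
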