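import Mathlib

/-!
# Kronecker products of families of matrices and the induced representation of tensor powers
-/

set_option autoImplicit false
set_option linter.unusedSectionVars false

namespace Groth.Agent.Lib.Helper59.Kron

open TensorProduct PiTensorProduct

universe u v w

section Kron

variable {R : Type*} [CommRing R] {ι κ : Type*} [Fintype ι] [DecidableEq ι] [Fintype κ]
  [DecidableEq κ]

/-- Kronecker product of a family of square matrices. -/
def kron (X : ι → Matrix κ κ R) : Matrix (ι → κ) (ι → κ) R :=
  Matrix.of fun p q => ∏ i, X i (p i) (q i)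

@[simp]
theorem kron_apply (X : ι → Matrix κ κ R) (p q : ι → κ) : kron X p q = ∏ i, X i (p i) (q i) := rfl

theorem kron_mul (X Y : ι → Matrix κ κ R) : kron X * kron Y = kron (fun i => X i * Y i) := by
  ext p q
  simp only [Matrix.mul_apply, kron_apply]
  rw [Finset.prod_univ_sum, Fintype.piFinset_univ]
  refine Finset.sum_congr rfl fun h _ => ?_
  rw [Finset.prod_mul_distrib]

theorem kron_one : kron (fun _ : ι => (1 : Matrix κ κ R)) = 1 := by
  ext p q
  simp only [kron_apply, Matrix.one_apply]
  by_cases h : p = q
  · subst h; simp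
  · rw [if_neg h]
    obtain ⟨i, hi⟩ : ∃ i, p i ≠ q i := by
      by_contra hn
      push Not at hn
      exact h (funext hn)
    exact Finset.prod_eq_zero (Finset.mem_univ i) (by simp [hi])

theorem kron_map {S : Type*} [CommRing S] (f : R →+* S) (X : ι → Matrix κ κ R) :
    (kron X).map f = kron (fun i => (X i).map f) := by
  ext p q
  simp [map_prod]

theorem kron_smul_const (c : R) (X : Matrix κ κ R) :
    kron (fun _ : ι => c • X) = c ^ Fintype.card ι • kron (fun _ : ι => X) := by
  ext p q
  simp [Finset.prod_mul_distrib]

variable (R ι κ) in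
/-- `kron` as a multilinear map. -/
noncomputable def kronMultilinear :
    MultilinearMap R (fun _ : ι => Matrix κ κ R) (Matrix (ι → κ) (ι → κ) R) :=
  MultilinearMap.pi (fun p : ι → κ => MultilinearMap.pi (fun q : ι → κ =>
    (MultilinearMap.mkPiAlgebra R ι R).compLinearMap
      (fun i => Matrix.entryLinearMap R R (p i) (q i))))

@[simp]
theorem kronMultilinear_apply (X : ι → Matrix κ κ R) : kronMultilinear R ι κ X = kron X := by
  ext p q
  rfl

end Kron

section Rep

variable {k : Type u} [Field k] {L : Type w} [Field L] [Algebra k L]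
  {A : Type v} [Ring A] [Algebra k A]
  {ι κ : Type*} [Fintype ι] [DecidableEq ι] [Fintype κ] [DecidableEq κ]

variable (ι) in
/-- The representation of the tensor power `A^{⊗ι}` on `(L^κ)^{⊗ι}` induced by `ρ : A → M_κ(L)`. -/
noncomputable def tpowRep (ρ : A →ₐ[k] Matrix κ κ L) :
    (⨂[k] _ : ι, A) →ₐ[k] Matrix (ι → κ) (ι → κ) L :=
  PiTensorProduct.liftAlgHom
    (((kronMultilinear L ι κ).restrictScalars k).compLinearMap (fun _ : ι => ρ.toLinearMap))
    (by
      simp only [MultilinearMap.compLinearMap_apply, MultilinearMap.coe_restrictScalars,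
        kronMultilinear_apply, AlgHom.toLinearMap_apply, Pi.one_apply, map_one]
      exact kron_one)
    (by
      intro x y
      simp only [MultilinearMap.compLinearMap_apply, MultilinearMap.coe_restrictScalars,
        kronMultilinear_apply, AlgHom.toLinearMap_apply, Pi.mul_apply, map_mul]
      exact (kron_mul _ _).symm)

@[simp]
theorem tpowRep_tprod (ρ : A →ₐ[k] Matrix κ κ L) (a : ι → A) :
    tpowRep ι ρ (tprod k a) = kron (fun i => ρ (a i)) := by
  simp [tpowRep]

end Rep

end Groth.Agent.Lib.Helper59.Kron
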