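import Mathlib
import Groth.Agent.Lib.Helper59.CSA

/-!
# Algebra-level calculus for `PiTensorProduct` (tensor powers of an algebra)

Algebra versions of `PiTensorProduct.reindex`, `tmulEquiv`, `subsingletonEquiv`, `isEmptyEquiv`,
functoriality `mapAlgHom`, and consequences for tensor powers `⨂[R] _ : Fin e, A`.
-/

set_option autoImplicit false
set_option linter.style.haveILetI false

namespace Groth.Agent.Lib.Helper59.TPow

open TensorProduct PiTensorProduct

universe u v w

section General

variable (R : Type u) [CommRing R] (A : Type v) [Ring A] [Algebra R A]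
variable {ι : Type*} {ι₂ : Type*}

/-- A linear equivalence between algebras that preserves `1` and products of elements of spanning
sets is an algebra equivalence: bilinear extension principle. -/
theorem map_mul_of_span {B C : Type*} [Ring B] [Algebra R B] [Ring C] [Algebra R C]
    (f : B →ₗ[R] C) (S : Set B) (hS : Submodule.span R S = ⊤)
    (h : ∀ x ∈ S, ∀ y ∈ S, f (x * y) = f x * f y) (x y : B) : f (x * y) = f x * f y := by
  have hx : x ∈ Submodule.span R S := hS ▸ Submodule.mem_top
  have hy : y ∈ Submodule.span R S := hS ▸ Submodule.mem_top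
  induction hx using Submodule.span_induction with
  | mem x hx =>
    induction hy using Submodule.span_induction with
    | mem y hy => exact h x hx y hy
    | zero => simp
    | add y z _ _ ihy ihz => rw [mul_add, map_add, map_add, mul_add, ihy, ihz]
    | smul c y _ ihy => rw [mul_smul_comm, map_smul, map_smul, mul_smul_comm, ihy]
  | zero => simp
  | add x z _ _ ihx ihz => rw [add_mul, map_add, map_add, add_mul, ihx, ihz]
  | smul c x _ ihx => rw [smul_mul_assoc, map_smul, map_smul, smul_mul_assoc, ihx]

/-- Reindexing a tensor power is an algebra equivalence. -/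
noncomputable def reindexAlgEquiv (e : ι ≃ ι₂) :
    (⨂[R] _ : ι, A) ≃ₐ[R] ⨂[R] _ : ι₂, A :=
  AlgEquiv.ofLinearEquiv (PiTensorProduct.reindex R (fun _ : ι => A) e)
    (by
      rw [PiTensorProduct.one_def, PiTensorProduct.reindex_tprod, PiTensorProduct.one_def]
      rfl)
    (by
      intro x y
      refine map_mul_of_span R (PiTensorProduct.reindex R (fun _ : ι => A) e).toLinearMap
        (Set.range (tprod R)) PiTensorProduct.span_tprod_eq_top ?_ x y
      rintro _ ⟨a, rfl⟩ _ ⟨b, rfl⟩
      simp only [LinearEquiv.coe_coe, PiTensorProduct.tprod_mul_tprod,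
        PiTensorProduct.reindex_tprod]
      rfl)

@[simp]
theorem reindexAlgEquiv_tprod (e : ι ≃ ι₂) (a : ι → A) :
    reindexAlgEquiv R A e (tprod R a) = tprod R (fun i => a (e.symm i)) :=
  PiTensorProduct.reindex_tprod (R := R) (s := fun _ : ι => A) e a

/-- `tmulEquiv` is an algebra equivalence. -/
noncomputable def tmulAlgEquiv :
    ((⨂[R] _ : ι, A) ⊗[R] (⨂[R] _ : ι₂, A)) ≃ₐ[R] ⨂[R] _ : ι ⊕ ι₂, A :=
  AlgEquiv.ofLinearEquiv (PiTensorProduct.tmulEquiv R A)
    (by
      rw [Algebra.TensorProduct.one_def, PiTensorProduct.one_def, PiTensorProduct.one_def,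
        PiTensorProduct.tmulEquiv_apply, PiTensorProduct.one_def]
      congr 1
      ext (i | i) <;> rfl)
    (by
      intro x y
      refine map_mul_of_span R (PiTensorProduct.tmulEquiv R A).toLinearMap
        (Set.image2 (fun a b => a ⊗ₜ[R] b) (Set.range (tprod R)) (Set.range (tprod R))) ?_ ?_ x y
      · have := Submodule.map₂_span_span R (TensorProduct.mk R (⨂[R] _ : ι, A) (⨂[R] _ : ι₂, A))
          (Set.range (tprod R)) (Set.range (tprod R))
        simp only [TensorProduct.mk_apply] at this
        rw [← this, PiTensorProduct.span_tprod_eq_top, PiTensorProduct.span_tprod_eq_top,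
          TensorProduct.map₂_mk_top_top_eq_top]
      · rintro _ ⟨_, ⟨a, rfl⟩, _, ⟨b, rfl⟩, rfl⟩ _ ⟨_, ⟨a', rfl⟩, _, ⟨b', rfl⟩, rfl⟩
        simp only [LinearEquiv.coe_coe, Algebra.TensorProduct.tmul_mul_tmul,
          PiTensorProduct.tprod_mul_tprod, PiTensorProduct.tmulEquiv_apply]
        congr 1
        ext (i | i) <;> rfl)

@[simp]
theorem tmulAlgEquiv_tmul (a : ι → A) (b : ι₂ → A) :
    tmulAlgEquiv R A (tprod R a ⊗ₜ[R] tprod R b) = tprod R (Sum.elim a b) :=
  PiTensorProduct.tmulEquiv_apply (R := R) (M := A) a b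

/-- A tensor power over a one-element index type is the algebra itself. -/
noncomputable def subsingletonAlgEquiv [Subsingleton ι] (i₀ : ι) :
    (⨂[R] _ : ι, A) ≃ₐ[R] A :=
  AlgEquiv.ofLinearEquiv (PiTensorProduct.subsingletonEquiv (R := R) (s := fun _ : ι => A) i₀)
    (by
      rw [PiTensorProduct.one_def, PiTensorProduct.subsingletonEquiv_apply_tprod]
      rfl)
    (by
      intro x y
      refine map_mul_of_span R
        (PiTensorProduct.subsingletonEquiv (R := R) (s := fun _ : ι => A) i₀).toLinearMap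
        (Set.range (tprod R)) PiTensorProduct.span_tprod_eq_top ?_ x y
      rintro _ ⟨a, rfl⟩ _ ⟨b, rfl⟩
      simp only [LinearEquiv.coe_coe, PiTensorProduct.tprod_mul_tprod,
        PiTensorProduct.subsingletonEquiv_apply_tprod]
      rfl)

/-- A tensor power over an empty index type is the base ring. -/
noncomputable def isEmptyAlgEquiv [IsEmpty ι] : (⨂[R] _ : ι, A) ≃ₐ[R] R :=
  AlgEquiv.ofLinearEquiv (PiTensorProduct.isEmptyEquiv (R := R) (s := fun _ : ι => A) ι)
    (by
      rw [PiTensorProduct.one_def, PiTensorProduct.isEmptyEquiv_apply_tprod])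
    (by
      intro x y
      refine map_mul_of_span R
        (PiTensorProduct.isEmptyEquiv (R := R) (s := fun _ : ι => A) ι).toLinearMap
        (Set.range (tprod R)) PiTensorProduct.span_tprod_eq_top ?_ x y
      rintro _ ⟨a, rfl⟩ _ ⟨b, rfl⟩
      simp only [LinearEquiv.coe_coe, PiTensorProduct.tprod_mul_tprod,
        PiTensorProduct.isEmptyEquiv_apply_tprod, mul_one])

variable {A} in
/-- Functoriality of tensor powers in the algebra. -/
noncomputable def mapAlgHom {B : Type w} [Ring B] [Algebra R B] (f : A →ₐ[R] B) :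
    (⨂[R] _ : ι, A) →ₐ[R] ⨂[R] _ : ι, B :=
  PiTensorProduct.liftAlgHom ((PiTensorProduct.tprod R).compLinearMap (fun _ : ι => f.toLinearMap))
    (by
      simp only [MultilinearMap.compLinearMap_apply, AlgHom.toLinearMap_apply, Pi.one_apply,
        map_one]
      rfl)
    (by
      intro x y
      simp only [MultilinearMap.compLinearMap_apply, AlgHom.toLinearMap_apply, Pi.mul_apply,
        map_mul, PiTensorProduct.tprod_mul_tprod]
      rfl)

variable {A} in
@[simp]
theorem mapAlgHom_tprod {B : Type w} [Ring B] [Algebra R B] (f : A →ₐ[R] B) (a : ι → A) :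
    mapAlgHom R (ι := ι) f (tprod R a) = tprod R (fun i => f (a i)) := by
  simp [mapAlgHom]

variable {A} in
/-- Tensor powers of isomorphic algebras are isomorphic. -/
noncomputable def congrAlgEquiv {B : Type w} [Ring B] [Algebra R B] (f : A ≃ₐ[R] B) :
    (⨂[R] _ : ι, A) ≃ₐ[R] ⨂[R] _ : ι, B :=
  AlgEquiv.ofAlgHom (mapAlgHom R f.toAlgHom) (mapAlgHom R f.symm.toAlgHom)
    (by
      apply AlgHom.toLinearMap_injective
      apply PiTensorProduct.ext
      ext a
      simp)
    (by
      apply AlgHom.toLinearMap_injective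
      apply PiTensorProduct.ext
      ext a
      simp)

end General

section Fin

variable (R : Type u) [CommRing R] (A : Type v) [Ring A] [Algebra R A]

/-- `A^{⊗a} ⊗ A^{⊗b} ≅ A^{⊗(a+b)}`. -/
noncomputable def tpowAdd (a b : ℕ) :
    ((⨂[R] _ : Fin a, A) ⊗[R] (⨂[R] _ : Fin b, A)) ≃ₐ[R] ⨂[R] _ : Fin (a + b), A :=
  (tmulAlgEquiv R A).trans (reindexAlgEquiv R A finSumFinEquiv)

/-- `A^{⊗1} ≅ A`. -/
noncomputable def tpowOne : (⨂[R] _ : Fin 1, A) ≃ₐ[R] A := subsingletonAlgEquiv R A 0

/-- `A^{⊗0} ≅ R`. -/
noncomputable def tpowZero : (⨂[R] _ : Fin 0, A) ≃ₐ[R] R := isEmptyAlgEquiv R A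

/-- `A^{⊗(e+1)} ≅ A^{⊗e} ⊗ A`. -/
noncomputable def tpowSucc (e : ℕ) :
    (⨂[R] _ : Fin (e + 1), A) ≃ₐ[R] ((⨂[R] _ : Fin e, A) ⊗[R] A) :=
  (tpowAdd R A e 1).symm.trans (Algebra.TensorProduct.congr AlgEquiv.refl (tpowOne R A))

/-- `(A^{⊗r})^{⊗j} ≅ A^{⊗(r j)}`. -/
theorem nonempty_tpowMul (r j : ℕ) :
    Nonempty ((⨂[R] _ : Fin j, (⨂[R] _ : Fin r, A)) ≃ₐ[R] ⨂[R] _ : Fin (r * j), A) := by
  induction j with
  | zero => exact ⟨(tpowZero R _).trans (tpowZero R A).symm⟩
  | succ j ih =>
    obtain ⟨e⟩ := ih
    exact ⟨(tpowSucc R _ j).trans ((Algebra.TensorProduct.congr e AlgEquiv.refl).trans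
      ((tpowAdd R A (r * j) r).trans (reindexAlgEquiv R A (finCongr (by ring)))))⟩

end Fin

section CSA

variable (k : Type u) [Field k]

/-- Transport of centrality along an algebra equivalence (universe polymorphic). -/
theorem isCentral_of_algEquiv {A : Type v} {B : Type w} [Ring A] [Algebra k A] [Ring B]
    [Algebra k B] (e : A ≃ₐ[k] B) [Algebra.IsCentral k A] : Algebra.IsCentral k B := by
  constructor
  intro x hx
  have h : e.symm x ∈ Subalgebra.center k A := by
    rw [Subalgebra.mem_center_iff] at hx ⊢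
    intro a
    apply e.injective
    rw [map_mul, map_mul, e.apply_symm_apply]
    exact hx (e a)
  obtain ⟨c, hc⟩ := Algebra.mem_bot.mp (Algebra.IsCentral.out h)
  refine Algebra.mem_bot.mpr ⟨c, ?_⟩
  rw [← e.commutes, hc, e.apply_symm_apply]

/-- The predicate "finite-dimensional central simple". -/
structure IsCSA (A : Type v) [Ring A] [Algebra k A] : Prop where
  central : Algebra.IsCentral k A
  simple : IsSimpleRing A
  fd : FiniteDimensional k A

theorem isCSA_of (A : Type v) [Ring A] [Algebra k A] [Algebra.IsCentral k A] [IsSimpleRing A]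
    [FiniteDimensional k A] : IsCSA k A := ⟨inferInstance, inferInstance, inferInstance⟩

variable {k}

theorem IsCSA.of_algEquiv {A : Type v} {B : Type w} [Ring A] [Algebra k A] [Ring B]
    [Algebra k B] (h : IsCSA k A) (e : A ≃ₐ[k] B) : IsCSA k B := by
  haveI := h.central
  haveI := h.simple
  haveI := h.fd
  exact ⟨isCentral_of_algEquiv k e, IsSimpleRing.of_ringEquiv e.toRingEquiv inferInstance,
    e.toLinearEquiv.finiteDimensional⟩

theorem IsCSA.tensor {A : Type v} {B : Type w} [Ring A] [Algebra k A] [Ring B]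
    [Algebra k B] (hA : IsCSA k A) (hB : IsCSA k B) : IsCSA k (A ⊗[k] B) := by
  haveI := hA.central
  haveI := hA.simple
  haveI := hA.fd
  haveI := hB.central
  haveI := hB.simple
  haveI := hB.fd
  exact ⟨CSA.isCentral_tensorProduct k A B, CSA.isSimpleRing_tensorProduct k A B, inferInstance⟩

theorem IsCSA.self : IsCSA k k := ⟨inferInstance, inferInstance, inferInstance⟩

theorem IsCSA.tpow {A : Type v} [Ring A] [Algebra k A] (hA : IsCSA k A) (e : ℕ) :
    IsCSA k (⨂[k] _ : Fin e, A) := by
  induction e with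
  | zero => exact IsCSA.self.of_algEquiv (tpowZero k A).symm
  | succ e ih => exact (ih.tensor hA).of_algEquiv (tpowSucc k A e).symm

theorem IsCSA.baseChange {A : Type v} [Ring A] [Algebra k A] (hA : IsCSA k A)
    (L : Type w) [Field L] [Algebra k L] : IsCSA L (L ⊗[k] A) := by
  haveI := hA.central
  haveI := hA.simple
  haveI := hA.fd
  exact ⟨CSA.isCentral_baseChange k A L, CSA.isSimpleRing_baseChange k A L, inferInstance⟩

theorem IsCSA.matrix (n : ℕ) [NeZero n] : IsCSA k (Matrix (Fin n) (Fin n) k) :=
  ⟨inferInstance, inferInstance, inferInstance⟩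

theorem finrank_tpow (A : Type v) [Ring A] [Algebra k A] [FiniteDimensional k A] (e : ℕ) :
    Module.finrank k (⨂[k] _ : Fin e, A) = Module.finrank k A ^ e := by
  have b := Basis.piTensorProduct (fun _ : Fin e => Module.finBasis k A)
  rw [Module.finrank_eq_card_basis b]
  simp

/-- An algebra hom between finite-dimensional algebras of the same dimension with simple source
and nontrivial target is bijective. -/
theorem bijective_of_isSimple_of_finrank_eq {A : Type v} {B : Type w} [Ring A] [Algebra k A]
    [Ring B] [Algebra k B] [IsSimpleRing A] [Nontrivial B] [FiniteDimensional k A]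
    [FiniteDimensional k B]
    (f : A →ₐ[k] B) (h : Module.finrank k A = Module.finrank k B) : Function.Bijective f := by
  have hinj : Function.Injective f := by
    have := (RingHom.injective f.toRingHom)
    exact this
  exact ⟨hinj, (LinearMap.injective_iff_surjective_of_finrank_eq_finrank
    (f := f.toLinearMap) h).mp hinj⟩

end CSA

end Groth.Agent.Lib.Helper59.TPow
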