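import Mathlib
import Groth.Agent.Lib.Helper59.TPowAlg
import Groth.Agent.Lib.Helper59.Kron
import Groth.Agent.Lib.Helper52.CSAModules
import Groth.Agent.S13268
import Groth.Prelude.Def_Curves
import Groth.Prelude.Def_GSzCSA

/-!
# Brauer calculus: split algebras, modules over matrix algebras, cancellation
-/

set_option autoImplicit false
set_option linter.style.haveILetI false
set_option linter.unusedSectionVars false

namespace Groth.Agent.Lib.Helper59.BrauerCalc

open TensorProduct Groth.Agent.Lib.Helper59.TPow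

universe u v w

section ColumnModule

theorem smul_vec_def {D : Type v} [DivisionRing D] {m : ℕ} (X : Matrix (Fin m) (Fin m) D)
    (v : Fin m → D) : X • v = X.mulVec v := rfl

variable (D : Type v) [DivisionRing D] (m : ℕ) [NeZero m]

/-- The column module `D^m` is a simple module over `M_m(D)`. -/
instance isSimpleModule_vec : IsSimpleModule (Matrix (Fin m) (Fin m) D) (Fin m → D) := by
  rw [isSimpleModule_iff_toSpanSingleton_surjective]
  refine ⟨inferInstance, fun v hv w => ?_⟩
  obtain ⟨j, hj⟩ : ∃ j, v j ≠ 0 := by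
    by_contra h
    push Not at h
    exact hv (funext h)
  refine ⟨Matrix.of (fun i j' => if j' = j then w i * (v j)⁻¹ else 0), ?_⟩
  rw [LinearMap.toSpanSingleton_apply, smul_vec_def]
  ext i
  simp only [Matrix.mulVec, dotProduct, Matrix.of_apply]
  rw [Finset.sum_eq_single j]
  · simp [hj]
  · intro b _ hb
    simp [hb]
  · simp

end ColumnModule

section ModuleLemma

variable (k : Type u) [Field k] {B : Type v} [Ring B] [Algebra k B]
  {D : Type w} [DivisionRing D] [Algebra k D] [FiniteDimensional k D] {m : ℕ} [NeZero m]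

/-- If `B ≅ M_m(D)` then the `k`-dimension of every finite-dimensional `B`-module is divisible
by `m · dim_k D`. -/
theorem dvd_finrank_of_algEquiv_matrix (e : B ≃ₐ[k] Matrix (Fin m) (Fin m) D)
    (M : Type*) [AddCommGroup M] [Module B M] [Module k M] [IsScalarTower k B M]
    [FiniteDimensional k M] : m * Module.finrank k D ∣ Module.finrank k M := by
  classical
  rcases subsingleton_or_nontrivial M with hM | hM
  · rw [Module.finrank_zero_of_subsingleton (R := k) (M := M)]; exact dvd_zero _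
  let T := Matrix (Fin m) (Fin m) D
  letI : Module T M := Module.compHom M e.symm.toRingEquiv.toRingHom
  have hsm : ∀ (t : T) (x : M), t • x = e.symm t • x := fun _ _ => rfl
  haveI : IsScalarTower k T M := by
    refine ⟨fun c t x => ?_⟩
    rw [hsm, hsm, map_smul, smul_assoc]
  haveI : IsSimpleRing T := IsSimpleRing.of_ringEquiv (RingEquiv.refl T) inferInstance
  haveI : FiniteDimensional k T := inferInstance
  haveI : IsArtinianRing T := IsArtinianRing.of_finite k T
  haveI : Module.Finite T M := Module.Finite.of_restrictScalars_finite k T M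
  obtain ⟨n, _, ⟨f⟩⟩ := Groth.Agent.Lib.Helper52.CSAModules.exists_linearEquiv_fun T M (Fin m → D)
  haveI : IsScalarTower k T (Fin m → D) := by
    refine ⟨fun c t x => ?_⟩
    rw [smul_vec_def, smul_vec_def, Matrix.smul_mulVec]
  have h := Groth.Agent.Lib.Helper52.CSAModules.finrank_eq_mul_of_linearEquiv_fun k f
  rw [h, Module.finrank_pi_fintype]
  simp only [Finset.sum_const, Finset.card_univ, Fintype.card_fin, smul_eq_mul]
  exact Dvd.intro_left n rfl

end ModuleLemma

section Uniqueness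

variable (k : Type u) [Field k]
  {D : Type v} [DivisionRing D] [Algebra k D] [FiniteDimensional k D]
  {D' : Type w} [DivisionRing D'] [Algebra k D'] [FiniteDimensional k D']

instance isScalarTower_vec (a : ℕ) :
    IsScalarTower k (Matrix (Fin a) (Fin a) D) (Fin a → D) := by
  refine ⟨fun c t x => ?_⟩
  rw [smul_vec_def, smul_vec_def, Matrix.smul_mulVec]

theorem finrank_matrix_fin (a : ℕ) :
    Module.finrank k (Matrix (Fin a) (Fin a) D) = a * a * Module.finrank k D := by
  rw [Module.finrank_matrix]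
  simp

/-- Uniqueness in Wedderburn's theorem, numerical part. -/
theorem eq_and_finrank_eq_of_matrix_algEquiv {a b : ℕ} [NeZero a] [NeZero b]
    (e : Matrix (Fin a) (Fin a) D ≃ₐ[k] Matrix (Fin b) (Fin b) D') :
    a = b ∧ Module.finrank k D = Module.finrank k D' := by
  have h1 : b * Module.finrank k D' ∣ Module.finrank k (Fin a → D) :=
    dvd_finrank_of_algEquiv_matrix k e (Fin a → D)
  have h2 : a * Module.finrank k D ∣ Module.finrank k (Fin b → D') :=
    dvd_finrank_of_algEquiv_matrix k e.symm (Fin b → D')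
  rw [Module.finrank_pi_fintype] at h1 h2
  simp only [Finset.sum_const, Finset.card_univ, Fintype.card_fin, smul_eq_mul] at h1 h2
  have h3 : a * Module.finrank k D = b * Module.finrank k D' := Nat.dvd_antisymm h2 h1
  have h4 : a * a * Module.finrank k D = b * b * Module.finrank k D' := by
    rw [← finrank_matrix_fin, ← finrank_matrix_fin]
    exact e.toLinearEquiv.finrank_eq
  have hD : 0 < Module.finrank k D := Module.finrank_pos
  have hD' : 0 < Module.finrank k D' := Module.finrank_pos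
  have ha : 0 < a := Nat.pos_of_ne_zero (NeZero.ne a)
  have hb : 0 < b := Nat.pos_of_ne_zero (NeZero.ne b)
  have h5 : a * (b * Module.finrank k D') = b * (b * Module.finrank k D') := by
    rw [← h3]
    calc a * (a * Module.finrank k D) = a * a * Module.finrank k D := by ring
      _ = b * b * Module.finrank k D' := h4
      _ = b * (b * Module.finrank k D') := by ring
      _ = b * (a * Module.finrank k D) := by rw [h3]
  have hab : a = b := Nat.eq_of_mul_eq_mul_right (Nat.mul_pos hb hD') h5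
  subst hab
  exact ⟨rfl, Nat.eq_of_mul_eq_mul_left ha h3⟩

end Uniqueness

section Split

variable (k : Type u) [Field k]

/-- `A` is isomorphic to a full matrix algebra over `k` of positive size. -/
def IsSplit (A : Type v) [Ring A] [Algebra k A] : Prop :=
  ∃ n : ℕ, n ≠ 0 ∧ Nonempty (A ≃ₐ[k] Matrix (Fin n) (Fin n) k)

variable {k}

theorem splits_self_iff {A : Type v} [Ring A] [Algebra k A] :
    Curves.Splits k A k ↔ IsSplit k A := by
  constructor
  · rintro ⟨n, hn, ⟨e⟩⟩
    exact ⟨n, hn, ⟨(Algebra.TensorProduct.lid k A).symm.trans e⟩⟩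
  · rintro ⟨n, hn, ⟨e⟩⟩
    exact ⟨n, hn, ⟨(Algebra.TensorProduct.lid k A).trans e⟩⟩

theorem IsSplit.of_algEquiv {A : Type v} {B : Type w} [Ring A] [Algebra k A] [Ring B]
    [Algebra k B] (h : IsSplit k A) (e : A ≃ₐ[k] B) : IsSplit k B := by
  obtain ⟨n, hn, ⟨f⟩⟩ := h
  exact ⟨n, hn, ⟨e.symm.trans f⟩⟩

theorem isSplit_of_fintype {A : Type v} [Ring A] [Algebra k A] {ι : Type*} [Fintype ι]
    [DecidableEq ι] [Nonempty ι] (e : A ≃ₐ[k] Matrix ι ι k) : IsSplit k A :=
  ⟨Fintype.card ι, Fintype.card_ne_zero,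
    ⟨e.trans (Matrix.reindexAlgEquiv k k (Fintype.equivFin ι))⟩⟩

theorem IsSplit.isCSA {A : Type v} [Ring A] [Algebra k A] (h : IsSplit k A) : IsCSA k A := by
  obtain ⟨n, hn, ⟨f⟩⟩ := h
  haveI : NeZero n := ⟨hn⟩
  exact (IsCSA.matrix (k := k) n).of_algEquiv f.symm

theorem IsSplit.tensor {A : Type v} {B : Type w} [Ring A] [Algebra k A] [Ring B]
    [Algebra k B] (hA : IsSplit k A) (hB : IsSplit k B) : IsSplit k (A ⊗[k] B) := by
  obtain ⟨n, hn, ⟨f⟩⟩ := hA
  obtain ⟨m, hm, ⟨g⟩⟩ := hB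
  haveI : NeZero n := ⟨hn⟩
  haveI : NeZero m := ⟨hm⟩
  exact isSplit_of_fintype ((Algebra.TensorProduct.congr f g).trans
    ((Matrix.kroneckerTMulAlgEquiv (Fin n) (Fin m) k k k k).trans
      (AlgEquiv.mapMatrix (Algebra.TensorProduct.lid k k))))

theorem IsSplit.self : IsSplit k k := by
  refine ⟨1, one_ne_zero, ⟨AlgEquiv.ofBijective (Algebra.ofId k (Matrix (Fin 1) (Fin 1) k))
    (bijective_of_isSimple_of_finrank_eq _ ?_)⟩⟩
  rw [Module.finrank_matrix]
  simp

/-- Wedderburn's theorem for a finite-dimensional central simple algebra. -/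
theorem exists_matrix_of_isCSA {A : Type v} [Ring A] [Algebra k A] (hA : IsCSA k A) :
    ∃ (m : ℕ) (_ : NeZero m) (D : Type v) (_ : DivisionRing D) (_ : Algebra k D)
      (_ : FiniteDimensional k D), Nonempty (A ≃ₐ[k] Matrix (Fin m) (Fin m) D) := by
  haveI := hA.simple
  haveI := hA.fd
  haveI : IsArtinianRing A := IsArtinianRing.of_finite k A
  exact IsSimpleRing.exists_algEquiv_matrix_divisionRing_finite k A

/-- `M_a(X) ⊗ M_b(Y) ≅ M_{ab}(X ⊗ Y)`. -/
noncomputable def matrixTensorMatrix (a b : ℕ) (X : Type v) (Y : Type w) [Ring X] [Algebra k X]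
    [Ring Y] [Algebra k Y] :
    (Matrix (Fin a) (Fin a) X ⊗[k] Matrix (Fin b) (Fin b) Y) ≃ₐ[k]
      Matrix (Fin (a * b)) (Fin (a * b)) (X ⊗[k] Y) :=
  (Matrix.kroneckerTMulAlgEquiv (Fin a) (Fin b) k k X Y).trans
    (Matrix.reindexAlgEquiv k (X ⊗[k] Y) finProdFinEquiv)

/-- `M_a(M_b(X)) ≅ M_{ab}(X)`. -/
noncomputable def matrixMatrix (a b : ℕ) (X : Type v) [Ring X] [Algebra k X] :
    Matrix (Fin a) (Fin a) (Matrix (Fin b) (Fin b) X) ≃ₐ[k] Matrix (Fin (a * b)) (Fin (a * b)) X :=
  (Matrix.compAlgEquiv (Fin a) (Fin b) X k).trans (Matrix.reindexAlgEquiv k X finProdFinEquiv)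

/-- `X ⊗ M_b(k) ≅ M_b(X)`. -/
noncomputable def tensorMatrix (b : ℕ) (X : Type v) [Ring X] [Algebra k X] :
    (X ⊗[k] Matrix (Fin b) (Fin b) k) ≃ₐ[k] Matrix (Fin b) (Fin b) X :=
  (matrixEquivTensor (Fin b) k X).symm

/-- A division algebra `D` with `M_a(D) ≅ M_N(k)` is `k`. -/
theorem nonempty_algEquiv_of_matrix_algEquiv_matrix {D : Type v} [DivisionRing D] [Algebra k D]
    [FiniteDimensional k D] {a N : ℕ} [NeZero a] [NeZero N]
    (e : Matrix (Fin a) (Fin a) D ≃ₐ[k] Matrix (Fin N) (Fin N) k) : Nonempty (k ≃ₐ[k] D) := by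
  have h := (eq_and_finrank_eq_of_matrix_algEquiv k e).2
  rw [Module.finrank_self] at h
  exact ⟨AlgEquiv.ofBijective (Algebra.ofId k D)
    (bijective_of_isSimple_of_finrank_eq _ (by rw [Module.finrank_self, h]))⟩

/-- Cancellation: if `A ⊗ B` and `B` are split, so is the central simple algebra `A`. -/
theorem IsSplit.cancel {A : Type v} {B : Type w} [Ring A] [Algebra k A] [Ring B]
    [Algebra k B] (hA : IsCSA k A) (hB : IsSplit k B) (hAB : IsSplit k (A ⊗[k] B)) :
    IsSplit k A := by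
  obtain ⟨j, hj, D, _, _, _, ⟨f⟩⟩ := exists_matrix_of_isCSA hA
  obtain ⟨m, hm, ⟨g⟩⟩ := hB
  obtain ⟨N, hN, ⟨h⟩⟩ := hAB
  haveI : NeZero m := ⟨hm⟩
  haveI : NeZero N := ⟨hN⟩
  haveI : NeZero (m * j) := ⟨Nat.mul_ne_zero hm (NeZero.ne j)⟩
  -- `M_{mj}(D) ≅ M_m(M_j(D)) ≅ M_m(A) ≅ A ⊗ M_m(k) ≅ A ⊗ B ≅ M_N(k)`
  let e : Matrix (Fin (m * j)) (Fin (m * j)) D ≃ₐ[k] Matrix (Fin N) (Fin N) k :=
    (matrixMatrix (k := k) m j D).symm.trans ((AlgEquiv.mapMatrix f.symm).trans
      ((tensorMatrix (k := k) m A).symm.trans ((Algebra.TensorProduct.congr AlgEquiv.refl g.symm).trans h)))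
  obtain ⟨φ⟩ := nonempty_algEquiv_of_matrix_algEquiv_matrix e
  exact ⟨j, NeZero.ne j, ⟨f.trans (AlgEquiv.mapMatrix φ.symm)⟩⟩

end Split

section Division

variable {k : Type u} [Field k] {A : Type v} [Ring A] [Algebra k A]

/-- The division algebra in a Wedderburn decomposition of a central simple algebra is central
simple (and the matrix size is nonzero). -/
theorem isCSA_division (hA : IsCSA k A) {D : Type w} [DivisionRing D] [Algebra k D]
    [FiniteDimensional k D] {m : ℕ} (e : A ≃ₐ[k] Matrix (Fin m) (Fin m) D) :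
    m ≠ 0 ∧ IsCSA k D := by
  haveI := hA.simple
  have hm : m ≠ 0 := by
    rintro rfl
    have : Subsingleton A := e.toEquiv.subsingleton
    exact not_subsingleton A this
  refine ⟨hm, ?_⟩
  have hMD : IsCSA k (Matrix (Fin m) (Fin m) D) := hA.of_algEquiv e
  refine ⟨?_, inferInstance, inferInstance⟩
  haveI := hMD.central
  constructor
  intro x hx
  have hxc : (Matrix.scalar (Fin m) x) ∈ Subalgebra.center k (Matrix (Fin m) (Fin m) D) := by
    rw [Subalgebra.mem_center_iff]
    intro M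
    have hc : ∀ y : D, Commute x y := fun y => ((Subalgebra.mem_center_iff.mp hx) y).symm
    exact ((Matrix.scalar_commute x hc M).symm).eq
  obtain ⟨c, hc⟩ := Algebra.mem_bot.mp (Algebra.IsCentral.out hxc)
  refine Algebra.mem_bot.mpr ⟨c, ?_⟩
  have := congrFun (congrFun hc ⟨0, Nat.pos_of_ne_zero hm⟩) ⟨0, Nat.pos_of_ne_zero hm⟩
  simpa [Matrix.algebraMap_matrix_apply] using this

end Division

section TPowTensor

variable {k : Type u} [Field k]

/-- `X^{⊗e} ⊗ Y^{⊗e} ≅ (X ⊗ Y)^{⊗e}` for central simple algebras. -/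
theorem nonempty_tpow_tensor {X : Type v} {Y : Type w} [Ring X] [Algebra k X] [Ring Y]
    [Algebra k Y] (hX : IsCSA k X) (hY : IsCSA k Y) (e : ℕ) :
    Nonempty (((⨂[k] _ : Fin e, X) ⊗[k] (⨂[k] _ : Fin e, Y)) ≃ₐ[k] ⨂[k] _ : Fin e, (X ⊗[k] Y)) := by
  have hcomm : ∀ (s : ⨂[k] _ : Fin e, X) (t : ⨂[k] _ : Fin e, Y),
      Commute (mapAlgHom k (ι := Fin e) (Algebra.TensorProduct.includeLeft : X →ₐ[k] X ⊗[k] Y) s)
        (mapAlgHom k (ι := Fin e) (Algebra.TensorProduct.includeRight : Y →ₐ[k] X ⊗[k] Y) t) := by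
    intro s t
    induction s using PiTensorProduct.induction_on with
    | smul_tprod c a =>
      induction t using PiTensorProduct.induction_on with
      | smul_tprod c' b =>
        rw [map_smul, map_smul, mapAlgHom_tprod, mapAlgHom_tprod]
        refine (Commute.smul_right (Commute.smul_left ?_ c) c')
        apply Commute.tprod
        unfold Commute SemiconjBy
        funext i
        simp
      | add x y hx hy => rw [map_add]; exact Commute.add_right hx hy
    | add x y hx hy => rw [map_add]; exact Commute.add_left hx hy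
  let G := Algebra.TensorProduct.lift
    (mapAlgHom k (ι := Fin e) (Algebra.TensorProduct.includeLeft : X →ₐ[k] X ⊗[k] Y))
    (mapAlgHom k (ι := Fin e) (Algebra.TensorProduct.includeRight : Y →ₐ[k] X ⊗[k] Y)) hcomm
  have h1 := (hX.tpow e).tensor (hY.tpow e)
  have h2 := (hX.tensor hY).tpow e
  haveI := h1.simple
  haveI := h1.fd
  haveI := h2.fd
  haveI := h2.simple
  haveI := hX.fd
  haveI := hY.fd
  refine ⟨AlgEquiv.ofBijective G (bijective_of_isSimple_of_finrank_eq G ?_)⟩
  rw [Module.finrank_tensorProduct, finrank_tpow, finrank_tpow, finrank_tpow,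
    Module.finrank_tensorProduct, mul_pow]

/-- Tensor powers of a matrix algebra over `k` are split. -/
theorem isSplit_tpow_matrix (m : ℕ) [NeZero m] (e : ℕ) :
    IsSplit k (⨂[k] _ : Fin e, Matrix (Fin m) (Fin m) k) := by
  have h := (IsCSA.matrix (k := k) m).tpow e
  haveI := h.simple
  haveI := h.fd
  let f := Groth.Agent.Lib.Helper59.Kron.tpowRep (k := k) (L := k) (Fin e) (AlgHom.id k (Matrix (Fin m) (Fin m) k))
  refine isSplit_of_fintype (AlgEquiv.ofBijective f (bijective_of_isSimple_of_finrank_eq f ?_))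
  rw [finrank_tpow, Module.finrank_matrix, Module.finrank_matrix]
  simp only [Fintype.card_fin, Module.finrank_self, mul_one, Fintype.card_pi_const]
  rw [mul_pow]

/-- `M_m(D)` and `D` have the same split exponents. -/
theorem isSplit_tpow_matrix_iff {D : Type v} [Ring D] [Algebra k D] (hD : IsCSA k D) (m : ℕ)
    [NeZero m] (e : ℕ) :
    IsSplit k (⨂[k] _ : Fin e, Matrix (Fin m) (Fin m) D) ↔ IsSplit k (⨂[k] _ : Fin e, D) := by
  obtain ⟨g⟩ := nonempty_tpow_tensor hD (IsCSA.matrix (k := k) m) e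
  let g' := g.trans (congrAlgEquiv k (ι := Fin e) (tensorMatrix (k := k) m D))
  constructor
  · intro h
    exact IsSplit.cancel (hD.tpow e) (isSplit_tpow_matrix m e) (h.of_algEquiv g'.symm)
  · intro h
    exact (h.tensor (isSplit_tpow_matrix m e)).of_algEquiv g'

end TPowTensor

section Period

variable {k : Type u} [Field k] {A : Type v} [Ring A] [Algebra k A]

variable (k A) in
/-- The set of exponents `e` for which `A^{⊗e}` is split. -/
def splitExp : Set ℕ := {e | IsSplit k (⨂[k] _ : Fin e, A)}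

theorem mem_splitExp_iff {e : ℕ} :
    e ∈ splitExp k A ↔ Curves.Splits k (CSAGal.tpow k A e) k := splits_self_iff.symm

theorem zero_mem_splitExp : 0 ∈ splitExp k A := IsSplit.self.of_algEquiv (tpowZero k A).symm

theorem add_mem_splitExp {a b : ℕ} (ha : a ∈ splitExp k A) (hb : b ∈ splitExp k A) :
    a + b ∈ splitExp k A := (IsSplit.tensor ha hb).of_algEquiv (tpowAdd k A a b)

theorem mul_mem_splitExp {a : ℕ} (ha : a ∈ splitExp k A) (q : ℕ) : a * q ∈ splitExp k A := by
  induction q with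
  | zero => exact zero_mem_splitExp
  | succ q ih => rw [Nat.mul_succ]; exact add_mem_splitExp ih ha

theorem mem_splitExp_of_add (hA : IsCSA k A) {a b : ℕ} (hab : a + b ∈ splitExp k A)
    (hb : b ∈ splitExp k A) : a ∈ splitExp k A :=
  IsSplit.cancel (hA.tpow a) hb (IsSplit.of_algEquiv hab (tpowAdd k A a b).symm)

theorem isPeriod_iff {p : ℕ} : CSAGal.IsPeriod k A p ↔
    0 < p ∧ p ∈ splitExp k A ∧ ∀ e', 0 < e' → e' < p → e' ∉ splitExp k A := by
  unfold CSAGal.IsPeriod
  simp only [mem_splitExp_iff]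

/-- If `A` has period `p`, then `A^{⊗e}` is split iff `p ∣ e`. -/
theorem mem_splitExp_iff_dvd (hA : IsCSA k A) {p : ℕ} (hp : CSAGal.IsPeriod k A p) (e : ℕ) :
    e ∈ splitExp k A ↔ p ∣ e := by
  obtain ⟨hp0, hpS, hmin⟩ := isPeriod_iff.mp hp
  constructor
  · intro he
    have hr : e % p ∈ splitExp k A := by
      apply mem_splitExp_of_add hA (b := p * (e / p)) _ (mul_mem_splitExp hpS _)
      rw [Nat.mod_add_div]; exact he
    by_contra hdvd
    have hpos : 0 < e % p := Nat.pos_of_ne_zero (fun h => hdvd (Nat.dvd_of_mod_eq_zero h))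
    exact hmin _ hpos (Nat.mod_lt _ hp0) hr
  · rintro ⟨q, rfl⟩
    exact mul_mem_splitExp hpS q

theorem mem_splitExp_tpow_iff {r j : ℕ} :
    j ∈ splitExp k (⨂[k] _ : Fin r, A) ↔ r * j ∈ splitExp k A := by
  obtain ⟨e⟩ := nonempty_tpowMul k A r j
  exact ⟨fun h => h.of_algEquiv e, fun h => h.of_algEquiv e.symm⟩

/-- A period exists as soon as some positive tensor power is split. -/
theorem exists_isPeriod {e : ℕ} (he : 0 < e) (hS : e ∈ splitExp k A) :
    ∃ p, CSAGal.IsPeriod k A p ∧ p ≤ e := by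
  classical
  have hex : ∃ n, 0 < n ∧ n ∈ splitExp k A := ⟨e, he, hS⟩
  refine ⟨Nat.find hex, isPeriod_iff.mpr ⟨(Nat.find_spec hex).1, (Nat.find_spec hex).2, ?_⟩,
    Nat.find_min' hex ⟨he, hS⟩⟩
  intro e' he' hlt hmem
  exact Nat.find_min hex hlt ⟨he', hmem⟩

/-- The period of `A^{⊗r}` is `p / gcd p r`. -/
theorem isPeriod_tpow (hA : IsCSA k A) {p : ℕ} (hp : CSAGal.IsPeriod k A p) (r : ℕ) :
    CSAGal.IsPeriod k (CSAGal.tpow k A r) (p / Nat.gcd p r) := by
  have hp0 : 0 < p := hp.1
  have hg0 : 0 < Nat.gcd p r := Nat.gcd_pos_of_pos_left r hp0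
  have hgp : Nat.gcd p r ∣ p := Nat.gcd_dvd_left p r
  have hgr : Nat.gcd p r ∣ r := Nat.gcd_dvd_right p r
  have hpos : 0 < p / Nat.gcd p r := Nat.div_pos (Nat.le_of_dvd hp0 hgp) hg0
  have key : ∀ j, j ∈ splitExp k (⨂[k] _ : Fin r, A) ↔ p / Nat.gcd p r ∣ j := by
    intro j
    rw [mem_splitExp_tpow_iff, mem_splitExp_iff_dvd hA hp]
    have hcop0 := Nat.coprime_div_gcd_div_gcd hg0 (m := p) (n := r)
    obtain ⟨g, hg⟩ : ∃ g, g = Nat.gcd p r := ⟨_, rfl⟩
    rw [← hg] at hcop0 hg0 hgp hgr ⊢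
    obtain ⟨p', hp'⟩ := hgp
    obtain ⟨r', hr'⟩ := hgr
    have hcop : Nat.Coprime p' r' := by
      rwa [Nat.div_eq_of_eq_mul_right hg0 hp', Nat.div_eq_of_eq_mul_right hg0 hr'] at hcop0
    rw [Nat.div_eq_of_eq_mul_right hg0 hp']
    have h1 : p ∣ r * j ↔ g * p' ∣ g * (r' * j) := by rw [← hp', ← mul_assoc, ← hr']
    rw [h1, Nat.mul_dvd_mul_iff_left hg0]
    exact ⟨fun h => hcop.dvd_of_dvd_mul_left h, fun h => Dvd.dvd.mul_left h r'⟩
  refine isPeriod_iff.mpr ⟨hpos, (key _).mpr dvd_rfl, fun e' he' hlt hmem => ?_⟩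
  exact absurd (Nat.le_of_dvd he' ((key e').mp hmem)) (not_le.mpr hlt)

end Period


end Groth.Agent.Lib.Helper59.BrauerCalc
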