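import Mathlib
import Groth.Agent.Lib.Helper59.BrauerCalc
import Groth.Agent.Lib.Helper59.Kron
import Groth.Agent.Lib.Helper86.GaloisDescent
import Groth.Agent.S0201

/-!
# The period divides the index: the determinant trick via Galois descent
-/

set_option autoImplicit false
set_option linter.style.haveILetI false
set_option linter.unusedSectionVars false

namespace Groth.Agent.Lib.Helper59.PeriodIndex

open TensorProduct Groth.Agent.Lib.Helper59.TPow Groth.Agent.Lib.Helper59.BrauerCalc
  Groth.Agent.Lib.Helper59.Kron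

universe u v w

section Semilinear

variable {k : Type u} [Field k] {L : Type w} [Field L] [Algebra k L]
  {A : Type v} [Ring A] [Algebra k A] {n : ℕ}

/-- `σ ⊗ id` is `σ`-semilinear. -/
theorem congr_smul (σ : L ≃ₐ[k] L) (c : L) (y : L ⊗[k] A) :
    Algebra.TensorProduct.congr σ (AlgEquiv.refl : A ≃ₐ[k] A) (c • y) =
      σ c • Algebra.TensorProduct.congr σ (AlgEquiv.refl : A ≃ₐ[k] A) y := by
  induction y using TensorProduct.induction_on with
  | zero => simp
  | tmul l a =>
    simp only [TensorProduct.smul_tmul', smul_eq_mul, Algebra.TensorProduct.congr_apply,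
      Algebra.TensorProduct.map_tmul, map_mul]
    rfl
  | add x y hx hy => rw [smul_add, map_add, map_add, smul_add, hx, hy]

theorem map_smul_matrix (σ : L ≃ₐ[k] L) (c : L) (X : Matrix (Fin n) (Fin n) L) :
    (c • X).map σ = σ c • X.map σ := by
  ext i j
  simp

/-- A matrix commuting with an `L`-spanning set of `M_n(L)` is scalar. -/
theorem exists_eq_smul_one_of_commute {S : Set (Matrix (Fin n) (Fin n) L)}
    (hS : Submodule.span L S = ⊤) (v : Matrix (Fin n) (Fin n) L)
    (hv : ∀ X ∈ S, v * X = X * v) : ∃ c : L, v = c • (1 : Matrix (Fin n) (Fin n) L) := by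
  have hall : ∀ X : Matrix (Fin n) (Fin n) L, v * X = X * v := by
    intro X
    have hX : X ∈ Submodule.span L S := hS ▸ Submodule.mem_top
    induction hX using Submodule.span_induction with
    | mem X hX => exact hv X hX
    | zero => simp
    | add X Y _ _ hX hY => rw [mul_add, add_mul, hX, hY]
    | smul c X _ hX => rw [Matrix.mul_smul, Matrix.smul_mul, hX]
  obtain ⟨c, hc⟩ := Matrix.mem_range_scalar_iff_commute_single'.mpr
    (fun i j => (hall (Matrix.single i j 1)).symm)
  refine ⟨c, ?_⟩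
  rw [← hc, Matrix.smul_one_eq_diagonal]
  rfl

variable (φ : L ⊗[k] A ≃ₐ[L] Matrix (Fin n) (Fin n) L)

/-- The `k`-algebra map `a ↦ φ (1 ⊗ a)`. -/
noncomputable def rho : A →ₐ[k] Matrix (Fin n) (Fin n) L :=
  (φ.toAlgHom.restrictScalars k).comp Algebra.TensorProduct.includeRight

theorem rho_apply (a : A) : rho φ a = φ (1 ⊗ₜ a) := rfl

theorem span_range_rho : Submodule.span L (Set.range (rho φ)) = ⊤ := by
  rw [eq_top_iff]
  rintro X -
  obtain ⟨y, rfl⟩ := φ.surjective X
  induction y using TensorProduct.induction_on with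
  | zero => simp
  | tmul l a =>
    have : l ⊗ₜ[k] a = l • ((1 : L) ⊗ₜ[k] a) := by rw [TensorProduct.smul_tmul', smul_eq_mul, mul_one]
    rw [this, map_smul]
    exact Submodule.smul_mem _ _ (Submodule.subset_span ⟨a, rfl⟩)
  | add x y hx hy => rw [map_add]; exact Submodule.add_mem _ hx hy

theorem span_range_rho_map (σ : L ≃ₐ[k] L) :
    Submodule.span L (Set.range fun a => (rho φ a).map σ) = ⊤ := by
  rw [eq_top_iff]
  rintro X -
  have key : ∀ Y : Matrix (Fin n) (Fin n) L, Y ∈ Submodule.span L (Set.range (rho φ)) →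
      Y.map σ ∈ Submodule.span L (Set.range fun a => (rho φ a).map σ) := by
    intro Y hY
    induction hY using Submodule.span_induction with
    | mem Y hY =>
      obtain ⟨a, rfl⟩ := hY
      exact Submodule.subset_span ⟨a, rfl⟩
    | zero => simp
    | add Y Z _ _ hY hZ =>
      rw [Matrix.map_add σ (map_add σ)]
      exact Submodule.add_mem _ hY hZ
    | smul c Y _ hY =>
      rw [map_smul_matrix]
      exact Submodule.smul_mem _ _ hY
  have h := key (X.map σ.symm) (span_range_rho φ ▸ Submodule.mem_top)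
  rw [Matrix.map_map] at h
  have : (⇑σ ∘ ⇑σ.symm) = id := by ext x; simp
  rwa [this, Matrix.map_id] at h

/-- Semilinear Skolem–Noether: for every `σ` there is a unit `u` with `ρ(a) u = u σ(ρ(a))`. -/
theorem exists_twist [NeZero n] (σ : L ≃ₐ[k] L) :
    ∃ u : (Matrix (Fin n) (Fin n) L)ˣ, ∀ a : A, rho φ a * u = u * (rho φ a).map σ := by
  let s : L ⊗[k] A ≃ₐ[k] L ⊗[k] A := Algebra.TensorProduct.congr σ (AlgEquiv.refl : A ≃ₐ[k] A)
  let ment : Matrix (Fin n) (Fin n) L ≃ₐ[k] Matrix (Fin n) (Fin n) L := AlgEquiv.mapMatrix σ.symm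
  let χ₀ : Matrix (Fin n) (Fin n) L ≃ₐ[k] Matrix (Fin n) (Fin n) L :=
    ment.trans ((φ.symm.restrictScalars k).trans (s.trans (φ.restrictScalars k)))
  have hχ₀ : ∀ X, χ₀ X = φ (s (φ.symm (X.map σ.symm))) := fun X => rfl
  have hlin : ∀ (c : L) (X : Matrix (Fin n) (Fin n) L), χ₀ (c • X) = c • χ₀ X := by
    intro c X
    rw [hχ₀, hχ₀, map_smul_matrix, map_smul]
    show φ (Algebra.TensorProduct.congr σ AlgEquiv.refl (σ.symm c • _)) = _
    rw [congr_smul, map_smul, AlgEquiv.apply_symm_apply]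
  let χ : Matrix (Fin n) (Fin n) L ≃ₐ[L] Matrix (Fin n) (Fin n) L :=
    AlgEquiv.ofRingEquiv (f := χ₀.toRingEquiv) (by
      intro c
      rw [Algebra.algebraMap_eq_smul_one]
      show χ₀ (c • 1) = c • 1
      rw [hlin, map_one])
  obtain ⟨u, hu⟩ := Groth.Agent.Lib.Helper59.SkolemNoether.exists_unit_conj_algEquiv χ
  refine ⟨u, fun a => ?_⟩
  have h1 : χ ((rho φ a).map σ) = rho φ a := by
    show χ₀ ((rho φ a).map σ) = rho φ a
    rw [hχ₀, Matrix.map_map]
    have : (⇑σ.symm ∘ ⇑σ) = id := by ext x; simp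
    rw [this, Matrix.map_id, rho_apply, AlgEquiv.symm_apply_apply]
    show φ (Algebra.TensorProduct.congr σ AlgEquiv.refl ((1 : L) ⊗ₜ[k] a)) = _
    simp
  rw [hu] at h1
  calc rho φ a * u = (u * (rho φ a).map σ * ((u⁻¹ : (Matrix (Fin n) (Fin n) L)ˣ) : _)) * u := by
        rw [h1]
    _ = u * (rho φ a).map σ := by rw [mul_assoc, Units.inv_mul, mul_one]

end Semilinear

section Twist

variable {k : Type u} [Field k] {L : Type w} [Field L] [Algebra k L]
  {A : Type v} [Ring A] [Algebra k A] {n : ℕ}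

theorem map_mul_sigma {ι : Type*} [Fintype ι] (σ : L ≃ₐ[k] L) (X Y : Matrix ι ι L) :
    (X * Y).map σ = X.map σ * Y.map σ := by
  ext i j
  simp [Matrix.mul_apply, map_sum]

theorem map_one_sigma {ι : Type*} [DecidableEq ι] (σ : L ≃ₐ[k] L) :
    (1 : Matrix ι ι L).map σ = 1 := by
  ext i j
  by_cases h : i = j <;> simp [Matrix.one_apply, h]

theorem map_comp_sigma {ι : Type*} (σ τ : L ≃ₐ[k] L) (X : Matrix ι ι L) :
    X.map ⇑(σ * τ) = (X.map τ).map σ := by
  ext i j
  simp [AlgEquiv.mul_apply]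

theorem det_map_sigma {ι : Type*} [Fintype ι] [DecidableEq ι] (σ : L ≃ₐ[k] L) (X : Matrix ι ι L) :
    (X.map σ).det = σ X.det := by
  have := RingHom.map_det (σ : L →+* L) X
  simpa using this.symm

theorem kron_map_sigma {ι κ : Type*} [Fintype ι] [DecidableEq ι] [Fintype κ] [DecidableEq κ]
    (σ : L ≃ₐ[k] L) (X : ι → Matrix κ κ L) :
    (kron X).map σ = kron (fun i => (X i).map σ) := kron_map (σ : L →+* L) X

/-- Twisting data for a representation `ρ : A → M_n(L)`. -/
structure TwistData (ρ : A →ₐ[k] Matrix (Fin n) (Fin n) L) where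
  /-- the twisting units -/
  u : (L ≃ₐ[k] L) → (Matrix (Fin n) (Fin n) L)ˣ
  comm : ∀ σ a, ρ a * (u σ : Matrix (Fin n) (Fin n) L) = u σ * (ρ a).map σ
  span : ∀ σ : L ≃ₐ[k] L, Submodule.span L (Set.range fun a => (ρ a).map σ) = ⊤

theorem nonempty_twistData [NeZero n] (φ : L ⊗[k] A ≃ₐ[L] Matrix (Fin n) (Fin n) L) :
    Nonempty (TwistData (rho φ)) := by
  choose u hu using exists_twist φ
  exact ⟨⟨u, hu, span_range_rho_map φ⟩⟩

variable {ρ : A →ₐ[k] Matrix (Fin n) (Fin n) L} (T : TwistData ρ)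

namespace TwistData

theorem cocycle (σ τ : L ≃ₐ[k] L) : ∃ c : L,
    (T.u σ : Matrix (Fin n) (Fin n) L) * (T.u τ : Matrix (Fin n) (Fin n) L).map σ =
      c • (T.u (σ * τ) : Matrix (Fin n) (Fin n) L) := by
  obtain ⟨w, hw⟩ : ∃ w, w = (T.u σ : Matrix (Fin n) (Fin n) L) *
    (T.u τ : Matrix (Fin n) (Fin n) L).map σ := ⟨_, rfl⟩
  have hwc : ∀ a, ρ a * w = w * (ρ a).map ⇑(σ * τ) := by
    intro a
    have h1 := congrArg (fun X => X.map σ) (T.comm τ a)
    simp only [map_mul_sigma] at h1
    rw [hw, ← mul_assoc, T.comm σ a, mul_assoc, h1, mul_assoc, map_comp_sigma]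
  obtain ⟨v, hv⟩ : ∃ v, v = ((T.u (σ * τ))⁻¹ : (Matrix (Fin n) (Fin n) L)ˣ) * w := ⟨_, rfl⟩
  have hinv : ∀ a, (((T.u (σ * τ))⁻¹ : (Matrix (Fin n) (Fin n) L)ˣ) : Matrix (Fin n) (Fin n) L) * ρ a =
      (ρ a).map ⇑(σ * τ) * ((T.u (σ * τ))⁻¹ : (Matrix (Fin n) (Fin n) L)ˣ) := by
    intro a
    have h := T.comm (σ * τ) a
    calc (((T.u (σ * τ))⁻¹ : (Matrix (Fin n) (Fin n) L)ˣ) : Matrix (Fin n) (Fin n) L) * ρ a
        = ((T.u (σ * τ))⁻¹ : (Matrix (Fin n) (Fin n) L)ˣ) * (ρ a * T.u (σ * τ)) *
            ((T.u (σ * τ))⁻¹ : (Matrix (Fin n) (Fin n) L)ˣ) := by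
          rw [mul_assoc, mul_assoc, Units.mul_inv, mul_one]
      _ = _ := by rw [h, ← mul_assoc, Units.inv_mul, one_mul]
  obtain ⟨c, hc⟩ := exists_eq_smul_one_of_commute (T.span (σ * τ)) v (by
    rintro _ ⟨a, rfl⟩
    simp only
    rw [hv, mul_assoc, ← hwc a, ← mul_assoc, hinv a, mul_assoc])
  refine ⟨c, ?_⟩
  rw [← hw]
  calc w = (T.u (σ * τ) : Matrix (Fin n) (Fin n) L) * v := by
        rw [hv, ← mul_assoc, Units.mul_inv, one_mul]
    _ = _ := by rw [hc, Matrix.mul_smul, mul_one]

theorem one_eq : ∃ c : L, (T.u 1 : Matrix (Fin n) (Fin n) L) = c • 1 := by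
  refine exists_eq_smul_one_of_commute (T.span 1) _ ?_
  rintro _ ⟨a, rfl⟩
  have h := T.comm 1 a
  have h1 : (ρ a).map ⇑(1 : L ≃ₐ[k] L) = ρ a := by ext i j; simp
  simp only [h1] at h ⊢
  exact h.symm

theorem det_ne_zero (σ : L ≃ₐ[k] L) : (T.u σ : Matrix (Fin n) (Fin n) L).det ≠ 0 := by
  have h := (Matrix.isUnit_iff_isUnit_det _).mp (T.u σ).isUnit
  exact h.ne_zero

/-- The Kronecker power of the twisting unit. -/
noncomputable def K (σ : L ≃ₐ[k] L) : Matrix (Fin n → Fin n) (Fin n → Fin n) L :=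
  kron (fun _ : Fin n => (T.u σ : Matrix (Fin n) (Fin n) L))

/-- The twisted semilinear action on `(L^n)^{⊗n}`. -/
noncomputable def theta (σ : L ≃ₐ[k] L) (w : (Fin n → Fin n) → L) : (Fin n → Fin n) → L :=
  ((T.u σ : Matrix (Fin n) (Fin n) L).det)⁻¹ • (T.K σ).mulVec (fun p => σ (w p))

theorem sigma_mulVec {ι : Type*} [Fintype ι] (σ : L ≃ₐ[k] L) (M : Matrix ι ι L) (w : ι → L) :
    (fun p => σ ((M.mulVec w) p)) = (M.map σ).mulVec (fun p => σ (w p)) := by
  funext p
  have := RingHom.map_mulVec (σ : L →+* L) M w p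
  simpa [Function.comp_def] using this

theorem theta_add (σ : L ≃ₐ[k] L) (x y : (Fin n → Fin n) → L) :
    T.theta σ (x + y) = T.theta σ x + T.theta σ y := by
  unfold theta
  have : (fun p => σ ((x + y) p)) = (fun p => σ (x p)) + (fun p => σ (y p)) := by
    funext p; simp
  rw [this, Matrix.mulVec_add, smul_add]

theorem theta_smul (σ : L ≃ₐ[k] L) (c : L) (x : (Fin n → Fin n) → L) :
    T.theta σ (c • x) = σ c • T.theta σ x := by
  unfold theta
  have : (fun p => σ ((c • x) p)) = σ c • (fun p => σ (x p)) := by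
    funext p; simp
  rw [this, Matrix.mulVec_smul, smul_comm]

theorem theta_one (x : (Fin n → Fin n) → L) : T.theta 1 x = x := by
  obtain ⟨c, hc⟩ := T.one_eq
  have hdet : (T.u 1 : Matrix (Fin n) (Fin n) L).det = c ^ n := by
    rw [hc, Matrix.det_smul, Matrix.det_one, mul_one, Fintype.card_fin]
  have hne : c ^ n ≠ 0 := hdet ▸ T.det_ne_zero 1
  have hK : T.K 1 = c ^ n • (1 : Matrix (Fin n → Fin n) (Fin n → Fin n) L) := by
    unfold K
    rw [hc, kron_smul_const, kron_one, Fintype.card_fin]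
  unfold theta
  rw [hK, hdet]
  have : (fun p => (1 : L ≃ₐ[k] L) (x p)) = x := by funext p; simp
  rw [this, Matrix.smul_mulVec, Matrix.one_mulVec, smul_smul, inv_mul_cancel₀ hne, one_smul]

theorem theta_mul (σ τ : L ≃ₐ[k] L) (x : (Fin n → Fin n) → L) :
    T.theta (σ * τ) x = T.theta σ (T.theta τ x) := by
  obtain ⟨c, hc⟩ := T.cocycle σ τ
  have hdet : (T.u σ : Matrix (Fin n) (Fin n) L).det * σ ((T.u τ : Matrix (Fin n) (Fin n) L).det) =
      c ^ n * (T.u (σ * τ) : Matrix (Fin n) (Fin n) L).det := by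
    rw [← det_map_sigma, ← Matrix.det_mul, hc, Matrix.det_smul, Fintype.card_fin]
  have hne : c ^ n ≠ 0 := by
    intro h0
    rw [h0, zero_mul] at hdet
    rcases mul_eq_zero.mp hdet with h | h
    · exact T.det_ne_zero σ h
    · exact T.det_ne_zero τ ((map_eq_zero σ).mp h)
  have hK : T.K σ * (T.K τ).map σ = c ^ n • T.K (σ * τ) := by
    unfold K
    rw [kron_map_sigma, kron_mul, hc, kron_smul_const, Fintype.card_fin]
  unfold theta
  have h1 : (fun p => σ ((((T.u τ : Matrix (Fin n) (Fin n) L).det)⁻¹ •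
      (T.K τ).mulVec (fun p => τ (x p))) p)) =
      (σ ((T.u τ : Matrix (Fin n) (Fin n) L).det))⁻¹ •
        ((T.K τ).map σ).mulVec (fun p => (σ * τ) (x p)) := by
    funext p
    have h2 := congrFun (sigma_mulVec σ (T.K τ) (fun p => τ (x p))) p
    simp only [Pi.smul_apply, smul_eq_mul, map_mul, map_inv₀, AlgEquiv.mul_apply]
    rw [h2]
  rw [h1, Matrix.mulVec_smul, Matrix.mulVec_mulVec, hK, Matrix.smul_mulVec, smul_smul, smul_smul]
  congr 1
  have hd := T.det_ne_zero (σ * τ)
  have hd1 := T.det_ne_zero σ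
  have hd2 : σ ((T.u τ : Matrix (Fin n) (Fin n) L).det) ≠ 0 :=
    fun h => T.det_ne_zero τ ((map_eq_zero σ).mp h)
  field_simp
  rw [hdet]
  ring

/-- The twisted action as a `SemiAction`. -/
noncomputable def semiAction :
    Groth.Agent.Lib.Helper86.GaloisDescent.SemiAction k L ((Fin n → Fin n) → L) where
  ρ := T.theta
  map_add := T.theta_add
  map_smul := T.theta_smul
  one := T.theta_one
  mul := T.theta_mul

theorem theta_zero (σ : L ≃ₐ[k] L) : T.theta σ 0 = 0 := by
  have := T.theta_smul σ 0 0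
  simpa using this

theorem theta_smul_base (σ : L ≃ₐ[k] L) (c : k) (x : (Fin n → Fin n) → L) :
    T.theta σ (c • x) = c • T.theta σ x := by
  rw [← algebraMap_smul L c x, T.theta_smul, AlgEquiv.commutes, algebraMap_smul]

/-- The twisted action commutes with the representation of the tensor power. -/
theorem theta_rep (σ : L ≃ₐ[k] L) (x : ⨂[k] _ : Fin n, A) (w : (Fin n → Fin n) → L) :
    T.theta σ ((tpowRep (Fin n) ρ x).mulVec w) = (tpowRep (Fin n) ρ x).mulVec (T.theta σ w) := by
  induction x using PiTensorProduct.induction_on with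
  | smul_tprod c a =>
    rw [map_smul, tpowRep_tprod]
    obtain ⟨P, hP⟩ : ∃ P, P = kron (fun i => ρ (a i)) := ⟨_, rfl⟩
    rw [← hP]
    have hcomm : T.K σ * P.map σ = P * T.K σ := by
      rw [hP]
      unfold K
      rw [kron_map_sigma, kron_mul, kron_mul]
      congr 1
      funext i
      exact (T.comm σ (a i)).symm
    have h1 : T.theta σ (P.mulVec w) = P.mulVec (T.theta σ w) := by
      unfold theta
      rw [sigma_mulVec, Matrix.mulVec_mulVec, hcomm, ← Matrix.mulVec_mulVec, Matrix.mulVec_smul]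
    rw [Matrix.smul_mulVec, Matrix.smul_mulVec, T.theta_smul_base, h1]
  | add x y hx hy =>
    rw [map_add, Matrix.add_mulVec, Matrix.add_mulVec, T.theta_add, hx, hy]

end TwistData

end Twist

section Main

variable {k : Type u} [Field k] {L : Type w} [Field L] [Algebra k L]
  [FiniteDimensional k L] [IsGalois k L]
  {A : Type v} [Ring A] [Algebra k A] {n : ℕ}

open Groth.Agent.Lib.Helper86.GaloisDescent in
/-- The determinant trick: if `A` is central simple of degree `n`, split by the finite Galois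
extension `L`, with twisting data, then `A^{⊗n}` is split. -/
theorem isSplit_tpow_of_twistData [NeZero n] (hA : IsCSA k A) (hdim : Module.finrank k A = n ^ 2)
    {ρ : A →ₐ[k] Matrix (Fin n) (Fin n) L} (T : TwistData ρ) :
    IsSplit k (⨂[k] _ : Fin n, A) := by
  classical
  haveI := hA.fd
  obtain ⟨S, hS⟩ : ∃ S : SemiAction k L ((Fin n → Fin n) → L), S = T.semiAction := ⟨_, rfl⟩
  have hSρ : ∀ σ w, S.ρ σ w = T.theta σ w := by rw [hS]; intros; rfl
  -- dimension of the fixed space
  have hfix : Module.finrank k S.fixed = n ^ n := by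
    have e := LinearEquiv.ofBijective _ S.bijective_liftBaseChange
    have h1 := e.finrank_eq
    rw [Module.finrank_baseChange] at h1
    rw [h1, Module.finrank_fintype_fun_eq_card]
    simp
  have hpos : 0 < Module.finrank k S.fixed := by
    rw [hfix]; exact Nat.pos_of_ne_zero (pow_ne_zero _ (NeZero.ne n))
  haveI : Module.Finite k S.fixed := Module.finite_of_finrank_pos hpos
  haveI : Nontrivial S.fixed := Module.nontrivial_of_finrank_pos (R := k) hpos
  -- the action of the tensor power on the fixed space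
  have hstab : ∀ (x : ⨂[k] _ : Fin n, A) (w : (Fin n → Fin n) → L), w ∈ S.fixed →
      (tpowRep (Fin n) ρ x).mulVec w ∈ S.fixed := by
    intro x w hw σ
    rw [hSρ, T.theta_rep, ← hSρ, hw σ]
  let g : (⨂[k] _ : Fin n, A) → Module.End k S.fixed := fun x =>
    { toFun := fun w => ⟨(tpowRep (Fin n) ρ x).mulVec w.1, hstab x w.1 w.2⟩
      map_add' := fun w w' => Subtype.ext (Matrix.mulVec_add _ _ _)
      map_smul' := fun c w => Subtype.ext (by
        show (tpowRep (Fin n) ρ x).mulVec (c • w.1) = c • (tpowRep (Fin n) ρ x).mulVec w.1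
        rw [← algebraMap_smul L c w.1, Matrix.mulVec_smul, algebraMap_smul]) }
  have hg : ∀ x (w : S.fixed), ((g x) w).1 = (tpowRep (Fin n) ρ x).mulVec w.1 := fun _ _ => rfl
  let Φ : (⨂[k] _ : Fin n, A) →ₐ[k] Module.End k S.fixed :=
    { toFun := g
      map_one' := by
        refine LinearMap.ext fun w => Subtype.ext ?_
        rw [hg, map_one, Matrix.one_mulVec]; rfl
      map_mul' := fun x y => by
        refine LinearMap.ext fun w => Subtype.ext ?_
        rw [hg, map_mul, ← Matrix.mulVec_mulVec]; rfl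
      map_zero' := by
        refine LinearMap.ext fun w => Subtype.ext ?_
        rw [hg, map_zero, Matrix.zero_mulVec]; rfl
      map_add' := fun x y => by
        refine LinearMap.ext fun w => Subtype.ext ?_
        rw [hg, map_add, Matrix.add_mulVec]; rfl
      commutes' := fun c => by
        refine LinearMap.ext fun w => Subtype.ext ?_
        rw [hg, AlgHom.commutes, Algebra.algebraMap_eq_smul_one, Matrix.smul_mulVec,
          Matrix.one_mulVec]
        rfl }
  haveI := (hA.tpow n).simple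
  haveI := (hA.tpow n).fd
  have hbij : Function.Bijective Φ := by
    refine @bijective_of_isSimple_of_finrank_eq k _ (⨂[k] _ : Fin n, A) (Module.End k S.fixed)
      _ _ _ _ _ _ _ _ Φ ?_
    rw [finrank_tpow, hdim, Module.finrank_linearMap, hfix, ← pow_mul, mul_comm 2 n, pow_mul, sq]
  let e1 : (⨂[k] _ : Fin n, A) ≃ₐ[k] Module.End k S.fixed := AlgEquiv.ofBijective Φ hbij
  exact ⟨Module.finrank k S.fixed, hpos.ne', ⟨e1.trans (algEquivMatrix (Module.finBasis k S.fixed))⟩⟩

end Main

section Index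

variable {k : Type u} [Field k] {A : Type v} [Ring A] [Algebra k A]

/-- The period divides the degree: for a central simple algebra of degree `n` (`dim = n²`),
`A^{⊗n}` is split. -/
theorem isSplit_tpow_degree (hA : IsCSA k A) {n : ℕ} (hdim : Module.finrank k A = n ^ 2) :
    IsSplit k (⨂[k] _ : Fin n, A) := by
  haveI := hA.central
  haveI := hA.simple
  haveI := hA.fd
  obtain ⟨L, _, _, hfd, hgal, m, hm, ⟨φ⟩⟩ := Groth.Agent.S0201.result k A
  have hmn : m = n := by
    have h1 : Module.finrank L (L ⊗[k] A) = Module.finrank k A := Module.finrank_baseChange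
    have h2 := φ.toLinearEquiv.finrank_eq
    rw [Module.finrank_matrix] at h2
    simp only [Fintype.card_fin, Module.finrank_self, mul_one] at h2
    have h3 : m ^ 2 = n ^ 2 := by rw [sq, ← h2, h1, hdim]
    exact Nat.pow_left_injective (by norm_num : 2 ≠ 0) h3
  subst hmn
  haveI : NeZero m := ⟨hm⟩
  obtain ⟨T⟩ := nonempty_twistData φ
  exact isSplit_tpow_of_twistData hA hdim T

/-- The period divides the index. -/
theorem isSplit_tpow_index (hA : IsCSA k A) {D : Type v} [DivisionRing D] [Algebra k D]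
    [FiniteDimensional k D] {m : ℕ} (e : A ≃ₐ[k] Matrix (Fin m) (Fin m) D) {d : ℕ}
    (hd : Module.finrank k D = d ^ 2) : IsSplit k (⨂[k] _ : Fin d, A) := by
  haveI := hA.simple
  have hm : m ≠ 0 := by
    rintro rfl
    have : Subsingleton A := e.toEquiv.subsingleton
    exact not_subsingleton A this
  haveI : NeZero m := ⟨hm⟩
  -- `D` is central simple
  have hMD : IsCSA k (Matrix (Fin m) (Fin m) D) := hA.of_algEquiv e
  have hD : IsCSA k D := by
    refine ⟨?_, inferInstance, inferInstance⟩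
    haveI := hMD.central
    constructor
    intro x hx
    have hxc : (Matrix.scalar (Fin m) x) ∈ Subalgebra.center k (Matrix (Fin m) (Fin m) D) := by
      rw [Subalgebra.mem_center_iff]
      intro M
      have hc : ∀ y : D, Commute x y := fun y => ((Subalgebra.mem_center_iff.mp hx) y).symm
      exact ((Matrix.scalar_commute x hc M).symm).eq
    obtain ⟨c, hc⟩ := Algebra.mem_bot.mp (Algebra.IsCentral.out hxc)
    refine Algebra.mem_bot.mpr ⟨c, ?_⟩
    have := congrFun (congrFun hc ⟨0, Nat.pos_of_ne_zero hm⟩) ⟨0, Nat.pos_of_ne_zero hm⟩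
    simpa [Matrix.algebraMap_matrix_apply] using this
  have h1 : IsSplit k (⨂[k] _ : Fin d, D) := isSplit_tpow_degree hD hd
  have h2 := (isSplit_tpow_matrix_iff hD m d).mpr h1
  exact h2.of_algEquiv (congrAlgEquiv k (ι := Fin d) e.symm)

/-- The dimension of a central simple algebra is a square. -/
theorem exists_finrank_eq_sq (hA : IsCSA k A) : ∃ n : ℕ, n ≠ 0 ∧ Module.finrank k A = n ^ 2 := by
  haveI := hA.central
  haveI := hA.simple
  haveI := hA.fd
  obtain ⟨L, _, _, hfd, hgal, m, hm, ⟨φ⟩⟩ := Groth.Agent.S0201.result k A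
  have h1 : Module.finrank L (L ⊗[k] A) = Module.finrank k A := Module.finrank_baseChange
  have h2 := φ.toLinearEquiv.finrank_eq
  rw [Module.finrank_matrix] at h2
  simp only [Fintype.card_fin, Module.finrank_self, mul_one] at h2
  exact ⟨m, hm, by rw [sq, ← h2, h1]⟩

/-- The division algebra in a Wedderburn decomposition of a central simple algebra is central
simple. -/
theorem isCSA_of_matrix_algEquiv (hA : IsCSA k A) {D : Type w} [DivisionRing D] [Algebra k D]
    [FiniteDimensional k D] {m : ℕ} (e : A ≃ₐ[k] Matrix (Fin m) (Fin m) D) :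
    m ≠ 0 ∧ IsCSA k D := by
  haveI := hA.simple
  have hm : m ≠ 0 := by
    rintro rfl
    have : Subsingleton A := e.toEquiv.subsingleton
    exact not_subsingleton A this
  refine ⟨hm, ?_⟩
  have hMD : IsCSA k (Matrix (Fin m) (Fin m) D) := hA.of_algEquiv e
  refine ⟨?_, inferInstance, inferInstance⟩
  haveI := hMD.central
  constructor
  intro x hx
  have hxc : (Matrix.scalar (Fin m) x) ∈ Subalgebra.center k (Matrix (Fin m) (Fin m) D) := by
    rw [Subalgebra.mem_center_iff]
    intro M
    have hc : ∀ y : D, Commute x y := fun y => ((Subalgebra.mem_center_iff.mp hx) y).symm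
    exact ((Matrix.scalar_commute x hc M).symm).eq
  obtain ⟨c, hc⟩ := Algebra.mem_bot.mp (Algebra.IsCentral.out hxc)
  refine Algebra.mem_bot.mpr ⟨c, ?_⟩
  have := congrFun (congrFun hc ⟨0, Nat.pos_of_ne_zero hm⟩) ⟨0, Nat.pos_of_ne_zero hm⟩
  simpa [Matrix.algebraMap_matrix_apply] using this

/-- The index divides the degree of every finite splitting field (after helper22's S0197). -/
theorem index_dvd_finrank_of_splits {D : Type w} [DivisionRing D] [Algebra k D]
    [FiniteDimensional k D] {m : ℕ} [NeZero m] (e : A ≃ₐ[k] Matrix (Fin m) (Fin m) D) {d : ℕ}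
    (hd : Module.finrank k D = d ^ 2) (K : Type*) [Field K] [Algebra k K] [FiniteDimensional k K]
    (hs : Curves.Splits k A K) : d ∣ Module.finrank k K := by
  classical
  obtain ⟨N, hN, ⟨φ⟩⟩ := hs
  have hm : 0 < m := Nat.pos_of_ne_zero (NeZero.ne m)
  have hd0 : 0 < d := by
    rcases Nat.eq_zero_or_pos d with h | h
    · rw [h] at hd
      have : 0 < Module.finrank k D := Module.finrank_pos
      omega
    · exact h
  haveI : FiniteDimensional k A := e.symm.toLinearEquiv.finiteDimensional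
  have hNd : N = m * d := by
    have h1 : Module.finrank K (K ⊗[k] A) = Module.finrank k A := Module.finrank_baseChange
    have h2 := φ.toLinearEquiv.finrank_eq
    rw [Module.finrank_matrix] at h2
    simp only [Fintype.card_fin, Module.finrank_self, mul_one] at h2
    have h3 : Module.finrank k A = m * m * d ^ 2 := by
      rw [e.toLinearEquiv.finrank_eq, finrank_matrix_fin, hd]
    have h4 : N ^ 2 = (m * d) ^ 2 := by rw [sq, ← h2, h1, h3]; ring
    exact Nat.pow_left_injective (by norm_num : 2 ≠ 0) h4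
  let ρ : A →ₐ[k] Matrix (Fin N) (Fin N) K := rho φ
  letI : Module A (Fin N → K) := Module.compHom _ ρ.toRingHom
  have hsmul : ∀ (x : A) (v : Fin N → K), x • v = Matrix.mulVec (ρ x) v := fun _ _ => rfl
  haveI : IsScalarTower k A (Fin N → K) := by
    refine ⟨fun c x v => ?_⟩
    rw [hsmul, hsmul, map_smul, Matrix.smul_mulVec]
  have hdvd := dvd_finrank_of_algEquiv_matrix k e (Fin N → K)
  rw [Module.finrank_pi_fintype] at hdvd
  simp only [Finset.sum_const, Finset.card_univ, Fintype.card_fin, smul_eq_mul] at hdvd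
  rw [hd, hNd] at hdvd
  obtain ⟨q, hq⟩ := hdvd
  refine ⟨q, ?_⟩
  have : m * d * Module.finrank k K = m * d * (d * q) := by rw [hq]; ring
  exact Nat.eq_of_mul_eq_mul_left (Nat.mul_pos hm hd0) this

end Index

end Groth.Agent.Lib.Helper59.PeriodIndex
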