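import Mathlib

/-!
# Deligne's completeness theorem: stages

A "stage" is a left exact functor `F : C ⥤ Type u` (left exactness is recorded elementwise),
with a base point `x₀ ∈ F X₀` which is "good" with respect to a non-covering sieve `S₀` of `X₀`.
We construct representable stages and ultraproducts of stages.
-/

set_option autoImplicit false
open CategoryTheory CategoryTheory.Limits Opposite

universe u

namespace Groth.Agent.Lib.Helper59.Deligne

variable {C : Type u} [SmallCategory C] [HasFiniteLimits C]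

/-- elementwise left exactness implies cofiltered category of elements -/
theorem isCofiltered_elements (F : C ⥤ Type u) {X₀ : C} (x₀ : F.obj X₀)
    (hprod : ∀ (A B : C) (x : F.obj A) (y : F.obj B),
      ∃ w : F.obj (A ⨯ B), F.map prod.fst w = x ∧ F.map prod.snd w = y)
    (heq : ∀ (A B : C) (f g : A ⟶ B) (x : F.obj A), F.map f x = F.map g x →
      ∃ w : F.obj (equalizer f g), F.map (equalizer.ι f g) w = x) :
    IsCofiltered F.Elements := by
  have : Nonempty F.Elements := ⟨⟨X₀, x₀⟩⟩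
  have : IsCofilteredOrEmpty F.Elements :=
    { cone_objs := by
        rintro ⟨A, x⟩ ⟨B, y⟩
        obtain ⟨w, h1, h2⟩ := hprod A B x y
        exact ⟨⟨A ⨯ B, w⟩, ⟨prod.fst, h1⟩, ⟨prod.snd, h2⟩, trivial⟩
      cone_maps := by
        rintro ⟨A, x⟩ ⟨B, y⟩ ⟨f, hf⟩ ⟨g, hg⟩
        obtain ⟨w, hw⟩ := heq A B f g x (hf.trans hg.symm)
        refine ⟨⟨equalizer f g, w⟩, ⟨equalizer.ι f g, hw⟩, ?_⟩
        apply CategoryOfElements.ext
        exact equalizer.condition f g }
  exact {}

variable (J : GrothendieckTopology C) (X₀ : C) (S₀ : Sieve X₀)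

/-- A stage. -/
structure Stage where
  F : C ⥤ Type u
  x₀ : F.obj X₀
  hprod : ∀ (A B : C) (x : F.obj A) (y : F.obj B),
    ∃ w : F.obj (A ⨯ B), F.map prod.fst w = x ∧ F.map prod.snd w = y
  heq : ∀ (A B : C) (f g : A ⟶ B) (x : F.obj A), F.map f x = F.map g x →
    ∃ w : F.obj (equalizer f g), F.map (equalizer.ι f g) w = x
  good : ∀ (A : C) (x : F.obj A) (a : A ⟶ X₀), F.map a x = x₀ → S₀.pullback a ∉ J A

variable {J X₀ S₀}

/-- representable stage -/
def rep (W : C) (f : W ⟶ X₀) (hf : S₀.pullback f ∉ J W) : Stage J X₀ S₀ where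
  F := coyoneda.obj (op W)
  x₀ := f
  hprod A B x y := ⟨prod.lift x y, by simp; exact prod.lift_fst _ _, by simp; exact prod.lift_snd _ _⟩
  heq A B f g x h := ⟨equalizer.lift x (by simpa using h), by simp⟩
  good A x a h hcov := hf (by
    have h1 := J.pullback_stable x hcov
    have h2 : x ≫ a = f := by simpa using h
    rwa [← Sieve.pullback_comp, h2] at h1)

/-- the key lemma: good objects have good refinements in any finite cover -/
theorem exists_good_pullback {W : C} (f : W ⟶ X₀) (hf : S₀.pullback f ∉ J W) {U : C} (x : W ⟶ U)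
    {n : ℕ} (V : Fin n → C) (g : ∀ k, V k ⟶ U) (hcov : Sieve.ofArrows V g ∈ J U) :
    ∃ k, S₀.pullback (pullback.fst x (g k) ≫ f) ∉ J (pullback x (g k)) := by
  by_contra hne
  have h' : ∀ k, S₀.pullback (pullback.fst x (g k) ≫ f) ∈ J (pullback x (g k)) := fun k => by
    by_contra hk
    exact hne ⟨k, hk⟩
  apply hf
  refine J.transitive (J.pullback_stable x hcov) (S₀.pullback f) ?_
  intro Z h hh
  have hh' : Sieve.ofArrows V g (h ≫ x) := hh
  rw [Sieve.mem_ofArrows_iff] at hh'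
  obtain ⟨k, a, hka⟩ := hh'
  have e : (S₀.pullback f).pullback h =
      (S₀.pullback (pullback.fst x (g k) ≫ f)).pullback (pullback.lift h a hka) := by
    rw [← Sieve.pullback_comp, ← Sieve.pullback_comp, ← Category.assoc, pullback.lift_fst]
  rw [e]
  exact J.pullback_stable _ (h' k)

/-- morphisms of stages -/
structure SHom (s t : Stage J X₀ S₀) where
  φ : s.F ⟶ t.F
  base : φ.app X₀ s.x₀ = t.x₀

def SHom.id (s : Stage J X₀ S₀) : SHom s s := ⟨𝟙 _, rfl⟩

def SHom.comp {s t r : Stage J X₀ S₀} (a : SHom s t) (b : SHom t r) : SHom s r :=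
  ⟨a.φ ≫ b.φ, by rw [NatTrans.comp_app_apply, a.base, b.base]⟩

/-- problems -/
structure Prob (s : Stage J X₀ S₀) where
  U : C
  x : s.F.obj U
  n : ℕ
  V : Fin n → C
  g : ∀ k, V k ⟶ U
  hcov : Sieve.ofArrows V g ∈ J U

def Prob.map {s t : Stage J X₀ S₀} (π : Prob s) (φ : SHom s t) : Prob t :=
  ⟨π.U, φ.φ.app π.U π.x, π.n, π.V, π.g, π.hcov⟩

def Solved {s t : Stage J X₀ S₀} (π : Prob s) (φ : SHom s t) : Prop :=
  ∃ (k : Fin π.n) (y : t.F.obj (π.V k)), t.F.map (π.g k) y = φ.φ.app π.U π.x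

theorem Solved.comp {s t r : Stage J X₀ S₀} {π : Prob s} {φ : SHom s t} (h : Solved π φ)
    (ψ : SHom t r) : Solved π (φ.comp ψ) := by
  obtain ⟨k, y, hy⟩ := h
  refine ⟨k, ψ.φ.app _ y, ?_⟩
  have := ψ.φ.naturality_apply (π.g k) y
  change _ = ψ.φ.app π.U (φ.φ.app π.U π.x)
  rw [← hy]
  exact this.symm

theorem solved_map {s t r : Stage J X₀ S₀} {π : Prob s} {φ : SHom s t} {ψ : SHom t r}
    (h : Solved (π.map φ) ψ) : Solved π (φ.comp ψ) := h


section Ultra

variable {ι : Type u} (𝒰 : Ultrafilter ι) (s : ι → Stage J X₀ S₀)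

/-- partial families defined on a large set -/
def UCar (A : C) : Type u :=
  {x : ∀ i, Option ((s i).F.obj A) // ∀ᶠ i in (𝒰 : Filter ι), (x i).isSome = true}

def usetoid (A : C) : Setoid (UCar 𝒰 s A) where
  r x y := ∀ᶠ i in (𝒰 : Filter ι), x.1 i = y.1 i
  iseqv := ⟨fun _ => Filter.Eventually.of_forall (fun _ => rfl),
    fun h => h.mono (fun _ h => h.symm),
    fun h1 h2 => (h1.and h2).mono (fun _ h => h.1.trans h.2)⟩

def UObj (A : C) : Type u := Quotient (usetoid 𝒰 s A)

def mkU {A : C} (x : UCar 𝒰 s A) : UObj 𝒰 s A := Quotient.mk _ x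

variable {𝒰 s}

theorem mkU_eq_iff {A : C} {x y : UCar 𝒰 s A} :
    mkU 𝒰 s x = mkU 𝒰 s y ↔ ∀ᶠ i in (𝒰 : Filter ι), x.1 i = y.1 i :=
  Quotient.eq (r := usetoid 𝒰 s A)

theorem exists_mkU {A : C} (z : UObj 𝒰 s A) : ∃ x, mkU 𝒰 s x = z := Quotient.exists_rep z

theorem eventually_some {A : C} (x : UCar 𝒰 s A) :
    ∀ᶠ i in (𝒰 : Filter ι), ∃ a, x.1 i = some a :=
  x.2.mono (fun _ hi => Option.isSome_iff_exists.1 hi)

/-- build an element from eventually-existing data -/
noncomputable def ofEv {A : C} (P : ∀ i, (s i).F.obj A → Prop)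
    (h : ∀ᶠ i in (𝒰 : Filter ι), ∃ a, P i a) : UCar 𝒰 s A := by
  classical
  exact ⟨fun i => if h' : ∃ a, P i a then some (Classical.choose h') else none,
    h.mono (fun i hi => by simp [hi])⟩

theorem ofEv_spec {A : C} (P : ∀ i, (s i).F.obj A → Prop)
    (h : ∀ᶠ i in (𝒰 : Filter ι), ∃ a, P i a) :
    ∀ᶠ i in (𝒰 : Filter ι), ∃ a, (ofEv P h).1 i = some a ∧ P i a := by
  classical
  refine h.mono (fun i hi => ⟨Classical.choose hi, ?_, Classical.choose_spec hi⟩)
  simp [ofEv, hi]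

variable (𝒰 s)

def umapCar {A B : C} (f : A ⟶ B) (x : UCar 𝒰 s A) : UCar 𝒰 s B :=
  ⟨fun i => (x.1 i).map ((s i).F.map f), x.2.mono (fun i hi => by simp [hi])⟩

def umap {A B : C} (f : A ⟶ B) : UObj 𝒰 s A → UObj 𝒰 s B :=
  Quotient.map (umapCar 𝒰 s f) (fun x y h => by
    have h' : ∀ᶠ i in (𝒰 : Filter ι), x.1 i = y.1 i := h
    exact h'.mono (fun i hi => by simp [umapCar, hi]))

/-- the ultraproduct functor -/
def UF : C ⥤ Type u where
  obj A := UObj 𝒰 s A
  map f := ↾(umap 𝒰 s f)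
  map_id A := by
    ext z
    obtain ⟨x, rfl⟩ := exists_mkU z
    refine mkU_eq_iff.2 (Filter.Eventually.of_forall (fun i => ?_))
    show (x.1 i).map ((s i).F.map (𝟙 A)) = x.1 i
    rcases x.1 i with _ | a
    · rfl
    · simp
  map_comp f g := by
    ext z
    obtain ⟨x, rfl⟩ := exists_mkU z
    refine mkU_eq_iff.2 (Filter.Eventually.of_forall (fun i => ?_))
    show (x.1 i).map ((s i).F.map (f ≫ g)) = ((x.1 i).map ((s i).F.map f)).map ((s i).F.map g)
    rcases x.1 i with _ | a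
    · rfl
    · simp

theorem UF_map_mkU {A B : C} (f : A ⟶ B) (x : UCar 𝒰 s A) :
    (UF 𝒰 s).map f (mkU 𝒰 s x) = mkU 𝒰 s (umapCar 𝒰 s f x) := rfl


/-- the base point of the ultraproduct -/
def ubase : UCar 𝒰 s X₀ :=
  ⟨fun i => some (s i).x₀, Filter.Eventually.of_forall (fun _ => rfl)⟩

/-- the ultraproduct stage -/
noncomputable def ultra : Stage J X₀ S₀ where
  F := UF 𝒰 s
  x₀ := mkU 𝒰 s (ubase 𝒰 s)
  hprod A B x y := by
    obtain ⟨x, rfl⟩ := exists_mkU x
    obtain ⟨y, rfl⟩ := exists_mkU y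
    have h : ∀ᶠ i in (𝒰 : Filter ι), ∃ w : (s i).F.obj (A ⨯ B),
        x.1 i = some ((s i).F.map prod.fst w) ∧ y.1 i = some ((s i).F.map prod.snd w) := by
      filter_upwards [eventually_some x, eventually_some y] with i hx hy
      obtain ⟨a, ha⟩ := hx
      obtain ⟨b, hb⟩ := hy
      obtain ⟨w, h1, h2⟩ := (s i).hprod A B a b
      exact ⟨w, by rw [ha, h1], by rw [hb, h2]⟩
    refine ⟨mkU 𝒰 s (ofEv _ h), ?_, ?_⟩
    · rw [UF_map_mkU]
      refine mkU_eq_iff.2 ?_
      filter_upwards [ofEv_spec _ h] with i hi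
      obtain ⟨w, hw, h1, h2⟩ := hi
      simp [umapCar, hw, h1]
    · rw [UF_map_mkU]
      refine mkU_eq_iff.2 ?_
      filter_upwards [ofEv_spec _ h] with i hi
      obtain ⟨w, hw, h1, h2⟩ := hi
      simp [umapCar, hw, h2]
  heq A B f g x hfg := by
    obtain ⟨x, rfl⟩ := exists_mkU x
    rw [UF_map_mkU, UF_map_mkU] at hfg
    replace hfg := mkU_eq_iff.1 hfg
    have h : ∀ᶠ i in (𝒰 : Filter ι), ∃ w : (s i).F.obj (equalizer f g),
        x.1 i = some ((s i).F.map (equalizer.ι f g) w) := by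
      filter_upwards [eventually_some x, hfg] with i hx hi
      obtain ⟨a, ha⟩ := hx
      have hi' : (s i).F.map f a = (s i).F.map g a := by
        simpa [umapCar, ha] using hi
      obtain ⟨w, hw⟩ := (s i).heq A B f g a hi'
      exact ⟨w, by rw [ha, hw]⟩
    refine ⟨mkU 𝒰 s (ofEv _ h), ?_⟩
    rw [UF_map_mkU]
    refine mkU_eq_iff.2 ?_
    filter_upwards [ofEv_spec _ h] with i hi
    obtain ⟨w, hw, h1⟩ := hi
    simp [umapCar, hw, h1]
  good A x a hx := by
    obtain ⟨x, rfl⟩ := exists_mkU x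
    rw [UF_map_mkU] at hx
    replace hx := mkU_eq_iff.1 hx
    obtain ⟨i, hi, b, hb⟩ := (hx.and (eventually_some x)).exists
    refine (s i).good A b a ?_
    simpa [umapCar, ubase, hb] using hi

variable {𝒰 s}

/-- ultraproduct of morphisms -/
noncomputable def ultraMap {t : ι → Stage J X₀ S₀} (φ : ∀ i, SHom (s i) (t i)) :
    SHom (ultra 𝒰 s) (ultra 𝒰 t) where
  φ :=
    { app := fun A => ↾(Quotient.map
        (fun x : UCar 𝒰 s A => (⟨fun i => (x.1 i).map ((φ i).φ.app A),
          x.2.mono (fun i hi => by simp [hi])⟩ : UCar 𝒰 t A))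
        (fun x y h => by
          have h' : ∀ᶠ i in (𝒰 : Filter ι), x.1 i = y.1 i := h
          exact h'.mono (fun i hi => by simp [hi])))
      naturality := fun A B f => by
        ext z
        obtain ⟨x, rfl⟩ := exists_mkU z
        refine mkU_eq_iff.2 (Filter.Eventually.of_forall (fun i => ?_))
        show ((x.1 i).map ((s i).F.map f)).map ((φ i).φ.app B) =
          ((x.1 i).map ((φ i).φ.app A)).map ((t i).F.map f)
        rcases x.1 i with _ | a
        · rfl
        · simp only [Option.map_some]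
          exact congrArg some ((φ i).φ.naturality_apply f a) }
  base := by
    refine mkU_eq_iff.2 (Filter.Eventually.of_forall (fun i => ?_))
    show (some (s i).x₀).map ((φ i).φ.app X₀) = some (t i).x₀
    simp [(φ i).base]

theorem ultraMap_app_mkU {t : ι → Stage J X₀ S₀} (φ : ∀ i, SHom (s i) (t i)) {A : C}
    (x : UCar 𝒰 s A) :
    (ultraMap φ).φ.app A (mkU 𝒰 s x) = mkU 𝒰 t (⟨fun i => (x.1 i).map ((φ i).φ.app A),
          x.2.mono (fun i hi => by simp [hi])⟩ : UCar 𝒰 t A) := rfl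

/-- diagonal map into an ultraproduct -/
noncomputable def diag {r : Stage J X₀ S₀} (φ : ∀ i, SHom r (s i)) : SHom r (ultra 𝒰 s) where
  φ :=
    { app := fun A => ↾(fun z => mkU 𝒰 s (⟨fun i => some ((φ i).φ.app A z),
        Filter.Eventually.of_forall (fun _ => rfl)⟩ : UCar 𝒰 s A))
      naturality := fun A B f => by
        ext z
        refine mkU_eq_iff.2 (Filter.Eventually.of_forall (fun i => ?_))
        show some ((φ i).φ.app B (r.F.map f z)) = (some ((φ i).φ.app A z)).map ((s i).F.map f)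
        simp only [Option.map_some]
        exact congrArg some ((φ i).φ.naturality_apply f z) }
  base := by
    refine mkU_eq_iff.2 (Filter.Eventually.of_forall (fun i => ?_))
    show some ((φ i).φ.app X₀ r.x₀) = some (s i).x₀
    rw [(φ i).base]

theorem diag_app {r : Stage J X₀ S₀} (φ : ∀ i, SHom r (s i)) {A : C} (z : r.F.obj A) :
    (diag (𝒰 := 𝒰) φ).φ.app A z = mkU 𝒰 s (⟨fun i => some ((φ i).φ.app A z),
        Filter.Eventually.of_forall (fun _ => rfl)⟩ : UCar 𝒰 s A) := rfl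

end Ultra

end Groth.Agent.Lib.Helper59.Deligne
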