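import Mathlib
import Groth.Agent.Lib.Helper59.DeligneStage

/-!
# Deligne's completeness theorem: a site of finite type with finite limits has enough points
-/

set_option autoImplicit false
open CategoryTheory CategoryTheory.Limits Opposite

universe u

namespace Groth.Agent.Lib.Helper59.Deligne

variable {C : Type u} [SmallCategory C] [HasFiniteLimits C]
variable {J : GrothendieckTopology C} {X₀ : C} {S₀ : Sieve X₀}

/-- the class of stages generated by representables and ultraproducts -/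
inductive K : Stage J X₀ S₀ → Prop
  | rep (W : C) (f : W ⟶ X₀) (hf : S₀.pullback f ∉ J W) : K (rep W f hf)
  | ultra {ι : Type u} (𝒰 : Ultrafilter ι) (s : ι → Stage J X₀ S₀) (hs : ∀ i, K (s i)) :
      K (ultra 𝒰 s)

theorem solve1 (s : Stage J X₀ S₀) (hs : K s) :
    ∀ π : Prob s, ∃ (t : Stage J X₀ S₀) (_ : K t) (φ : SHom s t), Solved π φ := by
  induction hs with
  | rep W f hf =>
    intro π
    obtain ⟨U, x, n, V, g, hcov⟩ := π
    have x' : W ⟶ U := x
    obtain ⟨k, hk⟩ := exists_good_pullback f hf (show W ⟶ U from x) V g hcov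
    refine ⟨rep (pullback (show W ⟶ U from x) (g k)) (pullback.fst _ _ ≫ f) hk, K.rep _ _ hk,
      ⟨coyoneda.map (pullback.fst (show W ⟶ U from x) (g k)).op, ?_⟩, ?_⟩
    · show pullback.fst _ _ ≫ f = _
      rfl
    · refine ⟨k, pullback.snd (show W ⟶ U from x) (g k), ?_⟩
      show pullback.snd _ _ ≫ g k = pullback.fst _ _ ≫ (show W ⟶ U from x)
      exact pullback.condition.symm
  | @ultra ι 𝒰 s hs ih =>
    intro π
    obtain ⟨U, z, n, V, g, hcov⟩ := π
    obtain ⟨x, rfl⟩ := exists_mkU z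
    have hex : ∀ i, ∃ (t : Stage J X₀ S₀) (_ : K t) (φ : SHom (s i) t),
        ∀ a, x.1 i = some a → Solved (⟨U, a, n, V, g, hcov⟩ : Prob (s i)) φ := by
      intro i
      rcases h : x.1 i with _ | a
      · exact ⟨s i, hs i, SHom.id _, fun a ha => by simp at ha⟩
      · obtain ⟨t, ht, φ, hsol⟩ := ih i ⟨U, a, n, V, g, hcov⟩
        refine ⟨t, ht, φ, fun a' ha' => ?_⟩
        obtain rfl : a = a' := by simpa using ha'
        exact hsol
    choose t ht φ hsol using hex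
    refine ⟨ultra 𝒰 t, K.ultra 𝒰 t ht, ultraMap φ, ?_⟩
    have h1 : ∀ᶠ i in (𝒰 : Filter ι), ∃ k : Fin n, ∃ y : (t i).F.obj (V k),
        ∃ a, x.1 i = some a ∧ (t i).F.map (g k) y = (φ i).φ.app U a := by
      filter_upwards [eventually_some x] with i hi
      obtain ⟨a, ha⟩ := hi
      obtain ⟨k, y, hy⟩ := hsol i a ha
      exact ⟨k, y, a, ha, hy⟩
    obtain ⟨k, hk⟩ := Ultrafilter.eventually_exists_iff.1 h1
    refine ⟨k, mkU 𝒰 t (ofEv _ hk), ?_⟩
    show (UF 𝒰 t).map (g k) (mkU 𝒰 t (ofEv _ hk)) = (ultraMap φ).φ.app U (mkU 𝒰 s x)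
    rw [UF_map_mkU, ultraMap_app_mkU]
    refine mkU_eq_iff.2 ?_
    filter_upwards [ofEv_spec _ hk] with i hi
    obtain ⟨y, hy, a, ha, hya⟩ := hi
    simp [umapCar, hy, ha, hya]

theorem solveList : ∀ (n : ℕ) (s : Stage J X₀ S₀) (_ : K s) (L : List (Prob s)), L.length = n →
    ∃ (t : Stage J X₀ S₀) (_ : K t) (φ : SHom s t), ∀ π ∈ L, Solved π φ
  | 0, s, hs, L, h => by
    have hL : L = [] := List.length_eq_zero_iff.1 h
    subst hL
    exact ⟨s, hs, SHom.id s, by simp⟩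
  | n + 1, s, hs, [], h => by simp at h
  | n + 1, s, hs, π :: L', h => by
    obtain ⟨t₁, ht₁, φ₁, h₁⟩ := solve1 s hs π
    obtain ⟨t₂, ht₂, φ₂, h₂⟩ := solveList n t₁ ht₁ (L'.map (fun π' => π'.map φ₁))
      (by simpa using h)
    refine ⟨t₂, ht₂, φ₁.comp φ₂, ?_⟩
    intro π' hπ'
    rcases List.mem_cons.1 hπ' with rfl | hπ'
    · exact h₁.comp φ₂
    · exact solved_map (h₂ _ (List.mem_map_of_mem hπ'))

theorem solveAll (s : Stage J X₀ S₀) (hs : K s) :
    ∃ (t : Stage J X₀ S₀) (_ : K t) (φ : SHom s t), ∀ π : Prob s, Solved π φ := by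
  classical
  have hfin := fun T : Finset (Prob s) => solveList T.card s hs T.toList (Finset.length_toList T)
  choose t ht φ hsol using hfin
  let 𝒰 : Ultrafilter (Finset (Prob s)) := Ultrafilter.of Filter.atTop
  have h𝒰 : (𝒰 : Filter (Finset (Prob s))) ≤ Filter.atTop := Ultrafilter.of_le _
  refine ⟨ultra 𝒰 t, K.ultra 𝒰 t ht, diag φ, ?_⟩
  intro π
  have h1 : ∀ᶠ T in (𝒰 : Filter (Finset (Prob s))), ∃ k : Fin π.n, ∃ y : (t T).F.obj (π.V k),
      (t T).F.map (π.g k) y = (φ T).φ.app π.U π.x := by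
    have h0 : ∀ᶠ T in (Filter.atTop : Filter (Finset (Prob s))), π ∈ T := by
      filter_upwards [Filter.eventually_ge_atTop ({π} : Finset (Prob s))] with T hT
      exact hT (Finset.mem_singleton_self π)
    filter_upwards [h𝒰 h0] with T hT
    exact hsol T π (Finset.mem_toList.2 hT)
  obtain ⟨k, hk⟩ := Ultrafilter.eventually_exists_iff.1 h1
  refine ⟨k, mkU 𝒰 t (ofEv _ hk), ?_⟩
  show (UF 𝒰 t).map (π.g k) (mkU 𝒰 t (ofEv _ hk)) = (diag φ).φ.app π.U π.x
  rw [UF_map_mkU, diag_app]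
  refine mkU_eq_iff.2 ?_
  filter_upwards [ofEv_spec _ hk] with T hT
  obtain ⟨y, hy, hya⟩ := hT
  simp [umapCar, hy, hya]


section Chain

variable (h₀ : S₀ ∉ J X₀)

/-- the chain of stages -/
noncomputable def chain : ℕ → {s : Stage J X₀ S₀ // K s}
  | 0 => ⟨rep X₀ (𝟙 X₀) (by simpa using h₀), K.rep _ _ _⟩
  | n + 1 => ⟨(solveAll (chain n).1 (chain n).2).choose,
      (solveAll (chain n).1 (chain n).2).choose_spec.choose⟩

noncomputable def chainHom (n : ℕ) : SHom (chain h₀ n).1 (chain h₀ (n + 1)).1 :=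
  (solveAll (chain h₀ n).1 (chain h₀ n).2).choose_spec.choose_spec.choose

theorem chain_solved (n : ℕ) (π : Prob (chain h₀ n).1) : Solved π (chainHom h₀ n) :=
  (solveAll (chain h₀ n).1 (chain h₀ n).2).choose_spec.choose_spec.choose_spec π

/-- the sequence of functors -/
noncomputable def G : ℕ ⥤ (C ⥤ Type u) :=
  Functor.ofSequence (X := fun n => (chain h₀ n).1.F) (fun n => (chainHom h₀ n).φ)

theorem G_obj (n : ℕ) : (G h₀).obj n = (chain h₀ n).1.F := rfl

theorem G_map_succ (n : ℕ) : (G h₀).map (homOfLE (Nat.le_add_right n 1)) = (chainHom h₀ n).φ :=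
  Functor.ofSequence_map_homOfLE_succ _ n

/-- the colimit functor -/
noncomputable def Fω : C ⥤ Type u := colimit (G h₀)

/-- cocone legs evaluated -/
noncomputable def leg (n : ℕ) (A : C) : (chain h₀ n).1.F.obj A → (Fω h₀).obj A :=
  fun z => (colimit.ι (G h₀) n).app A z

noncomputable def evalIsColimit (A : C) :
    IsColimit (((evaluation C (Type u)).obj A).mapCocone (colimit.cocone (G h₀))) :=
  isColimitOfPreserves _ (colimit.isColimit (G h₀))

theorem leg_surj {A : C} (z : (Fω h₀).obj A) : ∃ n z', leg h₀ n A z' = z :=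
  Types.jointly_surjective_of_isColimit (evalIsColimit h₀ A) z

theorem leg_map {A B : C} (f : A ⟶ B) (n : ℕ) (z : (chain h₀ n).1.F.obj A) :
    (Fω h₀).map f (leg h₀ n A z) = leg h₀ n B ((chain h₀ n).1.F.map f z) :=
  ((colimit.ι (G h₀) n).naturality_apply f z).symm

theorem leg_trans {n m : ℕ} (h : n ≤ m) {A : C} (z : (chain h₀ n).1.F.obj A) :
    leg h₀ m A (((G h₀).map (homOfLE h)).app A z) = leg h₀ n A z := by
  have := colimit.w (G h₀) (homOfLE h)
  have h2 := congrArg (fun τ => τ.app A) this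
  exact ConcreteCategory.congr_hom h2 z

theorem leg_eq_iff {n : ℕ} {A : C} (z z' : (chain h₀ n).1.F.obj A) :
    leg h₀ n A z = leg h₀ n A z' ↔
      ∃ (m : ℕ) (h : n ≤ m), ((G h₀).map (homOfLE h)).app A z = ((G h₀).map (homOfLE h)).app A z' := by
  have := Types.FilteredColimit.isColimit_eq_iff' (evalIsColimit h₀ A) (i := n) z z'
  constructor
  · intro h
    obtain ⟨m, f, hf⟩ := this.1 h
    exact ⟨m, leOfHom f, hf⟩
  · rintro ⟨m, h, hf⟩
    exact this.2 ⟨m, homOfLE h, hf⟩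

theorem G_map_base {n m : ℕ} (h : n ≤ m) :
    ((G h₀).map (homOfLE h)).app X₀ (chain h₀ n).1.x₀ = (chain h₀ m).1.x₀ := by
  induction m, h using Nat.le_induction with
  | base =>
    have : (homOfLE (le_refl n)) = 𝟙 n := rfl
    rw [this, (G h₀).map_id]
    rfl
  | succ m h ih =>
    have e : homOfLE (h.trans (Nat.le_succ m)) = homOfLE h ≫ homOfLE (Nat.le_add_right m 1) := rfl
    rw [e, (G h₀).map_comp, NatTrans.comp_app_apply, ih]
    exact (ConcreteCategory.congr_hom (congrArg (fun τ => τ.app X₀) (G_map_succ h₀ m)) _).trans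
      (chainHom h₀ m).base

theorem G_map_natural {n m : ℕ} (h : n ≤ m) {A B : C} (f : A ⟶ B) (z : (chain h₀ n).1.F.obj A) :
    ((G h₀).map (homOfLE h)).app B ((chain h₀ n).1.F.map f z) =
      (chain h₀ m).1.F.map f (((G h₀).map (homOfLE h)).app A z) :=
  ((G h₀).map (homOfLE h)).naturality_apply f z

/-- base point of the colimit -/
noncomputable def baseω : (Fω h₀).obj X₀ := leg h₀ 0 X₀ (chain h₀ 0).1.x₀

theorem baseω_eq (n : ℕ) : leg h₀ n X₀ (chain h₀ n).1.x₀ = baseω h₀ := by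
  rw [← G_map_base h₀ (Nat.zero_le n)]
  exact leg_trans h₀ (Nat.zero_le n) _

theorem hprodω (A B : C) (x : (Fω h₀).obj A) (y : (Fω h₀).obj B) :
    ∃ w : (Fω h₀).obj (A ⨯ B), (Fω h₀).map prod.fst w = x ∧ (Fω h₀).map prod.snd w = y := by
  obtain ⟨n, x, rfl⟩ := leg_surj h₀ x
  obtain ⟨m, y, rfl⟩ := leg_surj h₀ y
  obtain ⟨w, h1, h2⟩ := (chain h₀ (max n m)).1.hprod A B
    (((G h₀).map (homOfLE (le_max_left n m))).app A x)
    (((G h₀).map (homOfLE (le_max_right n m))).app B y)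
  refine ⟨leg h₀ _ _ w, ?_, ?_⟩
  · rw [leg_map, h1, leg_trans]
  · rw [leg_map, h2, leg_trans]

theorem heqω (A B : C) (f g : A ⟶ B) (x : (Fω h₀).obj A)
    (h : (Fω h₀).map f x = (Fω h₀).map g x) :
    ∃ w : (Fω h₀).obj (equalizer f g), (Fω h₀).map (equalizer.ι f g) w = x := by
  obtain ⟨n, x, rfl⟩ := leg_surj h₀ x
  rw [leg_map, leg_map, leg_eq_iff] at h
  obtain ⟨m, hm, he⟩ := h
  rw [G_map_natural, G_map_natural] at he
  obtain ⟨w, hw⟩ := (chain h₀ m).1.heq A B f g _ he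
  refine ⟨leg h₀ m _ w, ?_⟩
  rw [leg_map, hw, leg_trans]

theorem avoidω {Y : C} (g : Y ⟶ X₀) (hg : S₀ g) (y : (Fω h₀).obj Y) :
    (Fω h₀).map g y ≠ baseω h₀ := by
  intro h
  obtain ⟨n, y, rfl⟩ := leg_surj h₀ y
  rw [leg_map, ← baseω_eq h₀ n, leg_eq_iff] at h
  obtain ⟨m, hm, he⟩ := h
  rw [G_map_natural, G_map_base] at he
  refine (chain h₀ m).1.good Y _ g he ?_
  have : S₀.pullback g = ⊤ := (Sieve.mem_iff_pullback_eq_top g).1 hg
  rw [this]
  exact J.top_mem Y

variable (hJ : ∀ (U : C) (S : Sieve U), S ∈ J U →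
      ∃ (n : ℕ) (V : Fin n → C) (g : ∀ k, V k ⟶ U), (∀ k, S (g k)) ∧ Sieve.ofArrows V g ∈ J U)

include hJ in
theorem surjω {X : C} (R : Sieve X) (hR : R ∈ J X) (x : (Fω h₀).obj X) :
    ∃ (Y : C) (f : Y ⟶ X) (_ : R f) (y : (Fω h₀).obj Y), (Fω h₀).map f y = x := by
  obtain ⟨n, x, rfl⟩ := leg_surj h₀ x
  obtain ⟨N, V, g, hg, hcov⟩ := hJ X R hR
  obtain ⟨k, y, hy⟩ := chain_solved h₀ n ⟨X, x, N, V, g, hcov⟩
  refine ⟨V k, g k, hg k, leg h₀ (n + 1) _ y, ?_⟩
  rw [leg_map]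
  have hy' : (chain h₀ (n + 1)).1.F.map (g k) y = (chainHom h₀ n).φ.app X x := hy
  rw [hy', ← G_map_succ]
  exact leg_trans h₀ (Nat.le_add_right n 1) x

/-- the point avoiding `S₀` -/
noncomputable def pt : GrothendieckTopology.Point.{u} J where
  fiber := Fω h₀
  isCofiltered := isCofiltered_elements (Fω h₀) (baseω h₀) (hprodω h₀) (heqω h₀)
  initiallySmall := initiallySmall_of_essentiallySmall _
  jointly_surjective R hR x := surjω h₀ hJ R hR x

end Chain


/-- **Deligne's theorem**: a small site with finite limits whose covering sieves contain finite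
covering families has enough points. -/
theorem main (C : Type u) [SmallCategory C] [HasFiniteLimits C]
    (J : GrothendieckTopology C)
    (hJ : ∀ (U : C) (S : Sieve U), S ∈ J U →
      ∃ (n : ℕ) (V : Fin n → C) (g : ∀ k, V k ⟶ U), (∀ k, S (g k)) ∧ Sieve.ofArrows V g ∈ J U) :
    GrothendieckTopology.HasEnoughPoints.{u} J := by
  let I : Type u := {p : Σ X : C, Sieve X // p.2 ∉ J p.1}
  let Φ : I → GrothendieckTopology.Point.{u} J :=
    fun p => pt (X₀ := p.1.1) (S₀ := p.1.2) p.2 hJ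
  refine ⟨⟨ObjectProperty.ofObj Φ, inferInstance, ?_⟩⟩
  refine ObjectProperty.IsConservativeFamilyOfPoints.mk' ?_
  intro X S hS
  by_contra hne
  obtain ⟨Y, g, hg, y, hy⟩ := hS ⟨Φ ⟨⟨X, S⟩, hne⟩, ObjectProperty.ofObj_apply Φ _⟩
    (baseω (X₀ := X) (S₀ := S) hne)
  exact avoidω hne g hg y hy

end Groth.Agent.Lib.Helper59.Deligne
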