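import Mathlib
import Groth.Agent.Lib.Helper59.DelignePoints

/-!
# The Yoneda embedding of a small abelian category into sheaves for the regular topology
-/

set_option autoImplicit false
open CategoryTheory CategoryTheory.Limits Opposite

universe u

namespace Groth.Agent.Lib.Helper59.AbYoneda

variable {A : Type u} [SmallCategory A] [Abelian A] [Preregular A]

theorem isSheaf_preadditiveYoneda (X : A) :
    Presheaf.IsSheaf (regularTopology A) (preadditiveYoneda.obj X : Aᵒᵖ ⥤ AddCommGrpCat.{u}) := by
  rw [Presheaf.isSheaf_iff_isSheaf_forget (regularTopology A) _ (forget AddCommGrpCat.{u})]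
  rw [isSheaf_iff_isSheaf_of_type]
  exact GrothendieckTopology.Subcanonical.isSheaf_of_isRepresentable (J := regularTopology A)
    (yoneda.obj X)

/-- representable sheaves -/
noncomputable def G : A ⥤ Sheaf (regularTopology A) AddCommGrpCat.{u} :=
  ObjectProperty.lift _ (preadditiveYoneda : A ⥤ Aᵒᵖ ⥤ AddCommGrpCat.{u}) isSheaf_preadditiveYoneda

noncomputable abbrev F : A ⥤ Sheaf (regularTopology A) AddCommGrpCat.{u} :=
  preadditiveYoneda ⋙ presheafToSheaf (regularTopology A) AddCommGrpCat.{u}

noncomputable def e : (F : A ⥤ _) ≅ G :=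
  Functor.isoWhiskerLeft G (asIso (sheafificationAdjunction (regularTopology A) AddCommGrpCat.{u}).counit)
    ≪≫ G.rightUnitor

instance : (G : A ⥤ _).Full := by unfold G; infer_instance
instance : (G : A ⥤ _).Faithful := by unfold G; infer_instance

theorem full : (F : A ⥤ _).Full := Functor.Full.of_iso e.symm
theorem faithful : (F : A ⥤ _).Faithful := Functor.Faithful.of_iso e.symm


/-- evaluation of the additive Yoneda embedding -/
def evalIso (k : Aᵒᵖ) : preadditiveCoyoneda.obj k ≅
    (preadditiveYoneda : A ⥤ Aᵒᵖ ⥤ AddCommGrpCat.{u}) ⋙ (evaluation Aᵒᵖ AddCommGrpCat.{u}).obj k :=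
  NatIso.ofComponents (fun Y => Iso.refl _) (by
    intro X Y f
    ext g
    rfl)

instance : PreservesLimitsOfSize.{u, u} (preadditiveYoneda : A ⥤ Aᵒᵖ ⥤ AddCommGrpCat.{u}) :=
  ⟨fun {_} _ => ⟨fun {D} => preservesLimit_of_evaluation _ _
    (fun k => preservesLimit_of_natIso D (evalIso k))⟩⟩

instance : PreservesFiniteLimits (preadditiveYoneda : A ⥤ Aᵒᵖ ⥤ AddCommGrpCat.{u}) :=
  PreservesLimitsOfSize.preservesFiniteLimits _

theorem preservesFiniteLimits : PreservesFiniteLimits (F : A ⥤ _) := by
  unfold F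
  infer_instance

instance : (preadditiveYoneda : A ⥤ Aᵒᵖ ⥤ AddCommGrpCat.{u}).Additive where
  map_add := by
    intro X Y f g
    ext Z h
    exact Preadditive.comp_add _ _ _ h f g

instance : (F : A ⥤ _).Additive := by
  unfold F
  infer_instance

theorem locSurj {X Y : A} (g : X ⟶ Y) [Epi g] :
    Sheaf.IsLocallySurjective ((G : A ⥤ _).map g) := by
  constructor
  intro U s
  have s' : U ⟶ Y := s
  have : Epi (pullback.fst (show U ⟶ Y from s) g) := inferInstance
  have := IsRegularEpiCategory.regularEpiOfEpi (pullback.fst (show U ⟶ Y from s) g)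
  rw [regularTopology.mem_sieves_iff_hasEffectiveEpi]
  refine ⟨pullback (show U ⟶ Y from s) g, pullback.fst _ _, inferInstance, ?_⟩
  refine ⟨pullback.snd (show U ⟶ Y from s) g, ?_⟩
  exact pullback.condition.symm

theorem epi_G_map {X Y : A} (g : X ⟶ Y) [Epi g] : Epi ((G : A ⥤ _).map g) := by
  have := locSurj g
  infer_instance

theorem epi_F_map {X Y : A} (g : X ⟶ Y) [Epi g] : Epi ((F : A ⥤ _).map g) := by
  have h : (F : A ⥤ _).map g = e.hom.app X ≫ (G : A ⥤ _).map g ≫ e.inv.app Y := by
    rw [← Category.assoc, ← e.hom.naturality g, Category.assoc, Iso.hom_inv_id_app,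
      Category.comp_id]
  rw [h]
  have := epi_G_map g
  infer_instance

theorem preservesFiniteColimits : PreservesFiniteColimits (F : A ⥤ _) := by
  rw [Functor.preservesFiniteColimits_iff_forall_exact_map_and_epi]
  intro S hS
  have := preservesFiniteLimits (A := A)
  refine ⟨(((F : A ⥤ _).preservesFiniteLimits_iff_forall_exact_map_and_mono).1 this S hS).1, ?_⟩
  have := hS.epi_g
  exact epi_F_map S.g

theorem enoughPoints : GrothendieckTopology.HasEnoughPoints.{u} (regularTopology A) := by
  apply Deligne.main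
  intro U S hS
  rw [regularTopology.mem_sieves_iff_hasEffectiveEpi] at hS
  obtain ⟨Y, π, hπ, hSπ⟩ := hS
  refine ⟨1, fun _ => Y, fun _ => π, fun _ => hSπ, ?_⟩
  rw [regularTopology.mem_sieves_iff_hasEffectiveEpi]
  exact ⟨Y, π, hπ, Sieve.ofArrows_mk _ _ (0 : Fin 1)⟩

end Groth.Agent.Lib.Helper59.AbYoneda
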