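import Groth.Prelude.Def_W4c5normfunctorschNorm
import Mathlib

/-!
# The span of pure tensors with two equal factors (`SymTen.altSpan`)

* `tprod_add_tprod_swap_mem`, `tprod_perm_sub_sign_mem` : antisymmetry modulo `altSpan`.
* `mem_altSpan_of_reindex_swap_eq_of_basis` : for a free module, a tensor fixed by the transposition
  of two factors lies in `altSpan`; `mem_altSpan_of_reindex_swap_eq` for finite projective modules.
* `tpowAct_tprod_tprod`, `reindex_tpowAct` : the factorwise action is equivariant.
* `tpowAct_mem_altSpan` : symmetric tensors preserve `altSpan` (finite projective modules).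
-/

set_option autoImplicit false

namespace Groth.Agent.Lib.Helper59.AltSpan

open scoped TensorProduct
open PiTensorProduct

universe u

section Basic

variable (R : Type u) [CommRing R] (P : Type u) [AddCommGroup P] [Module R P] (d : ℕ)

theorem tprod_mem (p : Fin d → P) {i j : Fin d} (hij : i ≠ j) (h : p i = p j) :
    tprod R p ∈ SymTen.altSpan R P d :=
  Submodule.subset_span ⟨p, i, j, hij, h, rfl⟩

omit [AddCommGroup P] in
theorem update_update_eq_comp_swap (p : Fin d → P) {i j : Fin d} (hij : i ≠ j) :
    Function.update (Function.update p j (p i)) i (p j) = fun k => p (Equiv.swap i j k) := by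
  funext k
  by_cases hki : k = i
  · subst hki
    simp
  · by_cases hkj : k = j
    · subst hkj
      simp [Function.update_of_ne hki]
    · simp [Function.update_of_ne hki, Function.update_of_ne hkj,
        Equiv.swap_apply_of_ne_of_ne hki hkj]

theorem tprod_add_tprod_swap_mem (p : Fin d → P) {i j : Fin d} (hij : i ≠ j) :
    tprod R p + tprod R (fun k => p (Equiv.swap i j k)) ∈ SymTen.altSpan R P d := by
  classical
  have hq : tprod R (Function.update (Function.update p i (p i + p j)) j (p i + p j)) ∈
      SymTen.altSpan R P d := by
    refine tprod_mem R P d _ hij ?_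
    rw [Function.update_self, Function.update_of_ne hij, Function.update_self]
  have h1 : tprod R (Function.update (Function.update p j (p i)) i (p i)) ∈
      SymTen.altSpan R P d := by
    refine tprod_mem R P d _ hij ?_
    rw [Function.update_self, Function.update_of_ne hij.symm, Function.update_self]
  have h4 : tprod R (Function.update (Function.update p j (p j)) i (p j)) ∈
      SymTen.altSpan R P d := by
    refine tprod_mem R P d _ hij ?_
    rw [Function.update_self, Function.update_of_ne hij.symm, Function.update_self]
  have h3 : Function.update (Function.update p j (p j)) i (p i) = p := by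
    rw [Function.update_eq_self, Function.update_eq_self]
  have hexp : tprod R (Function.update (Function.update p i (p i + p j)) j (p i + p j)) =
      tprod R (Function.update (Function.update p j (p i)) i (p i)) +
      tprod R (fun k => p (Equiv.swap i j k)) +
      (tprod R p + tprod R (Function.update (Function.update p j (p j)) i (p j))) := by
    have e0 := (tprod R (s := fun _ : Fin d => P)).map_update_add
      (Function.update p i (p i + p j)) j (p i) (p j)
    have e1 := (tprod R (s := fun _ : Fin d => P)).map_update_add
      (Function.update p j (p i)) i (p i) (p j)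
    have e2 := (tprod R (s := fun _ : Fin d => P)).map_update_add
      (Function.update p j (p j)) i (p i) (p j)
    rw [e0, Function.update_comm hij, Function.update_comm hij, e1, e2, h3,
      update_update_eq_comp_swap P d p hij]
  have : tprod R p + tprod R (fun k => p (Equiv.swap i j k)) =
      tprod R (Function.update (Function.update p i (p i + p j)) j (p i + p j)) -
      tprod R (Function.update (Function.update p j (p i)) i (p i)) -
      tprod R (Function.update (Function.update p j (p j)) i (p j)) := by
    rw [hexp]; abel
  rw [this]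
  exact Submodule.sub_mem _ (Submodule.sub_mem _ hq h1) h4

theorem tprod_perm_sub_sign_mem (σ : Equiv.Perm (Fin d)) (p : Fin d → P) :
    tprod R (fun k => p (σ k)) - ((Equiv.Perm.sign σ : ℤˣ) : ℤ) • tprod R p ∈
      SymTen.altSpan R P d := by
  induction σ using Equiv.Perm.swap_induction_on' generalizing p with
  | one => simp
  | mul_swap σ x y hxy ih =>
    have h1 := tprod_add_tprod_swap_mem R P d (fun k => p (σ k)) hxy
    have h2 := ih p
    have : tprod R (fun k => p ((σ * Equiv.swap x y) k)) -
        ((Equiv.Perm.sign (σ * Equiv.swap x y) : ℤˣ) : ℤ) • tprod R p =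
        (tprod R (fun k => p (σ k)) + tprod R (fun k => p (σ (Equiv.swap x y k)))) -
        (tprod R (fun k => p (σ k)) - ((Equiv.Perm.sign σ : ℤˣ) : ℤ) • tprod R p) := by
      rw [Equiv.Perm.sign_mul, Equiv.Perm.sign_swap hxy]
      simp only [Equiv.Perm.coe_mul, Function.comp_apply, mul_neg, mul_one, Units.val_neg, neg_smul]
      abel
    rw [this]
    exact Submodule.sub_mem _ h1 h2

end Basic


section Free

variable (R : Type u) [CommRing R] (P : Type u) [AddCommGroup P] [Module R P] (d : ℕ)
variable {ι : Type*} (b : Module.Basis ι R P)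

/-- The product basis of the tensor power. -/
noncomputable abbrev pB : Module.Basis (Fin d → ι) R (⨂[R] _ : Fin d, P) :=
  Basis.piTensorProduct (fun _ : Fin d => b)

theorem pB_apply (f : Fin d → ι) : pB R P d b f = tprod R (fun k => b (f k)) :=
  Basis.piTensorProduct_apply _ _

theorem reindex_pB (σ : Equiv.Perm (Fin d)) (f : Fin d → ι) :
    reindex R (fun _ : Fin d => P) σ (pB R P d b f) = pB R P d b (fun k => f (σ.symm k)) := by
  rw [pB_apply, reindex_tprod, pB_apply]

variable [LinearOrder ι]

/-- projection onto the basis tensors with `f i < f j` -/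
noncomputable def prLt (i j : Fin d) : (⨂[R] _ : Fin d, P) →ₗ[R] (⨂[R] _ : Fin d, P) :=
  (pB R P d b).constr R (fun f => if f i < f j then pB R P d b f else 0)

/-- projection onto the basis tensors with `f j < f i` -/
noncomputable def prGt (i j : Fin d) : (⨂[R] _ : Fin d, P) →ₗ[R] (⨂[R] _ : Fin d, P) :=
  (pB R P d b).constr R (fun f => if f j < f i then pB R P d b f else 0)

/-- projection onto the basis tensors with `f i = f j` -/
noncomputable def prEq (i j : Fin d) : (⨂[R] _ : Fin d, P) →ₗ[R] (⨂[R] _ : Fin d, P) :=
  (pB R P d b).constr R (fun f => if f i = f j then pB R P d b f else 0)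

theorem prLt_pB (i j : Fin d) (f : Fin d → ι) :
    prLt R P d b i j (pB R P d b f) = if f i < f j then pB R P d b f else 0 :=
  (pB R P d b).constr_basis R _ f

theorem prGt_pB (i j : Fin d) (f : Fin d → ι) :
    prGt R P d b i j (pB R P d b f) = if f j < f i then pB R P d b f else 0 :=
  (pB R P d b).constr_basis R _ f

theorem prEq_pB (i j : Fin d) (f : Fin d → ι) :
    prEq R P d b i j (pB R P d b f) = if f i = f j then pB R P d b f else 0 :=
  (pB R P d b).constr_basis R _ f

theorem pr_decomp (i j : Fin d) :
    prEq R P d b i j + prLt R P d b i j + prGt R P d b i j = LinearMap.id := by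
  refine (pB R P d b).ext fun f => ?_
  simp only [LinearMap.add_apply, prEq_pB, prLt_pB, prGt_pB, LinearMap.id_apply]
  rcases lt_trichotomy (f i) (f j) with h | h | h
  · simp [h, h.ne, h.not_gt]
  · simp [h]
  · simp [h, h.ne', h.not_gt]

theorem reindex_prLt (i j : Fin d) :
    (reindex R (fun _ : Fin d => P) (Equiv.swap i j)).toLinearMap ∘ₗ prLt R P d b i j =
      prGt R P d b i j ∘ₗ (reindex R (fun _ : Fin d => P) (Equiv.swap i j)).toLinearMap := by
  refine (pB R P d b).ext fun f => ?_
  simp only [LinearMap.comp_apply, LinearEquiv.coe_coe, prLt_pB, reindex_pB, prGt_pB,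
    Equiv.symm_swap, Equiv.swap_apply_left, Equiv.swap_apply_right]
  split_ifs
  · rw [reindex_pB]; rfl
  · simp

theorem prEq_mem (i j : Fin d) (hij : i ≠ j) (x : ⨂[R] _ : Fin d, P) :
    prEq R P d b i j x ∈ SymTen.altSpan R P d := by
  suffices h : LinearMap.range (prEq R P d b i j) ≤ SymTen.altSpan R P d from h ⟨x, rfl⟩
  rw [LinearMap.range_eq_map, ← (pB R P d b).span_eq, Submodule.map_span, Submodule.span_le]
  rintro _ ⟨_, ⟨f, rfl⟩, rfl⟩
  rw [prEq_pB]
  split_ifs with h
  · rw [pB_apply]
    exact tprod_mem R P d _ hij (by rw [h])
  · exact Submodule.zero_mem _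

theorem add_reindex_swap_mem (i j : Fin d) (hij : i ≠ j) (x : ⨂[R] _ : Fin d, P) :
    x + reindex R (fun _ : Fin d => P) (Equiv.swap i j) x ∈ SymTen.altSpan R P d := by
  induction x using PiTensorProduct.induction_on with
  | smul_tprod r p =>
    rw [map_smul, ← smul_add, reindex_tprod]
    refine Submodule.smul_mem _ _ ?_
    simpa using tprod_add_tprod_swap_mem R P d p hij
  | add x y hx hy =>
    rw [map_add]
    have : x + y + (reindex R (fun _ : Fin d => P) (Equiv.swap i j) x +
        reindex R (fun _ : Fin d => P) (Equiv.swap i j) y) =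
        (x + reindex R (fun _ : Fin d => P) (Equiv.swap i j) x) +
        (y + reindex R (fun _ : Fin d => P) (Equiv.swap i j) y) := by abel
    rw [this]
    exact Submodule.add_mem _ hx hy

include b in
/-- For a free module, a tensor fixed by the transposition of two (distinct) factors lies in
`altSpan`. -/
theorem mem_altSpan_of_reindex_swap_eq_of_basis {i j : Fin d} (hij : i ≠ j)
    (x : ⨂[R] _ : Fin d, P)
    (hx : reindex R (fun _ : Fin d => P) (Equiv.swap i j) x = x) :
    x ∈ SymTen.altSpan R P d := by
  have h1 : x = prEq R P d b i j x + prLt R P d b i j x + prGt R P d b i j x := by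
    conv_lhs => rw [← LinearMap.id_apply (R := R) x, ← pr_decomp R P d b i j]
    rfl
  have h2 : prGt R P d b i j x =
      reindex R (fun _ : Fin d => P) (Equiv.swap i j) (prLt R P d b i j x) := by
    have := LinearMap.congr_fun (reindex_prLt R P d b i j) x
    simp only [LinearMap.comp_apply, LinearEquiv.coe_coe, hx] at this
    exact this.symm
  rw [h1, h2, add_assoc]
  exact Submodule.add_mem _ (prEq_mem R P d b i j hij x)
    (add_reindex_swap_mem R P d i j hij _)

end Free


section Map

variable (R : Type u) [CommRing R] (P Q : Type u) [AddCommGroup P] [Module R P]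
  [AddCommGroup Q] [Module R Q] (d : ℕ)

theorem map_mem_altSpan (f : P →ₗ[R] Q) (x : ⨂[R] _ : Fin d, P)
    (hx : x ∈ SymTen.altSpan R P d) :
    PiTensorProduct.map (fun _ : Fin d => f) x ∈ SymTen.altSpan R Q d := by
  induction hx using Submodule.span_induction with
  | mem y hy =>
    obtain ⟨p, i, j, hij, h, rfl⟩ := hy
    rw [map_tprod]
    exact tprod_mem R Q d _ hij (by rw [h])
  | zero => rw [map_zero]; exact Submodule.zero_mem _
  | add y z _ _ hy hz => rw [map_add]; exact Submodule.add_mem _ hy hz
  | smul r y _ hy => rw [map_smul]; exact Submodule.smul_mem _ _ hy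

/-- For a finite projective module, a tensor fixed by the transposition of two (distinct) factors
lies in `altSpan`. -/
theorem mem_altSpan_of_reindex_swap_eq [Module.Finite R P] [Module.Projective R P]
    {i j : Fin d} (hij : i ≠ j) (x : ⨂[R] _ : Fin d, P)
    (hx : reindex R (fun _ : Fin d => P) (Equiv.swap i j) x = x) :
    x ∈ SymTen.altSpan R P d := by
  obtain ⟨n, f, g, -, -, hfg⟩ := Module.Finite.exists_comp_eq_id_of_projective R P
  have hy : reindex R (fun _ : Fin d => (Fin n → R)) (Equiv.swap i j)
      (PiTensorProduct.map (fun _ : Fin d => g) x) = PiTensorProduct.map (fun _ : Fin d => g) x := by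
    have := map_reindex (R := R) (fun _ : Fin d => g) (Equiv.swap i j) x
    rw [← this, hx]
  have h1 := mem_altSpan_of_reindex_swap_eq_of_basis R (Fin n → R) d (Pi.basisFun R (Fin n)) hij _ hy
  have h2 := map_mem_altSpan R (Fin n → R) P d f _ h1
  have h3 : PiTensorProduct.map (fun _ : Fin d => f) (PiTensorProduct.map (fun _ : Fin d => g) x) = x := by
    rw [← LinearMap.comp_apply, ← PiTensorProduct.map_comp]
    simp only [hfg]
    rw [PiTensorProduct.map_id, LinearMap.id_apply]
  rwa [h3] at h2

end Map

section Act

variable (R : Type u) [CommRing R] (A : Type u) [CommRing A] [Algebra R A]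
  (P : Type u) [AddCommGroup P] [Module R P] [Module A P] [IsScalarTower R A P] (d : ℕ)

theorem tpowAct_tprod_tprod (a : Fin d → A) (p : Fin d → P) :
    SymTen.tpowAct R A P d (tprod R a) (tprod R p) = tprod R (fun k => a k • p k) := by
  rw [SymTen.tpowAct, lift.tprod]
  simp [MultilinearMap.compLinearMap_apply, mapMultilinear_apply, map_tprod]

theorem reindex_tpowAct (σ : Equiv.Perm (Fin d)) (a : ⨂[R] _ : Fin d, A)
    (x : ⨂[R] _ : Fin d, P) :
    reindex R (fun _ : Fin d => P) σ (SymTen.tpowAct R A P d a x) =
      SymTen.tpowAct R A P d (reindex R (fun _ : Fin d => A) σ a)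
        (reindex R (fun _ : Fin d => P) σ x) := by
  induction a using PiTensorProduct.induction_on with
  | smul_tprod r a =>
    induction x using PiTensorProduct.induction_on with
    | smul_tprod s p => simp [tpowAct_tprod_tprod, reindex_tprod]
    | add x y hx hy => simp only [map_add, hx, hy]
  | add a a' ha ha' => simp only [map_add, LinearMap.add_apply, ha, ha']

/-- Symmetric tensors preserve `altSpan`. -/
theorem tpowAct_mem_altSpan [Module.Finite R P] [Module.Projective R P]
    (a : ⨂[R] _ : Fin d, A) (ha : a ∈ SymTen.TS R A d)
    (x : ⨂[R] _ : Fin d, P) (hx : x ∈ SymTen.altSpan R P d) :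
    SymTen.tpowAct R A P d a x ∈ SymTen.altSpan R P d := by
  induction hx using Submodule.span_induction with
  | mem y hy =>
    obtain ⟨p, i, j, hij, h, rfl⟩ := hy
    refine mem_altSpan_of_reindex_swap_eq R P d hij _ ?_
    rw [reindex_tpowAct, ha (Equiv.swap i j), reindex_tprod]
    congr 2
    funext k
    rw [Equiv.symm_swap]
    by_cases hki : k = i
    · subst hki; rw [Equiv.swap_apply_left, h]
    · by_cases hkj : k = j
      · subst hkj; rw [Equiv.swap_apply_right, h]
      · rw [Equiv.swap_apply_of_ne_of_ne hki hkj]
  | zero => rw [map_zero]; exact Submodule.zero_mem _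
  | add y z _ _ hy hz => rw [map_add]; exact Submodule.add_mem _ hy hz
  | smul r y _ hy => rw [map_smul]; exact Submodule.smul_mem _ _ hy

end Act

end Groth.Agent.Lib.Helper59.AltSpan
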