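import Groth.Agent.Lib.Helper59.CHRel2

/-!
# Relative Cayley–Hamilton for multiplicative laws, part 3: any algebra `B`, any base change `A'`

`relCH` : for `u : A' ⊗ B`, `χ'_u(u) ∈ (ker F) · (A' ⊗ B)` where `χ'_u = chiRelB F A' u`.
-/

set_option autoImplicit false

namespace Groth.Agent.Lib.Helper59.CHRel

open scoped TensorProduct
open PolLaw Polynomial Groth.Agent.Lib.Helper59.KerPoly Groth.Agent.Lib.Helper59.CHCore
  Groth.Agent.Lib.Helper59.CHThm

universe u

section General

variable {A : Type u} [CommRing A] {B : Type u} [CommRing B] [Algebra A B] {d : ℕ}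

/-- `u - X` in `A'[X] ⊗ B` -/
noncomputable def zuB (A' : Type u) [CommRing A'] [Algebra A A'] (u : A' ⊗[A] B) : A'[X] ⊗[A] B :=
  Algebra.TensorProduct.map (Polynomial.CAlgHom (R := A) (A := A')) (AlgHom.id A B) u -
    (X : A'[X]) ⊗ₜ[A] (1 : B)

/-- the relative characteristic polynomial of `u : A' ⊗ B` -/
noncomputable def chiRelB (F : MulLaw A B A d) (A' : Type u) [CommRing A'] [Algebra A A']
    (u : A' ⊗[A] B) : A'[X] :=
  val F.law A'[X] (zuB A' u)

theorem map_ker_precomp_le {B' : Type u} [CommRing B'] [Algebra A B'] (F : MulLaw A B A d)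
    (π : B' →ₐ[A] B) (hπ : Function.Surjective π) :
    (PolLaw.ker (F.precomp π).law).map π ≤ PolLaw.ker F.law := by
  rw [Ideal.map_le_iff_le_comap]
  intro c hc
  rw [Ideal.mem_comap]
  intro S _ _ x w
  have hsurj : Function.Surjective (Algebra.TensorProduct.map (AlgHom.id A S) π) := by
    intro y
    obtain ⟨y', hy'⟩ := LinearMap.lTensor_surjective S (g := π.toLinearMap) hπ y
    exact ⟨y', hy'⟩
  obtain ⟨x', rfl⟩ := hsurj x
  obtain ⟨w', rfl⟩ := hsurj w
  have h := hc S x' w'
  rw [precomp_toFun', precomp_toFun', map_add, map_mul, Algebra.TensorProduct.map_tmul, map_one] at h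
  exact h

/-- relative Cayley–Hamilton, `A'` free over `A` -/
theorem relCH_free (F : MulLaw A B A d) (S₁ : Type u) [CommRing S₁] [Algebra A S₁] {ι : Type*}
    (β : Module.Basis ι A S₁) (u : S₁ ⊗[A] B) :
    Polynomial.aeval u (chiRelB F S₁ u) ∈
      (PolLaw.ker F.law).map (Algebra.TensorProduct.includeRight : B →ₐ[A] S₁ ⊗[A] B) := by
  let π : MvPolynomial B A →ₐ[A] B := MvPolynomial.aeval id
  have hπ : Function.Surjective π := fun b' => ⟨MvPolynomial.X b', by simp [π]⟩
  let Pm : S₁ ⊗[A] MvPolynomial B A →ₐ[S₁] S₁ ⊗[A] B :=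
    Algebra.TensorProduct.map (AlgHom.id S₁ S₁) π
  have hPm : ∀ v, Pm v = Algebra.TensorProduct.map (AlgHom.id A S₁) π v := by
    intro v
    induction v using TensorProduct.induction_on with
    | zero => simp
    | tmul s p => simp [Pm]
    | add x y hx hy => simp only [map_add, hx, hy]
  have hsurj : Function.Surjective Pm := by
    intro y
    obtain ⟨y', hy'⟩ := LinearMap.lTensor_surjective S₁ (g := π.toLinearMap) hπ y
    refine ⟨y', ?_⟩
    rw [hPm]
    exact hy'
  obtain ⟨u', rfl⟩ := hsurj u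
  let F' := F.precomp π
  have hχ : chiRelB F S₁ (Pm u') = chiRel B F'.law S₁ u' := by
    unfold chiRelB chiRel val
    rw [precomp_toFun']
    congr 2
    unfold zuB zu
    rw [map_sub, Algebra.TensorProduct.map_tmul, map_one, AlgHom.coe_id, id_eq, hPm, ← map_map_comm]
  rw [hχ, Polynomial.aeval_algHom_apply]
  have h := relCH_poly B d F'.law F'.homog F'.mult S₁ β u'
  have hle : (PolLaw.ker F'.law).map (Algebra.TensorProduct.includeRight :
      MvPolynomial B A →ₐ[A] S₁ ⊗[A] MvPolynomial B A) ≤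
      ((PolLaw.ker F.law).map (Algebra.TensorProduct.includeRight : B →ₐ[A] S₁ ⊗[A] B)).comap Pm := by
    rw [Ideal.map_le_iff_le_comap]
    intro k hk
    rw [Ideal.mem_comap, Ideal.mem_comap]
    have h3 : Pm ((Algebra.TensorProduct.includeRight :
        MvPolynomial B A →ₐ[A] S₁ ⊗[A] MvPolynomial B A) k) =
        (Algebra.TensorProduct.includeRight : B →ₐ[A] S₁ ⊗[A] B) (π k) := by
      simp [Pm]
    rw [h3]
    exact Ideal.mem_map_of_mem _ (map_ker_precomp_le F π hπ (Ideal.mem_map_of_mem π hk))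
  exact hle h

theorem zuB_map {S₁ A' : Type u} [CommRing S₁] [Algebra A S₁] [CommRing A'] [Algebra A A']
    (ev : S₁ →ₐ[A] A') (u : S₁ ⊗[A] B) :
    Algebra.TensorProduct.map (Polynomial.mapAlgHom ev) (AlgHom.id A B) (zuB S₁ u) =
      zuB A' (Algebra.TensorProduct.map ev (AlgHom.id A B) u) := by
  unfold zuB
  rw [map_sub, Algebra.TensorProduct.map_tmul, KerPoly.map_map, KerPoly.map_map]
  have h1 : (Polynomial.mapAlgHom ev).comp (Polynomial.CAlgHom (R := A) (A := S₁)) =
      (Polynomial.CAlgHom (R := A) (A := A')).comp ev := by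
    refine AlgHom.ext fun s => ?_
    simp
  have h2 : Polynomial.mapAlgHom ev (X : S₁[X]) = X := by simp
  rw [h1, h2, map_one]

theorem chiRelB_map (F : MulLaw A B A d) {S₁ A' : Type u} [CommRing S₁] [Algebra A S₁]
    [CommRing A'] [Algebra A A'] (ev : S₁ →ₐ[A] A') (u : S₁ ⊗[A] B) :
    chiRelB F A' (Algebra.TensorProduct.map ev (AlgHom.id A B) u) =
      Polynomial.map (ev : S₁ →+* A') (chiRelB F S₁ u) := by
  unfold chiRelB
  rw [← zuB_map, val_map]
  rfl

/-- **relative Cayley–Hamilton**: `χ'_u(u)` lies in the extension of `ker F`. -/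
theorem relCH (F : MulLaw A B A d) (A' : Type u) [CommRing A'] [Algebra A A'] (u : A' ⊗[A] B) :
    Polynomial.aeval u (chiRelB F A' u) ∈
      (PolLaw.ker F.law).map (Algebra.TensorProduct.includeRight : B →ₐ[A] A' ⊗[A] B) := by
  obtain ⟨n, ψ, p, hp⟩ := PolynomialLaw.exists_lift u
  rw [rTensor_algHom_apply] at hp
  subst hp
  have h := relCH_free F (MvPolynomial (Fin n) A) (MvPolynomial.basisMonomials (Fin n) A) p
  set χ := chiRelB F (MvPolynomial (Fin n) A) p with hχ
  let Ψ : MvPolynomial (Fin n) A ⊗[A] B →ₐ[A] A' ⊗[A] B :=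
    Algebra.TensorProduct.map ψ (AlgHom.id A B)
  have h1 : Polynomial.aeval (Ψ p) (chiRelB F A' (Ψ p)) = Ψ (Polynomial.aeval p χ) := by
    rw [chiRelB_map, Polynomial.aeval_def, Polynomial.eval₂_map, Polynomial.aeval_def,
      ← AlgHom.coe_toRingHom Ψ, Polynomial.hom_eval₂]
    congr 1
  have hle : (PolLaw.ker F.law).map (Algebra.TensorProduct.includeRight :
      B →ₐ[A] MvPolynomial (Fin n) A ⊗[A] B) ≤
      ((PolLaw.ker F.law).map (Algebra.TensorProduct.includeRight : B →ₐ[A] A' ⊗[A] B)).comap Ψ := by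
    rw [Ideal.map_le_iff_le_comap]
    intro k hk
    rw [Ideal.mem_comap, Ideal.mem_comap]
    have h3 : Ψ ((Algebra.TensorProduct.includeRight :
        B →ₐ[A] MvPolynomial (Fin n) A ⊗[A] B) k) =
        (Algebra.TensorProduct.includeRight : B →ₐ[A] A' ⊗[A] B) k := by
      simp [Ψ]
    rw [h3]
    exact Ideal.mem_map_of_mem _ hk
  show Polynomial.aeval (Ψ p) (chiRelB F A' (Ψ p)) ∈ _
  rw [h1]
  exact hle h

theorem chiRelB_of_mem_kerBC (F : MulLaw A B A d) (A' : Type u) [CommRing A'] [Algebra A A']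
    {u : A' ⊗[A] B} (hu : u ∈ PolLaw.kerBC F.law A') : chiRelB F A' u = (-X) ^ d := by
  have h1 : (Polynomial.CAlgHom (R := A) (A := A')) = IsScalarTower.toAlgHom A A' A'[X] := by
    refine AlgHom.ext fun s => ?_
    rfl
  have h2 : zuB A' u = (-X : A'[X]) • (1 : A'[X] ⊗[A] B) +
      1 * Algebra.TensorProduct.map (IsScalarTower.toAlgHom A A' A'[X]) (AlgHom.id A B) u := by
    unfold zuB
    rw [one_mul, Algebra.TensorProduct.one_def, TensorProduct.smul_tmul', smul_eq_mul, mul_one,
      TensorProduct.neg_tmul, h1]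
    abel
  unfold chiRelB val
  rw [h2, hu A'[X], F.homog, (F.mult A'[X]).1, rid_smul, rid_one, mul_one]

/-- the kernel of the base change lies in the radical of the extended kernel -/
theorem kerBC_le_radical (F : MulLaw A B A d) (A' : Type u) [CommRing A'] [Algebra A A'] :
    PolLaw.kerBC F.law A' ≤
      ((PolLaw.ker F.law).map (Algebra.TensorProduct.includeRight : B →ₐ[A] A' ⊗[A] B)).radical := by
  intro u hu
  refine ⟨d, ?_⟩
  have h3 := relCH F A' u
  rw [chiRelB_of_mem_kerBC F A' hu, map_pow, map_neg, Polynomial.aeval_X, neg_pow] at h3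
  have h4 := Ideal.mul_mem_left _ ((-1 : A' ⊗[A] B) ^ d) h3
  rw [← mul_assoc, ← mul_pow, neg_one_mul, neg_neg, one_pow, one_mul] at h4
  exact h4

end General

end Groth.Agent.Lib.Helper59.CHRel
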