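import Groth.Agent.Lib.Helper59.IdemCount
import Groth.Agent.Lib.Helper59.CHRel3

/-!
# Base change of a multiplicative law `B → A` to a law `A' ⊗ B → A'` over `A'`

`bc A' F : MulLaw A' (A' ⊗[A] B) A' d`, with `val_bc` (its value over a ring with both algebra
structures is that of `F`), `ker_bc_le_kerBC`, and `ker_bc_le_nilradical`.
-/

set_option autoImplicit false

namespace Groth.Agent.Lib.Helper59.BCLaw

open scoped TensorProduct
open PolLaw Polynomial Groth.Agent.Lib.Helper59.KerPoly Groth.Agent.Lib.Helper59.CHCore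

universe u

variable {A : Type u} [CommRing A] {B : Type u} [CommRing B] [Algebra A B]
variable (A' : Type u) [CommRing A'] [Algebra A A']

section Mixed

variable (R : Type u) [CommSemiring R] [Algebra A R] [Algebra A' R] [IsScalarTower A A' R]

/-- `R ⊗[A'] (A' ⊗[A] B) ≃ R ⊗[A] B` -/
noncomputable def canc : R ⊗[A'] (A' ⊗[A] B) ≃ₐ[R] R ⊗[A] B :=
  Algebra.TensorProduct.cancelBaseChange A A' R R B

theorem canc_tmul (r : R) (a : A') (x : B) :
    canc (A := A) (B := B) A' R (r ⊗ₜ (a ⊗ₜ x)) = (a • r) ⊗ₜ x := by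
  unfold canc
  rw [Algebra.TensorProduct.cancelBaseChange_tmul]

theorem canc_symm_tmul (r : R) (x : B) :
    (canc (A := A) (B := B) A' R).symm (r ⊗ₜ x) = r ⊗ₜ (1 ⊗ₜ x) := by
  unfold canc
  rw [Algebra.TensorProduct.cancelBaseChange_symm_tmul]

/-- the mixed-form function -/
noncomputable def fnM (F : B →ₚₗ[A] A) (x : R ⊗[A'] (A' ⊗[A] B)) : R ⊗[A'] A' :=
  (TensorProduct.rid A' R).symm (val F R (canc A' R x))

theorem canc_one_tmul (y : A' ⊗[A] B) :
    canc (A := A) (B := B) A' R (1 ⊗ₜ y) =
      Algebra.TensorProduct.map (IsScalarTower.toAlgHom A A' R) (AlgHom.id A B) y := by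
  induction y using TensorProduct.induction_on with
  | zero => simp
  | tmul a x =>
    rw [canc_tmul, Algebra.TensorProduct.map_tmul, Algebra.smul_def, mul_one]
    rfl
  | add x y hx hy => rw [TensorProduct.tmul_add, map_add, map_add, hx, hy]

end Mixed

section Nat

variable {R R' : Type u} [CommSemiring R] [Algebra A R] [Algebra A' R] [IsScalarTower A A' R]
  [CommSemiring R'] [Algebra A R'] [Algebra A' R'] [IsScalarTower A A' R']

theorem canc_nat (ψ : R →ₐ[A'] R') (x : R ⊗[A'] (A' ⊗[A] B)) :
    canc (A := A) (B := B) A' R' (ψ.toLinearMap.rTensor (A' ⊗[A] B) x) =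
      Algebra.TensorProduct.map (ψ.restrictScalars A) (AlgHom.id A B) (canc A' R x) := by
  induction x using TensorProduct.induction_on with
  | zero => simp
  | tmul r y =>
    induction y using TensorProduct.induction_on with
    | zero => simp
    | tmul a x =>
      rw [LinearMap.rTensor_tmul, canc_tmul, canc_tmul, Algebra.TensorProduct.map_tmul]
      simp
    | add x y hx hy =>
      rw [TensorProduct.tmul_add, map_add, map_add, map_add, map_add, hx, hy]
  | add x y hx hy => rw [map_add, map_add, map_add, map_add, hx, hy]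

theorem fnM_nat (F : B →ₚₗ[A] A) (ψ : R →ₐ[A'] R') (x : R ⊗[A'] (A' ⊗[A] B)) :
    ψ.toLinearMap.rTensor A' (fnM A' R F x) =
      fnM A' R' F (ψ.toLinearMap.rTensor (A' ⊗[A] B) x) := by
  unfold fnM
  rw [canc_nat, val_map]
  simp [TensorProduct.rid_symm_apply]

end Nat

section Law

/-- the base-changed law -/
noncomputable def bcLaw (F : B →ₚₗ[A] A) : (A' ⊗[A] B) →ₚₗ[A'] A' where
  toFun' S _ _ :=
    let _ : Algebra A S := Algebra.compHom S (algebraMap A A')
    have : IsScalarTower A A' S := IsScalarTower.of_algebraMap_eq (fun _ => rfl)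
    fnM A' S F
  isCompat' {S} _ _ {S'} _ _ φ := by
    let _ : Algebra A S := Algebra.compHom S (algebraMap A A')
    have : IsScalarTower A A' S := IsScalarTower.of_algebraMap_eq (fun _ => rfl)
    let _ : Algebra A S' := Algebra.compHom S' (algebraMap A A')
    have : IsScalarTower A A' S' := IsScalarTower.of_algebraMap_eq (fun _ => rfl)
    funext x
    exact fnM_nat A' F φ x

theorem bcLaw_toFun' (F : B →ₚₗ[A] A) (R : Type u) [CommSemiring R] [iA : Algebra A R]
    [Algebra A' R] [iT : IsScalarTower A A' R] (x : R ⊗[A'] (A' ⊗[A] B)) :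
    (bcLaw A' F).toFun' R x = fnM A' R F x := by
  have h : iA = Algebra.compHom R (algebraMap A A') := by
    refine Algebra.algebra_ext _ _ fun a => ?_
    exact IsScalarTower.algebraMap_apply A A' R a
  subst h
  rfl

/-- the value of the base-changed law over a ring with both structures -/
theorem val_bc (F : B →ₚₗ[A] A) (R : Type u) [CommSemiring R] [Algebra A R]
    [Algebra A' R] [IsScalarTower A A' R] (x : R ⊗[A'] (A' ⊗[A] B)) :
    val (bcLaw A' F) R x = val F R (canc A' R x) := by
  unfold val
  rw [bcLaw_toFun']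
  unfold fnM val
  rw [LinearEquiv.apply_symm_apply]

variable {d : ℕ}

/-- the base change of a multiplicative law -/
noncomputable def bc (F : MulLaw A B A d) : MulLaw A' (A' ⊗[A] B) A' d where
  law := bcLaw A' F.law
  homog S _ _ s x := by
    let _ : Algebra A S := Algebra.compHom S (algebraMap A A')
    have : IsScalarTower A A' S := IsScalarTower.of_algebraMap_eq (fun _ => rfl)
    apply (TensorProduct.rid A' S).injective
    rw [rid_smul]
    show val (bcLaw A' F.law) S (s • x) = s ^ d * val (bcLaw A' F.law) S x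
    rw [val_bc, val_bc, map_smul, val_smul F.law F.homog]
  mult S _ _ := by
    let _ : Algebra A S := Algebra.compHom S (algebraMap A A')
    have : IsScalarTower A A' S := IsScalarTower.of_algebraMap_eq (fun _ => rfl)
    refine ⟨?_, fun x y => ?_⟩
    · apply (TensorProduct.rid A' S).injective
      rw [rid_one]
      show val (bcLaw A' F.law) S 1 = _
      rw [val_bc, map_one, val_one F.law F.mult]
    · apply (TensorProduct.rid A' S).injective
      rw [rid_mul]
      show val (bcLaw A' F.law) S (x * y) = val (bcLaw A' F.law) S x * val (bcLaw A' F.law) S y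
      rw [val_bc, map_mul, val_mul F.law F.mult, ← val_bc, ← val_bc]

theorem ker_bc_le_kerBC (F : MulLaw A B A d) :
    PolLaw.ker (bc A' F).law ≤ PolLaw.kerBC F.law A' := by
  intro b' hb' R _ _ _ _ x w
  apply toFun'_eq_of_val_eq
  obtain ⟨x₀, rfl⟩ := (canc (A := A) (B := B) A' R).surjective x
  obtain ⟨w₀, rfl⟩ := (canc (A := A) (B := B) A' R).surjective w
  rw [← canc_one_tmul, ← map_mul, ← map_add, ← val_bc, ← val_bc]
  unfold val
  rw [show (bcLaw A' F.law) = (bc A' F).law from rfl, hb' R x₀ w₀]

theorem ker_bc_le_nilradical (F : MulLaw A B A d) (h : PolLaw.ker F.law ≤ nilradical B) :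
    PolLaw.ker (bc A' F).law ≤ nilradical (A' ⊗[A] B) := by
  refine (ker_bc_le_kerBC A' F).trans ?_
  refine (Groth.Agent.Lib.Helper59.CHRel.kerBC_le_radical F A').trans ?_
  rw [nilradical, Ideal.radical_le_radical_iff]
  rw [Ideal.map_le_iff_le_comap]
  intro x hx
  rw [Ideal.mem_comap]
  have hx' : IsNilpotent x := h hx
  have h2 : IsNilpotent ((Algebra.TensorProduct.includeRight : B →ₐ[A] A' ⊗[A] B) x) := hx'.map _
  exact mem_nilradical.mpr h2

end Law

end Groth.Agent.Lib.Helper59.BCLaw
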