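import Mathlib

/-!
# Beauville–Laszlo gluing of sections of a quasi-affine scheme

Ring level: for `φ : A → A'` and `t ∈ A` with `A/t^m ≃ A'/t^m` and an isomorphism on `t`-power
torsion, the ring `A` is the fibre product of `A'` and `A_t` over `A'_t`.  Scheme level: morphisms
from `Spec A` to a quasi-affine scheme glue accordingly.
-/

set_option autoImplicit false
set_option linter.unusedVariables false
set_option linter.unusedSectionVars false

namespace Groth.Agent.Lib.Helper59.BLQA

open CategoryTheory AlgebraicGeometry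

universe u

section Ring

variable {A A' : Type u} [CommRing A] [CommRing A'] (φ : A →+* A') (t : A)

theorem awayMap_algebraMap (a : A) :
    Localization.awayMap φ t (algebraMap A (Localization.Away t) a) =
      algebraMap A' (Localization.Away (φ t)) (φ a) :=
  IsLocalization.map_eq _ a

/-- joint injectivity of `A → A' × A_t` -/
theorem eq_zero_of
    (htor : ∀ a' : A', (∃ m : ℕ, φ t ^ m * a' = 0) →
      ∃! a : A, (∃ m : ℕ, t ^ m * a = 0) ∧ φ a = a')
    {a : A} (h1 : φ a = 0) (h2 : algebraMap A (Localization.Away t) a = 0) : a = 0 := by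
  obtain ⟨m, hm⟩ : ∃ m : ℕ, t ^ m * a = 0 := by
    obtain ⟨⟨_, m, rfl⟩, hm⟩ :=
      (IsLocalization.map_eq_zero_iff (Submonoid.powers t) (Localization.Away t) a).mp h2
    exact ⟨m, hm⟩
  obtain ⟨a0, _, huniq⟩ := htor 0 ⟨0, by simp⟩
  have e1 := huniq a ⟨⟨m, hm⟩, h1⟩
  have e2 := huniq 0 ⟨⟨0, by simp⟩, map_zero φ⟩
  rw [e1, e2]

theorem eq_of
    (htor : ∀ a' : A', (∃ m : ℕ, φ t ^ m * a' = 0) →
      ∃! a : A, (∃ m : ℕ, t ^ m * a = 0) ∧ φ a = a')
    {a b : A} (h1 : φ a = φ b)
    (h2 : algebraMap A (Localization.Away t) a = algebraMap A (Localization.Away t) b) : a = b := by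
  have := eq_zero_of φ t htor (a := a - b) (by rw [map_sub, h1, sub_self])
    (by rw [map_sub, h2, sub_self])
  exact sub_eq_zero.mp this

/-- gluing elements -/
theorem exists_glue
    (hq : ∀ m : ℕ, Function.Bijective
      (Ideal.quotientMap (Ideal.map φ (Ideal.span {t} ^ m)) φ Ideal.le_comap_map))
    (htor : ∀ a' : A', (∃ m : ℕ, φ t ^ m * a' = 0) →
      ∃! a : A, (∃ m : ℕ, t ^ m * a = 0) ∧ φ a = a')
    (a' : A') (b : Localization.Away t)
    (h : algebraMap A' (Localization.Away (φ t)) a' = Localization.awayMap φ t b) :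
    ∃ a : A, φ a = a' ∧ algebraMap A (Localization.Away t) a = b := by
  obtain ⟨n, c, hc⟩ := IsLocalization.Away.surj t b
  -- `b * t^n = c`
  have h1 : algebraMap A' (Localization.Away (φ t)) (φ t ^ n * a' - φ c) = 0 := by
    have e1 : algebraMap A' (Localization.Away (φ t)) (φ c) =
        Localization.awayMap φ t (b * algebraMap A (Localization.Away t) t ^ n) := by
      rw [hc, awayMap_algebraMap]
    rw [map_sub, e1, map_mul, map_mul, map_pow, map_pow, awayMap_algebraMap, h, mul_comm, sub_self]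
  obtain ⟨⟨_, N, rfl⟩, hN⟩ :=
    (IsLocalization.map_eq_zero_iff (Submonoid.powers (φ t)) (Localization.Away (φ t)) _).mp h1
  -- `φ t ^ N * (φ t ^ n * a' - φ c) = 0`
  have h2 : φ (t ^ N * c) = φ t ^ (N + n) * a' := by
    rw [map_mul, map_pow, pow_add, mul_assoc]
    have : φ t ^ N * (φ t ^ n * a' - φ c) = 0 := hN
    rw [mul_sub, sub_eq_zero] at this
    exact this.symm
  -- `t^N c ∈ t^(N+n) A`
  have h3 : t ^ N * c ∈ Ideal.span {t} ^ (N + n) := by
    have hinj := (hq (N + n)).1
    have : Ideal.Quotient.mk (Ideal.span {t} ^ (N + n)) (t ^ N * c) = 0 := by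
      apply hinj
      rw [Ideal.quotientMap_mk, map_zero, Ideal.Quotient.eq_zero_iff_mem, h2, Ideal.map_pow,
        Ideal.map_span, Set.image_singleton, Ideal.span_singleton_pow]
      exact Ideal.mul_mem_right _ _ (Ideal.mem_span_singleton_self _)
    exact Ideal.Quotient.eq_zero_iff_mem.mp this
  rw [Ideal.span_singleton_pow, Ideal.mem_span_singleton] at h3
  obtain ⟨a1, ha1⟩ := h3
  -- `t^N c = t^(N+n) a1`
  have h4 : φ t ^ (N + n) * (a' - φ a1) = 0 := by
    rw [mul_sub, ← h2, ha1, map_mul, map_pow, sub_self]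
  obtain ⟨a2, ⟨⟨m2, hm2⟩, ha2⟩, _⟩ := htor (a' - φ a1) ⟨N + n, h4⟩
  refine ⟨a1 + a2, by rw [map_add, ha2]; ring, ?_⟩
  have h5 : algebraMap A (Localization.Away t) a2 = 0 := by
    rw [IsLocalization.map_eq_zero_iff (Submonoid.powers t)]
    exact ⟨⟨t ^ m2, m2, rfl⟩, hm2⟩
  rw [map_add, h5, add_zero]
  -- `a1 = b` in `A_t`: compare after multiplying by the unit `t^(N+n)`
  have hunit : IsUnit (algebraMap A (Localization.Away t) t ^ (N + n)) :=
    (IsLocalization.Away.algebraMap_isUnit t).pow _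
  apply hunit.mul_left_cancel
  rw [← map_pow, ← map_mul, ← ha1, map_mul, ← hc, map_pow, map_pow, pow_add]
  ring

end Ring

section Prime

variable {A A' : Type u} [CommRing A] [CommRing A'] (φ : A →+* A') (t : A)

/-- primes containing `t` lift along `φ` -/
theorem exists_prime_over
    (hq : ∀ m : ℕ, Function.Bijective
      (Ideal.quotientMap (Ideal.map φ (Ideal.span {t} ^ m)) φ Ideal.le_comap_map))
    (P : Ideal A) [P.IsPrime] (ht : t ∈ P) :
    ∃ P' : Ideal A', P'.IsPrime ∧ P'.comap φ = P := by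
  let e : (A ⧸ Ideal.span {t} ^ 1) ≃+* (A' ⧸ Ideal.map φ (Ideal.span {t} ^ 1)) :=
    RingEquiv.ofBijective _ (hq 1)
  have hle : Ideal.span {t} ^ 1 ≤ P := by
    rw [pow_one, Ideal.span_singleton_le_iff_mem]
    exact ht
  let g : A' →+* A ⧸ P :=
    (Ideal.Quotient.factor hle).comp
      ((e.symm : _ →+* _).comp (Ideal.Quotient.mk (Ideal.map φ (Ideal.span {t} ^ 1))))
  refine ⟨RingHom.ker g, RingHom.ker_isPrime g, ?_⟩
  have hg : g.comp φ = Ideal.Quotient.mk P := by
    ext a
    have h1 : e (Ideal.Quotient.mk (Ideal.span {t} ^ 1) a) =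
        Ideal.Quotient.mk (Ideal.map φ (Ideal.span {t} ^ 1)) (φ a) := by
      change Ideal.quotientMap (Ideal.map φ (Ideal.span {t} ^ 1)) φ Ideal.le_comap_map
        (Ideal.Quotient.mk (Ideal.span {t} ^ 1) a) = _
      rw [Ideal.quotientMap_mk]
    change Ideal.Quotient.factor hle
      (e.symm (Ideal.Quotient.mk (Ideal.map φ (Ideal.span {t} ^ 1)) (φ a))) = _
    rw [← h1, RingEquiv.symm_apply_apply, Ideal.Quotient.factor_mk]
  rw [RingHom.comap_ker, hg, Ideal.mk_ker]

end Prime

section Scheme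

variable {A A' : Type u} [CommRing A] [CommRing A'] (φ : A →+* A') (t : A)
variable (X : Scheme.{u}) [X.IsQuasiAffine]

/-- the ring map `Γ(X, ⊤) → R` corresponding to `f : Spec R ⟶ X` -/
noncomputable def toHom {R : Type u} [CommRing R] (f : Spec (CommRingCat.of R) ⟶ X) :
    Γ(X, ⊤) →+* R :=
  (Spec.preimage (f ≫ X.toSpecΓ)).hom

theorem spec_toHom {R : Type u} [CommRing R] (f : Spec (CommRingCat.of R) ⟶ X) :
    Spec.map (CommRingCat.ofHom (toHom X f)) = f ≫ X.toSpecΓ := by
  unfold toHom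
  rw [CommRingCat.ofHom_hom, Spec.map_preimage]

theorem toHom_comp {R S : Type u} [CommRing R] [CommRing S] (g : R →+* S)
    (f : Spec (CommRingCat.of R) ⟶ X) :
    toHom X (Spec.map (CommRingCat.ofHom g) ≫ f) = g.comp (toHom X f) := by
  have h : Spec.map (CommRingCat.ofHom (toHom X (Spec.map (CommRingCat.ofHom g) ≫ f))) =
      Spec.map (CommRingCat.ofHom (g.comp (toHom X f))) := by
    rw [spec_toHom, Category.assoc, ← spec_toHom, ← Spec.map_comp, ← CommRingCat.ofHom_comp]
  have h2 := Spec.map_injective h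
  exact congrArg CommRingCat.Hom.hom h2

theorem hom_ext_of_toHom {R : Type u} [CommRing R] {f g : Spec (CommRingCat.of R) ⟶ X}
    (h : toHom X f = toHom X g) : f = g := by
  have : f ≫ X.toSpecΓ = g ≫ X.toSpecΓ := by
    rw [← spec_toHom, ← spec_toHom, h]
  exact (cancel_mono X.toSpecΓ).mp this

/-- uniqueness of glued sections -/
theorem unique_glue
    (htor : ∀ a' : A', (∃ m : ℕ, φ t ^ m * a' = 0) →
      ∃! a : A, (∃ m : ℕ, t ^ m * a = 0) ∧ φ a = a')
    (s₁ s₂ : Spec (CommRingCat.of A) ⟶ X)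
    (h1 : Spec.map (CommRingCat.ofHom φ) ≫ s₁ = Spec.map (CommRingCat.ofHom φ) ≫ s₂)
    (h2 : Spec.map (CommRingCat.ofHom (algebraMap A (Localization.Away t))) ≫ s₁ =
      Spec.map (CommRingCat.ofHom (algebraMap A (Localization.Away t))) ≫ s₂) : s₁ = s₂ := by
  apply hom_ext_of_toHom
  ext b
  apply eq_of φ t htor
  · have := congrArg (fun f => toHom X f b) h1
    simpa only [toHom_comp, RingHom.comp_apply] using this
  · have := congrArg (fun f => toHom X f b) h2
    simpa only [toHom_comp, RingHom.comp_apply] using this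

/-- existence of glued sections (as morphisms to `X`) -/
theorem exists_glue_hom
    (hq : ∀ m : ℕ, Function.Bijective
      (Ideal.quotientMap (Ideal.map φ (Ideal.span {t} ^ m)) φ Ideal.le_comap_map))
    (htor : ∀ a' : A', (∃ m : ℕ, φ t ^ m * a' = 0) →
      ∃! a : A, (∃ m : ℕ, t ^ m * a = 0) ∧ φ a = a')
    (x' : Spec (CommRingCat.of A') ⟶ X) (xt : Spec (CommRingCat.of (Localization.Away t)) ⟶ X)
    (hc : Spec.map (CommRingCat.ofHom (algebraMap A' (Localization.Away (φ t)))) ≫ x' =
      Spec.map (CommRingCat.ofHom (Localization.awayMap φ t)) ≫ xt) :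
    ∃ s : Spec (CommRingCat.of A) ⟶ X,
      Spec.map (CommRingCat.ofHom φ) ≫ s = x' ∧
      Spec.map (CommRingCat.ofHom (algebraMap A (Localization.Away t))) ≫ s = xt := by
  have hcomp : ∀ b : Γ(X, ⊤), algebraMap A' (Localization.Away (φ t)) (toHom X x' b) =
      Localization.awayMap φ t (toHom X xt b) := by
    intro b
    have := congrArg (fun f => toHom X f b) hc
    simpa only [toHom_comp, RingHom.comp_apply] using this
  choose ψ0 hψ1 hψ2 using fun b : Γ(X, ⊤) =>
    exists_glue φ t hq htor (toHom X x' b) (toHom X xt b) (hcomp b)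
  let ψ : Γ(X, ⊤) →+* A :=
    { toFun := ψ0
      map_one' := by
        apply eq_of φ t htor
        · rw [hψ1, map_one, map_one]
        · rw [hψ2, map_one, map_one]
      map_mul' := by
        intro a b
        apply eq_of φ t htor
        · rw [hψ1, map_mul, map_mul, hψ1, hψ1]
        · rw [hψ2, map_mul, map_mul, hψ2, hψ2]
      map_zero' := by
        apply eq_of φ t htor
        · rw [hψ1, map_zero, map_zero]
        · rw [hψ2, map_zero, map_zero]
      map_add' := by
        intro a b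
        apply eq_of φ t htor
        · rw [hψ1, map_add, map_add, hψ1, hψ1]
        · rw [hψ2, map_add, map_add, hψ2, hψ2] }
  have hψφ : φ.comp ψ = toHom X x' := by
    ext b
    exact hψ1 b
  have hψt : (algebraMap A (Localization.Away t)).comp ψ = toHom X xt := by
    ext b
    exact hψ2 b
  have hφ : Spec.map (CommRingCat.ofHom φ) ≫ Spec.map (CommRingCat.ofHom ψ) = x' ≫ X.toSpecΓ := by
    rw [← Spec.map_comp, ← CommRingCat.ofHom_comp, hψφ, spec_toHom]
  have ht : Spec.map (CommRingCat.ofHom (algebraMap A (Localization.Away t))) ≫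
      Spec.map (CommRingCat.ofHom ψ) = xt ≫ X.toSpecΓ := by
    rw [← Spec.map_comp, ← CommRingCat.ofHom_comp, hψt, spec_toHom]
  have hrange : Set.range (Spec.map (CommRingCat.ofHom ψ)) ⊆ Set.range X.toSpecΓ := by
    rintro _ ⟨x, rfl⟩
    by_cases hx : t ∈ x.asIdeal
    · obtain ⟨P', hP', hP'x⟩ := exists_prime_over φ t hq x.asIdeal hx
      let y : Spec (CommRingCat.of A') := ⟨P', hP'⟩
      have hy : Spec.map (CommRingCat.ofHom φ) y = x := by
        rw [Spec.map_apply]
        exact PrimeSpectrum.ext hP'x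
      refine ⟨x' y, ?_⟩
      rw [← hy, ← Scheme.Hom.comp_apply, ← Scheme.Hom.comp_apply, hφ]
    · have hx' : (x : PrimeSpectrum A) ∈ (PrimeSpectrum.basicOpen t : Set (PrimeSpectrum A)) := hx
      rw [← PrimeSpectrum.localization_away_comap_range (Localization.Away t) t] at hx'
      obtain ⟨y, hy⟩ := hx'
      let y' : Spec (CommRingCat.of (Localization.Away t)) := y
      have hy' : Spec.map (CommRingCat.ofHom (algebraMap A (Localization.Away t))) y' = x := hy
      refine ⟨xt y', ?_⟩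
      rw [← hy', ← Scheme.Hom.comp_apply, ← Scheme.Hom.comp_apply, ht]
  refine ⟨IsOpenImmersion.lift X.toSpecΓ (Spec.map (CommRingCat.ofHom ψ)) hrange, ?_, ?_⟩
  · apply (cancel_mono X.toSpecΓ).mp
    rw [Category.assoc, IsOpenImmersion.lift_fac, hφ]
  · apply (cancel_mono X.toSpecΓ).mp
    rw [Category.assoc, IsOpenImmersion.lift_fac, ht]

end Scheme

/-- Beauville–Laszlo gluing for sections of a quasi-affine scheme over `Spec A` -/
theorem main (A A' : Type u) [CommRing A] [CommRing A']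
    (φ : A →+* A') (t : A)
    (hq : ∀ m : ℕ, Function.Bijective (Ideal.quotientMap (Ideal.map φ (Ideal.span {t} ^ m)) φ Ideal.le_comap_map))
    (htor : ∀ a' : A', (∃ m : ℕ, φ t ^ m * a' = 0) → ∃! a : A, (∃ m : ℕ, t ^ m * a = 0) ∧ φ a = a')
    (X : Scheme.{u}) [X.IsQuasiAffine] (p : X ⟶ Spec (CommRingCat.of A)) :
    (∀ s₁ s₂ : Spec (CommRingCat.of A) ⟶ X, s₁ ≫ p = 𝟙 _ → s₂ ≫ p = 𝟙 _ →
        Spec.map (CommRingCat.ofHom φ) ≫ s₁ = Spec.map (CommRingCat.ofHom φ) ≫ s₂ →
        Spec.map (CommRingCat.ofHom (algebraMap A (Localization.Away t))) ≫ s₁ =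
          Spec.map (CommRingCat.ofHom (algebraMap A (Localization.Away t))) ≫ s₂ →
        s₁ = s₂) ∧
    (∀ (x' : Spec (CommRingCat.of A') ⟶ X) (xt : Spec (CommRingCat.of (Localization.Away t)) ⟶ X),
        x' ≫ p = Spec.map (CommRingCat.ofHom φ) →
        xt ≫ p = Spec.map (CommRingCat.ofHom (algebraMap A (Localization.Away t))) →
        Spec.map (CommRingCat.ofHom (algebraMap A' (Localization.Away (φ t)))) ≫ x' =
          Spec.map (CommRingCat.ofHom (Localization.awayMap φ t)) ≫ xt →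
        ∃ s : Spec (CommRingCat.of A) ⟶ X, s ≫ p = 𝟙 _ ∧
          Spec.map (CommRingCat.ofHom φ) ≫ s = x' ∧
          Spec.map (CommRingCat.ofHom (algebraMap A (Localization.Away t))) ≫ s = xt) := by
  refine ⟨fun s₁ s₂ _ _ h1 h2 => unique_glue φ t X htor s₁ s₂ h1 h2, ?_⟩
  intro x' xt hx' hxt hc
  obtain ⟨s, hs1, hs2⟩ := exists_glue_hom φ t X hq htor x' xt hc
  refine ⟨s, ?_, hs1, hs2⟩
  apply unique_glue φ t (Spec (CommRingCat.of A)) htor
  · rw [← Category.assoc, hs1, hx', Category.comp_id]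
  · rw [← Category.assoc, hs2, hxt, Category.comp_id]

end Groth.Agent.Lib.Helper59.BLQA
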