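import Mathlib
import Groth.Agent.Lib.Helper59.BrauerCalc
import Groth.Agent.Lib.Helper59.PeriodIndex
import Groth.Agent.Lib.Helper86.CSADescent

/-!
# Base change of central simple algebras, tensor powers and splittings
-/

set_option autoImplicit false
set_option linter.style.haveILetI false
set_option linter.unusedSectionVars false

namespace Groth.Agent.Lib.Helper59.BaseChange

open TensorProduct Groth.Agent.Lib.Helper59.TPow Groth.Agent.Lib.Helper59.BrauerCalc

universe u v w w'

section Cancel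

variable {k : Type u} [Field k] (F : Type w) [Field F] [Algebra k F]
  (L : Type w') [Field L] [Algebra k L] [Algebra F L] [IsScalarTower k F L]
  {D : Type v} [Ring D] [Algebra k D]

/-- `L ⊗[k] D ≅ L ⊗[F] (F ⊗[k] D)` for a central simple `k`-algebra `D` and `k ⊆ F ⊆ L`. -/
theorem nonempty_cancelBaseChange (hD : IsCSA k D) :
    Nonempty ((L ⊗[k] D) ≃ₐ[L] (L ⊗[F] (F ⊗[k] D))) := by
  let g : D →ₐ[k] L ⊗[F] (F ⊗[k] D) :=
    ((Algebra.TensorProduct.includeRight : (F ⊗[k] D) →ₐ[F] L ⊗[F] (F ⊗[k] D)).restrictScalars k).comp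
      (Algebra.TensorProduct.includeRight : D →ₐ[k] F ⊗[k] D)
  have hg : ∀ y, g y = (1 : L) ⊗ₜ[F] ((1 : F) ⊗ₜ[k] y) := fun _ => rfl
  let G : L ⊗[k] D →ₐ[L] L ⊗[F] (F ⊗[k] D) :=
    Algebra.TensorProduct.lift (Algebra.TensorProduct.includeLeft) g (by
      intro x y
      rw [hg]
      unfold Commute SemiconjBy
      simp)
  have h1 := hD.baseChange L
  have h2 := (hD.baseChange F).baseChange L
  haveI := h1.simple
  haveI := h1.fd
  haveI := h2.simple
  haveI := h2.fd
  haveI := hD.fd
  refine ⟨AlgEquiv.ofBijective G (bijective_of_isSimple_of_finrank_eq G ?_)⟩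
  rw [Module.finrank_baseChange, Module.finrank_baseChange, Module.finrank_baseChange]

/-- If `L` splits `D` over `k` then `L` splits `F ⊗[k] D` over `F`. -/
theorem splits_baseChange (hD : IsCSA k D) (h : Curves.Splits k D L) :
    Curves.Splits F (F ⊗[k] D) L := by
  obtain ⟨n, hn, ⟨φ⟩⟩ := h
  obtain ⟨e⟩ := nonempty_cancelBaseChange F L hD
  exact ⟨n, hn, ⟨e.symm.trans φ⟩⟩

/-- If `L` splits `F ⊗[k] D` over `F` then `L` splits `D` over `k`. -/
theorem splits_of_splits_baseChange (hD : IsCSA k D) (h : Curves.Splits F (F ⊗[k] D) L) :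
    Curves.Splits k D L := by
  obtain ⟨n, hn, ⟨φ⟩⟩ := h
  obtain ⟨e⟩ := nonempty_cancelBaseChange F L hD
  exact ⟨n, hn, ⟨e.trans φ⟩⟩

end Cancel

section TPow

variable {k : Type u} [Field k] (F : Type w) [Field F] [Algebra k F]
  {D : Type v} [Ring D] [Algebra k D]

/-- Base change commutes with tensor powers. -/
theorem nonempty_baseChange_tpow (hD : IsCSA k D) (e : ℕ) :
    Nonempty ((F ⊗[k] (⨂[k] _ : Fin e, D)) ≃ₐ[F] ⨂[F] _ : Fin e, (F ⊗[k] D)) := by
  let g : (⨂[k] _ : Fin e, D) →ₐ[k] ⨂[F] _ : Fin e, (F ⊗[k] D) :=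
    PiTensorProduct.liftAlgHom
      (((PiTensorProduct.tprod F (s := fun _ : Fin e => F ⊗[k] D)).restrictScalars k).compLinearMap
        (fun _ : Fin e => (Algebra.TensorProduct.includeRight : D →ₐ[k] F ⊗[k] D).toLinearMap))
      (by
        simp only [MultilinearMap.compLinearMap_apply, MultilinearMap.coe_restrictScalars,
          AlgHom.toLinearMap_apply, Pi.one_apply, map_one]
        rfl)
      (by
        intro x y
        simp only [MultilinearMap.compLinearMap_apply, MultilinearMap.coe_restrictScalars,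
          AlgHom.toLinearMap_apply, Pi.mul_apply, map_mul, PiTensorProduct.tprod_mul_tprod]
        rfl)
  let G : F ⊗[k] (⨂[k] _ : Fin e, D) →ₐ[F] ⨂[F] _ : Fin e, (F ⊗[k] D) :=
    Algebra.TensorProduct.lift (Algebra.ofId F _) g (fun x y => Algebra.commutes _ _)
  have h1 := (hD.tpow e).baseChange F
  have h2 := (hD.baseChange F).tpow e
  haveI := h1.simple
  haveI := h1.fd
  haveI := h2.simple
  haveI := h2.fd
  haveI := hD.fd
  haveI := (hD.baseChange F).fd
  refine ⟨AlgEquiv.ofBijective G (bijective_of_isSimple_of_finrank_eq G ?_)⟩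
  rw [Module.finrank_baseChange, finrank_tpow, finrank_tpow, Module.finrank_baseChange]

/-- Base change of a split algebra is split. -/
theorem isSplit_baseChange {B : Type v} [Ring B] [Algebra k B] (h : IsSplit k B) :
    IsSplit F (F ⊗[k] B) := by
  obtain ⟨n, hn, ⟨f⟩⟩ := h
  exact ⟨n, hn, ⟨(Algebra.TensorProduct.congr (AlgEquiv.refl : F ≃ₐ[F] F) f).trans
    (Groth.Agent.Lib.Helper86.CSADescent.matrixBaseChange k F (Fin n))⟩⟩

theorem mem_splitExp_baseChange (hD : IsCSA k D) {e : ℕ} (h : e ∈ splitExp k D) :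
    e ∈ splitExp F (F ⊗[k] D) := by
  obtain ⟨g⟩ := nonempty_baseChange_tpow F hD e
  exact (isSplit_baseChange F h).of_algEquiv g

end TPow

section Matrix

variable {k : Type u} [Field k] (K : Type w) [Field K] [Algebra k K]
  {D : Type v} [Ring D] [Algebra k D]

/-- `K ⊗ M_m(D) ≅ M_m(K ⊗ D)`. -/
theorem nonempty_baseChange_matrix (m : ℕ) [NeZero m] (hD : IsCSA k D) :
    Nonempty ((K ⊗[k] Matrix (Fin m) (Fin m) D) ≃ₐ[K] Matrix (Fin m) (Fin m) (K ⊗[k] D)) := by
  let g : Matrix (Fin m) (Fin m) D →ₐ[k] Matrix (Fin m) (Fin m) (K ⊗[k] D) :=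
    (Algebra.TensorProduct.includeRight : D →ₐ[k] K ⊗[k] D).mapMatrix
  let G : K ⊗[k] Matrix (Fin m) (Fin m) D →ₐ[K] Matrix (Fin m) (Fin m) (K ⊗[k] D) :=
    Algebra.TensorProduct.lift (Algebra.ofId K _) g (fun x y => Algebra.commutes _ _)
  have hMD : IsCSA k (Matrix (Fin m) (Fin m) D) :=
    (hD.tensor (IsCSA.matrix (k := k) m)).of_algEquiv (tensorMatrix (k := k) m D)
  have h1 := hMD.baseChange K
  haveI := h1.simple
  haveI := h1.fd
  haveI := hD.fd
  haveI := (hD.baseChange K).fd
  haveI := (hD.baseChange K).simple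
  refine ⟨AlgEquiv.ofBijective G (bijective_of_isSimple_of_finrank_eq G ?_)⟩
  rw [Module.finrank_baseChange, Module.finrank_matrix, Module.finrank_matrix,
    Module.finrank_baseChange]

end Matrix

section IndexBC

variable {k : Type u} [Field k] {A : Type v} [Ring A] [Algebra k A]

/-- Behaviour of the index under a finite extension: `d' ∣ d` and `d ∣ [K:k] d'`. -/
theorem index_baseChange (hA : IsCSA k A) {D : Type v} [DivisionRing D] [Algebra k D]
    [FiniteDimensional k D] {m : ℕ} (iso : A ≃ₐ[k] Matrix (Fin m) (Fin m) D) {d : ℕ}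
    (hd : Module.finrank k D = d ^ 2)
    (K : Type w) [Field K] [Algebra k K] [FiniteDimensional k K]
    {D' : Type w'} [DivisionRing D'] [Algebra K D'] [FiniteDimensional K D'] {m' : ℕ}
    (iso' : (K ⊗[k] A) ≃ₐ[K] Matrix (Fin m') (Fin m') D') {d' : ℕ}
    (hd' : Module.finrank K D' = d' ^ 2) : d' ∣ d ∧ d ∣ Module.finrank k K * d' := by
  classical
  haveI := hA.fd
  obtain ⟨hm, hD⟩ := Groth.Agent.Lib.Helper59.PeriodIndex.isCSA_of_matrix_algEquiv hA iso
  obtain ⟨hm', hD'⟩ :=
    Groth.Agent.Lib.Helper59.PeriodIndex.isCSA_of_matrix_algEquiv (hA.baseChange K) iso'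
  haveI : NeZero m := ⟨hm⟩
  haveI : NeZero m' := ⟨hm'⟩
  have hm0 : 0 < m := Nat.pos_of_ne_zero hm
  have hm'0 : 0 < m' := Nat.pos_of_ne_zero hm'
  have hd0 : 0 < d := by
    rcases Nat.eq_zero_or_pos d with h | h
    · rw [h] at hd
      have : 0 < Module.finrank k D := Module.finrank_pos
      omega
    · exact h
  have hd'0 : 0 < d' := by
    rcases Nat.eq_zero_or_pos d' with h | h
    · rw [h] at hd'
      have : 0 < Module.finrank K D' := Module.finrank_pos
      omega
    · exact h
  -- `m d = m' d'`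
  have hmd : m * d = m' * d' := by
    have h1 : Module.finrank K (K ⊗[k] A) = Module.finrank k A := Module.finrank_baseChange
    have h2 := iso'.toLinearEquiv.finrank_eq
    rw [finrank_matrix_fin, hd', h1, iso.toLinearEquiv.finrank_eq, finrank_matrix_fin, hd] at h2
    have h3 : (m * d) ^ 2 = (m' * d') ^ 2 := by nlinarith
    exact Nat.pow_left_injective (by norm_num : 2 ≠ 0) h3
  constructor
  · -- `d' ∣ d`
    obtain ⟨j, hj, D'', _, _, _, ⟨f⟩⟩ := exists_matrix_of_isCSA (hD.baseChange K)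
    obtain ⟨-, hD''⟩ :=
      Groth.Agent.Lib.Helper59.PeriodIndex.isCSA_of_matrix_algEquiv (hD.baseChange K) f
    obtain ⟨d'', hd''0, hd''⟩ := Groth.Agent.Lib.Helper59.PeriodIndex.exists_finrank_eq_sq hD''
    have hjd : d = j * d'' := by
      have h1 : Module.finrank K (K ⊗[k] D) = Module.finrank k D := Module.finrank_baseChange
      have h2 := f.toLinearEquiv.finrank_eq
      rw [finrank_matrix_fin, hd'', h1, hd] at h2
      have h3 : d ^ 2 = (j * d'') ^ 2 := by nlinarith
      exact Nat.pow_left_injective (by norm_num : 2 ≠ 0) h3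
    obtain ⟨g⟩ := nonempty_baseChange_matrix K m hD
    haveI : NeZero (m * j) := ⟨Nat.mul_ne_zero hm (NeZero.ne j)⟩
    let chain : Matrix (Fin (m * j)) (Fin (m * j)) D'' ≃ₐ[K] Matrix (Fin m') (Fin m') D' :=
      (matrixMatrix (k := K) m j D'').symm.trans ((AlgEquiv.mapMatrix f.symm).trans (g.symm.trans
        ((Algebra.TensorProduct.congr (AlgEquiv.refl : K ≃ₐ[K] K) iso.symm).trans iso')))
    have hfr := (eq_and_finrank_eq_of_matrix_algEquiv K chain).2
    rw [hd'', hd'] at hfr
    have : d'' = d' := Nat.pow_left_injective (by norm_num : 2 ≠ 0) hfr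
    rw [hjd, this]
    exact Dvd.intro_left j rfl
  · -- `d ∣ [K:k] d'`
    let ρ : A →+* Matrix (Fin m') (Fin m') D' :=
      iso'.toRingEquiv.toRingHom.comp
        (Algebra.TensorProduct.includeRight : A →ₐ[k] K ⊗[k] A).toRingHom
    have hρ : ∀ x, ρ x = iso' ((1 : K) ⊗ₜ[k] x) := fun _ => rfl
    letI : Module k (Fin m' → D') := Module.compHom _ (algebraMap k K)
    have hksmul : ∀ (c : k) (v : Fin m' → D'), c • v = algebraMap k K c • v := fun _ _ => rfl
    haveI : IsScalarTower k K (Fin m' → D') := ⟨fun c x v => by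
      rw [hksmul, Algebra.smul_def c x, mul_smul]⟩
    letI : Module A (Fin m' → D') := Module.compHom _ ρ
    have hsmul : ∀ (x : A) (v : Fin m' → D'), x • v = Matrix.mulVec (ρ x) v := fun _ _ => rfl
    haveI : IsScalarTower k A (Fin m' → D') := by
      refine ⟨fun c x v => ?_⟩
      rw [hsmul, hsmul, hksmul, hρ, hρ]
      have : (1 : K) ⊗ₜ[k] (c • x) = (algebraMap k K c) • ((1 : K) ⊗ₜ[k] x) := by
        rw [TensorProduct.smul_tmul', smul_eq_mul, mul_one, TensorProduct.tmul_smul,
          TensorProduct.smul_tmul', Algebra.smul_def, mul_one]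
      rw [this, map_smul, Matrix.smul_mulVec]
    haveI : FiniteDimensional k (Fin m' → D') := Module.Finite.trans K _
    have hdvd := dvd_finrank_of_algEquiv_matrix k iso (Fin m' → D')
    rw [← Module.finrank_mul_finrank k K (Fin m' → D'), Module.finrank_pi_fintype] at hdvd
    simp only [Finset.sum_const, Finset.card_univ, Fintype.card_fin, smul_eq_mul] at hdvd
    rw [hd, hd'] at hdvd
    obtain ⟨q, hq⟩ := hdvd
    refine ⟨q, ?_⟩
    have h1 : m * d * (Module.finrank k K * d') = m * d * (d * q) := by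
      calc m * d * (Module.finrank k K * d') = Module.finrank k K * (m' * d' ^ 2) := by
            rw [hmd]; ring
        _ = m * d ^ 2 * q := hq
        _ = m * d * (d * q) := by ring
    exact Nat.eq_of_mul_eq_mul_left (Nat.mul_pos hm0 hd0) h1

end IndexBC

end Groth.Agent.Lib.Helper59.BaseChange
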