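import Groth.Agent.Lib.Helper59.CHThm

/-!
# Consequences of Cayley–Hamilton for multiplicative laws

* `chi_of_mem_ker` : for `b ∈ ker F` the characteristic polynomial is `(-X)^d`.
* `chi_precomp` : the characteristic polynomial of `F ∘ φ` at `b'` is that of `F` at `φ b'`.
* `chi_coeff_of_lt`, `chi_coeff_d` : `χ_b` has degree at most `d` and `X^d`-coefficient `(-1)^d`.
* `exists_monic` : every `b` is a root modulo `ker F` of a monic polynomial of degree `d`.
-/

set_option autoImplicit false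

namespace Groth.Agent.Lib.Helper59.CHCons

open scoped TensorProduct
open PolLaw Polynomial Groth.Agent.Lib.Helper59.KerPoly Groth.Agent.Lib.Helper59.CHCore
  Groth.Agent.Lib.Helper59.CHThm

universe u

section Poly

variable {A : Type u} [CommRing A] (κ : Type u) (d : ℕ)

/-- `A[X] ⊗ Ω → Ω[X]` -/
noncomputable def theta :
    A[X] ⊗[A] MvPolynomial (Fin d × κ) A →ₐ[A] (MvPolynomial (Fin d × κ) A)[X] :=
  Algebra.TensorProduct.lift (Polynomial.mapAlgHom (Algebra.ofId A (MvPolynomial (Fin d × κ) A)))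
    (Polynomial.CAlgHom) (fun _ _ => Commute.all _ _)

theorem theta_tmul (p : A[X]) (ω : MvPolynomial (Fin d × κ) A) :
    theta (A := A) κ d (p ⊗ₜ[A] ω) =
      Polynomial.map (algebraMap A (MvPolynomial (Fin d × κ) A)) p * C ω := by
  simp [theta, Algebra.ofId]

theorem coeff_theta (u : A[X] ⊗[A] MvPolynomial (Fin d × κ) A) (k : ℕ) :
    (theta (A := A) κ d u).coeff k = lamT ((Polynomial.basisMonomials A).coord k) u := by
  induction u using TensorProduct.induction_on with
  | zero => simp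
  | tmul p ω =>
      rw [theta_tmul, Polynomial.coeff_mul_C, Polynomial.coeff_map, lamT_tmul, Algebra.smul_def]
      rfl
  | add x y hx hy => rw [map_add, Polynomial.coeff_add, hx, hy, map_add]

theorem theta_Qt (t : MvPolynomial κ A) :
    theta (A := A) κ d (Qt κ d t) = ∏ j : Fin d, (C (iot κ d j t) - X) := by
  rw [Qt, NN, map_prod]
  refine Finset.prod_congr rfl fun j _ => ?_
  rw [map_sub, Algebra.TensorProduct.map_tmul, Algebra.TensorProduct.map_tmul, map_sub, theta_tmul,
    theta_tmul]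
  simp

theorem Ek_eq (t : MvPolynomial κ A) (k : ℕ) :
    Ek κ d t k = (∏ j : Fin d, (C (iot κ d j t) - X)).coeff k := by
  rw [← theta_Qt, coeff_theta]
  rfl

theorem prod_eq (t : MvPolynomial κ A) :
    (∏ j : Fin d, (C (iot κ d j t) - X) : (MvPolynomial (Fin d × κ) A)[X]) =
      C ((-1) ^ d) * ∏ j : Fin d, (X - C (iot κ d j t)) := by
  have h : ∀ j : Fin d, (C (iot κ d j t) - X : (MvPolynomial (Fin d × κ) A)[X]) =
      (-1) * (X - C (iot κ d j t)) := fun j => by ring
  simp only [h]
  rw [Finset.prod_mul_distrib, Finset.prod_const, Finset.card_univ, Fintype.card_fin]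
  simp

theorem natDegree_prod_le (t : MvPolynomial κ A) :
    (∏ j : Fin d, (X - C (iot κ d j t)) : (MvPolynomial (Fin d × κ) A)[X]).natDegree ≤ d := by
  refine (Polynomial.natDegree_prod_le _ _).trans ?_
  refine (Finset.sum_le_sum fun j _ => Polynomial.natDegree_X_sub_C_le _).trans ?_
  simp

theorem Ek_of_lt (t : MvPolynomial κ A) (k : ℕ) (h : d < k) : Ek κ d t k = 0 := by
  rw [Ek_eq, prod_eq, Polynomial.coeff_C_mul,
    Polynomial.coeff_eq_zero_of_natDegree_lt ((natDegree_prod_le κ d t).trans_lt h), mul_zero]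

theorem Ek_d (t : MvPolynomial κ A) : Ek κ d t d = (-1) ^ d := by
  rw [Ek_eq, prod_eq, Polynomial.coeff_C_mul]
  rcases subsingleton_or_nontrivial (MvPolynomial (Fin d × κ) A) with h | h
  · exact Subsingleton.elim _ _
  · have hm : (∏ j : Fin d, (X - C (iot κ d j t)) : (MvPolynomial (Fin d × κ) A)[X]).Monic :=
      Polynomial.monic_prod_X_sub_C _ _
    have hd : (∏ j : Fin d, (X - C (iot κ d j t)) : (MvPolynomial (Fin d × κ) A)[X]).natDegree = d := by
      rw [Polynomial.natDegree_finsetProd_X_sub_C_eq_card, Finset.card_univ, Fintype.card_fin]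
    have := hm.coeff_natDegree
    rw [hd] at this
    rw [this, mul_one]

variable (F : MvPolynomial κ A →ₚₗ[A] A)

theorem chi_coeff (hF : IsHomog F d) (t : MvPolynomial κ A) (k : ℕ) :
    (val F A[X] ((1 : A[X]) ⊗ₜ[A] t - (X : A[X]) ⊗ₜ[A] (1 : MvPolynomial κ A))).coeff k =
      flin κ d F (Ek κ d t k) := by
  rw [val_eq_fS κ d F hF, Ek, f_lamT]
  rfl

end Poly

section General

variable {A : Type u} [CommRing A] {B : Type u} [CommRing B] [Algebra A B] {d : ℕ}

/-- the characteristic polynomial of `b` with respect to `F` -/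
noncomputable def chi (F : MulLaw A B A d) (b : B) : A[X] :=
  val F.law A[X] ((1 : A[X]) ⊗ₜ[A] b - (X : A[X]) ⊗ₜ[A] (1 : B))

theorem chi_def (F : MulLaw A B A d) (b : B) :
    chi F b = TensorProduct.rid A A[X]
      (F.law.toFun' A[X] ((1 : A[X]) ⊗ₜ[A] b - (X : A[X]) ⊗ₜ[A] (1 : B))) := rfl

theorem chi_precomp {B' : Type u} [CommRing B'] [Algebra A B'] (F : MulLaw A B A d)
    (φ : B' →ₐ[A] B) (b' : B') : chi (F.precomp φ) b' = chi F (φ b') := by
  unfold chi val
  rw [precomp_toFun', map_sub, Algebra.TensorProduct.map_tmul, Algebra.TensorProduct.map_tmul,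
    map_one, map_one, AlgHom.coe_id, id_eq]

theorem chi_of_mem_ker (F : MulLaw A B A d) {b : B} (hb : b ∈ PolLaw.ker F.law) :
    chi F b = (-X) ^ d := by
  have h2 : ((1 : A[X]) ⊗ₜ[A] b - (X : A[X]) ⊗ₜ[A] (1 : B)) =
      (-X : A[X]) • (1 : A[X] ⊗[A] B) + 1 * ((1 : A[X]) ⊗ₜ[A] b) := by
    rw [one_mul, Algebra.TensorProduct.one_def, TensorProduct.smul_tmul', smul_eq_mul, mul_one,
      TensorProduct.neg_tmul]
    abel
  unfold chi val
  rw [h2, hb A[X], F.homog, (F.mult A[X]).1, rid_smul, rid_one, mul_one]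

theorem aeval_chi_mem (F : MulLaw A B A d) (b : B) :
    Polynomial.aeval b (chi F b) ∈ PolLaw.ker F.law := CH F b

theorem chi_coeff_of_lt (F : MulLaw A B A d) (b : B) (k : ℕ) (h : d < k) :
    (chi F b).coeff k = 0 := by
  let π : MvPolynomial B A →ₐ[A] B := MvPolynomial.aeval id
  have hb : π (MvPolynomial.X b) = b := by simp [π]
  rw [← hb, ← chi_precomp]
  show (val (F.precomp π).law A[X] _).coeff k = 0
  rw [chi_coeff B d _ (F.precomp π).homog, Ek_of_lt B d _ k h, map_zero]

theorem chi_coeff_d (F : MulLaw A B A d) (b : B) : (chi F b).coeff d = (-1) ^ d := by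
  let π : MvPolynomial B A →ₐ[A] B := MvPolynomial.aeval id
  have hb : π (MvPolynomial.X b) = b := by simp [π]
  rw [← hb, ← chi_precomp]
  show (val (F.precomp π).law A[X] _).coeff d = _
  rw [chi_coeff B d _ (F.precomp π).homog, Ek_d B d]
  have h1 : ((-1 : MvPolynomial (Fin d × B) A) ^ d) = ((-1 : A) ^ d) • 1 := by
    rw [Algebra.smul_def, mul_one, map_pow, map_neg, map_one]
  rw [h1, map_smul, flin_one B d _ (F.precomp π).homog (F.precomp π).mult, smul_eq_mul, mul_one]

theorem natDegree_chi_le (F : MulLaw A B A d) (b : B) : (chi F b).natDegree ≤ d := by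
  rw [Polynomial.natDegree_le_iff_coeff_eq_zero]
  exact fun k hk => chi_coeff_of_lt F b k hk

/-- every element is, modulo `ker F`, a root of a monic polynomial of degree at most `d` -/
theorem exists_monic (F : MulLaw A B A d) (b : B) :
    ∃ p : A[X], p.Monic ∧ p.natDegree ≤ d ∧ Polynomial.aeval b p ∈ PolLaw.ker F.law := by
  refine ⟨C ((-1) ^ d) * chi F b, ?_, ?_, ?_⟩
  · apply Polynomial.monic_of_natDegree_le_of_coeff_eq_one d
    · exact (Polynomial.natDegree_C_mul_le _ _).trans (natDegree_chi_le F b)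
    · rw [Polynomial.coeff_C_mul, chi_coeff_d, ← mul_pow]
      simp
  · exact (Polynomial.natDegree_C_mul_le _ _).trans (natDegree_chi_le F b)
  · rw [map_mul]
    exact Ideal.mul_mem_left _ _ (aeval_chi_mem F b)

theorem pow_mem_ker (F : MulLaw A B A d) (b : B) (h : chi F b = (-X) ^ d) :
    b ^ d ∈ PolLaw.ker F.law := by
  have h3 := aeval_chi_mem F b
  rw [h, map_pow, map_neg, Polynomial.aeval_X, neg_pow] at h3
  have h4 := Ideal.mul_mem_left _ ((-1 : B) ^ d) h3
  rw [← mul_assoc, ← mul_pow, neg_one_mul, neg_neg, one_pow, one_mul] at h4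
  exact h4

end General

end Groth.Agent.Lib.Helper59.CHCons
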