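import Groth.Prelude.Def_PolLaw2
import Mathlib

/-!
# The kernel of a polynomial law and base change to the polynomial ring

`map_ker_le_kerBC` : the extension of `ker F` lies in `kerBC F A'`.
`mem_kerBC_of_X_mul_mem` : if `(X ⊗ 1) * u ∈ kerBC F A[X]` then `u ∈ kerBC F A[X]` (scaling trick).
`kerBC_polynomial` : `kerBC F A[X]` is the extension of `ker F`.
-/

set_option autoImplicit false

namespace Groth.Agent.Lib.Helper59.KerPoly

open scoped TensorProduct
open PolLaw Polynomial

universe u

section General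

variable {A : Type u} [CommRing A] {B C : Type u} [CommRing B] [Algebra A B] [CommRing C] [Algebra A C]

theorem compat_apply (F : B →ₚₗ[A] C) {S S' : Type u} [CommSemiring S] [Algebra A S]
    [CommSemiring S'] [Algebra A S'] (ψ : S →ₐ[A] S') (z : S ⊗[A] B) :
    ψ.toLinearMap.rTensor C (F.toFun' S z) =
      F.toFun' S' (Algebra.TensorProduct.map ψ (AlgHom.id A B) z) := by
  have h := congrFun (F.isCompat' ψ) z
  simp only [Function.comp_apply] at h
  rw [h, rTensor_algHom_apply]

theorem map_ker_le_kerBC (F : B →ₚₗ[A] C) (A' : Type u) [CommRing A'] [Algebra A A'] :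
    (PolLaw.ker F).map (Algebra.TensorProduct.includeRight : B →ₐ[A] A' ⊗[A] B) ≤
      PolLaw.kerBC F A' := by
  rw [Ideal.map_le_iff_le_comap]
  intro b hb
  rw [Ideal.mem_comap]
  intro R _ _ _ _ x w
  have h1 : Algebra.TensorProduct.map (IsScalarTower.toAlgHom A A' R) (AlgHom.id A B)
      ((Algebra.TensorProduct.includeRight : B →ₐ[A] A' ⊗[A] B) b) = (1 : R) ⊗ₜ[A] b := by
    rw [Algebra.TensorProduct.includeRight_apply, Algebra.TensorProduct.map_tmul, map_one,
      AlgHom.id_apply]
  rw [h1]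
  exact hb R x w

end General


section Poly

variable {A : Type u} [CommRing A] {B : Type u} [CommRing B] [Algebra A B]

theorem map_map {S S' S'' : Type u} [CommSemiring S] [Algebra A S] [CommSemiring S'] [Algebra A S']
    [CommSemiring S''] [Algebra A S''] (f : S →ₐ[A] S') (g : S' →ₐ[A] S'') (x : S ⊗[A] B) :
    Algebra.TensorProduct.map g (AlgHom.id A B) (Algebra.TensorProduct.map f (AlgHom.id A B) x) =
      Algebra.TensorProduct.map (g.comp f) (AlgHom.id A B) x := by
  induction x using TensorProduct.induction_on with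
  | zero => simp
  | tmul s b => simp
  | add x y hx hy => simp only [map_add, hx, hy]

theorem rid_rTensor' {S S' : Type u} [CommSemiring S] [Algebra A S] [CommSemiring S'] [Algebra A S']
    (ψ : S →ₐ[A] S') (y : S ⊗[A] A) :
    TensorProduct.rid A S' (ψ.toLinearMap.rTensor A y) = ψ (TensorProduct.rid A S y) := by
  induction y using TensorProduct.induction_on with
  | zero => simp
  | tmul s a => simp
  | add x y hx hy => simp only [map_add, hx, hy]

/-- the value of a law `B → A` on `x : S ⊗ B`, as an element of `S` -/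
noncomputable def val (F : B →ₚₗ[A] A) (S : Type u) [CommSemiring S] [Algebra A S] (x : S ⊗[A] B) : S :=
  TensorProduct.rid A S (F.toFun' S x)

theorem val_map (F : B →ₚₗ[A] A) {S S' : Type u} [CommSemiring S] [Algebra A S]
    [CommSemiring S'] [Algebra A S'] (ψ : S →ₐ[A] S') (x : S ⊗[A] B) :
    val F S' (Algebra.TensorProduct.map ψ (AlgHom.id A B) x) = ψ (val F S x) := by
  unfold val
  rw [← compat_apply, rid_rTensor']

theorem toFun'_eq_of_val_eq (F : B →ₚₗ[A] A) {S : Type u} [CommSemiring S] [Algebra A S]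
    {x y : S ⊗[A] B} (h : val F S x = val F S y) : F.toFun' S x = F.toFun' S y :=
  (TensorProduct.rid A S).injective h

/-- scaling trick: `X * u ∈ kerBC` implies `u ∈ kerBC` over the polynomial ring. -/
theorem mem_kerBC_of_X_mul_mem (F : B →ₚₗ[A] A) (u : A[X] ⊗[A] B)
    (h : ((X : A[X]) ⊗ₜ[A] (1 : B)) * u ∈ PolLaw.kerBC F A[X]) : u ∈ PolLaw.kerBC F A[X] := by
  intro R _ _ _ _ x w
  let K := Polynomial R
  let Q := Polynomial K
  let θa : A[X] →ₐ[A] Q := Polynomial.aeval (C (X : K) : Q)
  let ι : R →ₐ[A] Q := IsScalarTower.toAlgHom A R Q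
  let σK : Q →ₐ[K] Q := Polynomial.aeval (C (X : K) * (X : Q))
  let σ : Q →ₐ[A] Q := σK.restrictScalars A
  let r : R := algebraMap A[X] R X
  let ρ₁ : Q →ₐ[K] K := Polynomial.aeval (1 : K)
  let ρ₂ : K →ₐ[R] R := Polynomial.aeval r
  let ρ : Q →ₐ[A] R := (ρ₂.restrictScalars A).comp (ρ₁.restrictScalars A)
  -- compositions
  have hσι : σ.comp ι = ι := by
    refine AlgHom.ext fun a => ?_
    show σK (algebraMap R Q a) = algebraMap R Q a
    have : algebraMap R Q a = algebraMap K Q (algebraMap R K a) := rfl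
    rw [this, AlgHom.commutes]
  have hσθ : σ.comp θa = θa := by
    apply Polynomial.algHom_ext
    show σK (θa X) = θa X
    have : θa X = algebraMap K Q X := by
      show Polynomial.aeval (C (X : K) : Q) (X : A[X]) = _
      rw [Polynomial.aeval_X]
      exact Polynomial.C_eq_algebraMap _
    rw [this, AlgHom.commutes]
  have hσX : σ (X : Q) = C (X : K) * (X : Q) := by
    show Polynomial.aeval (C (X : K) * (X : Q)) (X : Q) = _
    exact Polynomial.aeval_X _
  have hρι : ρ.comp ι = AlgHom.id A R := by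
    refine AlgHom.ext fun a => ?_
    show ρ₂ (ρ₁ (algebraMap R Q a)) = a
    have : algebraMap R Q a = algebraMap K Q (algebraMap R K a) := rfl
    rw [this, AlgHom.commutes]
    show ρ₂ (algebraMap R K a) = a
    rw [AlgHom.commutes]
    rfl
  have hρθ : ρ.comp θa = IsScalarTower.toAlgHom A A[X] R := by
    apply Polynomial.algHom_ext
    show ρ₂ (ρ₁ (Polynomial.aeval (C (X : K) : Q) (X : A[X]))) = algebraMap A[X] R X
    rw [Polynomial.aeval_X]
    show ρ₂ (Polynomial.aeval (1 : K) (C (X : K) : Q)) = _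
    rw [Polynomial.aeval_C]
    show Polynomial.aeval r (X : K) = _
    rw [Polynomial.aeval_X]
  have hρX : ρ (X : Q) = 1 := by
    show ρ₂ (Polynomial.aeval (1 : K) (X : Q)) = 1
    rw [Polynomial.aeval_X, map_one]
  -- the P-algebra structure on Q
  let algPQ : Algebra A[X] Q := θa.toRingHom.toAlgebra
  have : IsScalarTower A A[X] Q := IsScalarTower.of_algebraMap_eq (fun a => by
    show algebraMap A Q a = θa (algebraMap A A[X] a)
    rw [AlgHom.commutes])
  have hθ : IsScalarTower.toAlgHom A A[X] Q = θa := by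
    ext
    rfl
  -- the elements
  set x' : Q ⊗[A] B := Algebra.TensorProduct.map ι (AlgHom.id A B) x with hx'
  set w' : Q ⊗[A] B := Algebra.TensorProduct.map ι (AlgHom.id A B) w with hw'
  set uQ : Q ⊗[A] B := Algebra.TensorProduct.map θa (AlgHom.id A B) u with huQ
  set e : Q ⊗[A] B := x' + ((X : Q) ⊗ₜ[A] (1 : B)) * w' * uQ with he
  have hσe : Algebra.TensorProduct.map σ (AlgHom.id A B) e =
      x' + (((X : Q) ⊗ₜ[A] (1 : B)) * w') *
        Algebra.TensorProduct.map θa (AlgHom.id A B) (((X : A[X]) ⊗ₜ[A] (1 : B)) * u) := by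
    rw [he, map_add, map_mul, map_mul, hx', hw', huQ, map_map, map_map, map_map, hσι, hσθ,
      Algebra.TensorProduct.map_tmul, hσX, map_mul, Algebra.TensorProduct.map_tmul]
    have h1 : θa X = C (X : K) := Polynomial.aeval_X _
    rw [h1, AlgHom.id_apply]
    have h2 : ((C (X : K) * (X : Q)) ⊗ₜ[A] (1 : B) : Q ⊗[A] B) =
        ((C (X : K) : Q) ⊗ₜ[A] (1 : B)) * ((X : Q) ⊗ₜ[A] (1 : B)) := by
      rw [Algebra.TensorProduct.tmul_mul_tmul, mul_one]
    rw [h2]
    ring
  have hk := h Q x' (((X : Q) ⊗ₜ[A] (1 : B)) * w')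
  rw [hθ, ← hσe] at hk
  -- polynomial identity
  set G : Q := val F Q e with hG
  set g : R := val F R x with hg
  have hGσ : σ G = ι g := by
    rw [hG, ← val_map, hg, ← val_map]
    unfold val
    rw [hk]
  have hcomp : G.comp (C (X : K) * (X : Q)) = C (C g) := by
    rw [Polynomial.comp_eq_aeval]
    exact hGσ
  have hcoeff : ∀ m : ℕ, G.coeff m * (X : K) ^ m = (C (C g) : Q).coeff m := by
    intro m
    rw [← hcomp, Polynomial.comp_C_mul_X_coeff]
  have hG0 : G = C (C g) := by
    ext1 m
    rcases Nat.eq_zero_or_pos m with rfl | hm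
    · have := hcoeff 0
      rw [pow_zero, mul_one] at this
      exact this
    · have h1 := hcoeff m
      rw [Polynomial.coeff_C, if_neg (Nat.pos_iff_ne_zero.mp hm)] at h1
      rw [Polynomial.coeff_C, if_neg (Nat.pos_iff_ne_zero.mp hm)]
      exact Polynomial.mul_X_pow_eq_zero h1
  -- specialise
  have hρe : Algebra.TensorProduct.map ρ (AlgHom.id A B) e =
      x + w * Algebra.TensorProduct.map (IsScalarTower.toAlgHom A A[X] R) (AlgHom.id A B) u := by
    rw [he, map_add, map_mul, map_mul, hx', hw', huQ, map_map, map_map, map_map, hρι, hρθ,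
      Algebra.TensorProduct.map_tmul, hρX, AlgHom.id_apply]
    have : Algebra.TensorProduct.map (AlgHom.id A R) (AlgHom.id A B) = AlgHom.id A (R ⊗[A] B) :=
      Algebra.TensorProduct.map_id
    rw [this, AlgHom.id_apply, AlgHom.id_apply]
    have h1 : ((1 : R) ⊗ₜ[A] (1 : B) : R ⊗[A] B) = 1 := rfl
    rw [h1, one_mul]
  apply toFun'_eq_of_val_eq
  rw [← hρe, val_map, ← hG, hG0, ← hg]
  show ρ₂ (Polynomial.aeval (1 : K) (C (C g) : Q)) = g
  rw [Polynomial.aeval_C]
  show Polynomial.aeval r (C g : K) = g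
  rw [Polynomial.aeval_C]
  rfl

end Poly


section Main

variable {A : Type u} [CommRing A] {B : Type u} [CommRing B] [Algebra A B]

/-- `divX` as a linear map -/
noncomputable def divXl (A : Type u) [CommRing A] : A[X] →ₗ[A] A[X] where
  toFun := Polynomial.divX
  map_add' _ _ := Polynomial.divX_add
  map_smul' a p := by
    rw [Polynomial.smul_eq_C_mul, Polynomial.divX_C_mul, ← Polynomial.smul_eq_C_mul]
    rfl

theorem divXl_pow_coeff (n k : ℕ) (p : A[X]) : ((divXl A ^ n) p).coeff k = p.coeff (k + n) := by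
  induction n generalizing k with
  | zero => simp
  | succ n ih =>
      rw [pow_succ', Module.End.mul_apply]
      show (Polynomial.divX ((divXl A ^ n) p)).coeff k = _
      rw [Polynomial.coeff_divX, ih]
      congr 1
      omega

/-- the divided difference on `A[X] ⊗ B` -/
noncomputable def D (A B : Type u) [CommRing A] [CommRing B] [Algebra A B] :
    A[X] ⊗[A] B →ₗ[A] A[X] ⊗[A] B := (divXl A).rTensor B

/-- the constant term -/
noncomputable def c0 (A B : Type u) [CommRing A] [CommRing B] [Algebra A B] :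
    A[X] ⊗[A] B →ₗ[A] B :=
  (TensorProduct.lid A B).toLinearMap ∘ₗ (Polynomial.lcoeff A 0).rTensor B

theorem decomp (u : A[X] ⊗[A] B) :
    u = (1 : A[X]) ⊗ₜ[A] (c0 A B u) + ((X : A[X]) ⊗ₜ[A] (1 : B)) * D A B u := by
  induction u using TensorProduct.induction_on with
  | zero => simp
  | tmul p b =>
      have h1 : c0 A B (p ⊗ₜ[A] b) = p.coeff 0 • b := by simp [c0]
      have h2 : D A B (p ⊗ₜ[A] b) = Polynomial.divX p ⊗ₜ[A] b := by simp [D, divXl]
      rw [h1, h2, Algebra.TensorProduct.tmul_mul_tmul, one_mul, ← TensorProduct.smul_tmul,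
        ← TensorProduct.add_tmul, Polynomial.smul_eq_C_mul, mul_one, add_comm,
        Polynomial.X_mul_divX_add]
  | add x y hx hy =>
      rw [map_add, map_add, TensorProduct.tmul_add, mul_add]
      nth_rewrite 1 [hx, hy]
      abel

theorem D_pow_tmul (n : ℕ) (p : A[X]) (b : B) :
    (D A B ^ n) (p ⊗ₜ[A] b) = ((divXl A ^ n) p) ⊗ₜ[A] b := by
  induction n with
  | zero => simp
  | succ n ih =>
      rw [pow_succ', Module.End.mul_apply, ih, pow_succ', Module.End.mul_apply]
      simp [D]

theorem exists_D_pow_eq_zero (u : A[X] ⊗[A] B) : ∃ n : ℕ, (D A B ^ n) u = 0 := by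
  induction u using TensorProduct.induction_on with
  | zero => exact ⟨0, by simp⟩
  | tmul p b =>
      refine ⟨p.natDegree + 1, ?_⟩
      rw [D_pow_tmul]
      have : (divXl A ^ (p.natDegree + 1)) p = 0 := by
        ext k
        rw [divXl_pow_coeff, Polynomial.coeff_zero]
        exact Polynomial.coeff_eq_zero_of_natDegree_lt (by omega)
      rw [this, TensorProduct.zero_tmul]
  | add x y hx hy =>
      obtain ⟨n₁, h₁⟩ := hx
      obtain ⟨n₂, h₂⟩ := hy
      refine ⟨n₁ + n₂, ?_⟩
      rw [map_add]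
      have e1 : (D A B ^ (n₁ + n₂)) x = 0 := by
        rw [add_comm, pow_add, Module.End.mul_apply, h₁, map_zero]
      have e2 : (D A B ^ (n₁ + n₂)) y = 0 := by
        rw [pow_add, Module.End.mul_apply, h₂, map_zero]
      rw [e1, e2, add_zero]

theorem c0_mem_ker (F : B →ₚₗ[A] A) (u : A[X] ⊗[A] B) (hu : u ∈ PolLaw.kerBC F A[X]) :
    c0 A B u ∈ PolLaw.ker F := by
  intro S _ _ x w
  let ε : A[X] →ₐ[A] S := Polynomial.aeval (0 : S)
  let algPS : Algebra A[X] S := ε.toRingHom.toAlgebra
  have : IsScalarTower A A[X] S := IsScalarTower.of_algebraMap_eq (fun a => by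
    show algebraMap A S a = ε (algebraMap A A[X] a)
    rw [AlgHom.commutes])
  have hε : IsScalarTower.toAlgHom A A[X] S = ε := by
    ext
    rfl
  have key : ∀ v : A[X] ⊗[A] B, Algebra.TensorProduct.map ε (AlgHom.id A B) v =
      (1 : S) ⊗ₜ[A] (c0 A B v) := by
    intro v
    induction v using TensorProduct.induction_on with
    | zero => simp
    | tmul p b =>
        have h1 : c0 A B (p ⊗ₜ[A] b) = p.coeff 0 • b := by simp [c0]
        rw [h1, Algebra.TensorProduct.map_tmul, AlgHom.id_apply, ← TensorProduct.smul_tmul,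
          Algebra.smul_def, mul_one]
        congr 1
        exact (Polynomial.coeff_zero_eq_aeval_zero' p).symm
    | add x y hx hy => rw [map_add, map_add, TensorProduct.tmul_add, hx, hy]
  have h := hu S x w
  rw [hε, key] at h
  exact h

theorem mem_map_of_mem_kerBC (F : B →ₚₗ[A] A) :
    ∀ (n : ℕ) (u : A[X] ⊗[A] B), u ∈ PolLaw.kerBC F A[X] → (D A B ^ n) u = 0 →
      u ∈ (PolLaw.ker F).map (Algebra.TensorProduct.includeRight : B →ₐ[A] A[X] ⊗[A] B) := by
  intro n
  induction n with
  | zero =>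
      intro u _ h0
      rw [pow_zero, Module.End.one_apply] at h0
      rw [h0]
      exact Ideal.zero_mem _
  | succ n ih =>
      intro u hu hD
      have hb0 := c0_mem_ker F u hu
      have h1 : (1 : A[X]) ⊗ₜ[A] (c0 A B u) ∈
          (PolLaw.ker F).map (Algebra.TensorProduct.includeRight : B →ₐ[A] A[X] ⊗[A] B) :=
        Ideal.mem_map_of_mem _ hb0
      have h2 : ((X : A[X]) ⊗ₜ[A] (1 : B)) * D A B u ∈ PolLaw.kerBC F A[X] := by
        have e : ((X : A[X]) ⊗ₜ[A] (1 : B)) * D A B u = u - (1 : A[X]) ⊗ₜ[A] (c0 A B u) := by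
          nth_rewrite 2 [decomp u]
          abel
        rw [e]
        exact Ideal.sub_mem _ hu (map_ker_le_kerBC F A[X] h1)
      have h3 := mem_kerBC_of_X_mul_mem F _ h2
      have h4 : (D A B ^ n) (D A B u) = 0 := by
        rw [← Module.End.mul_apply, ← pow_succ]
        exact hD
      have h5 := ih _ h3 h4
      rw [decomp u]
      exact Ideal.add_mem _ h1 (Ideal.mul_mem_left _ _ h5)

theorem kerBC_polynomial (F : B →ₚₗ[A] A) :
    (PolLaw.ker F).map (Algebra.TensorProduct.includeRight : B →ₐ[A] A[X] ⊗[A] B) =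
      PolLaw.kerBC F A[X] := by
  apply le_antisymm (map_ker_le_kerBC F A[X])
  intro u hu
  obtain ⟨n, hn⟩ := exists_D_pow_eq_zero u
  exact mem_map_of_mem_kerBC F n u hu hn

end Main

end Groth.Agent.Lib.Helper59.KerPoly
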