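import Groth.Prelude.Def_PolLaw2
import Groth.Agent.Lib.Helper59.KerPoly
import Mathlib

/-!
# Multiplicative laws on a polynomial algebra factor through the tensor power law

`P = MvPolynomial κ A`, `Ω = MvPolynomial (Fin d × κ) A` (the `d`-fold tensor power of `P`),
`iot i : P → Ω` the `i`-th inclusion, `NN S z = ∏ i, (S ⊗ iot i) z`.  For a law `F : P → A`
homogeneous of degree `d` there is a linear form `f : Ω → A` with `F_S z = f_S (NN S z)`
(`exists_linear_form`).
-/

set_option autoImplicit false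

namespace Groth.Agent.Lib.Helper59.CHCore

open scoped TensorProduct
open PolLaw Groth.Agent.Lib.Helper59.KerPoly

universe u

section Basic

variable {A : Type u} [CommRing A] (κ : Type u) (d : ℕ)

/-- the `i`-th inclusion of `P` into its `d`-fold tensor power -/
noncomputable def iot (i : Fin d) : MvPolynomial κ A →ₐ[A] MvPolynomial (Fin d × κ) A :=
  MvPolynomial.rename (Prod.mk i)

/-- the tensor power law -/
noncomputable def NN (S : Type u) [CommSemiring S] [Algebra A S] (z : S ⊗[A] MvPolynomial κ A) :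
    S ⊗[A] MvPolynomial (Fin d × κ) A :=
  ∏ i : Fin d, Algebra.TensorProduct.map (AlgHom.id A S) (iot (A := A) κ d i) z

theorem NN_one (S : Type u) [CommSemiring S] [Algebra A S] : NN (A := A) κ d S 1 = 1 := by
  simp [NN]

theorem NN_mul (S : Type u) [CommSemiring S] [Algebra A S] (z z' : S ⊗[A] MvPolynomial κ A) :
    NN κ d S (z * z') = NN κ d S z * NN κ d S z' := by
  simp [NN, Finset.prod_mul_distrib]

theorem map_map_comm {S S' : Type u} [CommSemiring S] [Algebra A S] [CommSemiring S'] [Algebra A S']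
    {P Q : Type u} [CommSemiring P] [Algebra A P] [CommSemiring Q] [Algebra A Q]
    (ψ : S →ₐ[A] S') (g : P →ₐ[A] Q) (z : S ⊗[A] P) :
    Algebra.TensorProduct.map ψ (AlgHom.id A Q) (Algebra.TensorProduct.map (AlgHom.id A S) g z) =
      Algebra.TensorProduct.map (AlgHom.id A S') g (Algebra.TensorProduct.map ψ (AlgHom.id A P) z) := by
  induction z using TensorProduct.induction_on with
  | zero => simp
  | tmul s p => simp
  | add x y hx hy => simp only [map_add, hx, hy]

theorem NN_map {S S' : Type u} [CommSemiring S] [Algebra A S] [CommSemiring S'] [Algebra A S']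
    (ψ : S →ₐ[A] S') (z : S ⊗[A] MvPolynomial κ A) :
    NN κ d S' (Algebra.TensorProduct.map ψ (AlgHom.id A _) z) =
      Algebra.TensorProduct.map ψ (AlgHom.id A _) (NN κ d S z) := by
  simp only [NN, map_prod, map_map_comm]

/-- the `S`-valued extension of a linear form on `Ω` -/
noncomputable def fS {Ω : Type u} [AddCommGroup Ω] [Module A Ω] (f : Ω →ₗ[A] A) (S : Type u)
    [CommSemiring S] [Algebra A S] : S ⊗[A] Ω →ₗ[A] S :=
  (TensorProduct.rid A S).toLinearMap ∘ₗ f.lTensor S

theorem fS_tmul {Ω : Type u} [AddCommGroup Ω] [Module A Ω] (f : Ω →ₗ[A] A) (S : Type u)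
    [CommSemiring S] [Algebra A S] (s : S) (ω : Ω) : fS f S (s ⊗ₜ[A] ω) = f ω • s := by
  simp [fS]

theorem fS_map {Ω : Type u} [CommRing Ω] [Algebra A Ω] (f : Ω →ₗ[A] A) {S S' : Type u}
    [CommSemiring S] [Algebra A S] [CommSemiring S'] [Algebra A S'] (ψ : S →ₐ[A] S')
    (u : S ⊗[A] Ω) :
    fS f S' (Algebra.TensorProduct.map ψ (AlgHom.id A Ω) u) = ψ (fS f S u) := by
  induction u using TensorProduct.induction_on with
  | zero => simp
  | tmul s ω => simp [fS_tmul]
  | add x y hx hy => simp only [map_add, hx, hy]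

theorem fS_smul {Ω : Type u} [CommRing Ω] [Algebra A Ω] (f : Ω →ₗ[A] A) (S : Type u)
    [CommSemiring S] [Algebra A S] (s : S) (u : S ⊗[A] Ω) :
    fS f S ((s ⊗ₜ[A] (1 : Ω)) * u) = s * fS f S u := by
  induction u using TensorProduct.induction_on with
  | zero => simp
  | tmul s' ω => simp [fS_tmul, Algebra.TensorProduct.tmul_mul_tmul]
  | add x y hx hy => simp only [mul_add, map_add, hx, hy]

end Basic

section Monomials

variable (κ : Type u) (d : ℕ)

/-- the `i`-th slice of an exponent vector of `Ω` -/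
noncomputable def slice (ω : (Fin d × κ) →₀ ℕ) (i : Fin d) : κ →₀ ℕ :=
  Finsupp.comapDomain (Prod.mk i) ω (Prod.mk_right_injective i).injOn

/-- assemble a `d`-tuple of exponent vectors of `P` into one of `Ω` -/
noncomputable def asm (c : Fin d → (κ →₀ ℕ)) : (Fin d × κ) →₀ ℕ :=
  ∑ i : Fin d, Finsupp.mapDomain (Prod.mk i) (c i)

theorem asm_apply (c : Fin d → (κ →₀ ℕ)) (j : Fin d) (k : κ) : asm κ d c (j, k) = c j k := by
  classical
  rw [asm, Finsupp.finsetSum_apply, Finset.sum_eq_single j]
  · exact Finsupp.mapDomain_apply (Prod.mk_right_injective j) _ _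
  · intro i _ hij
    apply Finsupp.mapDomain_of_notMem_range
    rintro ⟨k', hk'⟩
    exact hij (congrArg Prod.fst hk')
  · intro h
    exact absurd (Finset.mem_univ j) h

theorem slice_asm (c : Fin d → (κ →₀ ℕ)) : slice κ d (asm κ d c) = c := by
  funext i
  ext k
  rw [slice, Finsupp.comapDomain_apply, asm_apply]

end Monomials

section Comb

variable {I : Type*} (d : ℕ)

/-- the class of a tuple: the exponent vector counting the values -/
noncomputable def cls (c : Fin d → I) : I →₀ ℕ := ∑ i : Fin d, Finsupp.single (c i) 1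

theorem degree_cls (c : Fin d → I) : (cls d c).degree = d := by
  rw [cls, map_sum]
  simp [Finsupp.degree_single]

theorem mem_support_cls (c : Fin d → I) (i : Fin d) : c i ∈ (cls d c).support := by
  classical
  rw [Finsupp.mem_support_iff, cls, Finsupp.finsetSum_apply]
  intro h
  rw [Finset.sum_eq_zero_iff] at h
  have := h i (Finset.mem_univ i)
  simp at this

theorem exists_of_mem_support_cls (c : Fin d → I) (μ : I) (h : μ ∈ (cls d c).support) :
    ∃ i, c i = μ := by
  classical
  by_contra hne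
  rw [not_exists] at hne
  rw [Finsupp.mem_support_iff, cls, Finsupp.finsetSum_apply] at h
  apply h
  apply Finset.sum_eq_zero
  intro i _
  rw [Finsupp.single_apply, if_neg (hne i)]

theorem exists_cls_eq : ∀ (d : ℕ) (α : I →₀ ℕ), α.degree = d → ∃ c : Fin d → I, cls d c = α := by
  classical
  intro d
  induction d with
  | zero =>
      intro α h
      refine ⟨Fin.elim0, ?_⟩
      rw [Finsupp.degree_eq_zero_iff] at h
      rw [h, cls]
      simp
  | succ n ih =>
      intro α h
      have hne : α ≠ 0 := by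
        rintro rfl
        simp at h
      obtain ⟨μ, hμ⟩ := Finsupp.support_nonempty_iff.mpr hne
      have hμ' : α μ ≠ 0 := Finsupp.mem_support_iff.mp hμ
      have hα : α = (α - Finsupp.single μ 1) + Finsupp.single μ 1 := by
        ext ν
        simp only [Finsupp.coe_add, Finsupp.coe_tsub, Pi.add_apply, Pi.sub_apply]
        by_cases hν : ν = μ
        · subst hν
          rw [Finsupp.single_eq_same]
          omega
        · rw [Finsupp.single_eq_of_ne hν]
          simp
      have hdeg : (α - Finsupp.single μ 1).degree = n := by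
        have h2 := congrArg Finsupp.degree hα
        rw [map_add, Finsupp.degree_single, h] at h2
        omega
      obtain ⟨c', hc'⟩ := ih _ hdeg
      refine ⟨Fin.cons μ c', ?_⟩
      rw [cls, Fin.sum_univ_succ]
      simp only [Fin.cons_zero, Fin.cons_succ]
      rw [hα, add_comm]
      congr 1

end Comb

section Generic

variable {A : Type u} [CommRing A] (κ : Type u) (d : ℕ)

theorem prod_tmul {S T : Type u} [CommSemiring S] [Algebra A S] [CommSemiring T] [Algebra A T]
    {ι : Type*} (s : Finset ι) (a : ι → S) (b : ι → T) :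
    ∏ i ∈ s, (a i ⊗ₜ[A] b i) = (∏ i ∈ s, a i) ⊗ₜ[A] (∏ i ∈ s, b i) := by
  classical
  induction s using Finset.induction_on with
  | empty => simp [Algebra.TensorProduct.one_def]
  | insert i s hi ih =>
      rw [Finset.prod_insert hi, Finset.prod_insert hi, Finset.prod_insert hi, ih,
        Algebra.TensorProduct.tmul_mul_tmul]

/-- generic element supported on `J` -/
noncomputable def zgen (J : Finset (κ →₀ ℕ)) :
    MvPolynomial (κ →₀ ℕ) A ⊗[A] MvPolynomial κ A :=
  ∑ μ ∈ J, (MvPolynomial.X μ : MvPolynomial (κ →₀ ℕ) A) ⊗ₜ[A] (MvPolynomial.monomial μ (1 : A))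

/-- every tensor is a specialisation of a generic element -/
theorem exists_repr {S : Type u} [CommSemiring S] [Algebra A S] (z : S ⊗[A] MvPolynomial κ A) :
    ∃ (J : Finset (κ →₀ ℕ)) (s : (κ →₀ ℕ) → S),
      z = Algebra.TensorProduct.map (MvPolynomial.aeval s) (AlgHom.id A _) (zgen (A := A) κ J) := by
  classical
  obtain ⟨b, hb⟩ := TensorProduct.eq_repr_basis_right (MvPolynomial.basisMonomials κ A) z
  refine ⟨b.support, b, ?_⟩
  rw [← hb, zgen, map_sum, Finsupp.sum]
  refine Finset.sum_congr rfl fun μ _ => ?_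
  simp [MvPolynomial.coe_basisMonomials]

theorem prod_X_eq {I : Type*} (c : Fin d → I) :
    ∏ i : Fin d, (MvPolynomial.X (c i) : MvPolynomial I A) = MvPolynomial.monomial (cls d c) 1 := by
  rw [cls, MvPolynomial.monomial_sum_one]
  rfl

theorem prod_iot_monomial (c : Fin d → (κ →₀ ℕ)) :
    ∏ i : Fin d, iot (A := A) κ d i (MvPolynomial.monomial (c i) 1) =
      MvPolynomial.monomial (asm κ d c) 1 := by
  rw [asm, MvPolynomial.monomial_sum_one]
  refine Finset.prod_congr rfl fun i _ => ?_
  rw [iot, MvPolynomial.rename_monomial]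

theorem NN_zgen (J : Finset (κ →₀ ℕ)) :
    NN κ d _ (zgen (A := A) κ J) =
      ∑ c ∈ Fintype.piFinset (fun _ : Fin d => J),
        (MvPolynomial.monomial (cls d c) (1 : A)) ⊗ₜ[A] (MvPolynomial.monomial (asm κ d c) (1 : A)) := by
  classical
  rw [NN]
  simp only [zgen, map_sum, Algebra.TensorProduct.map_tmul, AlgHom.coe_id, id_eq]
  rw [Finset.prod_univ_sum]
  refine Finset.sum_congr rfl fun c _ => ?_
  rw [prod_tmul, prod_X_eq, prod_iot_monomial]

end Generic

section Homog

variable {A : Type u} [CommRing A] {I : Type u}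

/-- scaling all the variables by a new variable -/
noncomputable def psi : MvPolynomial I A →ₐ[A] Polynomial (MvPolynomial I A) :=
  MvPolynomial.aeval fun μ => Polynomial.C (MvPolynomial.X μ) * Polynomial.X

theorem psi_monomial (β : I →₀ ℕ) (a : A) :
    psi (MvPolynomial.monomial β a) =
      Polynomial.C (MvPolynomial.monomial β a) * Polynomial.X ^ (Finsupp.degree β) := by
  rw [psi, MvPolynomial.aeval_monomial]
  simp only [mul_pow, Finsupp.prod_mul]
  have h1 : (β.prod fun μ k => (Polynomial.C (MvPolynomial.X μ : MvPolynomial I A)) ^ k) =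
      Polynomial.C (β.prod fun μ k => (MvPolynomial.X μ : MvPolynomial I A) ^ k) := by
    rw [map_finsuppProd]
    simp only [map_pow]
  have h2 : (β.prod fun _ k => (Polynomial.X : Polynomial (MvPolynomial I A)) ^ k) =
      Polynomial.X ^ (Finsupp.degree β) := by
    rw [Finsupp.prod, Finset.prod_pow_eq_pow_sum, Finsupp.degree_apply]
  rw [h1, h2, ← mul_assoc]
  congr 1
  rw [MvPolynomial.monomial_eq, map_mul]
  rfl

theorem coeff_psi (g : MvPolynomial I A) (k : ℕ) :
    (psi g).coeff k = MvPolynomial.homogeneousComponent k g := by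
  induction g using MvPolynomial.induction_on' with
  | monomial β a =>
      rw [psi_monomial, Polynomial.coeff_C_mul, Polynomial.coeff_X_pow,
        MvPolynomial.homogeneousComponent_of_mem (MvPolynomial.isHomogeneous_monomial a rfl)]
      split_ifs <;> simp
  | add p q hp hq => rw [map_add, Polynomial.coeff_add, hp, hq, map_add]

theorem isHomogeneous_of_psi (g : MvPolynomial I A) (n : ℕ)
    (h : psi g = Polynomial.X ^ n * Polynomial.C g) : g.IsHomogeneous n := by
  have h1 := coeff_psi g n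
  rw [h, Polynomial.coeff_X_pow_mul', if_pos le_rfl, Nat.sub_self, Polynomial.coeff_C_zero] at h1
  rw [h1]
  exact MvPolynomial.homogeneousComponent_isHomogeneous n g

end Homog

section Trunc

variable {A : Type u} [CommRing A] {I : Type u}

open Classical in
/-- kill the variables outside `K` -/
noncomputable def trunc (K : Finset I) : MvPolynomial I A →ₐ[A] MvPolynomial I A :=
  MvPolynomial.aeval fun μ => if μ ∈ K then MvPolynomial.X μ else 0

open Classical in
theorem trunc_monomial (K : Finset I) (β : I →₀ ℕ) (a : A) :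
    trunc K (MvPolynomial.monomial β a) = if β.support ⊆ K then MvPolynomial.monomial β a else 0 := by
  classical
  rw [trunc, MvPolynomial.aeval_monomial]
  split_ifs with h
  · rw [MvPolynomial.monomial_eq, MvPolynomial.algebraMap_eq]
    congr 1
    refine Finset.prod_congr rfl fun μ hμ => ?_
    show (if μ ∈ K then MvPolynomial.X μ else 0) ^ (β μ) = _
    rw [if_pos (h hμ)]
  · rw [Finset.not_subset] at h
    obtain ⟨μ, hμ, hμK⟩ := h
    rw [Finsupp.prod, Finset.prod_eq_zero hμ, mul_zero]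
    show (if μ ∈ K then MvPolynomial.X μ else 0) ^ (β μ) = _
    rw [if_neg hμK, zero_pow (Finsupp.mem_support_iff.mp hμ)]

open Classical in
theorem coeff_trunc (K : Finset I) (α : I →₀ ℕ) (g : MvPolynomial I A) :
    MvPolynomial.coeff α (trunc K g) = if α.support ⊆ K then MvPolynomial.coeff α g else 0 := by
  classical
  induction g using MvPolynomial.induction_on' with
  | monomial β a =>
      rw [trunc_monomial]
      by_cases hβα : β = α
      · subst hβα
        split_ifs <;> simp
      · split_ifs <;> simp [MvPolynomial.coeff_monomial, hβα]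
  | add p q hp hq =>
      rw [map_add, MvPolynomial.coeff_add, hp, hq, MvPolynomial.coeff_add]
      split_ifs <;> simp

end Trunc

section Law

variable {A : Type u} [CommRing A] (κ : Type u) (d : ℕ) (F : MvPolynomial κ A →ₚₗ[A] A)

theorem rid_smul {S : Type u} [CommSemiring S] [Algebra A S] (s : S) (y : S ⊗[A] A) :
    TensorProduct.rid A S (s • y) = s * TensorProduct.rid A S y := by
  induction y using TensorProduct.induction_on with
  | zero => simp
  | tmul s' a => simp [TensorProduct.smul_tmul']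
  | add x y hx hy => simp only [smul_add, map_add, mul_add, hx, hy]

theorem val_smul {B : Type u} [CommRing B] [Algebra A B] (F : B →ₚₗ[A] A) {d : ℕ} (hF : IsHomog F d)
    {S : Type u} [CommSemiring S] [Algebra A S] (s : S) (x : S ⊗[A] B) :
    val F S (s • x) = s ^ d * val F S x := by
  unfold val
  rw [hF S s x, rid_smul]

/-- the value of the law on the generic element -/
noncomputable def GJ (J : Finset (κ →₀ ℕ)) : MvPolynomial (κ →₀ ℕ) A :=
  val F _ (zgen (A := A) κ J)

include d in
theorem GJ_isHomogeneous (hF : IsHomog F d) (J : Finset (κ →₀ ℕ)) :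
    (GJ κ F J).IsHomogeneous d := by
  apply isHomogeneous_of_psi
  rw [GJ, ← val_map]
  have h : Algebra.TensorProduct.map (psi (A := A) (I := κ →₀ ℕ)) (AlgHom.id A _) (zgen (A := A) κ J) =
      (Polynomial.X : Polynomial (MvPolynomial (κ →₀ ℕ) A)) •
        Algebra.TensorProduct.map (Polynomial.CAlgHom (R := A) (A := MvPolynomial (κ →₀ ℕ) A))
          (AlgHom.id A _) (zgen (A := A) κ J) := by
    simp only [zgen, map_sum, Finset.smul_sum, Algebra.TensorProduct.map_tmul, AlgHom.coe_id, id_eq]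
    refine Finset.sum_congr rfl fun μ _ => ?_
    rw [TensorProduct.smul_tmul', smul_eq_mul, psi, MvPolynomial.aeval_X, mul_comm]
    rfl
  rw [h, val_smul F hF, val_map]
  rfl

theorem trunc_GJ (K J : Finset (κ →₀ ℕ)) (h : K ⊆ J) : trunc K (GJ κ F J) = GJ κ F K := by
  classical
  rw [GJ, ← val_map, GJ]
  congr 1
  simp only [zgen, map_sum, Algebra.TensorProduct.map_tmul, AlgHom.coe_id, id_eq]
  rw [← Finset.sum_subset h]
  · refine Finset.sum_congr rfl fun μ hμ => ?_
    rw [trunc, MvPolynomial.aeval_X, if_pos hμ]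
  · intro μ _ hμ
    rw [trunc, MvPolynomial.aeval_X, if_neg hμ, TensorProduct.zero_tmul]

theorem coeff_GJ_eq_zero (J : Finset (κ →₀ ℕ)) (α : (κ →₀ ℕ) →₀ ℕ) (h : ¬ α.support ⊆ J) :
    MvPolynomial.coeff α (GJ κ F J) = 0 := by
  classical
  have h1 := coeff_trunc J α (GJ κ F J)
  rw [trunc_GJ κ F J J (Finset.Subset.refl J), if_neg h] at h1
  exact h1

theorem coeff_GJ_eq (J : Finset (κ →₀ ℕ)) (α : (κ →₀ ℕ) →₀ ℕ) (h : α.support ⊆ J) :
    MvPolynomial.coeff α (GJ κ F J) = MvPolynomial.coeff α (GJ κ F α.support) := by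
  classical
  have h1 := coeff_trunc α.support α (GJ κ F J)
  rw [trunc_GJ κ F α.support J h, if_pos (Finset.Subset.refl _)] at h1
  exact h1.symm

/-- a representative tuple of a class -/
noncomputable def rep (α : (κ →₀ ℕ) →₀ ℕ) : Fin d → (κ →₀ ℕ) :=
  if h : α.degree = d then (exists_cls_eq d α h).choose else fun _ => 0

theorem cls_rep (α : (κ →₀ ℕ) →₀ ℕ) (h : α.degree = d) : cls d (rep κ d α) = α := by
  rw [rep, dif_pos h]
  exact (exists_cls_eq d α h).choose_spec

open Classical in
/-- the values of the linear form on the monomial basis of `Ω` -/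
noncomputable def fval (c : Fin d → (κ →₀ ℕ)) : A :=
  if c = rep κ d (cls d c) then MvPolynomial.coeff (cls d c) (GJ κ F (cls d c).support) else 0

/-- the linear form on `Ω` -/
noncomputable def flin : MvPolynomial (Fin d × κ) A →ₗ[A] A :=
  (MvPolynomial.basisMonomials (Fin d × κ) A).constr A fun ω => fval κ d F (slice κ d ω)

theorem flin_monomial (c : Fin d → (κ →₀ ℕ)) :
    flin κ d F (MvPolynomial.monomial (asm κ d c) 1) = fval κ d F c := by
  have h : MvPolynomial.monomial (asm κ d c) (1 : A) =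
      MvPolynomial.basisMonomials (Fin d × κ) A (asm κ d c) := by
    rw [MvPolynomial.coe_basisMonomials]
  rw [flin, h, Module.Basis.constr_basis, slice_asm]

theorem GJ_eq (hF : IsHomog F d) (J : Finset (κ →₀ ℕ)) :
    GJ κ F J = fS (flin κ d F) _ (NN κ d _ (zgen (A := A) κ J)) := by
  classical
  rw [NN_zgen, map_sum]
  simp only [fS_tmul, flin_monomial]
  ext β
  rw [MvPolynomial.coeff_sum]
  simp only [MvPolynomial.coeff_smul, MvPolynomial.coeff_monomial, smul_eq_mul, mul_ite, mul_one,
    mul_zero]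
  by_cases hβ : β.degree = d ∧ β.support ⊆ J
  · obtain ⟨hdeg, hsupp⟩ := hβ
    have hc₀ : cls d (rep κ d β) = β := cls_rep κ d β hdeg
    have hmem : rep κ d β ∈ Fintype.piFinset (fun _ : Fin d => J) := by
      rw [Fintype.mem_piFinset]
      intro i
      apply hsupp
      have h2 := mem_support_cls d (rep κ d β) i
      rw [hc₀] at h2
      exact h2
    rw [coeff_GJ_eq κ F J β hsupp]
    have : ∀ c ∈ Fintype.piFinset (fun _ : Fin d => J),
        (if cls d c = β then fval κ d F c else 0) =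
          if c = rep κ d β then MvPolynomial.coeff β (GJ κ F β.support) else 0 := by
      intro c _
      by_cases h1 : cls d c = β
      · rw [if_pos h1, fval, h1]
      · rw [if_neg h1, if_neg]
        rintro rfl
        exact h1 hc₀
    rw [Finset.sum_congr rfl this, Finset.sum_ite_eq' _ _ _, if_pos hmem]
  · have hne : ∀ c ∈ Fintype.piFinset (fun _ : Fin d => J), cls d c ≠ β := by
      intro c hc hcβ
      apply hβ
      refine ⟨by rw [← hcβ, degree_cls], ?_⟩
      intro μ hμ
      rw [← hcβ] at hμ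
      obtain ⟨i, rfl⟩ := exists_of_mem_support_cls d c μ hμ
      exact Fintype.mem_piFinset.mp hc i
    rw [Finset.sum_eq_zero (fun c hc => if_neg (hne c hc))]
    by_cases hdeg : β.degree = d
    · exact coeff_GJ_eq_zero κ F J β (fun h => hβ ⟨hdeg, h⟩)
    · exact (GJ_isHomogeneous κ d F hF J).coeff_eq_zero hdeg

/-- **Roby**: a homogeneous law of degree `d` on a polynomial algebra is a linear form of the
`d`-th tensor power law. -/
theorem val_eq_fS (hF : IsHomog F d) {S : Type u} [CommSemiring S] [Algebra A S]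
    (z : S ⊗[A] MvPolynomial κ A) : val F S z = fS (flin κ d F) S (NN κ d S z) := by
  obtain ⟨J, s, rfl⟩ := exists_repr κ z
  rw [val_map, NN_map, fS_map, ← GJ_eq κ d F hF]
  rfl

end Law

section LamT

variable {A : Type u} [CommRing A]

/-- `(λ ⊗ id) : M ⊗ Ω → Ω` -/
noncomputable def lamT {M : Type u} [AddCommMonoid M] [Module A M] {Ω : Type u} [AddCommGroup Ω]
    [Module A Ω] (lam : M →ₗ[A] A) : M ⊗[A] Ω →ₗ[A] Ω :=
  (TensorProduct.lid A Ω).toLinearMap ∘ₗ lam.rTensor Ω

theorem lamT_tmul {M : Type u} [AddCommMonoid M] [Module A M] {Ω : Type u} [AddCommGroup Ω]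
    [Module A Ω] (lam : M →ₗ[A] A) (m : M) (ω : Ω) : lamT lam (m ⊗ₜ[A] ω) = lam m • ω := by
  simp [lamT]

theorem f_lamT {S : Type u} [CommSemiring S] [Algebra A S] {Ω : Type u} [AddCommGroup Ω]
    [Module A Ω] (f : Ω →ₗ[A] A) (lam : S →ₗ[A] A) (u : S ⊗[A] Ω) :
    f (lamT lam u) = lam (fS f S u) := by
  induction u using TensorProduct.induction_on with
  | zero => simp
  | tmul s ω => simp [lamT_tmul, fS_tmul, mul_comm]
  | add x y hx hy => simp only [map_add, hx, hy]

theorem expand_left {ι : Type*} {M : Type u} [AddCommMonoid M] [Module A M] {Ω : Type u}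
    [AddCommGroup Ω] [Module A Ω] (b : Module.Basis ι A M) (u : M ⊗[A] Ω) :
    ∃ T : Finset ι, u = ∑ i ∈ T, b i ⊗ₜ[A] lamT (b.coord i) u := by
  classical
  refine ⟨(TensorProduct.equivFinsuppOfBasisLeft b u).support, ?_⟩
  conv_lhs => rw [← (TensorProduct.equivFinsuppOfBasisLeft b).symm_apply_apply u,
    TensorProduct.equivFinsuppOfBasisLeft_symm_apply, Finsupp.sum]
  refine Finset.sum_congr rfl fun i _ => ?_
  rw [TensorProduct.equivFinsuppOfBasisLeft_apply]
  rfl

/-- the product of two linear forms, on the tensor product -/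
noncomputable def lam2 {S₁ S₂ : Type u} [CommSemiring S₁] [Algebra A S₁] [CommSemiring S₂]
    [Algebra A S₂] (lam₁ : S₁ →ₗ[A] A) (lam₂ : S₂ →ₗ[A] A) : S₁ ⊗[A] S₂ →ₗ[A] A :=
  (TensorProduct.lid A A).toLinearMap ∘ₗ TensorProduct.map lam₁ lam₂

theorem lam2_tmul {S₁ S₂ : Type u} [CommSemiring S₁] [Algebra A S₁] [CommSemiring S₂]
    [Algebra A S₂] (lam₁ : S₁ →ₗ[A] A) (lam₂ : S₂ →ₗ[A] A) (s₁ : S₁) (s₂ : S₂) :
    lam2 lam₁ lam₂ (s₁ ⊗ₜ[A] s₂) = lam₁ s₁ * lam₂ s₂ := by
  simp [lam2]

theorem lamT_mul {S₁ S₂ : Type u} [CommSemiring S₁] [Algebra A S₁] [CommSemiring S₂]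
    [Algebra A S₂] {Ω : Type u} [CommRing Ω] [Algebra A Ω]
    (lam₁ : S₁ →ₗ[A] A) (lam₂ : S₂ →ₗ[A] A) (u₁ : S₁ ⊗[A] Ω) (u₂ : S₂ ⊗[A] Ω) :
    lamT (lam2 lam₁ lam₂)
      (Algebra.TensorProduct.map (Algebra.TensorProduct.includeLeft : S₁ →ₐ[A] S₁ ⊗[A] S₂)
          (AlgHom.id A Ω) u₁ *
        Algebra.TensorProduct.map (Algebra.TensorProduct.includeRight : S₂ →ₐ[A] S₁ ⊗[A] S₂)
          (AlgHom.id A Ω) u₂) = lamT lam₁ u₁ * lamT lam₂ u₂ := by
  induction u₁ using TensorProduct.induction_on with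
  | zero => simp
  | tmul s₁ ω₁ =>
      induction u₂ using TensorProduct.induction_on with
      | zero => simp
      | tmul s₂ ω₂ =>
          simp only [Algebra.TensorProduct.map_tmul, Algebra.TensorProduct.includeLeft_apply,
            Algebra.TensorProduct.includeRight_apply, AlgHom.coe_id, id_eq,
            Algebra.TensorProduct.tmul_mul_tmul, mul_one, one_mul, lamT_tmul, lam2_tmul]
          rw [smul_mul_smul_comm]
      | add x y hx hy => simp only [map_add, mul_add, hx, hy]
  | add x y hx hy => simp only [map_add, add_mul, hx, hy]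

theorem rid_mul {S : Type u} [CommSemiring S] [Algebra A S] (x y : S ⊗[A] A) :
    TensorProduct.rid A S (x * y) = TensorProduct.rid A S x * TensorProduct.rid A S y :=
  map_mul (Algebra.TensorProduct.rid A A S) x y

theorem rid_one {S : Type u} [CommSemiring S] [Algebra A S] :
    TensorProduct.rid A S (1 : S ⊗[A] A) = 1 :=
  map_one (Algebra.TensorProduct.rid A A S)

theorem val_mul {B : Type u} [CommRing B] [Algebra A B] (F : B →ₚₗ[A] A) (hF : IsMult F)
    {S : Type u} [CommSemiring S] [Algebra A S] (x y : S ⊗[A] B) :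
    val F S (x * y) = val F S x * val F S y := by
  unfold val
  rw [(hF S).2, rid_mul]

theorem val_one {B : Type u} [CommRing B] [Algebra A B] (F : B →ₚₗ[A] A) (hF : IsMult F)
    {S : Type u} [CommSemiring S] [Algebra A S] : val F S 1 = 1 := by
  unfold val
  rw [(hF S).1, rid_one]

end LamT

section Gamma

variable {A : Type u} [CommRing A] (κ : Type u) (d : ℕ)

/-- the coefficients of the tensor power law -/
def gens : Set (MvPolynomial (Fin d × κ) A) :=
  {g | ∃ (S : Type u) (_ : CommSemiring S) (_ : Algebra A S) (lam : S →ₗ[A] A)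
    (z : S ⊗[A] MvPolynomial κ A), g = lamT lam (NN κ d S z)}

theorem mem_gens {S : Type u} [CommSemiring S] [Algebra A S] (lam : S →ₗ[A] A)
    (z : S ⊗[A] MvPolynomial κ A) : lamT lam (NN κ d S z) ∈ gens (A := A) κ d :=
  ⟨S, _, _, lam, z, rfl⟩

theorem one_mem_gens : (1 : MvPolynomial (Fin d × κ) A) ∈ gens (A := A) κ d := by
  refine ⟨A, _, _, LinearMap.id, 1, ?_⟩
  rw [NN_one, Algebra.TensorProduct.one_def, lamT_tmul]
  simp

theorem mul_mem_gens {g₁ g₂ : MvPolynomial (Fin d × κ) A} (h₁ : g₁ ∈ gens (A := A) κ d)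
    (h₂ : g₂ ∈ gens (A := A) κ d) : g₁ * g₂ ∈ gens (A := A) κ d := by
  obtain ⟨S₁, _, _, lam₁, z₁, rfl⟩ := h₁
  obtain ⟨S₂, _, _, lam₂, z₂, rfl⟩ := h₂
  refine ⟨S₁ ⊗[A] S₂, _, _, lam2 lam₁ lam₂,
    Algebra.TensorProduct.map (Algebra.TensorProduct.includeLeft : S₁ →ₐ[A] S₁ ⊗[A] S₂)
        (AlgHom.id A _) z₁ *
      Algebra.TensorProduct.map (Algebra.TensorProduct.includeRight : S₂ →ₐ[A] S₁ ⊗[A] S₂)
        (AlgHom.id A _) z₂, ?_⟩
  rw [NN_mul, NN_map, NN_map, lamT_mul]

/-- the coefficients, as a submonoid -/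
def gensM : Submonoid (MvPolynomial (Fin d × κ) A) where
  carrier := gens κ d
  one_mem' := one_mem_gens κ d
  mul_mem' := mul_mem_gens κ d

/-- the algebra of symmetric tensors, as the subalgebra generated by the coefficients of the
tensor power law -/
noncomputable def Gam : Subalgebra A (MvPolynomial (Fin d × κ) A) := Algebra.adjoin A (gens κ d)

theorem Gam_toSubmodule :
    Subalgebra.toSubmodule (Gam (A := A) κ d) = Submodule.span A (gens (A := A) κ d) := by
  rw [Gam, Algebra.adjoin_eq_span]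
  congr 1
  show SetLike.coe (Submonoid.closure (SetLike.coe (gensM (A := A) κ d))) =
    SetLike.coe (gensM (A := A) κ d)
  rw [Submonoid.closure_eq]

theorem gens_subset_Gam : gens (A := A) κ d ⊆ (Gam (A := A) κ d : Set _) :=
  Algebra.subset_adjoin

variable (F : MvPolynomial κ A →ₚₗ[A] A)

theorem flin_gens (hF : IsHomog F d) {S : Type u} [CommSemiring S] [Algebra A S] (lam : S →ₗ[A] A)
    (z : S ⊗[A] MvPolynomial κ A) : flin κ d F (lamT lam (NN κ d S z)) = lam (val F S z) := by
  rw [f_lamT, ← val_eq_fS κ d F hF]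

theorem flin_one (hF : IsHomog F d) (hM : IsMult F) : flin κ d F 1 = 1 := by
  have h : (1 : MvPolynomial (Fin d × κ) A) = lamT (LinearMap.id : A →ₗ[A] A) (NN κ d A 1) := by
    rw [NN_one, Algebra.TensorProduct.one_def, lamT_tmul]
    simp
  rw [h, flin_gens κ d F hF, val_one F hM]
  rfl

theorem flin_mul_gens (hF : IsHomog F d) (hM : IsMult F) {g₁ g₂ : MvPolynomial (Fin d × κ) A}
    (h₁ : g₁ ∈ gens (A := A) κ d) (h₂ : g₂ ∈ gens (A := A) κ d) :
    flin κ d F (g₁ * g₂) = flin κ d F g₁ * flin κ d F g₂ := by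
  obtain ⟨S₁, _, _, lam₁, z₁, rfl⟩ := h₁
  obtain ⟨S₂, _, _, lam₂, z₂, rfl⟩ := h₂
  rw [← lamT_mul, ← NN_map, ← NN_map, ← NN_mul, flin_gens κ d F hF, flin_gens κ d F hF,
    flin_gens κ d F hF, val_mul F hM, val_map, val_map]
  simp only [Algebra.TensorProduct.includeLeft_apply, Algebra.TensorProduct.includeRight_apply,
    Algebra.TensorProduct.tmul_mul_tmul, mul_one, one_mul, lam2_tmul]

theorem flin_mul (hF : IsHomog F d) (hM : IsMult F) {γ γ' : MvPolynomial (Fin d × κ) A}
    (h : γ ∈ Gam (A := A) κ d) (h' : γ' ∈ Gam (A := A) κ d) :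
    flin κ d F (γ * γ') = flin κ d F γ * flin κ d F γ' := by
  rw [← Subalgebra.mem_toSubmodule, Gam_toSubmodule] at h h'
  induction h using Submodule.span_induction with
  | mem g hg =>
      induction h' using Submodule.span_induction with
      | mem g' hg' => exact flin_mul_gens κ d F hF hM hg hg'
      | zero => simp
      | add x y _ _ hx hy => rw [mul_add, map_add, hx, hy, map_add, mul_add]
      | smul a x _ hx => rw [mul_smul_comm, map_smul, hx, map_smul, smul_eq_mul, smul_eq_mul]; ring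
  | zero => simp
  | add x y _ _ hx hy => rw [add_mul, map_add, hx, hy, map_add, add_mul]
  | smul a x _ hx => rw [smul_mul_assoc, map_smul, hx, map_smul, smul_eq_mul, smul_eq_mul]; ring

/-- the algebra map `Γ → A` defined by a multiplicative law -/
noncomputable def f0 (hF : IsHomog F d) (hM : IsMult F) : Gam (A := A) κ d →ₐ[A] A where
  toFun γ := flin κ d F γ.1
  map_one' := flin_one κ d F hF hM
  map_mul' γ γ' := flin_mul κ d F hF hM γ.2 γ'.2
  map_zero' := map_zero _
  map_add' γ γ' := map_add _ _ _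
  commutes' a := by
    show flin κ d F (algebraMap A _ a) = a
    rw [Algebra.algebraMap_eq_smul_one, map_smul, flin_one κ d F hF hM]
    simp

theorem f0_apply (hF : IsHomog F d) (hM : IsMult F) (γ : Gam (A := A) κ d) :
    f0 κ d F hF hM γ = flin κ d F γ.1 := rfl

/-- the tensor power law takes values in `S ⊗ Γ` -/
theorem NN_mem_range {S : Type u} [CommSemiring S] [Algebra A S] (z : S ⊗[A] MvPolynomial κ A) :
    NN κ d S z ∈ (Algebra.TensorProduct.map (AlgHom.id A S) (Gam (A := A) κ d).val).range := by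
  obtain ⟨J, s, rfl⟩ := exists_repr κ z
  rw [NN_map]
  obtain ⟨T, hT⟩ := expand_left (MvPolynomial.basisMonomials (κ →₀ ℕ) A)
    (NN κ d _ (zgen (A := A) κ J))
  rw [hT, map_sum]
  refine Subalgebra.sum_mem _ fun α _ => ?_
  rw [Algebra.TensorProduct.map_tmul]
  refine (AlgHom.mem_range _).mpr ⟨(MvPolynomial.aeval s (MvPolynomial.basisMonomials (κ →₀ ℕ) A α)) ⊗ₜ[A]
    ⟨_, gens_subset_Gam κ d (mem_gens κ d ((MvPolynomial.basisMonomials (κ →₀ ℕ) A).coord α)
      (zgen (A := A) κ J))⟩, ?_⟩
  rw [Algebra.TensorProduct.map_tmul]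
  rfl

end Gamma

section CH

open Polynomial

variable {A : Type u} [CommRing A] (κ : Type u) (d : ℕ)

/-- evaluation of the polynomial variable at `y` -/
noncomputable def evy (y : MvPolynomial (Fin d × κ) A) :
    A[X] ⊗[A] MvPolynomial (Fin d × κ) A →ₐ[A] MvPolynomial (Fin d × κ) A :=
  Algebra.TensorProduct.lift (Polynomial.aeval y) (AlgHom.id A _) (fun _ _ => Commute.all _ _)

theorem evy_tmul (y : MvPolynomial (Fin d × κ) A) (p : A[X]) (ω : MvPolynomial (Fin d × κ) A) :
    evy κ d y (p ⊗ₜ[A] ω) = Polynomial.aeval y p * ω := by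
  simp [evy]

/-- the tensor power of `t - X` -/
noncomputable def Qt (t : MvPolynomial κ A) : A[X] ⊗[A] MvPolynomial (Fin d × κ) A :=
  NN κ d A[X] ((1 : A[X]) ⊗ₜ[A] t - (X : A[X]) ⊗ₜ[A] (1 : MvPolynomial κ A))

theorem evy_Qt (t : MvPolynomial κ A) (i : Fin d) : evy κ d (iot κ d i t) (Qt κ d t) = 0 := by
  rw [Qt, NN, map_prod]
  apply Finset.prod_eq_zero (Finset.mem_univ i)
  rw [map_sub, Algebra.TensorProduct.map_tmul, Algebra.TensorProduct.map_tmul, map_sub, evy_tmul,
    evy_tmul]
  simp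

/-- the coefficients of `Qt` -/
noncomputable def Ek (t : MvPolynomial κ A) (k : ℕ) : MvPolynomial (Fin d × κ) A :=
  lamT ((Polynomial.basisMonomials A).coord k) (Qt κ d t)

theorem Ek_mem (t : MvPolynomial κ A) (k : ℕ) : Ek κ d t k ∈ Gam (A := A) κ d :=
  gens_subset_Gam κ d (mem_gens κ d _ _)

theorem sum_Ek (t : MvPolynomial κ A) (T : Finset ℕ)
    (hT : Qt κ d t = ∑ k ∈ T, (Polynomial.basisMonomials A k) ⊗ₜ[A] Ek κ d t k) (i : Fin d) :
    ∑ k ∈ T, Ek κ d t k * (iot κ d i t) ^ k = 0 := by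
  have h := evy_Qt κ d t i
  rw [hT, map_sum] at h
  rw [← h]
  refine Finset.sum_congr rfl fun k _ => ?_
  rw [evy_tmul, Polynomial.coe_basisMonomials, Polynomial.aeval_monomial, map_one, one_mul, mul_comm]

variable (F : MvPolynomial κ A →ₚₗ[A] A)

theorem chi_eq (hF : IsHomog F d) (t : MvPolynomial κ A) (T : Finset ℕ)
    (hT : Qt κ d t = ∑ k ∈ T, (Polynomial.basisMonomials A k) ⊗ₜ[A] Ek κ d t k) :
    val F A[X] ((1 : A[X]) ⊗ₜ[A] t - (X : A[X]) ⊗ₜ[A] (1 : MvPolynomial κ A)) =
      ∑ k ∈ T, flin κ d F (Ek κ d t k) • (Polynomial.basisMonomials A k) := by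
  rw [val_eq_fS κ d F hF]
  show fS (flin κ d F) A[X] (Qt κ d t) = _
  rw [hT, map_sum]
  refine Finset.sum_congr rfl fun k _ => ?_
  rw [fS_tmul]

theorem aeval_chi_eq (hF : IsHomog F d) (t : MvPolynomial κ A) (T : Finset ℕ)
    (hT : Qt κ d t = ∑ k ∈ T, (Polynomial.basisMonomials A k) ⊗ₜ[A] Ek κ d t k) :
    Polynomial.aeval t
        (val F A[X] ((1 : A[X]) ⊗ₜ[A] t - (X : A[X]) ⊗ₜ[A] (1 : MvPolynomial κ A))) =
      ∑ k ∈ T, flin κ d F (Ek κ d t k) • t ^ k := by
  rw [chi_eq κ d F hF t T hT, map_sum]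
  refine Finset.sum_congr rfl fun k _ => ?_
  rw [map_smul, Polynomial.coe_basisMonomials, Polynomial.aeval_monomial, map_one, one_mul]

variable (hF : IsHomog F d) (hM : IsMult F) (S : Type u) [CommSemiring S] [Algebra A S]

/-- `S ⊗ Γ → S` induced by `f₀` -/
noncomputable def mf : S ⊗[A] Gam (A := A) κ d →ₐ[A] S :=
  Algebra.TensorProduct.lift (AlgHom.id A S) ((Algebra.ofId A S).comp (f0 κ d F hF hM))
    (fun _ _ => Commute.all _ _)

theorem mf_tmul (s : S) (γ : Gam (A := A) κ d) :
    mf κ d F hF hM S (s ⊗ₜ[A] γ) = s * algebraMap A S (flin κ d F γ.1) := by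
  simp [mf, f0_apply, Algebra.ofId_apply]

/-- `(S ⊗ Γ) ⊗ Ω → S ⊗ Ω`, multiplying `Γ` into `Ω` -/
noncomputable def mu' : (S ⊗[A] Gam (A := A) κ d) ⊗[A] MvPolynomial (Fin d × κ) A →ₐ[A]
    S ⊗[A] MvPolynomial (Fin d × κ) A :=
  Algebra.TensorProduct.lift (Algebra.TensorProduct.map (AlgHom.id A S) (Gam (A := A) κ d).val)
    Algebra.TensorProduct.includeRight (fun _ _ => Commute.all _ _)

theorem mu'_tmul_tmul (s : S) (γ : Gam (A := A) κ d) (ω : MvPolynomial (Fin d × κ) A) :
    mu' (A := A) κ d S ((s ⊗ₜ[A] γ) ⊗ₜ[A] ω) = s ⊗ₜ[A] (γ.1 * ω) := by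
  simp [mu', Algebra.TensorProduct.tmul_mul_tmul]

theorem mf_fS_eq (u : (S ⊗[A] Gam (A := A) κ d) ⊗[A] MvPolynomial (Fin d × κ) A)
    (hu : u ∈ (Algebra.TensorProduct.map (AlgHom.id A (S ⊗[A] Gam (A := A) κ d))
      (Gam (A := A) κ d).val).range) :
    mf κ d F hF hM S (fS (flin κ d F) (S ⊗[A] Gam (A := A) κ d) u) =
      fS (flin κ d F) S (mu' (A := A) κ d S u) := by
  obtain ⟨v, rfl⟩ := (AlgHom.mem_range _).mp hu
  clear hu
  induction v using TensorProduct.induction_on with
  | zero => simp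
  | tmul σ γ' =>
      induction σ using TensorProduct.induction_on with
      | zero => simp
      | tmul s γ =>
          rw [Algebra.TensorProduct.map_tmul, AlgHom.coe_id, id_eq, fS_tmul, map_smul, mf_tmul,
            Subalgebra.coe_val, mu'_tmul_tmul, fS_tmul, flin_mul κ d F hF hM γ.2 γ'.2,
            Algebra.smul_def, Algebra.smul_def, map_mul]
          ring
      | add x y hx hy =>
          rw [TensorProduct.add_tmul, map_add, map_add, map_add, map_add, map_add, hx, hy]
  | add x y hx hy => rw [map_add, map_add, map_add, map_add, map_add, hx, hy]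

end CH

end Groth.Agent.Lib.Helper59.CHCore
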