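import Groth.Agent.Lib.Helper59.CHCons

/-!
# Relative Cayley–Hamilton for multiplicative laws

For `u : A' ⊗ B` the characteristic polynomial `χ'_u = F_{A'[X]}(u - X)` satisfies
`χ'_u(u) ∈ (ker F) · (A' ⊗ B)`.
-/

set_option autoImplicit false

namespace Groth.Agent.Lib.Helper59.CHRel

open scoped TensorProduct
open PolLaw Polynomial Groth.Agent.Lib.Helper59.KerPoly Groth.Agent.Lib.Helper59.CHCore
  Groth.Agent.Lib.Helper59.CHThm

universe u

section Aux2

variable {A : Type u} [CommRing A] (κ : Type u) (d : ℕ) (F : MvPolynomial κ A →ₚₗ[A] A)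
  (hF : IsHomog F d) (hM : IsMult F)

/-- `Γ ⊗ P → P`, `γ ⊗ p ↦ f₀(γ) p` -/
noncomputable def eGP : Gam (A := A) κ d ⊗[A] MvPolynomial κ A →ₐ[A] MvPolynomial κ A :=
  Algebra.TensorProduct.lift ((Algebra.ofId A (MvPolynomial κ A)).comp (f0 κ d F hF hM))
    (AlgHom.id A _) (fun _ _ => Commute.all _ _)

theorem eGP_tmul (γ : Gam (A := A) κ d) (p : MvPolynomial κ A) :
    eGP κ d F hF hM (γ ⊗ₜ[A] p) = flin κ d F γ.1 • p := by
  simp [eGP, f0_apply, Algebra.ofId_apply, Algebra.smul_def]

/-- `Γ ⊗ P → Ω`, `γ ⊗ p ↦ γ ι_i(p)` -/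
noncomputable def mGP (i : Fin d) :
    Gam (A := A) κ d ⊗[A] MvPolynomial κ A →ₐ[A] MvPolynomial (Fin d × κ) A :=
  Algebra.TensorProduct.lift (Gam (A := A) κ d).val (iot κ d i) (fun _ _ => Commute.all _ _)

theorem mGP_tmul (i : Fin d) (γ : Gam (A := A) κ d) (p : MvPolynomial κ A) :
    mGP (A := A) κ d i (γ ⊗ₜ[A] p) = γ.1 * iot κ d i p := by
  simp [mGP]

include hF hM in
theorem CH_aux2 {S : Type u} [CommSemiring S] [Algebra A S] (x w : S ⊗[A] MvPolynomial κ A)
    (c : Gam (A := A) κ d ⊗[A] MvPolynomial κ A) (h0 : ∀ i : Fin d, mGP (A := A) κ d i c = 0) :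
    val F S (x + w * ((1 : S) ⊗ₜ[A] eGP κ d F hF hM c)) = val F S x := by
  classical
  let inclL : S →ₐ[A] S ⊗[A] Gam (A := A) κ d := Algebra.TensorProduct.includeLeft
  let inclR : Gam (A := A) κ d →ₐ[A] S ⊗[A] Gam (A := A) κ d := Algebra.TensorProduct.includeRight
  let ct : (S ⊗[A] Gam (A := A) κ d) ⊗[A] MvPolynomial κ A :=
    Algebra.TensorProduct.map inclR (AlgHom.id A _) c
  let zt : (S ⊗[A] Gam (A := A) κ d) ⊗[A] MvPolynomial κ A :=
    Algebra.TensorProduct.map inclL (AlgHom.id A _) x +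
      Algebra.TensorProduct.map inclL (AlgHom.id A _) w * ct
  have hincl : ∀ y : S ⊗[A] MvPolynomial κ A,
      Algebra.TensorProduct.map (mf κ d F hF hM S) (AlgHom.id A _)
        (Algebra.TensorProduct.map inclL (AlgHom.id A _) y) = y := by
    intro y
    rw [KerPoly.map_map, mf_comp_includeLeft, Algebra.TensorProduct.map_id, AlgHom.coe_id, id_eq]
  have hct : ∀ c' : Gam (A := A) κ d ⊗[A] MvPolynomial κ A,
      Algebra.TensorProduct.map (mf κ d F hF hM S) (AlgHom.id A _)
        (Algebra.TensorProduct.map inclR (AlgHom.id A _) c') =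
      (1 : S) ⊗ₜ[A] eGP κ d F hF hM c' := by
    intro c'
    induction c' using TensorProduct.induction_on with
    | zero => simp
    | tmul γ p =>
        rw [Algebra.TensorProduct.map_tmul, AlgHom.coe_id, id_eq, eGP_tmul]
        exact map_mf_ct κ d F hF hM S γ p
    | add a b ha hb => rw [map_add, map_add, ha, hb, map_add, TensorProduct.tmul_add]
  have h1 : Algebra.TensorProduct.map (mf κ d F hF hM S) (AlgHom.id A _) zt =
      x + w * ((1 : S) ⊗ₜ[A] eGP κ d F hF hM c) := by
    show Algebra.TensorProduct.map (mf κ d F hF hM S) (AlgHom.id A _)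
      (Algebra.TensorProduct.map inclL (AlgHom.id A _) x +
        Algebra.TensorProduct.map inclL (AlgHom.id A _) w *
          Algebra.TensorProduct.map inclR (AlgHom.id A _) c) = _
    rw [map_add, map_mul, hincl, hincl, hct]
  have hct0 : ∀ (i : Fin d) (c' : Gam (A := A) κ d ⊗[A] MvPolynomial κ A),
      mu' (A := A) κ d S (Algebra.TensorProduct.map (AlgHom.id A _) (iot κ d i)
        (Algebra.TensorProduct.map inclR (AlgHom.id A _) c')) = (1 : S) ⊗ₜ[A] mGP (A := A) κ d i c' := by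
    intro i c'
    induction c' using TensorProduct.induction_on with
    | zero => simp
    | tmul γ p =>
        rw [Algebra.TensorProduct.map_tmul, AlgHom.coe_id, id_eq, mGP_tmul]
        exact mu'_map_ct κ d S γ p i
    | add a b ha hb => rw [map_add, map_add, map_add, ha, hb, map_add, TensorProduct.tmul_add]
  have hmu : mu' (A := A) κ d S (NN κ d (S ⊗[A] Gam (A := A) κ d) zt) = NN κ d S x := by
    refine (NN_alg κ d (mu' (A := A) κ d S) zt).trans ?_
    rw [NN]
    refine Finset.prod_congr rfl fun i _ => ?_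
    show mu' (A := A) κ d S (Algebra.TensorProduct.map (AlgHom.id A _) (iot κ d i)
      (Algebra.TensorProduct.map inclL (AlgHom.id A _) x +
        Algebra.TensorProduct.map inclL (AlgHom.id A _) w *
          Algebra.TensorProduct.map inclR (AlgHom.id A _) c)) = _
    rw [map_add, map_mul, map_add, map_mul, mu'_map_incl, mu'_map_incl, hct0, h0 i,
      TensorProduct.tmul_zero, mul_zero, add_zero]
  rw [← h1, val_map, val_eq_fS κ d F hF, mf_fS_eq κ d F hF hM S _ (NN_mem_range κ d zt), hmu,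
    ← val_eq_fS κ d F hF]

include hF hM in
/-- elements of `Γ ⊗ P` killed by all the `mGP i` map into the kernel -/
theorem eGP_mem_ker (c : Gam (A := A) κ d ⊗[A] MvPolynomial κ A)
    (h0 : ∀ i : Fin d, mGP (A := A) κ d i c = 0) : eGP κ d F hF hM c ∈ PolLaw.ker F := by
  intro S _ _ x w
  exact toFun'_eq_of_val_eq F (CH_aux2 κ d F hF hM x w c h0)

end Aux2

section Rel

variable {A : Type u} [CommRing A] (κ : Type u) (d : ℕ) (F : MvPolynomial κ A →ₚₗ[A] A)
  (hF : IsHomog F d) (hM : IsMult F) (S₁ : Type u) [CommRing S₁] [Algebra A S₁]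

theorem lamT_map {M : Type u} [AddCommGroup M] [Module A M] {N N' : Type u} [AddCommGroup N]
    [Module A N] [AddCommGroup N'] [Module A N'] (lam : M →ₗ[A] A) (g : N →ₗ[A] N')
    (v : M ⊗[A] N) : lamT lam (g.lTensor M v) = g (lamT lam v) := by
  induction v using TensorProduct.induction_on with
  | zero => simp
  | tmul m n => simp [lamT_tmul]
  | add x y hx hy => simp only [map_add, hx, hy]

theorem lTensor_eq_map {S : Type u} [CommSemiring S] [Algebra A S] {N N' : Type u} [CommRing N]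
    [Algebra A N] [CommRing N'] [Algebra A N'] (g : N →ₐ[A] N') (v : S ⊗[A] N) :
    g.toLinearMap.lTensor S v = Algebra.TensorProduct.map (AlgHom.id A S) g v := by
  induction v using TensorProduct.induction_on with
  | zero => simp
  | tmul m n => simp
  | add x y hx hy => simp only [map_add, hx, hy]

theorem mem_map_of_coords {ι : Type*} (β : Module.Basis ι A S₁) {Pp : Type u} [CommRing Pp]
    [Algebra A Pp] (I : Ideal Pp) (c : S₁ ⊗[A] Pp) (h : ∀ α, lamT (β.coord α) c ∈ I) :
    c ∈ I.map (Algebra.TensorProduct.includeRight : Pp →ₐ[A] S₁ ⊗[A] Pp) := by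
  obtain ⟨T, hT⟩ := expand_left β c
  rw [hT]
  refine Ideal.sum_mem _ fun α _ => ?_
  have h1 : β α ⊗ₜ[A] lamT (β.coord α) c =
      (β α ⊗ₜ[A] (1 : Pp)) *
        (Algebra.TensorProduct.includeRight : Pp →ₐ[A] S₁ ⊗[A] Pp) (lamT (β.coord α) c) := by
    rw [Algebra.TensorProduct.includeRight_apply, Algebra.TensorProduct.tmul_mul_tmul, mul_one,
      one_mul]
  rw [h1]
  exact Ideal.mul_mem_left _ _ (Ideal.mem_map_of_mem _ (h α))

theorem fS_eq_mf {S : Type u} [CommSemiring S] [Algebra A S] (q : S ⊗[A] Gam (A := A) κ d) :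
    fS (flin κ d F) S (Algebra.TensorProduct.map (AlgHom.id A S) (Gam (A := A) κ d).val q) =
      mf κ d F hF hM S q := by
  induction q using TensorProduct.induction_on with
  | zero => simp
  | tmul s γ =>
      rw [Algebra.TensorProduct.map_tmul, AlgHom.coe_id, id_eq, fS_tmul, mf_tmul, Algebra.smul_def,
        mul_comm]
      rfl
  | add x y hx hy => simp only [map_add, hx, hy]

/-- `u - X` in `S₁[X] ⊗ P` -/
noncomputable def zu (u : S₁ ⊗[A] MvPolynomial κ A) : S₁[X] ⊗[A] MvPolynomial κ A :=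
  Algebra.TensorProduct.map (Polynomial.CAlgHom (R := A) (A := S₁)) (AlgHom.id A _) u -
    (X : S₁[X]) ⊗ₜ[A] (1 : MvPolynomial κ A)

/-- the relative characteristic polynomial -/
noncomputable def chiRel (u : S₁ ⊗[A] MvPolynomial κ A) : S₁[X] := val F S₁[X] (zu κ S₁ u)

/-- evaluation of the polynomial variable, relative version -/
noncomputable def evS (y : S₁ ⊗[A] MvPolynomial (Fin d × κ) A) :
    S₁[X] ⊗[A] MvPolynomial (Fin d × κ) A →ₐ[A] S₁ ⊗[A] MvPolynomial (Fin d × κ) A :=
  Algebra.TensorProduct.lift ((Polynomial.aeval y).restrictScalars A)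
    Algebra.TensorProduct.includeRight (fun _ _ => Commute.all _ _)

theorem evS_tmul (y : S₁ ⊗[A] MvPolynomial (Fin d × κ) A) (p : S₁[X])
    (ω : MvPolynomial (Fin d × κ) A) :
    evS κ d S₁ y (p ⊗ₜ[A] ω) = Polynomial.aeval y p * ((1 : S₁) ⊗ₜ[A] ω) := by
  simp [evS]

theorem evS_map_C (y : S₁ ⊗[A] MvPolynomial (Fin d × κ) A) (v : S₁ ⊗[A] MvPolynomial (Fin d × κ) A) :
    evS κ d S₁ y (Algebra.TensorProduct.map (Polynomial.CAlgHom (R := A) (A := S₁))
      (AlgHom.id A _) v) = v := by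
  induction v using TensorProduct.induction_on with
  | zero => simp
  | tmul s ω =>
      rw [Algebra.TensorProduct.map_tmul, evS_tmul]
      simp [Algebra.algebraMap_eq_smul_one, TensorProduct.smul_tmul']
  | add a b ha hb => simp only [map_add, ha, hb]

theorem evS_NN (u : S₁ ⊗[A] MvPolynomial κ A) (y : S₁ ⊗[A] MvPolynomial (Fin d × κ) A) :
    evS κ d S₁ y (NN κ d S₁[X] (zu κ S₁ u)) =
      ∏ j : Fin d, (Algebra.TensorProduct.map (AlgHom.id A S₁) (iot κ d j) u - y) := by
  rw [NN, map_prod]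
  refine Finset.prod_congr rfl fun j _ => ?_
  rw [zu, map_sub, map_sub, Algebra.TensorProduct.map_tmul, evS_tmul, ← map_map_comm, evS_map_C]
  simp only [AlgHom.coe_id, id_eq, Polynomial.aeval_X, map_one]
  rw [← Algebra.TensorProduct.one_def, mul_one]

theorem evS_NN_self (u : S₁ ⊗[A] MvPolynomial κ A) (i : Fin d) :
    evS κ d S₁ (Algebra.TensorProduct.map (AlgHom.id A S₁) (iot κ d i) u)
      (NN κ d S₁[X] (zu κ S₁ u)) = 0 := by
  rw [evS_NN]
  exact Finset.prod_eq_zero (Finset.mem_univ i) (sub_self _)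

end Rel

end Groth.Agent.Lib.Helper59.CHRel
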