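import Groth.Agent.Lib.Helper59.CHRel

/-!
# Relative Cayley–Hamilton for multiplicative laws, part 2

`relCH_poly` : for `S₁` free over `A`, `u : S₁ ⊗ P`, `χ'_u(u) ∈ (ker F) · (S₁ ⊗ P)`.
-/

set_option autoImplicit false

namespace Groth.Agent.Lib.Helper59.CHRel

open scoped TensorProduct
open PolLaw Polynomial Groth.Agent.Lib.Helper59.KerPoly Groth.Agent.Lib.Helper59.CHCore
  Groth.Agent.Lib.Helper59.CHThm

universe u

section Rel2

variable {A : Type u} [CommRing A] (κ : Type u) (d : ℕ) (F : MvPolynomial κ A →ₚₗ[A] A)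
  (hF : IsHomog F d) (hM : IsMult F) (S₁ : Type u) [CommRing S₁] [Algebra A S₁]

/-- `S₁ ⊗ P → S₁ ⊗ (Γ ⊗ P)` -/
noncomputable def jP : S₁ ⊗[A] MvPolynomial κ A →ₐ[S₁]
    S₁ ⊗[A] (Gam (A := A) κ d ⊗[A] MvPolynomial κ A) :=
  Algebra.TensorProduct.map (AlgHom.id S₁ S₁)
    (Algebra.TensorProduct.includeRight : MvPolynomial κ A →ₐ[A]
      Gam (A := A) κ d ⊗[A] MvPolynomial κ A)

theorem jP_tmul (s : S₁) (p : MvPolynomial κ A) :
    jP (A := A) κ d S₁ (s ⊗ₜ[A] p) = s ⊗ₜ[A] ((1 : Gam (A := A) κ d) ⊗ₜ[A] p) := by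
  simp [jP]

/-- `S₁[X] ⊗ Γ → S₁ ⊗ (Γ ⊗ P)`, sending `X` to `u` -/
noncomputable def Theta (u : S₁ ⊗[A] MvPolynomial κ A) :
    S₁[X] ⊗[A] Gam (A := A) κ d →ₐ[A] S₁ ⊗[A] (Gam (A := A) κ d ⊗[A] MvPolynomial κ A) :=
  Algebra.TensorProduct.lift ((Polynomial.aeval (jP (A := A) κ d S₁ u)).restrictScalars A)
    ((Algebra.TensorProduct.includeRight : Gam (A := A) κ d ⊗[A] MvPolynomial κ A →ₐ[A]
        S₁ ⊗[A] (Gam (A := A) κ d ⊗[A] MvPolynomial κ A)).comp
      (Algebra.TensorProduct.includeLeft : Gam (A := A) κ d →ₐ[A]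
        Gam (A := A) κ d ⊗[A] MvPolynomial κ A))
    (fun _ _ => Commute.all (S := S₁ ⊗[A] (Gam (A := A) κ d ⊗[A] MvPolynomial κ A)) _ _)

theorem Theta_tmul (u : S₁ ⊗[A] MvPolynomial κ A) (p : S₁[X]) (γ : Gam (A := A) κ d) :
    Theta (A := A) κ d S₁ u (p ⊗ₜ[A] γ) =
      Polynomial.aeval (jP (A := A) κ d S₁ u) p * ((1 : S₁) ⊗ₜ[A] (γ ⊗ₜ[A] (1 : MvPolynomial κ A))) := by
  simp [Theta]

/-- `S₁ ⊗ (Γ ⊗ P) → S₁ ⊗ P` -/
noncomputable def ES : S₁ ⊗[A] (Gam (A := A) κ d ⊗[A] MvPolynomial κ A) →ₐ[S₁]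
    S₁ ⊗[A] MvPolynomial κ A :=
  Algebra.TensorProduct.map (AlgHom.id S₁ S₁) (eGP κ d F hF hM)

/-- `S₁ ⊗ (Γ ⊗ P) → S₁ ⊗ Ω` -/
noncomputable def MS (i : Fin d) : S₁ ⊗[A] (Gam (A := A) κ d ⊗[A] MvPolynomial κ A) →ₐ[S₁]
    S₁ ⊗[A] MvPolynomial (Fin d × κ) A :=
  Algebra.TensorProduct.map (AlgHom.id S₁ S₁) (mGP (A := A) κ d i)

theorem ES_tmul (s : S₁) (c : Gam (A := A) κ d ⊗[A] MvPolynomial κ A) :
    ES κ d F hF hM S₁ (s ⊗ₜ[A] c) = s ⊗ₜ[A] eGP κ d F hF hM c := by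
  simp [ES]

theorem MS_tmul (i : Fin d) (s : S₁) (c : Gam (A := A) κ d ⊗[A] MvPolynomial κ A) :
    MS (A := A) κ d S₁ i (s ⊗ₜ[A] c) = s ⊗ₜ[A] mGP (A := A) κ d i c := by
  simp [MS]

theorem ES_eq_lTensor (v : S₁ ⊗[A] (Gam (A := A) κ d ⊗[A] MvPolynomial κ A)) :
    ES κ d F hF hM S₁ v = (eGP κ d F hF hM).toLinearMap.lTensor S₁ v := by
  induction v using TensorProduct.induction_on with
  | zero => simp
  | tmul s c => rw [ES_tmul]; rfl
  | add x y hx hy => simp only [map_add, hx, hy]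

theorem MS_eq_lTensor (i : Fin d) (v : S₁ ⊗[A] (Gam (A := A) κ d ⊗[A] MvPolynomial κ A)) :
    MS (A := A) κ d S₁ i v = (mGP (A := A) κ d i).toLinearMap.lTensor S₁ v := by
  induction v using TensorProduct.induction_on with
  | zero => simp
  | tmul s c => rw [MS_tmul]; rfl
  | add x y hx hy => simp only [map_add, hx, hy]

theorem ES_jP (u : S₁ ⊗[A] MvPolynomial κ A) : ES κ d F hF hM S₁ (jP (A := A) κ d S₁ u) = u := by
  induction u using TensorProduct.induction_on with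
  | zero => simp
  | tmul s p =>
      rw [jP_tmul, ES_tmul, eGP_tmul]
      show s ⊗ₜ[A] (flin κ d F 1 • p) = _
      rw [flin_one κ d F hF hM, one_smul]
  | add x y hx hy => simp only [map_add, hx, hy]

theorem MS_jP (i : Fin d) (u : S₁ ⊗[A] MvPolynomial κ A) :
    MS (A := A) κ d S₁ i (jP (A := A) κ d S₁ u) = Algebra.TensorProduct.map (AlgHom.id A S₁) (iot κ d i) u := by
  induction u using TensorProduct.induction_on with
  | zero => simp
  | tmul s p =>
      rw [jP_tmul, MS_tmul, mGP_tmul, Algebra.TensorProduct.map_tmul]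
      simp
  | add x y hx hy => simp only [map_add, hx, hy]

theorem ES_Theta (u : S₁ ⊗[A] MvPolynomial κ A) (q : S₁[X] ⊗[A] Gam (A := A) κ d) :
    ES κ d F hF hM S₁ (Theta (A := A) κ d S₁ u q) = Polynomial.aeval u (mf κ d F hF hM S₁[X] q) := by
  induction q using TensorProduct.induction_on with
  | zero => simp
  | tmul p γ =>
      rw [Theta_tmul, map_mul, ← Polynomial.aeval_algHom_apply, ES_jP, ES_tmul, eGP_tmul, mf_tmul,
        map_mul]
      congr 1
      rw [Polynomial.algebraMap_apply, Polynomial.aeval_C, Algebra.TensorProduct.algebraMap_apply,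
        Algebra.algebraMap_self, RingHom.id_apply, Algebra.algebraMap_eq_smul_one,
        TensorProduct.smul_tmul]
  | add x y hx hy => simp only [map_add, hx, hy]

theorem MS_Theta (u : S₁ ⊗[A] MvPolynomial κ A) (i : Fin d) (q : S₁[X] ⊗[A] Gam (A := A) κ d) :
    MS (A := A) κ d S₁ i (Theta (A := A) κ d S₁ u q) =
      evS κ d S₁ (Algebra.TensorProduct.map (AlgHom.id A S₁) (iot κ d i) u)
        (Algebra.TensorProduct.map (AlgHom.id A S₁[X]) (Gam (A := A) κ d).val q) := by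
  induction q using TensorProduct.induction_on with
  | zero => simp
  | tmul p γ =>
      rw [Theta_tmul, map_mul, ← Polynomial.aeval_algHom_apply, MS_jP, MS_tmul, mGP_tmul,
        Algebra.TensorProduct.map_tmul, evS_tmul]
      simp
  | add x y hx hy => simp only [map_add, hx, hy]

theorem lamT_ES (lam : S₁ →ₗ[A] A) (v : S₁ ⊗[A] (Gam (A := A) κ d ⊗[A] MvPolynomial κ A)) :
    lamT lam (ES κ d F hF hM S₁ v) = eGP κ d F hF hM (lamT lam v) := by
  induction v using TensorProduct.induction_on with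
  | zero => simp
  | tmul s c => rw [ES_tmul, lamT_tmul, lamT_tmul, map_smul]
  | add x y hx hy => simp only [map_add, hx, hy]

theorem lamT_MS (i : Fin d) (lam : S₁ →ₗ[A] A)
    (v : S₁ ⊗[A] (Gam (A := A) κ d ⊗[A] MvPolynomial κ A)) :
    lamT lam (MS (A := A) κ d S₁ i v) = mGP (A := A) κ d i (lamT lam v) := by
  induction v using TensorProduct.induction_on with
  | zero => simp
  | tmul s c => rw [MS_tmul, lamT_tmul, lamT_tmul, map_smul]
  | add x y hx hy => simp only [map_add, hx, hy]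

include hF hM in
/-- **relative Cayley–Hamilton**, free case, polynomial algebra -/
theorem relCH_poly {ι : Type*} (β : Module.Basis ι A S₁) (u : S₁ ⊗[A] MvPolynomial κ A) :
    Polynomial.aeval u (chiRel κ F S₁ u) ∈
      (PolLaw.ker F).map (Algebra.TensorProduct.includeRight : MvPolynomial κ A →ₐ[A]
        S₁ ⊗[A] MvPolynomial κ A) := by
  obtain ⟨Q, hQ⟩ := (AlgHom.mem_range _).mp (NN_mem_range κ d (zu κ S₁ u))
  have hE : ES κ d F hF hM S₁ (Theta (A := A) κ d S₁ u Q) =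
      Polynomial.aeval u (chiRel κ F S₁ u) := by
    rw [ES_Theta, ← fS_eq_mf, hQ, chiRel, val_eq_fS κ d F hF]
  have hMS : ∀ i : Fin d, MS (A := A) κ d S₁ i (Theta (A := A) κ d S₁ u Q) = 0 := by
    intro i
    rw [MS_Theta, hQ, evS_NN_self]
  apply mem_map_of_coords S₁ β
  intro α
  rw [← hE, lamT_ES]
  apply eGP_mem_ker κ d F hF hM
  intro i
  rw [← lamT_MS, hMS i, map_zero]

end Rel2

end Groth.Agent.Lib.Helper59.CHRel
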