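import Groth.Agent.Lib.Helper59.CHRel3

/-!
# The relative characteristic polynomial has degree `d` and leading coefficient `(-1)^d`
-/

set_option autoImplicit false

namespace Groth.Agent.Lib.Helper59.CHRel

open scoped TensorProduct
open PolLaw Polynomial Groth.Agent.Lib.Helper59.KerPoly Groth.Agent.Lib.Helper59.CHCore
  Groth.Agent.Lib.Helper59.CHThm

universe u

section ProdPoly

variable {R : Type*} [CommRing R] (d : ℕ) (y : Fin d → R)

theorem prodCX_eq : (∏ j : Fin d, (C (y j) - X) : R[X]) = C ((-1) ^ d) * ∏ j : Fin d, (X - C (y j)) := by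
  have h : ∀ j : Fin d, (C (y j) - X : R[X]) = (-1) * (X - C (y j)) := fun j => by ring
  simp only [h]
  rw [Finset.prod_mul_distrib, Finset.prod_const, Finset.card_univ, Fintype.card_fin]
  simp

theorem natDegree_prodXC_le : (∏ j : Fin d, (X - C (y j)) : R[X]).natDegree ≤ d := by
  refine (Polynomial.natDegree_prod_le _ _).trans ?_
  refine (Finset.sum_le_sum fun j _ => Polynomial.natDegree_X_sub_C_le _).trans ?_
  simp

theorem coeff_prodCX_of_lt (k : ℕ) (h : d < k) : (∏ j : Fin d, (C (y j) - X) : R[X]).coeff k = 0 := by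
  rw [prodCX_eq, Polynomial.coeff_C_mul,
    Polynomial.coeff_eq_zero_of_natDegree_lt ((natDegree_prodXC_le d y).trans_lt h), mul_zero]

theorem coeff_prodCX_d : (∏ j : Fin d, (C (y j) - X) : R[X]).coeff d = (-1) ^ d := by
  rw [prodCX_eq, Polynomial.coeff_C_mul]
  rcases subsingleton_or_nontrivial R with h | h
  · exact Subsingleton.elim _ _
  · have hm : (∏ j : Fin d, (X - C (y j)) : R[X]).Monic := Polynomial.monic_prod_X_sub_C _ _
    have hd : (∏ j : Fin d, (X - C (y j)) : R[X]).natDegree = d := by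
      rw [Polynomial.natDegree_finsetProd_X_sub_C_eq_card, Finset.card_univ, Fintype.card_fin]
    have := hm.coeff_natDegree
    rw [hd] at this
    rw [this, mul_one]

end ProdPoly

section Deg

variable {A : Type u} [CommRing A] (κ : Type u) (d : ℕ) (F : MvPolynomial κ A →ₚₗ[A] A)
  (hF : IsHomog F d) (hM : IsMult F) (S₁ : Type u) [CommRing S₁] [Algebra A S₁]

/-- the `k`-th coefficient, tensored with `Ω` -/
noncomputable def Lk (k : ℕ) : S₁[X] ⊗[A] MvPolynomial (Fin d × κ) A →ₗ[A]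
    S₁ ⊗[A] MvPolynomial (Fin d × κ) A :=
  ((Polynomial.lcoeff S₁ k).restrictScalars A).rTensor _

theorem Lk_tmul (k : ℕ) (p : S₁[X]) (ω : MvPolynomial (Fin d × κ) A) :
    Lk (A := A) κ d S₁ k (p ⊗ₜ[A] ω) = p.coeff k ⊗ₜ[A] ω := by
  simp [Lk]

theorem coeff_fS (f : MvPolynomial (Fin d × κ) A →ₗ[A] A) (k : ℕ)
    (v : S₁[X] ⊗[A] MvPolynomial (Fin d × κ) A) :
    (fS f S₁[X] v).coeff k = fS f S₁ (Lk (A := A) κ d S₁ k v) := by
  induction v using TensorProduct.induction_on with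
  | zero => simp
  | tmul p ω =>
      rw [fS_tmul, Lk_tmul, fS_tmul, Polynomial.coeff_smul]
  | add x y hx hy => simp only [map_add, Polynomial.coeff_add, hx, hy]

/-- `S₁[X] ⊗ Ω → (S₁ ⊗ Ω)[X]` -/
noncomputable def thetaS : S₁[X] ⊗[A] MvPolynomial (Fin d × κ) A →ₐ[A]
    (S₁ ⊗[A] MvPolynomial (Fin d × κ) A)[X] :=
  Algebra.TensorProduct.lift
    (Polynomial.mapAlgHom (Algebra.TensorProduct.includeLeft : S₁ →ₐ[A]
      S₁ ⊗[A] MvPolynomial (Fin d × κ) A))
    ((Polynomial.CAlgHom (R := A) (A := S₁ ⊗[A] MvPolynomial (Fin d × κ) A)).comp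
      Algebra.TensorProduct.includeRight)
    (fun _ _ => Commute.all (S := (S₁ ⊗[A] MvPolynomial (Fin d × κ) A)[X]) _ _)

theorem thetaS_tmul (p : S₁[X]) (ω : MvPolynomial (Fin d × κ) A) :
    thetaS (A := A) κ d S₁ (p ⊗ₜ[A] ω) =
      Polynomial.map (Algebra.TensorProduct.includeLeft : S₁ →ₐ[A]
        S₁ ⊗[A] MvPolynomial (Fin d × κ) A).toRingHom p * C ((1 : S₁) ⊗ₜ[A] ω) := by
  simp [thetaS]

theorem coeff_thetaS (k : ℕ) (v : S₁[X] ⊗[A] MvPolynomial (Fin d × κ) A) :
    (thetaS (A := A) κ d S₁ v).coeff k = Lk (A := A) κ d S₁ k v := by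
  induction v using TensorProduct.induction_on with
  | zero => simp
  | tmul p ω =>
      rw [thetaS_tmul, Polynomial.coeff_mul_C, Polynomial.coeff_map, Lk_tmul]
      simp [Algebra.TensorProduct.tmul_mul_tmul]
  | add x y hx hy => simp only [map_add, Polynomial.coeff_add, hx, hy]

theorem thetaS_map_C (v : S₁ ⊗[A] MvPolynomial (Fin d × κ) A) :
    thetaS (A := A) κ d S₁ (Algebra.TensorProduct.map (Polynomial.CAlgHom (R := A) (A := S₁))
      (AlgHom.id A _) v) = C v := by
  induction v using TensorProduct.induction_on with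
  | zero => simp
  | tmul s ω =>
      rw [Algebra.TensorProduct.map_tmul, thetaS_tmul]
      simp [← map_mul, Algebra.TensorProduct.tmul_mul_tmul]
  | add a b ha hb => simp only [map_add, ha, hb]

theorem thetaS_NN (u : S₁ ⊗[A] MvPolynomial κ A) :
    thetaS (A := A) κ d S₁ (NN κ d S₁[X] (zu κ S₁ u)) =
      ∏ j : Fin d, (C (Algebra.TensorProduct.map (AlgHom.id A S₁) (iot κ d j) u) - X) := by
  rw [NN, map_prod]
  refine Finset.prod_congr rfl fun j _ => ?_
  rw [zu, map_sub, map_sub, Algebra.TensorProduct.map_tmul, thetaS_tmul, ← map_map_comm,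
    thetaS_map_C]
  simp [← Algebra.TensorProduct.one_def]

include hF in
theorem chiRel_coeff (u : S₁ ⊗[A] MvPolynomial κ A) (k : ℕ) :
    (chiRel κ F S₁ u).coeff k = fS (flin κ d F) S₁
      ((∏ j : Fin d, (C (Algebra.TensorProduct.map (AlgHom.id A S₁) (iot κ d j) u) - X)).coeff k) := by
  rw [chiRel, val_eq_fS κ d F hF, coeff_fS, ← coeff_thetaS, thetaS_NN]

include hF in
theorem chiRel_coeff_of_lt (u : S₁ ⊗[A] MvPolynomial κ A) (k : ℕ) (h : d < k) :
    (chiRel κ F S₁ u).coeff k = 0 := by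
  rw [chiRel_coeff κ d F hF, coeff_prodCX_of_lt d _ k h, map_zero]

include hF hM in
theorem chiRel_coeff_d (u : S₁ ⊗[A] MvPolynomial κ A) :
    (chiRel κ F S₁ u).coeff d = (-1) ^ d := by
  rw [chiRel_coeff κ d F hF, coeff_prodCX_d]
  have h1 : ((-1 : S₁ ⊗[A] MvPolynomial (Fin d × κ) A) ^ d) =
      ((-1 : S₁) ^ d) ⊗ₜ[A] (1 : MvPolynomial (Fin d × κ) A) := by
    rw [Algebra.TensorProduct.one_def, ← TensorProduct.neg_tmul, Algebra.TensorProduct.tmul_pow,
      one_pow]
  rw [h1, fS_tmul, flin_one κ d F hF hM, one_smul]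

end Deg

section GeneralDeg

variable {A : Type u} [CommRing A] {B : Type u} [CommRing B] [Algebra A B] {d : ℕ}

theorem chiRelB_eq_chiRel (F : MulLaw A B A d) (S₁ : Type u) [CommRing S₁] [Algebra A S₁]
    (u' : S₁ ⊗[A] MvPolynomial B A) :
    chiRelB F S₁ (Algebra.TensorProduct.map (AlgHom.id A S₁)
      (MvPolynomial.aeval id : MvPolynomial B A →ₐ[A] B) u') =
      chiRel B (F.precomp (MvPolynomial.aeval id : MvPolynomial B A →ₐ[A] B)).law S₁ u' := by
  unfold chiRelB chiRel val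
  rw [precomp_toFun']
  congr 2
  unfold zuB zu
  rw [map_sub, Algebra.TensorProduct.map_tmul, map_one, AlgHom.coe_id, id_eq, ← map_map_comm]

theorem exists_lift_poly (S₁ : Type u) [CommRing S₁] [Algebra A S₁] (u : S₁ ⊗[A] B) :
    ∃ u' : S₁ ⊗[A] MvPolynomial B A, Algebra.TensorProduct.map (AlgHom.id A S₁)
      (MvPolynomial.aeval id : MvPolynomial B A →ₐ[A] B) u' = u := by
  have hπ : Function.Surjective (MvPolynomial.aeval id : MvPolynomial B A →ₐ[A] B) :=
    fun b' => ⟨MvPolynomial.X b', by simp⟩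
  obtain ⟨y', hy'⟩ := LinearMap.lTensor_surjective S₁
    (g := (MvPolynomial.aeval id : MvPolynomial B A →ₐ[A] B).toLinearMap) hπ u
  exact ⟨y', hy'⟩

theorem chiRelB_coeff_of_lt (F : MulLaw A B A d) (A' : Type u) [CommRing A'] [Algebra A A']
    (u : A' ⊗[A] B) (k : ℕ) (h : d < k) : (chiRelB F A' u).coeff k = 0 := by
  obtain ⟨u', rfl⟩ := exists_lift_poly A' u
  rw [chiRelB_eq_chiRel]
  exact chiRel_coeff_of_lt B d _ (F.precomp _).homog A' u' k h

theorem chiRelB_coeff_d (F : MulLaw A B A d) (A' : Type u) [CommRing A'] [Algebra A A']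
    (u : A' ⊗[A] B) : (chiRelB F A' u).coeff d = (-1) ^ d := by
  obtain ⟨u', rfl⟩ := exists_lift_poly A' u
  rw [chiRelB_eq_chiRel]
  exact chiRel_coeff_d B d _ (F.precomp _).homog (F.precomp _).mult A' u'

theorem natDegree_chiRelB_le (F : MulLaw A B A d) (A' : Type u) [CommRing A'] [Algebra A A']
    (u : A' ⊗[A] B) : (chiRelB F A' u).natDegree ≤ d := by
  rw [Polynomial.natDegree_le_iff_coeff_eq_zero]
  exact fun k hk => chiRelB_coeff_of_lt F A' u k hk

/-- every element of `A' ⊗ B` is, modulo the extension of `ker F`, a root of a monic polynomial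
of degree at most `d` over `A'` -/
theorem exists_monic_rel (F : MulLaw A B A d) (A' : Type u) [CommRing A'] [Algebra A A']
    (u : A' ⊗[A] B) :
    ∃ p : A'[X], p.Monic ∧ p.natDegree ≤ d ∧ Polynomial.aeval u p ∈
      (PolLaw.ker F.law).map (Algebra.TensorProduct.includeRight : B →ₐ[A] A' ⊗[A] B) := by
  refine ⟨C ((-1) ^ d) * chiRelB F A' u, ?_, ?_, ?_⟩
  · apply Polynomial.monic_of_natDegree_le_of_coeff_eq_one d
    · exact (Polynomial.natDegree_C_mul_le _ _).trans (natDegree_chiRelB_le F A' u)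
    · rw [Polynomial.coeff_C_mul, chiRelB_coeff_d, ← mul_pow]
      simp
  · exact (Polynomial.natDegree_C_mul_le _ _).trans (natDegree_chiRelB_le F A' u)
  · rw [map_mul]
    exact Ideal.mul_mem_left _ _ (relCH F A' u)

end GeneralDeg

end Groth.Agent.Lib.Helper59.CHRel
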