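import Groth.Agent.Lib.Helper59.CHCore

/-!
# Cayley–Hamilton for multiplicative polynomial laws

`CH_poly` : for a multiplicative law `F : MvPolynomial κ A → A` homogeneous of degree `d` and
`t` in the polynomial algebra, `χ_t(t)` lies in the kernel of `F`.
`CH` : the same for any commutative `A`-algebra `B`.
-/

set_option autoImplicit false

namespace Groth.Agent.Lib.Helper59.CHThm

open scoped TensorProduct
open PolLaw Polynomial Groth.Agent.Lib.Helper59.KerPoly Groth.Agent.Lib.Helper59.CHCore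

universe u

section Poly

variable {A : Type u} [CommRing A] (κ : Type u) (d : ℕ) (F : MvPolynomial κ A →ₚₗ[A] A)
  (hF : IsHomog F d) (hM : IsMult F)

theorem NN_alg {S' R : Type u} [CommSemiring S'] [Algebra A S'] [CommSemiring R] [Algebra A R]
    (φ : S' ⊗[A] MvPolynomial (Fin d × κ) A →ₐ[A] R) (z : S' ⊗[A] MvPolynomial κ A) :
    φ (NN κ d S' z) = ∏ i : Fin d, φ (Algebra.TensorProduct.map (AlgHom.id A S') (iot κ d i) z) := by
  rw [NN, map_prod]

theorem mf_comp_includeLeft (S : Type u) [CommSemiring S] [Algebra A S] :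
    (mf κ d F hF hM S).comp (Algebra.TensorProduct.includeLeft : S →ₐ[A] S ⊗[A] Gam (A := A) κ d) =
      AlgHom.id A S := by
  refine AlgHom.ext fun s => ?_
  show mf κ d F hF hM S (s ⊗ₜ[A] (1 : Gam (A := A) κ d)) = s
  rw [mf_tmul]
  show s * algebraMap A S (flin κ d F 1) = s
  rw [flin_one κ d F hF hM, map_one, mul_one]

theorem mu'_map_incl (S : Type u) [CommSemiring S] [Algebra A S] (i : Fin d)
    (x : S ⊗[A] MvPolynomial κ A) :
    mu' (A := A) κ d S (Algebra.TensorProduct.map (AlgHom.id A (S ⊗[A] Gam (A := A) κ d)) (iot κ d i)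
      (Algebra.TensorProduct.map
        (Algebra.TensorProduct.includeLeft : S →ₐ[A] S ⊗[A] Gam (A := A) κ d) (AlgHom.id A _) x)) =
      Algebra.TensorProduct.map (AlgHom.id A S) (iot κ d i) x := by
  induction x using TensorProduct.induction_on with
  | zero => simp
  | tmul s p =>
      simp only [Algebra.TensorProduct.map_tmul, Algebra.TensorProduct.includeLeft_apply,
        AlgHom.coe_id, id_eq]
      rw [mu'_tmul_tmul]
      simp
  | add x y hx hy => simp only [map_add, hx, hy]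

theorem map_mf_ct (S : Type u) [CommSemiring S] [Algebra A S] (γ : Gam (A := A) κ d)
    (p : MvPolynomial κ A) :
    Algebra.TensorProduct.map (mf κ d F hF hM S) (AlgHom.id A (MvPolynomial κ A))
      (((1 : S) ⊗ₜ[A] γ) ⊗ₜ[A] p) = (1 : S) ⊗ₜ[A] (flin κ d F γ.1 • p) := by
  rw [Algebra.TensorProduct.map_tmul, mf_tmul, one_mul, AlgHom.coe_id, id_eq,
      Algebra.algebraMap_eq_smul_one, TensorProduct.smul_tmul]

theorem mu'_map_ct (S : Type u) [CommSemiring S] [Algebra A S] (γ : Gam (A := A) κ d)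
    (p : MvPolynomial κ A) (i : Fin d) :
    mu' (A := A) κ d S (Algebra.TensorProduct.map (AlgHom.id A (S ⊗[A] Gam (A := A) κ d)) (iot κ d i)
      (((1 : S) ⊗ₜ[A] γ) ⊗ₜ[A] p)) = (1 : S) ⊗ₜ[A] (γ.1 * iot κ d i p) := by
  rw [Algebra.TensorProduct.map_tmul, AlgHom.coe_id, id_eq, mu'_tmul_tmul]

include hF hM in
theorem CH_aux {S : Type u} [CommSemiring S] [Algebra A S] (x w : S ⊗[A] MvPolynomial κ A)
    (T : Finset ℕ) (γ : ℕ → Gam (A := A) κ d) (p : ℕ → MvPolynomial κ A)
    (h0 : ∀ i : Fin d, ∑ k ∈ T, (γ k).1 * iot κ d i (p k) = 0) :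
    val F S (x + w * ((1 : S) ⊗ₜ[A] ∑ k ∈ T, flin κ d F (γ k).1 • p k)) = val F S x := by
  classical
  let inclL : S →ₐ[A] S ⊗[A] Gam (A := A) κ d := Algebra.TensorProduct.includeLeft
  let ct : (S ⊗[A] Gam (A := A) κ d) ⊗[A] MvPolynomial κ A :=
    ∑ k ∈ T, ((1 : S) ⊗ₜ[A] γ k) ⊗ₜ[A] p k
  let zt : (S ⊗[A] Gam (A := A) κ d) ⊗[A] MvPolynomial κ A :=
    Algebra.TensorProduct.map inclL (AlgHom.id A _) x +
      Algebra.TensorProduct.map inclL (AlgHom.id A _) w * ct
  have hincl : ∀ y : S ⊗[A] MvPolynomial κ A,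
      Algebra.TensorProduct.map (mf κ d F hF hM S) (AlgHom.id A _)
        (Algebra.TensorProduct.map inclL (AlgHom.id A _) y) = y := by
    intro y
    rw [KerPoly.map_map, mf_comp_includeLeft, Algebra.TensorProduct.map_id, AlgHom.coe_id, id_eq]
  have hct : Algebra.TensorProduct.map (mf κ d F hF hM S) (AlgHom.id A _) ct =
      (1 : S) ⊗ₜ[A] ∑ k ∈ T, flin κ d F (γ k).1 • p k := by
    show Algebra.TensorProduct.map (mf κ d F hF hM S) (AlgHom.id A _)
      (∑ k ∈ T, ((1 : S) ⊗ₜ[A] γ k) ⊗ₜ[A] p k) = _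
    rw [map_sum, TensorProduct.tmul_sum]
    exact Finset.sum_congr rfl fun k _ => map_mf_ct κ d F hF hM S (γ k) (p k)
  have h1 : Algebra.TensorProduct.map (mf κ d F hF hM S) (AlgHom.id A _) zt =
      x + w * ((1 : S) ⊗ₜ[A] ∑ k ∈ T, flin κ d F (γ k).1 • p k) := by
    show Algebra.TensorProduct.map (mf κ d F hF hM S) (AlgHom.id A _)
      (Algebra.TensorProduct.map inclL (AlgHom.id A _) x +
        Algebra.TensorProduct.map inclL (AlgHom.id A _) w * ct) = _
    rw [map_add, map_mul, hincl, hincl, hct]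
  have hmu : mu' (A := A) κ d S (NN κ d (S ⊗[A] Gam (A := A) κ d) zt) = NN κ d S x := by
    refine (NN_alg κ d (mu' (A := A) κ d S) zt).trans ?_
    rw [NN]
    refine Finset.prod_congr rfl fun i _ => ?_
    show mu' (A := A) κ d S (Algebra.TensorProduct.map (AlgHom.id A _) (iot κ d i)
      (Algebra.TensorProduct.map inclL (AlgHom.id A _) x +
        Algebra.TensorProduct.map inclL (AlgHom.id A _) w * ct)) = _
    have hct0 : mu' (A := A) κ d S (Algebra.TensorProduct.map (AlgHom.id A _) (iot κ d i) ct) = 0 := by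
      show mu' (A := A) κ d S (Algebra.TensorProduct.map (AlgHom.id A _) (iot κ d i)
        (∑ k ∈ T, ((1 : S) ⊗ₜ[A] γ k) ⊗ₜ[A] p k)) = 0
      rw [map_sum, map_sum, Finset.sum_congr rfl fun k _ => mu'_map_ct κ d S (γ k) (p k) i,
        ← TensorProduct.tmul_sum, h0 i, TensorProduct.tmul_zero]
    rw [map_add, map_mul, map_add, map_mul, mu'_map_incl, mu'_map_incl, hct0, mul_zero, add_zero]
  rw [← h1, val_map, val_eq_fS κ d F hF, mf_fS_eq κ d F hF hM S _ (NN_mem_range κ d zt), hmu,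
    ← val_eq_fS κ d F hF]

include hF hM in
theorem CH_poly (t : MvPolynomial κ A) {S : Type u} [CommSemiring S] [Algebra A S]
    (x w : S ⊗[A] MvPolynomial κ A) :
    val F S (x + w * ((1 : S) ⊗ₜ[A] Polynomial.aeval t
      (val F A[X] ((1 : A[X]) ⊗ₜ[A] t - (X : A[X]) ⊗ₜ[A] (1 : MvPolynomial κ A))))) =
      val F S x := by
  classical
  obtain ⟨T, hT⟩ := expand_left (Polynomial.basisMonomials A) (Qt κ d t)
  change Qt κ d t = ∑ k ∈ T, (Polynomial.basisMonomials A k) ⊗ₜ[A] Ek κ d t k at hT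
  rw [aeval_chi_eq κ d F hF t T hT]
  refine CH_aux κ d F hF hM x w T (fun k => ⟨Ek κ d t k, Ek_mem κ d t k⟩) (fun k => t ^ k) ?_
  intro i
  have := sum_Ek κ d t T hT i
  simpa only [map_pow] using this

end Poly

section General

variable {A : Type u} [CommRing A] {B : Type u} [CommRing B] [Algebra A B] {d : ℕ}

theorem precomp_toFun' {B' : Type u} [CommRing B'] [Algebra A B'] (F : MulLaw A B A d)
    (π : B' →ₐ[A] B) (S : Type u) [CommSemiring S] [Algebra A S] (x : S ⊗[A] B') :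
    (F.precomp π).law.toFun' S x =
      F.law.toFun' S (Algebra.TensorProduct.map (AlgHom.id A S) π x) := by
  show F.law.toFun' S (π.toLinearMap.lTensor S x) = _
  congr 1

/-- **Cayley–Hamilton** for multiplicative laws: `χ_b(b)` lies in the kernel. -/
theorem CH (F : MulLaw A B A d) (b : B) :
    Polynomial.aeval b (TensorProduct.rid A A[X]
      (F.law.toFun' A[X] ((1 : A[X]) ⊗ₜ[A] b - (X : A[X]) ⊗ₜ[A] (1 : B)))) ∈ PolLaw.ker F.law := by
  intro S _ _ x w
  let π : MvPolynomial B A →ₐ[A] B := MvPolynomial.aeval id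
  have hπ : Function.Surjective π := fun b' => ⟨MvPolynomial.X b', by simp [π]⟩
  have hsurj : Function.Surjective (Algebra.TensorProduct.map (AlgHom.id A S) π) := by
    intro y
    obtain ⟨y', hy'⟩ := LinearMap.lTensor_surjective S (g := π.toLinearMap) hπ y
    exact ⟨y', hy'⟩
  obtain ⟨x', rfl⟩ := hsurj x
  obtain ⟨w', rfl⟩ := hsurj w
  let F' := F.precomp π
  let t : MvPolynomial B A := MvPolynomial.X b
  have ht : π t = b := by simp [π, t]
  have hχ : val F'.law A[X] ((1 : A[X]) ⊗ₜ[A] t - (X : A[X]) ⊗ₜ[A] (1 : MvPolynomial B A)) =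
      TensorProduct.rid A A[X]
        (F.law.toFun' A[X] ((1 : A[X]) ⊗ₜ[A] b - (X : A[X]) ⊗ₜ[A] (1 : B))) := by
    unfold val
    rw [precomp_toFun', map_sub, Algebra.TensorProduct.map_tmul, Algebra.TensorProduct.map_tmul, ht,
      map_one, map_one, AlgHom.coe_id, id_eq]
  have h := CH_poly B d F'.law F'.homog F'.mult t x' w'
  have h2 := toFun'_eq_of_val_eq F'.law h
  rw [precomp_toFun', precomp_toFun', hχ, map_add, map_mul, Algebra.TensorProduct.map_tmul,
    ← Polynomial.aeval_algHom_apply, ht] at h2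
  exact h2

end General

end Groth.Agent.Lib.Helper59.CHThm
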