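import Groth.Agent.Lib.Helper59.DPGen
import Mathlib.RingTheory.PowerSeries.Basic

/-!
# Divided powers on a sum of two ideals
-/

set_option autoImplicit false
set_option linter.unusedVariables false

namespace Groth.Agent.Lib.Helper59.DPAdd

open Finset

universe u

variable {A : Type u} [CommRing A] {I J : Ideal A} (γ : DividedPowers I) (δ : DividedPowers J)
  (h : ∀ (n : ℕ) (x : A), x ∈ I ⊓ J → γ.dpow n x = δ.dpow n x)

/-- the product of the two exponential series -/
noncomputable def ser (a b : A) : PowerSeries A := γ.exp a * δ.exp b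

include h in
theorem ser_wd {a a' b b' : A} (ha : a ∈ I) (ha' : a' ∈ I) (hb : b ∈ J) (hb' : b' ∈ J)
    (hab : a + b = a' + b') : ser γ δ a b = ser γ δ a' b' := by
  have hcI : a - a' ∈ I := I.sub_mem ha ha'
  have hcJ : a - a' ∈ J := by
    have : a - a' = b' - b := by linear_combination hab
    rw [this]
    exact J.sub_mem hb' hb
  have e1 : γ.exp (a - a') = δ.exp (a - a') := by
    ext n
    simp [DividedPowers.exp, h n (a - a') ⟨hcI, hcJ⟩]
  have e2 : a = a' + (a - a') := by ring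
  have e3 : b' = b + (a - a') := by linear_combination -hab
  rw [ser, ser, e2, γ.exp_add ha' hcI, e3, δ.exp_add hb hcJ, e1]
  ring

theorem exp_zero' {K : Ideal A} (κ : DividedPowers K) : κ.exp 0 = 1 := by
  ext n
  rw [DividedPowers.exp, PowerSeries.coeff_mk, PowerSeries.coeff_one]
  by_cases hn : n = 0
  · subst hn
    rw [if_pos rfl, κ.dpow_zero K.zero_mem]
  · rw [if_neg hn, κ.dpow_eval_zero hn]

theorem exp_smul' {K : Ideal A} (κ : DividedPowers K) (c : A) {a : A} (ha : a ∈ K) :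
    κ.exp (c * a) = PowerSeries.rescale c (κ.exp a) := by
  ext n
  simp only [PowerSeries.coeff_rescale, DividedPowers.exp, PowerSeries.coeff_mk, κ.dpow_mul ha]

open Classical in
/-- the divided power function on the sum -/
noncomputable def eps (n : ℕ) (x : A) : A :=
  if hx : x ∈ I ⊔ J then
    PowerSeries.coeff n (ser γ δ (Submodule.mem_sup.mp hx).choose
      (Submodule.mem_sup.mp hx).choose_spec.2.choose)
  else 0

include h in
theorem eps_eq {a b : A} (ha : a ∈ I) (hb : b ∈ J) (n : ℕ) :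
    eps γ δ n (a + b) = PowerSeries.coeff n (ser γ δ a b) := by
  have hx : a + b ∈ I ⊔ J := Submodule.add_mem_sup ha hb
  rw [eps, dif_pos hx]
  have h1 := (Submodule.mem_sup.mp hx).choose_spec
  have h2 := h1.2.choose_spec
  rw [ser_wd γ δ h h1.1 ha h2.1 hb h2.2]

theorem coeff_ser (a b : A) (n : ℕ) :
    PowerSeries.coeff n (ser γ δ a b) =
      (antidiagonal n).sum fun k => γ.dpow k.1 a * δ.dpow k.2 b := by
  rw [ser, PowerSeries.coeff_mul]
  simp [DividedPowers.exp]

include h in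
theorem eps_left {a : A} (ha : a ∈ I) (n : ℕ) : eps γ δ n a = γ.dpow n a := by
  have := eps_eq γ δ h ha J.zero_mem n
  rw [add_zero] at this
  rw [this, ser, exp_zero', mul_one, DividedPowers.exp, PowerSeries.coeff_mk]

include h in
theorem eps_right {b : A} (hb : b ∈ J) (n : ℕ) : eps γ δ n b = δ.dpow n b := by
  have := eps_eq γ δ h I.zero_mem hb n
  rw [zero_add] at this
  rw [this, ser, exp_zero', one_mul, DividedPowers.exp, PowerSeries.coeff_mk]

include h in
theorem pre_eps : DPGen.Pre (I ⊔ J) (eps γ δ) where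
  zero x hx := by
    obtain ⟨a, ha, b, hb, rfl⟩ := Submodule.mem_sup.mp hx
    rw [eps_eq γ δ h ha hb, coeff_ser]
    simp [γ.dpow_zero ha, δ.dpow_zero hb]
  one x hx := by
    obtain ⟨a, ha, b, hb, rfl⟩ := Submodule.mem_sup.mp hx
    rw [eps_eq γ δ h ha hb, coeff_ser]
    simp [Finset.Nat.antidiagonal_succ, γ.dpow_zero ha, δ.dpow_zero hb, γ.dpow_one ha,
      δ.dpow_one hb, add_comm]
  mem n x hn hx := by
    obtain ⟨a, ha, b, hb, rfl⟩ := Submodule.mem_sup.mp hx
    rw [eps_eq γ δ h ha hb, coeff_ser]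
    refine Ideal.sum_mem _ fun k hk => ?_
    rw [mem_antidiagonal] at hk
    by_cases hk1 : k.1 = 0
    · have : k.2 ≠ 0 := by omega
      exact Ideal.mul_mem_left _ _ (Ideal.mem_sup_right (δ.dpow_mem this hb))
    · exact Ideal.mul_mem_right _ _ (Ideal.mem_sup_left (γ.dpow_mem hk1 ha))
  add n x y hx hy := by
    obtain ⟨a, ha, b, hb, rfl⟩ := Submodule.mem_sup.mp hx
    obtain ⟨a', ha', b', hb', rfl⟩ := Submodule.mem_sup.mp hy
    have e : a + b + (a' + b') = (a + a') + (b + b') := by ring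
    rw [e, eps_eq γ δ h (I.add_mem ha ha') (J.add_mem hb hb')]
    have e2 : ser γ δ (a + a') (b + b') = ser γ δ a b * ser γ δ a' b' := by
      rw [ser, ser, ser, γ.exp_add ha ha', δ.exp_add hb hb']
      ring
    rw [e2, PowerSeries.coeff_mul]
    refine sum_congr rfl fun k hk => ?_
    rw [eps_eq γ δ h ha hb, eps_eq γ δ h ha' hb']
  mul n c x hx := by
    obtain ⟨a, ha, b, hb, rfl⟩ := Submodule.mem_sup.mp hx
    rw [mul_add, eps_eq γ δ h (I.mul_mem_left c ha) (J.mul_mem_left c hb), eps_eq γ δ h ha hb,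
      ser, exp_smul' γ c ha, exp_smul' δ c hb, ← map_mul, PowerSeries.coeff_rescale, ser]

include h in
theorem exists_dp : ∃ ε : DividedPowers (I ⊔ J), ε.dpow = eps γ δ := by
  refine DPGen.main (I ⊔ J) ((I : Set A) ∪ (J : Set A)) ?_ (eps γ δ) ?_ ?_ ?_ ?_ ?_ ?_ ?_ ?_
  · rw [Ideal.span_union, Ideal.span_eq, Ideal.span_eq]
  · intro n x hx
    rw [eps, dif_neg hx]
  · exact (pre_eps γ δ h).zero
  · exact (pre_eps γ δ h).one
  · exact (pre_eps γ δ h).mem
  · exact (pre_eps γ δ h).add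
  · exact (pre_eps γ δ h).mul
  · rintro m n x (hx | hx)
    · rw [eps_left γ δ h hx, eps_left γ δ h hx, eps_left γ δ h hx, γ.mul_dpow hx]
    · rw [eps_right γ δ h hx, eps_right γ δ h hx, eps_right γ δ h hx, δ.mul_dpow hx]
  · rintro m n x hn (hx | hx)
    · rw [eps_left γ δ h hx, eps_left γ δ h hx, eps_left γ δ h (γ.dpow_mem hn hx),
        γ.dpow_comp hn hx]
    · rw [eps_right γ δ h hx, eps_right γ δ h hx, eps_right γ δ h (δ.dpow_mem hn hx),
        δ.dpow_comp hn hx]

include h in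
theorem main :
    ∃! ε : DividedPowers (I ⊔ J),
      (∀ (n : ℕ) (x : A), x ∈ I → ε.dpow n x = γ.dpow n x) ∧
        (∀ (n : ℕ) (x : A), x ∈ J → ε.dpow n x = δ.dpow n x) := by
  obtain ⟨ε, hε⟩ := exists_dp γ δ h
  refine ⟨ε, ⟨fun n x hx => ?_, fun n x hx => ?_⟩, ?_⟩
  · rw [hε, eps_left γ δ h hx]
  · rw [hε, eps_right γ δ h hx]
  · rintro ε' ⟨h1, h2⟩
    apply DividedPowers.ext
    intro n x hx
    obtain ⟨a, ha, b, hb, rfl⟩ := Submodule.mem_sup.mp hx
    rw [ε'.dpow_add (Ideal.mem_sup_left ha) (Ideal.mem_sup_right hb), hε,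
      eps_eq γ δ h ha hb, coeff_ser]
    refine sum_congr rfl fun k hk => ?_
    rw [h1 _ _ ha, h2 _ _ hb]

end Groth.Agent.Lib.Helper59.DPAdd
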