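import Mathlib.RingTheory.DividedPowers.DPMorphism
import Mathlib.RingTheory.Flat.Basic
import Mathlib.RingTheory.Ideal.Maps
import Mathlib.RingTheory.Ideal.Quotient.Operations
import Mathlib.RingTheory.MvPolynomial.Basic
import Mathlib.Tactic

/-!
# The divided power envelope

For a divided power ring `(A, I, γ)`, an `A`-algebra `B` and an ideal `J ⊇ I B`, the divided power
envelope is built as the quotient of the polynomial ring `B[T_{j,n} : j ∈ J, n ≥ 0]` by the joint
kernel of all the maps to divided power rings `(C, K, ε)` over `(A, I, γ)` equipped with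
`ψ : B → C`, `ψ(J) ⊆ K`, sending `T_{j,n}` to `ε_n(ψ j)`.  The divided power structure on the
ideal generated by the `T_{j,n}` (`n ≥ 1`) is given by the multinomial formula, and its rules are
checked in all test rings at once.
-/

set_option autoImplicit false
set_option linter.unusedVariables false

namespace Groth.Agent.Lib.Helper59.DPEnv

universe u

open DividedPowers

variable {A B : Type u} [CommRing A] [CommRing B] [Algebra A B] {I : Ideal A}
  (γ : DividedPowers I) (J : Ideal B)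

/-- test data: a divided power ring over `(A, I, γ)` receiving `(B, J)` -/
structure Test where
  C : Type u
  [cr : CommRing C]
  [alg : Algebra A C]
  K : Ideal C
  ε : DividedPowers K
  hε : γ.IsDPMorphism ε (algebraMap A C)
  ψ : B →ₐ[A] C
  hψ : J.map ψ ≤ K

attribute [instance] Test.cr Test.alg

variable {γ J}

theorem Test.psi_mem (t : Test γ J) (j : J) : t.ψ (j : B) ∈ t.K :=
  t.hψ (Ideal.mem_map_of_mem _ j.2)

/-- the test map on the polynomial ring -/
noncomputable def Phi (t : Test γ J) : MvPolynomial (↥J × ℕ) B →+* t.C :=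
  MvPolynomial.eval₂Hom (t.ψ : B →+* t.C) (fun p => t.ε.dpow p.2 (t.ψ (p.1 : B)))

variable (γ J)

/-- the joint kernel -/
noncomputable def KK : Ideal (MvPolynomial (↥J × ℕ) B) :=
  ⨅ t : Test γ J, RingHom.ker (Phi t)

/-- the envelope -/
abbrev D : Type u := MvPolynomial (↥J × ℕ) B ⧸ KK γ J

variable {γ J}

theorem KK_le (t : Test γ J) : ∀ r ∈ KK γ J, Phi t r = 0 := by
  intro r hr
  have := (Ideal.mem_iInf.mp hr) t
  exact this

/-- the test map on the envelope -/
noncomputable def PhiB (t : Test γ J) : D γ J →+* t.C :=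
  Ideal.Quotient.lift (KK γ J) (Phi t) (KK_le t)

theorem PhiB_mk (t : Test γ J) (r : MvPolynomial (↥J × ℕ) B) :
    PhiB t (Ideal.Quotient.mk (KK γ J) r) = Phi t r := by
  simp [PhiB]

theorem ext_test (d d' : D γ J) (h : ∀ t : Test γ J, PhiB t d = PhiB t d') : d = d' := by
  obtain ⟨r, rfl⟩ := Ideal.Quotient.mk_surjective d
  obtain ⟨r', rfl⟩ := Ideal.Quotient.mk_surjective d'
  rw [Ideal.Quotient.eq, KK, Ideal.mem_iInf]
  intro t
  rw [RingHom.mem_ker, map_sub, sub_eq_zero]
  have := h t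
  rwa [PhiB_mk, PhiB_mk] at this

variable (γ J)

/-- the class of `T_{j,n}` -/
noncomputable def tb (j : J) (n : ℕ) : D γ J :=
  Ideal.Quotient.mk (KK γ J) (MvPolynomial.X (j, n))

variable {γ J}

theorem PhiB_tb (t : Test γ J) (j : J) (n : ℕ) :
    PhiB t (tb γ J j n) = t.ε.dpow n (t.ψ (j : B)) := by
  rw [tb, PhiB_mk, Phi, MvPolynomial.coe_eval₂Hom, MvPolynomial.eval₂_X]

theorem PhiB_algebraMap (t : Test γ J) (b : B) :
    PhiB t (algebraMap B (D γ J) b) = t.ψ b := by
  have : algebraMap B (D γ J) b = Ideal.Quotient.mk (KK γ J) (MvPolynomial.C b) := rfl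
  rw [this, PhiB_mk, Phi, MvPolynomial.coe_eval₂Hom, MvPolynomial.eval₂_C]
  rfl

variable (γ J)

/-- the generators of the divided power ideal -/
noncomputable def g (p : ↥J × ℕ) : D γ J := tb γ J p.1 (p.2 + 1)

/-- the divided power ideal of the envelope -/
noncomputable def JD : Ideal (D γ J) := Ideal.span (Set.range (g γ J))

variable {γ J}

theorem PhiB_g_mem (t : Test γ J) (p : ↥J × ℕ) : PhiB t (g γ J p) ∈ t.K := by
  rw [g, PhiB_tb]
  exact t.ε.dpow_mem (Nat.succ_ne_zero _) (t.psi_mem p.1)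

theorem mem_K (t : Test γ J) {d : D γ J} (hd : d ∈ JD γ J) : PhiB t d ∈ t.K := by
  have : JD γ J ≤ t.K.comap (PhiB t) := by
    rw [JD, Ideal.span_le]
    rintro _ ⟨p, rfl⟩
    exact PhiB_g_mem t p
  exact this hd

theorem tb_succ_mem (j : J) (n : ℕ) : tb γ J j (n + 1) ∈ JD γ J :=
  Ideal.subset_span ⟨(j, n), rfl⟩

theorem tb_mem (j : J) {n : ℕ} (hn : n ≠ 0) : tb γ J j n ∈ JD γ J := by
  obtain ⟨m, rfl⟩ := Nat.exists_eq_succ_of_ne_zero hn
  exact tb_succ_mem j m

variable (γ J)

/-- the `q`-th divided power of a generator -/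
noncomputable def G (p : ↥J × ℕ) (q : ℕ) : D γ J :=
  (Nat.uniformBell q (p.2 + 1) : D γ J) * tb γ J p.1 (q * (p.2 + 1))

variable {γ J}

theorem PhiB_G (t : Test γ J) (p : ↥J × ℕ) (q : ℕ) :
    PhiB t (G γ J p q) = t.ε.dpow q (PhiB t (g γ J p)) := by
  rw [G, g, map_mul, map_natCast, PhiB_tb, PhiB_tb,
    t.ε.dpow_comp (Nat.succ_ne_zero _) (t.psi_mem p.1)]

theorem G_mem (p : ↥J × ℕ) {q : ℕ} (hq : q ≠ 0) : G γ J p q ∈ JD γ J := by
  rw [G]
  exact Ideal.mul_mem_left _ _ (tb_mem p.1 (Nat.mul_ne_zero hq (Nat.succ_ne_zero _)))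

variable (γ J)

open Classical in
/-- the multinomial formula for the divided power of a combination of generators -/
noncomputable def formula (m : ℕ) (c : (↥J × ℕ) →₀ D γ J) : D γ J :=
  ∑ k ∈ c.support.sym m, c.prod fun p r => r ^ (Multiset.count p k) * G γ J p (Multiset.count p k)

variable {γ J}

theorem PhiB_formula (t : Test γ J) (m : ℕ) (c : (↥J × ℕ) →₀ D γ J) :
    PhiB t (formula γ J m c) = t.ε.dpow m (PhiB t (c.sum fun p r => r • g γ J p)) := by
  classical
  rw [map_finsuppSum, Finsupp.sum,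
    t.ε.dpow_sum (fun p _ => by
      rw [smul_eq_mul, map_mul]; exact Ideal.mul_mem_left _ _ (PhiB_g_mem t p)),
    formula, map_sum]
  refine Finset.sum_congr ?_ ?_
  · congr
  intro k _
  rw [Finsupp.prod, map_prod]
  refine Finset.prod_congr rfl ?_
  intro p _
  rw [map_mul, map_pow, PhiB_G, smul_eq_mul, map_mul, t.ε.dpow_mul (PhiB_g_mem t p)]

theorem exists_repr {d : D γ J} (h : d ∈ JD γ J) :
    ∃ c : (↥J × ℕ) →₀ D γ J, (c.sum fun p r => r • g γ J p) = d :=
  Finsupp.mem_span_range_iff_exists_finsupp.mp h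

theorem formula_mem {m : ℕ} (hm : m ≠ 0) (c : (↥J × ℕ) →₀ D γ J) :
    formula γ J m c ∈ JD γ J := by
  classical
  rw [formula]
  refine Ideal.sum_mem _ ?_
  intro k hk
  obtain ⟨m', rfl⟩ := Nat.exists_eq_succ_of_ne_zero hm
  obtain ⟨p, hp⟩ := k.exists_mem
  have hps : p ∈ c.support := (Finset.mem_sym_iff.mp hk) p hp
  rw [Finsupp.prod]
  obtain ⟨w, hw⟩ := Finset.dvd_prod_of_mem
    (fun p => c p ^ (Multiset.count p k) * G γ J p (Multiset.count p k)) hps
  rw [hw]
  refine Ideal.mul_mem_right _ _ (Ideal.mul_mem_left _ _ (G_mem p ?_))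
  exact (Multiset.count_pos.mpr hp).ne'

variable (γ J)

open Classical in
/-- the divided power maps of the envelope -/
noncomputable def dpowD (m : ℕ) (d : D γ J) : D γ J :=
  if h : d ∈ JD γ J then formula γ J m (Classical.choose (exists_repr h)) else 0

variable {γ J}

theorem PhiB_dpowD (t : Test γ J) (m : ℕ) {d : D γ J} (h : d ∈ JD γ J) :
    PhiB t (dpowD γ J m d) = t.ε.dpow m (PhiB t d) := by
  rw [dpowD, dif_pos h, PhiB_formula, Classical.choose_spec (exists_repr h)]

theorem dpowD_mem {m : ℕ} (hm : m ≠ 0) {d : D γ J} (h : d ∈ JD γ J) :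
    dpowD γ J m d ∈ JD γ J := by
  rw [dpowD, dif_pos h]
  exact formula_mem hm _

variable (γ J)

/-- the divided power structure of the envelope -/
noncomputable def γD : DividedPowers (JD γ J) where
  dpow := dpowD γ J
  dpow_null := fun {n x} h => by rw [dpowD, dif_neg h]
  dpow_zero := fun {x} h => ext_test _ _ (fun t => by
    rw [PhiB_dpowD t 0 h, map_one, t.ε.dpow_zero (mem_K t h)])
  dpow_one := fun {x} h => ext_test _ _ (fun t => by
    rw [PhiB_dpowD t 1 h, t.ε.dpow_one (mem_K t h)])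
  dpow_mem := fun {n x} hn h => dpowD_mem hn h
  dpow_add := fun {n x y} hx hy => ext_test _ _ (fun t => by
    rw [PhiB_dpowD t n (add_mem hx hy), map_add, t.ε.dpow_add (mem_K t hx) (mem_K t hy), map_sum]
    refine Finset.sum_congr rfl ?_
    intro k _
    rw [map_mul, PhiB_dpowD t _ hx, PhiB_dpowD t _ hy])
  dpow_mul := fun {n a x} hx => ext_test _ _ (fun t => by
    rw [PhiB_dpowD t n (Ideal.mul_mem_left _ a hx), map_mul, t.ε.dpow_mul (mem_K t hx), map_mul,
      map_pow, PhiB_dpowD t n hx])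
  mul_dpow := fun {m n x} hx => ext_test _ _ (fun t => by
    rw [map_mul, PhiB_dpowD t m hx, PhiB_dpowD t n hx, t.ε.mul_dpow (mem_K t hx), map_mul,
      map_natCast, PhiB_dpowD t _ hx])
  dpow_comp := fun {m n x} hn hx => ext_test _ _ (fun t => by
    rw [PhiB_dpowD t m (dpowD_mem hn hx), PhiB_dpowD t n hx, t.ε.dpow_comp hn (mem_K t hx),
      map_mul, map_natCast, PhiB_dpowD t _ hx])

variable {γ J}

theorem PhiB_γD (t : Test γ J) (m : ℕ) {d : D γ J} (h : d ∈ JD γ J) :
    PhiB t ((γD γ J).dpow m d) = t.ε.dpow m (PhiB t d) :=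
  PhiB_dpowD t m h

theorem tb_one (j : J) : tb γ J j 1 = algebraMap B (D γ J) (j : B) :=
  ext_test _ _ (fun t => by
    rw [PhiB_tb, PhiB_algebraMap, t.ε.dpow_one (t.psi_mem j)])

theorem dpow_tb_one (j : J) (n : ℕ) : (γD γ J).dpow n (tb γ J j 1) = tb γ J j n :=
  ext_test _ _ (fun t => by
    rw [PhiB_γD t n (tb_mem j one_ne_zero), PhiB_tb, PhiB_tb, t.ε.dpow_one (t.psi_mem j)])

theorem map_le_JD : J.map (algebraMap B (D γ J)) ≤ JD γ J := by
  rw [Ideal.map_le_iff_le_comap]
  intro j hj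
  rw [Ideal.mem_comap]
  have := tb_one (γ := γ) (J := J) ⟨j, hj⟩
  rw [← this]
  exact tb_mem _ one_ne_zero

theorem isDPMorphism_base (hIJ : I.map (algebraMap A B) ≤ J) :
    γ.IsDPMorphism (γD γ J) ((algebraMap B (D γ J)).comp (algebraMap A B)) := by
  have hmem : ∀ a ∈ I, (algebraMap B (D γ J)) (algebraMap A B a) ∈ JD γ J := by
    intro a ha
    exact map_le_JD (Ideal.mem_map_of_mem _ (hIJ (Ideal.mem_map_of_mem _ ha)))
  refine ⟨?_, ?_⟩
  · rw [Ideal.map_le_iff_le_comap]
    intro a ha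
    exact hmem a ha
  · intro n a ha
    refine ext_test _ _ (fun t => ?_)
    rw [RingHom.comp_apply, RingHom.comp_apply, PhiB_γD t n (hmem a ha), PhiB_algebraMap,
      PhiB_algebraMap, AlgHom.commutes, AlgHom.commutes]
    exact t.hε.dpow_comp a ha

variable (γ J)

theorem main (hIJ : I.map (algebraMap A B) ≤ J) :
    ∃ (D : Type u) (_ : CommRing D) (_ : Algebra B D) (JD : Ideal D) (γD : DividedPowers JD),
      J.map (algebraMap B D) ≤ JD ∧
      γ.IsDPMorphism γD ((algebraMap B D).comp (algebraMap A B)) ∧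
      ∀ (C : Type u) [CommRing C] [Algebra A C] (K : Ideal C) (δ : DividedPowers K),
        γ.IsDPMorphism δ (algebraMap A C) →
        ∀ ψ : B →ₐ[A] C, J.map ψ ≤ K →
          ∃! χ : D →+* C, χ.comp (algebraMap B D) = ψ ∧ γD.IsDPMorphism δ χ := by
  refine ⟨D γ J, inferInstance, inferInstance, JD γ J, γD γ J, map_le_JD, isDPMorphism_base hIJ, ?_⟩
  intro C _ _ K δ hδ ψ hψ
  let t : Test γ J := ⟨C, K, δ, hδ, ψ, hψ⟩
  refine ⟨PhiB t, ⟨?_, ?_, ?_⟩, ?_⟩
  · exact RingHom.ext (fun b => PhiB_algebraMap t b)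
  · rw [Ideal.map_le_iff_le_comap]
    intro d hd
    exact mem_K t hd
  · intro n a ha
    exact (PhiB_γD t n ha).symm
  · rintro χ' ⟨h1, h2⟩
    have h1' : ∀ b : B, χ' (algebraMap B (D γ J) b) = ψ b := fun b => by
      have := congrArg (fun f : B →+* C => f b) h1
      simpa using this
    refine Ideal.Quotient.ringHom_ext ?_
    refine MvPolynomial.ringHom_ext ?_ ?_
    · intro b
      have e1 : (χ'.comp (Ideal.Quotient.mk (KK γ J))) (MvPolynomial.C b) =
          χ' (algebraMap B (D γ J) b) := rfl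
      have e2 : ((PhiB t).comp (Ideal.Quotient.mk (KK γ J))) (MvPolynomial.C b) =
          PhiB t (algebraMap B (D γ J) b) := rfl
      rw [e1, e2, h1', PhiB_algebraMap]
    · rintro ⟨j, n⟩
      have e1 : (χ'.comp (Ideal.Quotient.mk (KK γ J))) (MvPolynomial.X (j, n)) =
          χ' (tb γ J j n) := rfl
      have e2 : ((PhiB t).comp (Ideal.Quotient.mk (KK γ J))) (MvPolynomial.X (j, n)) =
          PhiB t (tb γ J j n) := rfl
      rw [e1, e2, PhiB_tb, ← dpow_tb_one, ← h2.dpow_comp _ (tb_mem j one_ne_zero), tb_one, h1']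

end Groth.Agent.Lib.Helper59.DPEnv
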