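import Groth.Agent.Lib.Helper59.DPGen
import Mathlib.RingTheory.PowerSeries.Basic
import Mathlib.RingTheory.Flat.Basic
import Mathlib.RingTheory.DividedPowers.DPMorphism

/-!
# Extension of divided powers to flat algebras
-/

set_option autoImplicit false
set_option linter.unusedVariables false

namespace Groth.Agent.Lib.Helper59.DPFlat

open Finset TensorProduct

universe u v

variable {A : Type u} {B : Type v} [CommRing A] [CommRing B] [Algebra A B] {I : Ideal A}
  (γ : DividedPowers I)

/-- the series `Σ γ_k(a) u^k T^k` -/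
noncomputable def FF (a : A) (u : B) : PowerSeries B :=
  PowerSeries.mk fun k => algebraMap A B (γ.dpow k a) * u ^ k

theorem FF_add_right {a : A} (ha : a ∈ I) (u v : B) : FF γ a (u + v) = FF γ a u * FF γ a v := by
  ext n
  rw [PowerSeries.coeff_mul, FF, PowerSeries.coeff_mk, Commute.add_pow' (Commute.all u v), mul_sum]
  refine sum_congr rfl fun k hk => ?_
  rw [mem_antidiagonal] at hk
  rw [FF, FF, PowerSeries.coeff_mk, PowerSeries.coeff_mk, mul_mul_mul_comm, ← map_mul,
    γ.mul_dpow ha, hk, map_mul, map_natCast, nsmul_eq_mul]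
  ring

theorem FF_zero_right {a : A} (ha : a ∈ I) : FF γ a (0 : B) = 1 := by
  ext n
  rw [FF, PowerSeries.coeff_mk, PowerSeries.coeff_one]
  by_cases hn : n = 0
  · subst hn
    rw [if_pos rfl, γ.dpow_zero ha, map_one, pow_zero, mul_one]
  · rw [if_neg hn, zero_pow hn, mul_zero]

theorem FF_add_left {a a' : A} (ha : a ∈ I) (ha' : a' ∈ I) (u : B) :
    FF γ (a + a') u = FF γ a u * FF γ a' u := by
  ext n
  rw [PowerSeries.coeff_mul, FF, PowerSeries.coeff_mk, γ.dpow_add ha ha', map_sum, sum_mul]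
  refine sum_congr rfl fun k hk => ?_
  rw [mem_antidiagonal] at hk
  rw [FF, FF, PowerSeries.coeff_mk, PowerSeries.coeff_mk, map_mul, ← hk, pow_add]
  ring

theorem FF_zero_left (u : B) : FF γ (0 : A) u = 1 := by
  ext n
  rw [FF, PowerSeries.coeff_mk, PowerSeries.coeff_one]
  by_cases hn : n = 0
  · subst hn
    rw [if_pos rfl, γ.dpow_zero I.zero_mem, map_one, pow_zero, mul_one]
  · rw [if_neg hn, γ.dpow_eval_zero hn, map_zero, zero_mul]

theorem FF_smul {a : A} (ha : a ∈ I) (r : A) (u : B) : FF γ (r * a) u = FF γ a (r • u) := by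
  ext n
  rw [FF, FF, PowerSeries.coeff_mk, PowerSeries.coeff_mk, γ.dpow_mul ha, map_mul, map_pow,
    Algebra.smul_def, mul_pow]
  ring

theorem FF_rescale (a : A) (p u : B) : FF γ a (p * u) = PowerSeries.rescale p (FF γ a u) := by
  ext n
  rw [PowerSeries.coeff_rescale, FF, FF, PowerSeries.coeff_mk, PowerSeries.coeff_mk, mul_pow]
  ring

/-- the bi-exponential map -/
noncomputable def biExp : ↥I →+ B →+ Additive (PowerSeries B) where
  toFun a :=
    { toFun := fun u => Additive.ofMul (FF γ a u)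
      map_zero' := by
        show Additive.ofMul (FF γ a 0) = Additive.ofMul 1
        rw [FF_zero_right γ a.2]
      map_add' := fun u v => by
        show Additive.ofMul (FF γ a (u + v)) = Additive.ofMul (FF γ a u * FF γ a v)
        rw [FF_add_right γ a.2] }
  map_zero' := by
    apply AddMonoidHom.ext
    intro u
    show FF γ ((0 : ↥I) : A) u = 1
    rw [Submodule.coe_zero, FF_zero_left]
  map_add' a a' := by
    apply AddMonoidHom.ext
    intro u
    show FF γ ((a + a' : ↥I) : A) u = FF γ a u * FF γ a' u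
    rw [Submodule.coe_add, FF_add_left γ a.2 a'.2]

/-- the exponential on the tensor product -/
noncomputable def EE : ↥I ⊗[A] B →+ Additive (PowerSeries B) :=
  TensorProduct.liftAddHom (biExp γ) (by
    intro r a u
    show Additive.ofMul (FF γ ((r • a : ↥I) : A) u) = Additive.ofMul (FF γ a (r • u))
    rw [Submodule.coe_smul, smul_eq_mul, FF_smul γ a.2])

theorem EE_tmul (a : ↥I) (u : B) : Additive.toMul (EE γ (a ⊗ₜ u)) = FF γ a u := rfl

theorem EE_add (s t : ↥I ⊗[A] B) :
    Additive.toMul (EE γ (s + t)) = Additive.toMul (EE γ s) * Additive.toMul (EE γ t) := by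
  rw [map_add]
  rfl

theorem EE_zero : Additive.toMul (EE γ (0 : ↥I ⊗[A] B)) = 1 := by
  rw [map_zero]
  rfl

variable (I B) in
/-- the multiplication map `I ⊗ B → B` -/
noncomputable def phi : ↥I ⊗[A] B →ₗ[A] B :=
  (TensorProduct.lid A B).toLinearMap.comp (I.subtype.rTensor B)

theorem phi_tmul (a : ↥I) (u : B) : phi B I (a ⊗ₜ u) = algebraMap A B a * u := by
  simp [phi, Algebra.smul_def]

theorem phi_injective [Module.Flat A B] : Function.Injective (phi B I) := by
  have h1 : Function.Injective (I.subtype.rTensor B) :=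
    Module.Flat.rTensor_preserves_injective_linearMap _ (Submodule.injective_subtype I)
  intro s t hst
  apply h1
  exact (TensorProduct.lid A B).injective hst

variable (I) in
/-- multiplication by `p` on the right factor -/
noncomputable def mulP (p : B) : ↥I ⊗[A] B →ₗ[A] ↥I ⊗[A] B :=
  (LinearMap.mulLeft A p).lTensor ↥I

theorem mulP_tmul (p : B) (a : ↥I) (u : B) : mulP I p (a ⊗ₜ u) = a ⊗ₜ (p * u) := by
  simp [mulP]

theorem phi_mulP (p : B) (t : ↥I ⊗[A] B) : phi B I (mulP I p t) = p * phi B I t := by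
  induction t using TensorProduct.induction_on with
  | zero => simp
  | tmul a u => rw [mulP_tmul, phi_tmul, phi_tmul]; ring
  | add s t hs ht => simp only [map_add, hs, ht, mul_add]

theorem phi_mem (t : ↥I ⊗[A] B) : phi B I t ∈ I.map (algebraMap A B) := by
  induction t using TensorProduct.induction_on with
  | zero => simp
  | tmul a u =>
    rw [phi_tmul]
    exact Ideal.mul_mem_right _ _ (Ideal.mem_map_of_mem _ a.2)
  | add s t hs ht => rw [map_add]; exact Ideal.add_mem _ hs ht

theorem exists_phi_eq {y : B} (hy : y ∈ I.map (algebraMap A B)) : ∃ t, phi B I t = y := by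
  induction hy using Submodule.span_induction with
  | mem x h =>
    obtain ⟨a, ha, rfl⟩ := h
    exact ⟨(⟨a, ha⟩ : ↥I) ⊗ₜ 1, by rw [phi_tmul, mul_one]⟩
  | zero => exact ⟨0, map_zero _⟩
  | add x y _ _ hx hy =>
    obtain ⟨s, rfl⟩ := hx
    obtain ⟨t, rfl⟩ := hy
    exact ⟨s + t, map_add _ _ _⟩
  | smul p x _ hx =>
    obtain ⟨s, rfl⟩ := hx
    exact ⟨mulP I p s, by rw [phi_mulP, smul_eq_mul]⟩

theorem EE_coeff_zero (t : ↥I ⊗[A] B) : PowerSeries.coeff 0 (Additive.toMul (EE γ t)) = 1 := by
  induction t using TensorProduct.induction_on with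
  | zero => rw [EE_zero, PowerSeries.coeff_one, if_pos rfl]
  | tmul a u => rw [EE_tmul, FF, PowerSeries.coeff_mk, γ.dpow_zero a.2, map_one, pow_zero, mul_one]
  | add s t hs ht =>
    rw [EE_add, PowerSeries.coeff_mul]
    simp [hs, ht]

theorem EE_coeff_one (t : ↥I ⊗[A] B) :
    PowerSeries.coeff 1 (Additive.toMul (EE γ t)) = phi B I t := by
  induction t using TensorProduct.induction_on with
  | zero => rw [EE_zero, PowerSeries.coeff_one, if_neg one_ne_zero, map_zero]
  | tmul a u => rw [EE_tmul, FF, PowerSeries.coeff_mk, γ.dpow_one a.2, pow_one, phi_tmul]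
  | add s t hs ht =>
    rw [EE_add, PowerSeries.coeff_mul, map_add]
    simp [Finset.Nat.antidiagonal_succ, hs, ht, EE_coeff_zero, add_comm]

theorem EE_coeff_mem (t : ↥I ⊗[A] B) (n : ℕ) (hn : n ≠ 0) :
    PowerSeries.coeff n (Additive.toMul (EE γ t)) ∈ I.map (algebraMap A B) := by
  induction t using TensorProduct.induction_on generalizing n with
  | zero => rw [EE_zero, PowerSeries.coeff_one, if_neg hn]; exact Ideal.zero_mem _
  | tmul a u =>
    rw [EE_tmul, FF, PowerSeries.coeff_mk]
    exact Ideal.mul_mem_right _ _ (Ideal.mem_map_of_mem _ (γ.dpow_mem hn a.2))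
  | add s t hs ht =>
    rw [EE_add, PowerSeries.coeff_mul]
    refine Ideal.sum_mem _ fun k hk => ?_
    rw [mem_antidiagonal] at hk
    by_cases hk1 : k.1 = 0
    · have : k.2 ≠ 0 := by omega
      exact Ideal.mul_mem_left _ _ (ht _ this)
    · exact Ideal.mul_mem_right _ _ (hs _ hk1)

theorem EE_mulP (p : B) (t : ↥I ⊗[A] B) :
    Additive.toMul (EE γ (mulP I p t)) = PowerSeries.rescale p (Additive.toMul (EE γ t)) := by
  induction t using TensorProduct.induction_on with
  | zero => rw [map_zero, EE_zero, map_one]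
  | tmul a u => rw [mulP_tmul, EE_tmul, EE_tmul, FF_rescale]
  | add s t hs ht => rw [map_add, EE_add, EE_add, hs, ht, map_mul]

open Classical in
/-- the extended divided power function -/
noncomputable def dd (n : ℕ) (y : B) : B :=
  if hy : y ∈ I.map (algebraMap A B) then
    PowerSeries.coeff n (Additive.toMul (EE γ (exists_phi_eq hy).choose))
  else 0

theorem dd_phi [Module.Flat A B] (n : ℕ) (t : ↥I ⊗[A] B) :
    dd γ n (phi B I t) = PowerSeries.coeff n (Additive.toMul (EE γ t)) := by
  rw [dd, dif_pos (phi_mem t)]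
  have := (exists_phi_eq (phi_mem (I := I) (B := B) t)).choose_spec
  rw [phi_injective this]

theorem dd_algebraMap [Module.Flat A B] (n : ℕ) {a : A} (ha : a ∈ I) :
    dd γ n (algebraMap A B a) = algebraMap A B (γ.dpow n a) := by
  have : algebraMap A B a = phi B I ((⟨a, ha⟩ : ↥I) ⊗ₜ 1) := by rw [phi_tmul, mul_one]
  rw [this, dd_phi, EE_tmul, FF, PowerSeries.coeff_mk, one_pow, mul_one]

theorem pre_dd [Module.Flat A B] : DPGen.Pre (I.map (algebraMap A B)) (dd γ) where
  zero y hy := by
    obtain ⟨t, rfl⟩ := exists_phi_eq hy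
    rw [dd_phi, EE_coeff_zero]
  one y hy := by
    obtain ⟨t, rfl⟩ := exists_phi_eq hy
    rw [dd_phi, EE_coeff_one]
  mem n y hn hy := by
    obtain ⟨t, rfl⟩ := exists_phi_eq hy
    rw [dd_phi]
    exact EE_coeff_mem γ t n hn
  add n y y' hy hy' := by
    obtain ⟨t, rfl⟩ := exists_phi_eq hy
    obtain ⟨t', rfl⟩ := exists_phi_eq hy'
    rw [← map_add, dd_phi, EE_add, PowerSeries.coeff_mul]
    refine sum_congr rfl fun k hk => ?_
    rw [dd_phi, dd_phi]
  mul n p y hy := by
    obtain ⟨t, rfl⟩ := exists_phi_eq hy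
    rw [← phi_mulP, dd_phi, dd_phi, EE_mulP, PowerSeries.coeff_rescale]

theorem exists_dp [Module.Flat A B] :
    ∃ δ : DividedPowers (I.map (algebraMap A B)), δ.dpow = dd γ := by
  refine DPGen.main (I.map (algebraMap A B)) ((algebraMap A B) '' (I : Set A)) rfl (dd γ)
    ?_ (pre_dd γ).zero (pre_dd γ).one (pre_dd γ).mem (pre_dd γ).add (pre_dd γ).mul ?_ ?_
  · intro n y hy
    rw [dd, dif_neg hy]
  · rintro m n _ ⟨a, ha, rfl⟩
    rw [dd_algebraMap γ m ha, dd_algebraMap γ n ha, dd_algebraMap γ (m + n) ha, ← map_mul,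
      γ.mul_dpow ha, map_mul, map_natCast]
  · rintro m n _ hn ⟨a, ha, rfl⟩
    rw [dd_algebraMap γ n ha, dd_algebraMap γ m (γ.dpow_mem hn ha), dd_algebraMap γ (m * n) ha,
      γ.dpow_comp hn ha, map_mul, map_natCast]

theorem exists_isDPMorphism [Module.Flat A B] :
    ∃ δ : DividedPowers (I.map (algebraMap A B)), γ.IsDPMorphism δ (algebraMap A B) := by
  obtain ⟨δ, hδ⟩ := exists_dp (B := B) γ
  refine ⟨δ, le_refl _, fun {n} a ha => ?_⟩
  rw [hδ, dd_algebraMap γ n ha]

omit [Algebra A B] in
theorem eq_of_isDPMorphism (f : A →+* B) {K : Ideal B} (hK : I.map f = K) (δ δ' : DividedPowers K)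
    (h1 : ∀ (n : ℕ) (a : A), a ∈ I → δ.dpow n (f a) = f (γ.dpow n a))
    (h2 : ∀ (n : ℕ) (a : A), a ∈ I → δ'.dpow n (f a) = f (γ.dpow n a)) : δ = δ' := by
  apply DividedPowers.ext
  intro n y hy
  rw [← hK] at hy
  have key : ∀ n, δ.dpow n y = δ'.dpow n y := by
    induction hy using Submodule.span_induction with
    | mem x h =>
      obtain ⟨a, ha, rfl⟩ := h
      intro n
      rw [h1 n a ha, h2 n a ha]
    | zero =>
      intro n
      by_cases hn : n = 0
      · subst hn
        rw [δ.dpow_zero K.zero_mem, δ'.dpow_zero K.zero_mem]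
      · rw [δ.dpow_eval_zero hn, δ'.dpow_eval_zero hn]
    | add x y hx hy hx' hy' =>
      intro n
      have hxK : x ∈ K := hK ▸ hx
      have hyK : y ∈ K := hK ▸ hy
      rw [δ.dpow_add hxK hyK, δ'.dpow_add hxK hyK]
      refine sum_congr rfl fun k hk => ?_
      rw [hx', hy']
    | smul p x hx hx' =>
      intro n
      have hxK : x ∈ K := hK ▸ hx
      rw [smul_eq_mul, δ.dpow_mul hxK, δ'.dpow_mul hxK, hx']
  exact key n

theorem main :
    (∀ δ δ' : DividedPowers (I.map (algebraMap A B)),
        γ.IsDPMorphism δ (algebraMap A B) → γ.IsDPMorphism δ' (algebraMap A B) → δ = δ') ∧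
      (Module.Flat A B →
        ∃ δ : DividedPowers (I.map (algebraMap A B)), γ.IsDPMorphism δ (algebraMap A B)) := by
  refine ⟨fun δ δ' h h' => ?_, fun hflat => exists_isDPMorphism γ⟩
  exact eq_of_isDPMorphism γ (algebraMap A B) rfl δ δ' (fun n a ha => h.dpow_comp a ha)
    (fun n a ha => h'.dpow_comp a ha)

end Groth.Agent.Lib.Helper59.DPFlat
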