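import Mathlib.RingTheory.DividedPowers.RatAlgebra
import Mathlib.RingTheory.DividedPowers.DPMorphism
import Mathlib.Algebra.Polynomial.Coeff
import Mathlib.Algebra.Polynomial.AlgebraMap
import Mathlib.RingTheory.Flat.Basic
import Mathlib.RingTheory.Ideal.Maps
import Mathlib.Tactic

/-!
# Divided powers from generators (Roby's lemma)

If the product rule and the composition rule hold on a generating set of `I`, and the other
rules hold on `I`, then they hold on all of `I`.  The numerical identities needed are obtained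
from the universal example `ℚ[X]`.
-/

set_option autoImplicit false
set_option linter.unusedVariables false

namespace Groth.Agent.Lib.Helper59.DPGen

open Finset

universe u

section Abstract

variable {A : Type u} [CommRing A] (I : Ideal A) (d : ℕ → A → A)

/-- partial divided power rules -/
structure Pre : Prop where
  zero : ∀ x ∈ I, d 0 x = 1
  one : ∀ x ∈ I, d 1 x = x
  mem : ∀ (n : ℕ) (x : A), n ≠ 0 → x ∈ I → d n x ∈ I
  add : ∀ (n : ℕ) (x y : A), x ∈ I → y ∈ I →
      d n (x + y) = (Finset.antidiagonal n).sum fun k => d k.1 x * d k.2 y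
  mul : ∀ (n : ℕ) (a x : A), x ∈ I → d n (a * x) = a ^ n * d n x

/-- the two remaining rules at a given element -/
structure Good (x : A) : Prop where
  mem : x ∈ I
  mul_dpow : ∀ m n, d m x * d n x = ((m + n).choose m : A) * d (m + n) x
  comp : ∀ m n, n ≠ 0 → d m (d n x) = (Nat.uniformBell m n : A) * d (m * n) x

variable {I d}

theorem Pre.eval_zero (hP : Pre I d) {n : ℕ} (hn : n ≠ 0) : d n 0 = 0 := by
  have := hP.mul n 0 0 I.zero_mem
  rw [zero_mul, zero_pow hn, zero_mul] at this
  exact this

theorem pre_of_dp (hI : DividedPowers I) : Pre I hI.dpow where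
  zero x hx := hI.dpow_zero hx
  one x hx := hI.dpow_one hx
  mem n x hn hx := hI.dpow_mem hn hx
  add n x y hx hy := hI.dpow_add hx hy
  mul n a x hx := hI.dpow_mul hx

theorem good_of_dp (hI : DividedPowers I) {x : A} (hx : x ∈ I) : Good I hI.dpow x where
  mem := hx
  mul_dpow m n := hI.mul_dpow hx
  comp m n hn := hI.dpow_comp hn hx

theorem good_zero (hP : Pre I d) : Good I d 0 where
  mem := I.zero_mem
  mul_dpow m n := by
    by_cases hm : m = 0
    · subst hm
      by_cases hn : n = 0
      · subst hn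
        simp [hP.zero 0 I.zero_mem]
      · simp [hP.zero 0 I.zero_mem]
    · have : m + n ≠ 0 := by omega
      rw [hP.eval_zero hm, hP.eval_zero this, zero_mul, mul_zero]
  comp m n hn := by
    rw [hP.eval_zero hn]
    by_cases hm : m = 0
    · subst hm
      simp [hP.zero 0 I.zero_mem, Nat.uniformBell_zero_left]
    · have : m * n ≠ 0 := Nat.mul_ne_zero hm hn
      rw [hP.eval_zero hm, hP.eval_zero this, mul_zero]

theorem good_smul (hP : Pre I d) (a : A) {x : A} (hx : Good I d x) : Good I d (a * x) where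
  mem := I.mul_mem_left a hx.mem
  mul_dpow m n := by
    rw [hP.mul m a x hx.mem, hP.mul n a x hx.mem, hP.mul (m + n) a x hx.mem,
      mul_mul_mul_comm, hx.mul_dpow, pow_add]
    ring
  comp m n hn := by
    rw [hP.mul n a x hx.mem, hP.mul m (a ^ n) _ (hP.mem n x hn hx.mem), hx.comp m n hn,
      hP.mul (m * n) a x hx.mem, ← pow_mul, mul_comm n m]
    ring

theorem Good.prod_d (hP : Pre I d) {x : A} (hx : Good I d x) {ι : Type*} (s : Finset ι)
    (n : ι → ℕ) :
    (s.prod fun i => d (n i) x) = (Nat.multinomial s n : A) * d (s.sum n) x := by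
  classical
  induction s using Finset.induction with
  | empty => simp [hP.zero x hx.mem]
  | insert a s ha ih =>
    rw [prod_insert ha, ih, ← mul_assoc, mul_comm (d (n a) x), mul_assoc, hx.mul_dpow,
      ← sum_insert ha, ← mul_assoc]
    congr 1
    rw [Nat.multinomial_insert ha, mul_comm, Nat.cast_mul, sum_insert ha]

theorem Good.pow_d (hP : Pre I d) {x : A} (hx : Good I d x) (q j : ℕ) :
    d j x ^ q = (Nat.multinomial (range q) (fun _ => j) : A) * d (q * j) x := by
  have := hx.prod_d hP (range q) (fun _ => j)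
  rw [prod_const, card_range, sum_const, card_range, smul_eq_mul] at this
  exact this

/-- the additive map `i ↦ d i x * d (T - i) y` -/
noncomputable def psiHom (d : ℕ → A → A) (x y : A) (T : ℕ) : (ℕ →₀ ℕ) →+ A :=
  Finsupp.liftAddHom (fun i =>
    (AddMonoidHom.mulRight (d i x * d (T - i) y)).comp (Nat.castAddMonoidHom A))

theorem psiHom_single (x y : A) (T i c : ℕ) :
    psiHom d x y T (Finsupp.single i c) = (c : A) * (d i x * d (T - i) y) := by
  simp [psiHom]

end Abstract

section Rat

open Polynomial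

/-- the divided power structure on `ℚ[X]` -/
noncomputable def ratDP : DividedPowers (⊤ : Ideal ℚ[X]) := by
  classical
  exact DividedPowers.RatAlgebra.dividedPowers ⊤

theorem ratDP_apply (n : ℕ) (p : ℚ[X]) :
    ratDP.dpow n p = ((n.factorial : ℚ)⁻¹) • p ^ n := by
  classical
  rw [DividedPowers.RatAlgebra.dpow_eq_inv_fact_smul ⊤ ratDP (Submodule.mem_top),
    Ring.inverse_eq_inv']

theorem coeff_psi_rat (T : ℕ) (f : ℕ →₀ ℕ) (i : ℕ) :
    (psiHom ratDP.dpow (X : ℚ[X]) 1 T f).coeff i
      = (f i : ℚ) * ((i.factorial : ℚ)⁻¹ * ((T - i).factorial : ℚ)⁻¹) := by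
  induction f using Finsupp.induction_linear with
  | zero => simp
  | add f g hf hg => rw [map_add, coeff_add, hf, hg, Finsupp.add_apply]; push_cast; ring
  | single j c =>
    rw [psiHom_single, ratDP_apply, ratDP_apply, one_pow]
    rw [← Polynomial.C_eq_natCast, Polynomial.coeff_C_mul, smul_mul_smul_comm, mul_one,
      Polynomial.coeff_smul, Polynomial.coeff_X_pow, Finsupp.single_apply]
    by_cases h : j = i
    · subst h
      simp
    · rw [if_neg h, if_neg (Ne.symm h)]
      simp

theorem psi_rat_injective (T : ℕ) (f g : ℕ →₀ ℕ)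
    (h : psiHom ratDP.dpow (X : ℚ[X]) 1 T f = psiHom ratDP.dpow (X : ℚ[X]) 1 T g) : f = g := by
  ext i
  have h1 := congrArg (fun p => Polynomial.coeff p i) h
  simp only [coeff_psi_rat] at h1
  have h2 : ((i.factorial : ℚ)⁻¹ * ((T - i).factorial : ℚ)⁻¹) ≠ 0 := by
    apply mul_ne_zero <;> apply inv_ne_zero <;> exact_mod_cast Nat.factorial_ne_zero _
  have h3 := mul_right_cancel₀ h2 h1
  exact_mod_cast h3

end Rat

section Expand

variable {A : Type u} [CommRing A] {I : Ideal A} {d : ℕ → A → A}

/-- coefficients for the product rule -/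
noncomputable def fA (m n : ℕ) : ℕ →₀ ℕ :=
  ∑ p ∈ antidiagonal m, ∑ q ∈ antidiagonal n,
    Finsupp.single (p.1 + q.1) ((p.1 + q.1).choose p.1 * (p.2 + q.2).choose p.2)

/-- coefficients for the product rule, right hand side -/
noncomputable def gA (m n : ℕ) : ℕ →₀ ℕ :=
  ∑ k ∈ antidiagonal (m + n), Finsupp.single k.1 ((m + n).choose m)

theorem expandA1 (hP : Pre I d) {x y : A} (hx : Good I d x) (hy : Good I d y) (m n : ℕ) :
    d m (x + y) * d n (x + y) = psiHom d x y (m + n) (fA m n) := by
  rw [hP.add m x y hx.mem hy.mem, hP.add n x y hx.mem hy.mem, sum_mul_sum, fA, map_sum]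
  refine sum_congr rfl fun p hp => ?_
  rw [map_sum]
  refine sum_congr rfl fun q hq => ?_
  rw [psiHom_single]
  rw [mem_antidiagonal] at hp hq
  have h1 : m + n - (p.1 + q.1) = p.2 + q.2 := by omega
  rw [h1, mul_mul_mul_comm, hx.mul_dpow, hy.mul_dpow]
  push_cast
  ring

theorem expandA2 (hP : Pre I d) {x y : A} (hx : Good I d x) (hy : Good I d y) (m n : ℕ) :
    ((m + n).choose m : A) * d (m + n) (x + y) = psiHom d x y (m + n) (gA m n) := by
  rw [hP.add (m + n) x y hx.mem hy.mem, mul_sum, gA, map_sum]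
  refine sum_congr rfl fun k hk => ?_
  rw [psiHom_single]
  rw [mem_antidiagonal] at hk
  have h1 : m + n - k.1 = k.2 := by omega
  rw [h1]

/-- coefficient of a single term -/
noncomputable def cc (n q k : ℕ) : ℕ :=
  if k = 0 then Nat.uniformBell q n
  else Nat.uniformBell q k * Nat.multinomial (range q) (fun _ => n - k)

theorem term_dpow (hP : Pre I d) {x y : A} (hx : Good I d x) (hy : Good I d y) (n : ℕ)
    (hn : n ≠ 0) (q k : ℕ) (hk : k ≤ n) :
    d q (d k x * d (n - k) y) = (cc n q k : A) * (d (q * k) x * d (q * (n - k)) y) := by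
  by_cases h : k = 0
  · subst h
    rw [cc, if_pos rfl, hP.zero x hx.mem, one_mul, Nat.sub_zero, hy.comp q n hn, mul_zero,
      hP.zero x hx.mem, one_mul]
  · rw [cc, if_neg h, mul_comm (d k x), hP.mul q _ _ (hP.mem k x h hx.mem), hx.comp q k h,
      hy.pow_d hP]
    push_cast
    ring

theorem term_mem (hP : Pre I d) {x y : A} (hx : Good I d x) (hy : Good I d y) (n : ℕ)
    (hn : n ≠ 0) (k : ℕ) : d k x * d (n - k) y ∈ I := by
  by_cases h : k = 0
  · subst h
    exact I.mul_mem_left _ (hP.mem _ _ hn hy.mem)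
  · exact I.mul_mem_right _ (hP.mem _ _ h hx.mem)

/-- the index -/
noncomputable def jj (n : ℕ) {m : ℕ} (κ : Sym ℕ m) : ℕ :=
  ∑ k ∈ range (n + 1), Multiset.count k (κ : Multiset ℕ) * k

/-- the coefficient -/
noncomputable def NN (n : ℕ) {m : ℕ} (κ : Sym ℕ m) : ℕ :=
  (∏ k ∈ range (n + 1), cc n (Multiset.count k (κ : Multiset ℕ)) k) *
    Nat.multinomial (range (n + 1)) (fun k => Multiset.count k (κ : Multiset ℕ) * k) *
    Nat.multinomial (range (n + 1)) (fun k => Multiset.count k (κ : Multiset ℕ) * (n - k))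

/-- coefficients for the composition rule -/
noncomputable def fB (m n : ℕ) : ℕ →₀ ℕ :=
  ∑ κ ∈ (range (n + 1)).sym m, Finsupp.single (jj n κ) (NN n κ)

/-- coefficients for the composition rule, right hand side -/
noncomputable def gB (m n : ℕ) : ℕ →₀ ℕ :=
  ∑ k ∈ antidiagonal (m * n), Finsupp.single k.1 (Nat.uniformBell m n)

theorem sum_count_mul_sub (n m : ℕ) (κ : Sym ℕ m) (hκ : κ ∈ (range (n + 1)).sym m) :
    ∑ k ∈ range (n + 1), Multiset.count k (κ : Multiset ℕ) * (n - k) = m * n - jj n κ := by
  have h1 : ∑ k ∈ range (n + 1), Multiset.count k (κ : Multiset ℕ) = m := by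
    rw [Multiset.sum_count_eq_card]
    · exact κ.2
    · intro a ha
      exact (mem_sym_iff.mp hκ) a ha
  have h2 : ∑ k ∈ range (n + 1), Multiset.count k (κ : Multiset ℕ) * (n - k) + jj n κ = m * n := by
    have h3 : m * n = (∑ k ∈ range (n + 1), Multiset.count k (κ : Multiset ℕ)) * n := by rw [h1]
    rw [jj, ← sum_add_distrib, h3, sum_mul]
    refine sum_congr rfl fun k hk => ?_
    rw [mem_range] at hk
    rw [← mul_add]
    congr 1
    omega
  omega

theorem expandB1 (hP : Pre I d) {x y : A} (hx : Good I d x) (hy : Good I d y) (m n : ℕ)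
    (hn : n ≠ 0) :
    d m (d n (x + y)) = psiHom d x y (m * n) (fB m n) := by
  rw [hP.add n x y hx.mem hy.mem, Finset.Nat.sum_antidiagonal_eq_sum_range_succ_mk]
  have key := DividedPowers.dpow_sum' (I := I.toAddSubmonoid) d
    (fun {x} hx => hP.zero x hx) (fun {n x y} hx hy => hP.add n x y hx hy)
    (fun {n} hn => hP.eval_zero hn) (s := range (n + 1))
    (x := fun k => d k x * d (n - k) y) (fun k _ => term_mem hP hx hy n hn k) (n := m)
  rw [key, fB, map_sum]
  refine sum_congr rfl fun κ hκ => ?_
  rw [psiHom_single]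
  have h1 : ∀ k ∈ range (n + 1), d (Multiset.count k (κ : Multiset ℕ)) (d k x * d (n - k) y) =
      (cc n (Multiset.count k (κ : Multiset ℕ)) k : A) *
        (d (Multiset.count k (κ : Multiset ℕ) * k) x *
          d (Multiset.count k (κ : Multiset ℕ) * (n - k)) y) := by
    intro k hk
    rw [mem_range] at hk
    exact term_dpow hP hx hy n hn _ k (by omega)
  rw [prod_congr rfl h1, prod_mul_distrib, prod_mul_distrib, hx.prod_d hP, hy.prod_d hP,
    sum_count_mul_sub n m κ hκ, NN]
  simp only [jj]
  push_cast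
  ring

theorem expandB2 (hP : Pre I d) {x y : A} (hx : Good I d x) (hy : Good I d y) (m n : ℕ) :
    (Nat.uniformBell m n : A) * d (m * n) (x + y) = psiHom d x y (m * n) (gB m n) := by
  rw [hP.add (m * n) x y hx.mem hy.mem, mul_sum, gB, map_sum]
  refine sum_congr rfl fun k hk => ?_
  rw [psiHom_single]
  rw [mem_antidiagonal] at hk
  have h1 : m * n - k.1 = k.2 := by omega
  rw [h1]

end Expand

section Identities

open Polynomial

theorem fA_eq_gA (m n : ℕ) : fA m n = gA m n := by
  apply psi_rat_injective (m + n)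
  have hP := pre_of_dp ratDP
  have hx := good_of_dp ratDP (x := (X : ℚ[X])) Submodule.mem_top
  have hy := good_of_dp ratDP (x := (1 : ℚ[X])) Submodule.mem_top
  rw [← expandA1 hP hx hy, ← expandA2 hP hx hy]
  exact (good_of_dp ratDP (x := (X + 1 : ℚ[X])) Submodule.mem_top).mul_dpow m n

theorem fB_eq_gB (m n : ℕ) (hn : n ≠ 0) : fB m n = gB m n := by
  apply psi_rat_injective (m * n)
  have hP := pre_of_dp ratDP
  have hx := good_of_dp ratDP (x := (X : ℚ[X])) Submodule.mem_top
  have hy := good_of_dp ratDP (x := (1 : ℚ[X])) Submodule.mem_top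
  rw [← expandB1 hP hx hy m n hn, ← expandB2 hP hx hy]
  exact (good_of_dp ratDP (x := (X + 1 : ℚ[X])) Submodule.mem_top).comp m n hn

end Identities

section Main

variable {A : Type u} [CommRing A] {I : Ideal A} {d : ℕ → A → A}

theorem good_add (hP : Pre I d) {x y : A} (hx : Good I d x) (hy : Good I d y) :
    Good I d (x + y) where
  mem := I.add_mem hx.mem hy.mem
  mul_dpow m n := by
    rw [expandA1 hP hx hy, expandA2 hP hx hy, fA_eq_gA]
  comp m n hn := by
    rw [expandB1 hP hx hy m n hn, expandB2 hP hx hy, fB_eq_gB m n hn]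

theorem good_of_span (hP : Pre I d) (S : Set A) (hS : Ideal.span S = I)
    (hgen : ∀ x ∈ S, Good I d x) : ∀ x ∈ I, Good I d x := by
  intro x hx
  rw [← hS] at hx
  induction hx using Submodule.span_induction with
  | mem x h => exact hgen x h
  | zero => exact good_zero hP
  | add x y _ _ hx hy => exact good_add hP hx hy
  | smul a x _ hx => exact good_smul hP a hx

/-- Roby's lemma -/
theorem main (I : Ideal A) (S : Set A)
    (hS : Ideal.span S = I) (d : ℕ → A → A) (h_null : ∀ (n : ℕ) (x : A), x ∉ I → d n x = 0)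
    (h_zero : ∀ x ∈ I, d 0 x = 1) (h_one : ∀ x ∈ I, d 1 x = x)
    (h_mem : ∀ (n : ℕ) (x : A), n ≠ 0 → x ∈ I → d n x ∈ I)
    (h_add : ∀ (n : ℕ) (x y : A), x ∈ I → y ∈ I →
      d n (x + y) = (Finset.antidiagonal n).sum fun k => d k.1 x * d k.2 y)
    (h_mul : ∀ (n : ℕ) (a x : A), x ∈ I → d n (a * x) = a ^ n * d n x)
    (h_mul_dpow : ∀ (m n : ℕ) (x : A), x ∈ S → d m x * d n x = (m + n).choose m * d (m + n) x)
    (h_comp : ∀ (m n : ℕ) (x : A), n ≠ 0 → x ∈ S →
      d m (d n x) = Nat.uniformBell m n * d (m * n) x) :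
    ∃ γ : DividedPowers I, γ.dpow = d := by
  have hP : Pre I d := ⟨h_zero, h_one, h_mem, h_add, h_mul⟩
  have hgood := good_of_span hP S hS (fun x hx =>
    ⟨hS ▸ Ideal.subset_span hx, fun m n => h_mul_dpow m n x hx,
      fun m n hn => h_comp m n x hn hx⟩)
  exact ⟨{ dpow := d
           dpow_null := fun {n x} hx => h_null n x hx
           dpow_zero := fun {x} hx => h_zero x hx
           dpow_one := fun {x} hx => h_one x hx
           dpow_mem := fun {n x} hn hx => h_mem n x hn hx
           dpow_add := fun {n x y} hx hy => h_add n x y hx hy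
           dpow_mul := fun {n a x} hx => h_mul n a x hx
           mul_dpow := fun {m n x} hx => (hgood x hx).mul_dpow m n
           dpow_comp := fun {m n x} hn hx => (hgood x hx).comp m n hn }, rfl⟩

end Main

end Groth.Agent.Lib.Helper59.DPGen
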