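import Groth.Agent.Lib.Helper59.DPAdd
import Groth.Agent.Lib.Helper59.DPFlat
import Mathlib.LinearAlgebra.Basis.Defs
import Mathlib.Algebra.BigOperators.Finsupp.Basic
import Mathlib.RingTheory.Flat.Basic

/-!
# Divided powers on `I P + P_+` for a divided power polynomial algebra `P`
-/

set_option autoImplicit false
set_option linter.unusedVariables false

namespace Groth.Agent.Lib.Helper59.DPPoly

open Finset

universe u v w

variable (R : Type u) [CommRing R] {I : Ideal R} (γ : DividedPowers I) (Λ : Type w)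
  (P : Type v) [CommRing P] [Algebra R P] (x : Λ → ℕ → P)
  (hx0 : ∀ l, x l 0 = 1)
  (hxmul : ∀ l n m, x l n * x l m = ((n + m).choose n : P) * x l (n + m))
  (b : Module.Basis (Λ →₀ ℕ) R P) (hb : ∀ e : Λ →₀ ℕ, b e = e.prod (fun l k => x l k))

/-- the augmentation ideal -/
def Pp : Ideal P := Ideal.span {y : P | ∃ (l : Λ) (n : ℕ), 1 ≤ n ∧ y = x l n}

include hx0 hxmul hb in
theorem basis_mul_x (e : Λ →₀ ℕ) (l : Λ) (n : ℕ) :
    b e * x l n = ((e l + n).choose (e l) : P) * b (e + Finsupp.single l n) := by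
  classical
  rw [hb, hb, ← Finsupp.mul_prod_erase' e l _ hx0,
    ← Finsupp.mul_prod_erase' (e + Finsupp.single l n) l _ hx0]
  have h1 : Finsupp.erase l (e + Finsupp.single l n) = Finsupp.erase l e := by
    rw [Finsupp.erase_add, Finsupp.erase_single, add_zero]
  rw [h1, Finsupp.add_apply, Finsupp.single_eq_same, mul_right_comm, hxmul]
  ring

include hx0 hxmul hb in
theorem coord_mul_x (p : P) (l : Λ) (n : ℕ) (hn : 1 ≤ n) : b.repr (p * x l n) 0 = 0 := by
  classical
  have h : (Finsupp.lapply (0 : Λ →₀ ℕ)).comp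
      (b.repr.toLinearMap.comp (LinearMap.mulRight R (x l n))) = 0 := by
    apply b.ext
    intro e
    have hne : e + Finsupp.single l n ≠ 0 := by
      intro h0
      have := congrArg (fun f => f l) h0
      simp at this
      omega
    simp only [LinearMap.comp_apply, LinearMap.mulRight_apply, LinearEquiv.coe_coe,
      Finsupp.lapply_apply, LinearMap.zero_apply]
    rw [basis_mul_x R Λ P x hx0 hxmul b hb, ← nsmul_eq_mul, ← Nat.cast_smul_eq_nsmul R, map_smul,
      Finsupp.smul_apply, b.repr_self, Finsupp.single_eq_of_ne hne.symm, smul_zero]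
  have := congrArg (fun f => f p) h
  simpa using this

include hx0 hxmul hb in
theorem coord_zero_of_mem {y : P} (hy : y ∈ Pp Λ P x) : b.repr y 0 = 0 := by
  have key : ∀ p : P, b.repr (p * y) 0 = 0 := by
    rw [Pp] at hy
    induction hy using Submodule.span_induction with
    | mem z h =>
      obtain ⟨l, n, hn, rfl⟩ := h
      intro p
      exact coord_mul_x R Λ P x hx0 hxmul b hb p l n hn
    | zero => intro p; simp
    | add z z' _ _ hz hz' =>
      intro p
      rw [mul_add, map_add, Finsupp.add_apply, hz, hz', add_zero]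
    | smul q z _ hz =>
      intro p
      rw [smul_eq_mul, ← mul_assoc]
      exact hz (p * q)
  simpa using key 1

include hx0 hb in
theorem basis_mem (e : Λ →₀ ℕ) (he : e ≠ 0) : b e ∈ Pp Λ P x := by
  classical
  obtain ⟨l, hl⟩ : ∃ l, e l ≠ 0 := by
    by_contra hcon
    rw [not_exists] at hcon
    apply he
    ext l
    simpa using hcon l
  rw [hb, ← Finsupp.mul_prod_erase' e l _ hx0]
  apply Ideal.mul_mem_right
  apply Ideal.subset_span
  exact ⟨l, e l, Nat.one_le_iff_ne_zero.mpr hl, rfl⟩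

theorem repr_mem_of_mem {y : P} (hy : y ∈ I.map (algebraMap R P)) (e : Λ →₀ ℕ) :
    b.repr y e ∈ I := by
  have h1 : y ∈ (I • (⊤ : Submodule R P)) := by
    rw [Ideal.smul_top_eq_map]
    exact hy
  refine Submodule.smul_induction_on h1 ?_ ?_
  · intro a ha p _
    rw [map_smul, Finsupp.smul_apply, smul_eq_mul]
    exact I.mul_mem_right _ ha
  · intro z z' hz hz'
    rw [map_add, Finsupp.add_apply]
    exact I.add_mem hz hz'

include hx0 hxmul hb in
theorem inf_le_mul : I.map (algebraMap R P) ⊓ Pp Λ P x ≤ I.map (algebraMap R P) * Pp Λ P x := by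
  intro y hy
  have h1 := b.linearCombination_repr y
  rw [Finsupp.linearCombination_apply, Finsupp.sum] at h1
  rw [← h1]
  refine Ideal.sum_mem _ fun e he => ?_
  have he0 : e ≠ 0 := by
    intro h0
    rw [Finsupp.mem_support_iff, h0, coord_zero_of_mem R Λ P x hx0 hxmul b hb hy.2] at he
    exact he rfl
  rw [Algebra.smul_def]
  exact Ideal.mul_mem_mul (Ideal.mem_map_of_mem _ (repr_mem_of_mem R Λ P b hy.1 e))
    (basis_mem R Λ P x hx0 b hb e he0)

include hx0 hxmul hb in
theorem main (δplus : DividedPowers (Ideal.span {y : P | ∃ (l : Λ) (n : ℕ), 1 ≤ n ∧ y = x l n})) :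
    ∃! δ : DividedPowers (I.map (algebraMap R P) ⊔
        Ideal.span {y : P | ∃ (l : Λ) (n : ℕ), 1 ≤ n ∧ y = x l n}),
      γ.IsDPMorphism δ (algebraMap R P) ∧
        ∀ (n : ℕ) (y : P), y ∈ Ideal.span {y : P | ∃ (l : Λ) (n : ℕ), 1 ≤ n ∧ y = x l n} →
          δ.dpow n y = δplus.dpow n y := by
  have hfree : Module.Free R P := Module.Free.of_basis b
  have hflat : Module.Flat R P := inferInstance
  obtain ⟨γ', hγ'⟩ := DPFlat.exists_isDPMorphism (B := P) γ
  have compat : ∀ (n : ℕ) (y : P), y ∈ I.map (algebraMap R P) ⊓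
      Ideal.span {y : P | ∃ (l : Λ) (n : ℕ), 1 ≤ n ∧ y = x l n} →
      γ'.dpow n y = δplus.dpow n y := by
    intro n y hy
    exact DividedPowers.coincide_on_smul γ' δplus (inf_le_mul R Λ P x hx0 hxmul b hb hy)
  obtain ⟨ε, ⟨hε1, hε2⟩, huniq⟩ := DPAdd.main γ' δplus compat
  refine ⟨ε, ⟨⟨le_sup_left, fun {n} a ha => ?_⟩, hε2⟩, ?_⟩
  · rw [hε1 n _ (Ideal.mem_map_of_mem _ ha), hγ'.dpow_comp a ha]
  · rintro δ ⟨hδ1, hδ2⟩
    apply huniq
    refine ⟨fun n y hy => ?_, hδ2⟩
    have key : ∀ n, δ.dpow n y = γ'.dpow n y := by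
      induction hy using Submodule.span_induction with
      | mem z h =>
        obtain ⟨a, ha, rfl⟩ := h
        intro n
        rw [hδ1.dpow_comp a ha, hγ'.dpow_comp a ha]
      | zero =>
        intro n
        by_cases hn : n = 0
        · subst hn
          rw [δ.dpow_zero (Ideal.zero_mem _), γ'.dpow_zero (Ideal.zero_mem _)]
        · rw [δ.dpow_eval_zero hn, γ'.dpow_eval_zero hn]
      | add z z' hz hz' hz1 hz1' =>
        intro n
        rw [δ.dpow_add (Ideal.mem_sup_left hz) (Ideal.mem_sup_left hz'), γ'.dpow_add hz hz']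
        refine sum_congr rfl fun k hk => ?_
        rw [hz1, hz1']
      | smul q z hz hz1 =>
        intro n
        rw [smul_eq_mul, δ.dpow_mul (Ideal.mem_sup_left hz), γ'.dpow_mul hz, hz1]
    exact key n

end Groth.Agent.Lib.Helper59.DPPoly
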