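import Groth.Agent.Lib.Helper59.DPEnv

/-!
# The divided power polynomial algebra as an envelope

`A⟨x_1, …, x_t⟩` is the divided power envelope of `(A[x_1..x_t], I A[x] + (x_1..x_t))`.
-/

set_option autoImplicit false
set_option linter.unusedVariables false

namespace Groth.Agent.Lib.Helper59.DPPolyAlg

universe u

open DividedPowers

theorem main {A : Type u} [CommRing A] {I : Ideal A} (γ : DividedPowers I) (t : ℕ) :
    ∃ (D : Type u) (_ : CommRing D) (_ : Algebra A D) (J : Ideal D) (δ : DividedPowers J)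
      (x : Fin t → D), (∀ i, x i ∈ J) ∧ γ.IsDPMorphism δ (algebraMap A D) ∧
      ∀ (C : Type u) [CommRing C] [Algebra A C] (K : Ideal C) (ε : DividedPowers K),
        γ.IsDPMorphism ε (algebraMap A C) → ∀ k : Fin t → C, (∀ i, k i ∈ K) →
          ∃! φ : D →ₐ[A] C, (∀ i, φ (x i) = k i) ∧ δ.IsDPMorphism ε φ.toRingHom := by
  let B : Type u := MvPolynomial (Fin t) A
  let J : Ideal B := I.map (algebraMap A B) ⊔ Ideal.span (Set.range (MvPolynomial.X : Fin t → B))
  have hIJ : I.map (algebraMap A B) ≤ J := le_sup_left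
  obtain ⟨D, instD, algBD, JD, γD, h1, h2, h3⟩ := Groth.Agent.Lib.Helper59.DPEnv.main γ J hIJ
  let algAD : Algebra A D := ((algebraMap B D).comp (algebraMap A B)).toAlgebra
  have hXJ : ∀ i : Fin t, (MvPolynomial.X i : B) ∈ J := fun i =>
    (le_sup_right : Ideal.span (Set.range (MvPolynomial.X : Fin t → B)) ≤ J)
      (Ideal.subset_span ⟨i, rfl⟩)
  refine ⟨D, instD, algAD, JD, γD, fun i => algebraMap B D (MvPolynomial.X i), ?_, h2, ?_⟩
  · intro i
    exact h1 (Ideal.mem_map_of_mem _ (hXJ i))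
  intro C _ _ K ε hε k hk
  let ψ : B →ₐ[A] C := MvPolynomial.aeval k
  have hψ : J.map ψ ≤ K := by
    rw [Ideal.map_le_iff_le_comap]
    refine sup_le ?_ ?_
    · rw [Ideal.map_le_iff_le_comap]
      intro a ha
      rw [Ideal.mem_comap, Ideal.mem_comap, AlgHom.commutes]
      exact hε.ideal_comp (Ideal.mem_map_of_mem _ ha)
    · rw [Ideal.span_le]
      rintro _ ⟨i, rfl⟩
      change ψ (MvPolynomial.X i) ∈ K
      rw [MvPolynomial.aeval_X]
      exact hk i
  obtain ⟨χ, ⟨hχ1, hχ2⟩, hχu⟩ := h3 C K ε hε ψ hψ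
  have hχ1' : ∀ b : B, χ (algebraMap B D b) = ψ b := fun b => by
    have := congrArg (fun f : B →+* C => f b) hχ1
    simpa using this
  have hcomm : ∀ a : A, χ (algebraMap A D a) = algebraMap A C a := by
    intro a
    have : algebraMap A D a = algebraMap B D (algebraMap A B a) := rfl
    rw [this, hχ1', AlgHom.commutes]
  let φ : D →ₐ[A] C := { χ with commutes' := hcomm }
  have hφχ : φ.toRingHom = χ := by
    ext d
    rfl
  refine ⟨φ, ⟨?_, ?_⟩, ?_⟩
  · intro i
    change χ (algebraMap B D (MvPolynomial.X i)) = k i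
    rw [hχ1', MvPolynomial.aeval_X]
  · rw [hφχ]; exact hχ2
  · rintro φ' ⟨hφ'1, hφ'2⟩
    have hcomp : φ'.toRingHom.comp (algebraMap B D) = (ψ : B →+* C) := by
      refine MvPolynomial.ringHom_ext ?_ ?_
      · intro a
        have e1 : (algebraMap B D) (MvPolynomial.C a) = algebraMap A D a := rfl
        have e2 : (MvPolynomial.C a : B) = algebraMap A B a := rfl
        rw [RingHom.comp_apply, e1]
        change φ' (algebraMap A D a) = ψ (MvPolynomial.C a)
        rw [AlgHom.commutes, e2, AlgHom.commutes]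
      · intro i
        rw [RingHom.comp_apply]
        change φ' (algebraMap B D (MvPolynomial.X i)) = ψ (MvPolynomial.X i)
        rw [hφ'1 i, MvPolynomial.aeval_X]
    have := hχu φ'.toRingHom ⟨hcomp, hφ'2⟩
    ext d
    have h4 := congrArg (fun f : D →+* C => f d) this
    exact h4

end Groth.Agent.Lib.Helper59.DPPolyAlg
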