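import Groth.Agent.Lib.Helper59.DPGen
import Mathlib.Data.Nat.Choose.Lucas
import Mathlib.Data.Nat.Prime.Factorial
import Mathlib.RingTheory.Localization.Basic
import Mathlib.RingTheory.Localization.FractionRing
import Mathlib.Combinatorics.Enumerative.Bell

/-!
# The ring `ℤ_(p)` and the scalars used to reconstruct divided powers from the `p`-th one
-/

set_option autoImplicit false
set_option linter.unusedVariables false

namespace Groth.Agent.Lib.Helper59.DPp

open Finset

variable (p : ℕ) [hp : Fact p.Prime]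

/-- integers prime to `p` -/
def S : Submonoid ℤ where
  carrier := {z | ¬ (p : ℤ) ∣ z}
  one_mem' := by
    show ¬ (p : ℤ) ∣ 1
    intro h
    have := Int.natCast_dvd_natCast.mp (by simpa using h : (p : ℤ) ∣ ((1 : ℕ) : ℤ))
    exact hp.out.one_lt.ne' (Nat.dvd_one.mp this)
  mul_mem' := by
    intro a b ha hb h
    rcases (Nat.prime_iff_prime_int.mp hp.out).dvd_or_dvd h with h | h
    · exact ha h
    · exact hb h

/-- the localization `ℤ_(p)` -/
abbrev K := Localization (S p)

theorem natCast_mem_S {N : ℕ} (h : ¬ p ∣ N) : (N : ℤ) ∈ S p := by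
  show ¬ (p : ℤ) ∣ (N : ℤ)
  rwa [Int.natCast_dvd_natCast]

theorem ne_zero_of_mem_S {z : ℤ} (hz : z ∈ S p) : z ≠ 0 := by
  rintro rfl
  exact hz (dvd_zero _)

/-- the map to `ℚ` -/
noncomputable def toQ : K p →+* ℚ :=
  IsLocalization.lift (M := S p) (g := Int.castRingHom ℚ) (fun y => by
    rw [isUnit_iff_ne_zero]
    simpa using ne_zero_of_mem_S p y.2)

theorem toQ_algebraMap (z : ℤ) : toQ p (algebraMap ℤ (K p) z) = (z : ℚ) := by
  rw [toQ, IsLocalization.lift_eq]
  rfl

theorem toQ_natCast (N : ℕ) : toQ p (N : K p) = (N : ℚ) := map_natCast _ _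

theorem toQ_injective : Function.Injective (toQ p) := by
  rw [toQ, IsLocalization.lift_injective_iff]
  intro x y
  have h1 : Function.Injective (algebraMap ℤ (K p)) := by
    apply IsLocalization.injective (M := S p)
    intro z hz
    exact mem_nonZeroDivisors_of_ne_zero (ne_zero_of_mem_S p hz)
  rw [h1.eq_iff]
  simp

open Classical in
/-- inverse of a natural number prime to `p` -/
noncomputable def invK (N : ℕ) : K p :=
  if h : ¬ p ∣ N then IsLocalization.mk' (K p) (1 : ℤ) (⟨(N : ℤ), natCast_mem_S p h⟩ : S p) else 0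

theorem invK_mul {N : ℕ} (h : ¬ p ∣ N) : invK p N * (N : K p) = 1 := by
  rw [invK, dif_pos h]
  have : (N : K p) = algebraMap ℤ (K p) ((⟨(N : ℤ), natCast_mem_S p h⟩ : S p) : ℤ) := by
    simp
  rw [this, IsLocalization.mk'_spec, map_one]

theorem toQ_invK {N : ℕ} (h : ¬ p ∣ N) : toQ p (invK p N) = (N : ℚ)⁻¹ := by
  have h1 := congrArg (toQ p) (invK_mul p h)
  rw [map_mul, map_one, toQ_natCast] at h1
  exact eq_inv_of_mul_eq_one_left h1

/-- the integer `N(n)` with `N(n) γ_n(x) = x^a γ_m(γ_p x)` for `n = p m + a` -/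
def Nn (n : ℕ) : ℕ := (n % p).factorial * Nat.uniformBell (n / p) p * n.choose (n % p)

theorem not_dvd_factorial_of_lt {a : ℕ} (ha : a < p) : ¬ p ∣ a.factorial := by
  rw [Nat.Prime.dvd_factorial hp.out]
  omega

theorem not_dvd_uniformBell (m : ℕ) : ¬ p ∣ Nat.uniformBell m p := by
  rw [Nat.uniformBell_eq]
  rw [Prime.dvd_finsetProd_iff (Nat.prime_iff.mp hp.out)]
  rintro ⟨i, hi, h⟩
  have h1 := Choose.choose_modEq_choose_mod_mul_choose_div_nat (n := i * p + p - 1) (k := p - 1)
    (p := p)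
  have hp2 := hp.out.two_le
  have e1 : (i * p + p - 1) % p = p - 1 := by
    have : i * p + p - 1 = (p - 1) + p * i := by
      have : 1 ≤ p := by omega
      zify [this, show 1 ≤ i * p + p by nlinarith]
      ring
    rw [this, Nat.add_mul_mod_self_left, Nat.mod_eq_of_lt (by omega)]
  have e2 : (i * p + p - 1) / p = i := by
    have : i * p + p - 1 = (p - 1) + p * i := by
      have : 1 ≤ p := by omega
      zify [this, show 1 ≤ i * p + p by nlinarith]
      ring
    rw [this, Nat.add_mul_div_left _ _ (by omega), Nat.div_eq_of_lt (by omega), zero_add]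
  have e3 : (p - 1) % p = p - 1 := Nat.mod_eq_of_lt (by omega)
  have e4 : (p - 1) / p = 0 := Nat.div_eq_of_lt (by omega)
  rw [e1, e2, e3, e4, Nat.choose_self, Nat.choose_zero_right, one_mul] at h1
  have h2 : (i * p + p - 1).choose (p - 1) % p = 1 % p := h1
  rw [Nat.mod_eq_of_lt (a := 1) (by omega)] at h2
  have h3 := Nat.mod_eq_zero_of_dvd h
  omega

theorem not_dvd_choose_mod (n : ℕ) : ¬ p ∣ n.choose (n % p) := by
  intro h
  have h1 := Choose.choose_modEq_choose_mod_mul_choose_div_nat (n := n) (k := n % p) (p := p)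
  have hp2 := hp.out.two_le
  have e3 : (n % p) % p = n % p := Nat.mod_mod _ _
  have e4 : (n % p) / p = 0 := Nat.div_eq_of_lt (Nat.mod_lt _ (by omega))
  rw [e3, e4, Nat.choose_self, Nat.choose_zero_right, one_mul] at h1
  have h2 : n.choose (n % p) % p = 1 % p := h1
  rw [Nat.mod_eq_of_lt (a := 1) (by omega)] at h2
  have h3 := Nat.mod_eq_zero_of_dvd h
  omega

theorem not_dvd_Nn (n : ℕ) : ¬ p ∣ Nn p n := by
  rw [Nn, hp.out.dvd_mul, hp.out.dvd_mul]
  rintro ((h | h) | h)
  · exact not_dvd_factorial_of_lt p (Nat.mod_lt _ hp.out.pos) h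
  · exact not_dvd_uniformBell p _ h
  · exact not_dvd_choose_mod p n h

/-- the scalar `1 / N(n)` -/
noncomputable def sK (n : ℕ) : K p := invK p (Nn p n)

theorem sK_mul (n : ℕ) : sK p n * (Nn p n : K p) = 1 := invK_mul p (not_dvd_Nn p n)

theorem Nn_one : Nn p 1 = 1 := by
  have hp2 := hp.out.two_le
  have e1 : 1 % p = 1 := Nat.mod_eq_of_lt (by omega)
  have e2 : 1 / p = 0 := Nat.div_eq_of_lt (by omega)
  rw [Nn, e1, e2, Nat.uniformBell_zero_left]
  simp

theorem Nn_p : Nn p p = 1 := by
  have hp2 := hp.out.two_le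
  rw [Nn, Nat.mod_self, Nat.div_self (by omega), Nat.uniformBell_one_left]
  simp

theorem sK_one : sK p 1 = 1 := by
  have := sK_mul p 1
  rwa [Nn_one, Nat.cast_one, mul_one] at this

theorem sK_p : sK p p = 1 := by
  have := sK_mul p p
  rwa [Nn_p, Nat.cast_one, mul_one] at this

end Groth.Agent.Lib.Helper59.DPp
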