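import Groth.Agent.Lib.Helper59.DPpPres

/-!
# Divided powers from the `p`-th divided power over a `ℤ_(p)`-algebra
-/

set_option autoImplicit false
set_option linter.unusedVariables false

namespace Groth.Agent.Lib.Helper59.DPp

open Finset

universe u

variable (p : ℕ) [hp : Fact p.Prime]

theorem dp_rec {A : Type*} [CommRing A] {I : Ideal A} (hI : DividedPowers I) {x : A} (hx : x ∈ I)
    (n : ℕ) :
    x ^ (n % p) * hI.dpow (n / p) (hI.dpow p x) = (Nn p n : A) * hI.dpow n x := by
  have e1 : x ^ (n % p) = ((n % p).factorial : A) * hI.dpow (n % p) x :=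
    (hI.factorial_mul_dpow_eq_pow hx).symm
  have e2 : hI.dpow (n / p) (hI.dpow p x) =
      (Nat.uniformBell (n / p) p : A) * hI.dpow (n / p * p) x := by
    rw [hI.dpow_comp hp.out.ne_zero hx]
  have e3 : hI.dpow (n % p) x * hI.dpow (n / p * p) x =
      ((n.choose (n % p) : ℕ) : A) * hI.dpow n x := by
    rw [hI.mul_dpow hx]
    have : n % p + n / p * p = n := by
      rw [mul_comm, add_comm]; exact Nat.div_add_mod n p
    rw [this]
  rw [e1, e2, mul_mul_mul_comm, e3, Nn]
  push_cast
  ring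

namespace Model

variable {p}
variable (M : Model.{u} p)

theorem ev_x : ev p M (MvPolynomial.X (Sum.inl 0)) = M.x := by
  rw [ev_X_inl, Function.iterate_zero, id]

theorem ev_y : ev p M (MvPolynomial.X (Sum.inr 0)) = M.y := by
  rw [ev_X_inr, Function.iterate_zero, id]

theorem X_mem_aug (i : ℕ ⊕ ℕ) : (MvPolynomial.X i : Poly p) ∈ aug p :=
  Ideal.subset_span ⟨i, rfl⟩

theorem Theta_x : Theta p (MvPolynomial.X (Sum.inl 0)) = (MvPolynomial.X 0 : W) := by
  rw [Theta_X, theta, Sum.elim_inl, Function.iterate_zero, id]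

theorem Theta_y : Theta p (MvPolynomial.X (Sum.inr 0)) = (MvPolynomial.X 1 : W) := by
  rw [Theta_X, theta, Sum.elim_inr, Function.iterate_zero, id]

theorem gam_add (n : ℕ) :
    gam p M.d n (M.x + M.y) =
      ∑ k ∈ antidiagonal n, gam p M.d k.1 M.x * gam p M.d k.2 M.y := by
  have hx' := fun i => gstep.{u} p i (MvPolynomial.X (Sum.inl 0)) (X_mem_aug _)
  have hy' := fun i => gstep.{u} p i (MvPolynomial.X (Sum.inr 0)) (X_mem_aug _)
  choose Γx _ hΓx1 hΓx2 using hx'
  choose Γy _ hΓy1 hΓy2 using hy'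
  obtain ⟨Γ, _, hΓ1, hΓ2⟩ := gstep.{u} p n
    (MvPolynomial.X (Sum.inl 0) + MvPolynomial.X (Sum.inr 0))
    (Ideal.add_mem _ (X_mem_aug _) (X_mem_aug _))
  have e1 : gam p M.d n (M.x + M.y) = ev p M Γ := by
    rw [hΓ2 M, map_add, ev_x, ev_y]
  have e2 : ∑ k ∈ antidiagonal n, gam p M.d k.1 M.x * gam p M.d k.2 M.y =
      ev p M (∑ k ∈ antidiagonal n, Γx k.1 * Γy k.2) := by
    rw [map_sum]
    refine sum_congr rfl fun k _ => ?_
    rw [map_mul, hΓx2 k.1 M, hΓy2 k.2 M, ev_x, ev_y]
  rw [e1, e2]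
  apply ev_eq_of_Theta_eq
  rw [hΓ1, map_add, Theta_x, Theta_y, WDP.dpow_add Submodule.mem_top Submodule.mem_top, map_sum]
  refine sum_congr rfl fun k _ => ?_
  rw [map_mul, hΓx1, hΓy1, Theta_x, Theta_y]

theorem gam_mul_dpow (m n : ℕ) :
    gam p M.d m M.x * gam p M.d n M.x = ((m + n).choose m : M.A) * gam p M.d (m + n) M.x := by
  have hx' := fun i => gstep.{u} p i (MvPolynomial.X (Sum.inl 0)) (X_mem_aug _)
  choose Γx _ hΓx1 hΓx2 using hx'
  have e1 : gam p M.d m M.x * gam p M.d n M.x = ev p M (Γx m * Γx n) := by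
    rw [map_mul, hΓx2 m M, hΓx2 n M, ev_x]
  have e2 : ((m + n).choose m : M.A) * gam p M.d (m + n) M.x =
      ev p M (((m + n).choose m : Poly p) * Γx (m + n)) := by
    rw [map_mul, map_natCast, hΓx2 (m + n) M, ev_x]
  rw [e1, e2]
  apply ev_eq_of_Theta_eq
  rw [map_mul, map_mul, map_natCast, hΓx1, hΓx1, hΓx1, Theta_x,
    WDP.mul_dpow Submodule.mem_top]

theorem gam_comp (m n : ℕ) (hn : n ≠ 0) :
    gam p M.d m (gam p M.d n M.x) =
      (Nat.uniformBell m n : M.A) * gam p M.d (m * n) M.x := by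
  have hx' := fun i => gstep.{u} p i (MvPolynomial.X (Sum.inl 0)) (X_mem_aug _)
  choose Γx hΓx0 hΓx1 hΓx2 using hx'
  obtain ⟨Γ, _, hΓ1, hΓ2⟩ := gstep.{u} p m (Γx n) (hΓx0 n hn)
  have e1 : gam p M.d m (gam p M.d n M.x) = ev p M Γ := by
    rw [hΓ2 M, hΓx2 n M, ev_x]
  have e2 : (Nat.uniformBell m n : M.A) * gam p M.d (m * n) M.x =
      ev p M ((Nat.uniformBell m n : Poly p) * Γx (m * n)) := by
    rw [map_mul, map_natCast, hΓx2 (m * n) M, ev_x]
  rw [e1, e2]
  apply ev_eq_of_Theta_eq
  rw [hΓ1, map_mul, map_natCast, hΓx1, hΓx1, Theta_x, WDP.dpow_comp hn Submodule.mem_top]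

theorem gam_mem (n : ℕ) (hn : n ≠ 0) : gam p M.d n M.x ∈ M.I := by
  obtain ⟨Γ, hΓ0, _, hΓ2⟩ := gstep.{u} p n (MvPolynomial.X (Sum.inl 0)) (X_mem_aug _)
  have := ev_mem p M (hΓ0 hn)
  rwa [hΓ2 M, ev_x] at this

theorem gam_one {z : M.A} (hz : z ∈ M.I) : gam p M.d 1 z = z := by
  have hp2 := hp.out.two_le
  have e1 : 1 % p = 1 := Nat.mod_eq_of_lt (by omega)
  have e2 : 1 / p = 0 := Nat.div_eq_of_lt (by omega)
  rw [gam_of_ne_zero p M.d one_ne_zero, e1, e2, gam_zero, sK_one, one_smul, pow_one, mul_one]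

theorem gam_p {z : M.A} (hz : z ∈ M.I) : gam p M.d p z = M.d z := by
  have hp2 := hp.out.two_le
  rw [gam_of_ne_zero p M.d hp.out.ne_zero, Nat.mod_self, Nat.div_self hp.out.pos, sK_p, one_smul,
    pow_zero, one_mul, gam_one M (M.hdI _ hz)]

theorem gam_smul (n : ℕ) :
    ∀ (a : M.A), ∀ z ∈ M.I, gam p M.d n (a * z) = a ^ n * gam p M.d n z := by
  induction n using Nat.strong_induction_on with
  | _ n ih =>
    intro a z hz
    by_cases hn : n = 0
    · subst hn
      rw [gam_zero, gam_zero, pow_zero, one_mul]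
    · have hlt : n / p < n := Nat.div_lt_self (Nat.pos_of_ne_zero hn) hp.out.one_lt
      rw [gam_of_ne_zero p M.d hn, gam_of_ne_zero p M.d hn, M.h2 a z hz,
        ih (n / p) hlt _ _ (M.hdI _ hz), mul_pow, mul_smul_comm]
      congr 1
      have hdm := Nat.div_add_mod n p
      have e : a ^ n = a ^ (n % p) * (a ^ p) ^ (n / p) := by
        rw [← pow_mul, ← pow_add]
        congr 1
        omega
      rw [e]
      ring

theorem eq_gam (γ' : DividedPowers M.I) (hγ' : ∀ z ∈ M.I, γ'.dpow p z = M.d z) (n : ℕ) :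
    ∀ z ∈ M.I, γ'.dpow n z = gam p M.d n z := by
  induction n using Nat.strong_induction_on with
  | _ n ih =>
    intro z hz
    by_cases hn : n = 0
    · subst hn
      rw [gam_zero, γ'.dpow_zero hz]
    · have hlt : n / p < n := Nat.div_lt_self (Nat.pos_of_ne_zero hn) hp.out.one_lt
      rw [gam_of_ne_zero p M.d hn, ← ih (n / p) hlt _ (M.hdI _ hz), ← hγ' z hz,
        dp_rec p γ' hz n, ← nsmul_eq_mul, ← Nat.cast_smul_eq_nsmul (K p), smul_smul, sK_mul,
        one_smul]

end Model

section Main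

variable {A : Type u} [CommRing A] (hA : ∀ n : ℕ, ¬ p ∣ n → IsUnit (n : A))

include hA in
theorem isUnit_intCast (z : ℤ) (hz : z ∈ S p) : IsUnit ((z : ℤ) : A) := by
  have h1 : ¬ p ∣ z.natAbs := by
    intro h
    exact hz (Int.natCast_dvd.mpr h)
  have h2 := hA _ h1
  rcases Int.natAbs_eq z with h | h
  · rw [h]
    simpa using h2
  · rw [h]
    simpa using h2.neg

/-- the structure map `ℤ_(p) → A` -/
noncomputable def toA : K p →+* A :=
  IsLocalization.lift (M := S p) (g := Int.castRingHom A)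
    (fun y => by simpa using isUnit_intCast p hA y y.2)

theorem inverse_eq_of_mul_eq_one {a b : A} (h : a * b = 1) : Ring.inverse b = a := by
  have hb : IsUnit b := IsUnit.of_mul_eq_one a (by rw [mul_comm]; exact h)
  calc Ring.inverse b = (a * b) * Ring.inverse b := by rw [h, one_mul]
    _ = a * (b * Ring.inverse b) := by ring
    _ = a := by rw [Ring.mul_inverse_cancel b hb, mul_one]

theorem toA_invK {N : ℕ} (hN : ¬ p ∣ N) : toA p hA (invK p N) = Ring.inverse (N : A) := by
  symm
  apply inverse_eq_of_mul_eq_one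
  have := congrArg (toA p hA) (invK_mul p hN)
  rwa [map_mul, map_one, map_natCast] at this

variable {I : Ideal A} (d : A → A)
  (hdI : ∀ x ∈ I, d x ∈ I) (h1 : ∀ x ∈ I, (p.factorial : A) * d x = x ^ p)
  (h2 : ∀ (a x : A), x ∈ I → d (a * x) = a ^ p * d x)
  (h3 : ∀ x ∈ I, ∀ y ∈ I, d (x + y) = d x + d y +
      ((Finset.antidiagonal p).filter fun k => 0 < k.1 ∧ 0 < k.2).sum
        fun k => Ring.inverse ((k.1.factorial * k.2.factorial : ℕ) : A) * x ^ k.1 * y ^ k.2)

/-- the model attached to two elements of `I` -/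
@[reducible] noncomputable def mkModel (x y : A) (hx : x ∈ I) (hy : y ∈ I) : Model.{u} p :=
  let _ : Algebra (K p) A := (toA p hA).toAlgebra
  { A := A
    I := I
    d := d
    hdI := hdI
    h1 := h1
    h2 := h2
    h3 := by
      intro x hx y hy
      rw [h3 x hx y hy, cross]
      congr 1
      refine sum_congr rfl fun k hk => ?_
      rw [Algebra.smul_def, mul_assoc]
      congr 1
      exact (toA_invK p hA (not_dvd_of_mem_filter p hk)).symm
    x := x
    y := y
    hx := hx
    hy := hy }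

include hA hdI h1 h2 h3 in
theorem main : ∃! γ : DividedPowers I, ∀ x ∈ I, γ.dpow p x = d x := by
  classical
  let _ : Algebra (K p) A := (toA p hA).toAlgebra
  let MM := fun (x y : A) (hx : x ∈ I) (hy : y ∈ I) => mkModel p hA d hdI h1 h2 h3 x y hx hy
  let γ : DividedPowers I :=
    { dpow := fun n x => if x ∈ I then gam p d n x else 0
      dpow_null := fun {n x} hx => if_neg hx
      dpow_zero := fun {x} hx => by rw [if_pos hx, gam_zero]
      dpow_one := fun {x} hx => by
        rw [if_pos hx]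
        exact (MM x x hx hx).gam_one hx
      dpow_mem := fun {n x} hn hx => by
        rw [if_pos hx]
        exact (MM x x hx hx).gam_mem n hn
      dpow_add := fun {n x y} hx hy => by
        rw [if_pos (I.add_mem hx hy)]
        have := (MM x y hx hy).gam_add n
        refine this.trans ?_
        refine sum_congr rfl fun k _ => ?_
        rw [if_pos hx, if_pos hy]
      dpow_mul := fun {n a x} hx => by
        rw [if_pos hx, if_pos (I.mul_mem_left a hx)]
        exact (MM x x hx hx).gam_smul n a x hx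
      mul_dpow := fun {m n x} hx => by
        simp only [if_pos hx]
        exact (MM x x hx hx).gam_mul_dpow m n
      dpow_comp := fun {m n x} hn hx => by
        have hmem : gam p d n x ∈ I := (MM x x hx hx).gam_mem n hn
        simp only [if_pos hx]
        rw [if_pos hmem]
        exact (MM x x hx hx).gam_comp m n hn }
  refine ⟨γ, fun x hx => ?_, fun γ' hγ' => ?_⟩
  · show (if x ∈ I then gam p d p x else 0) = d x
    rw [if_pos hx]
    exact (MM x x hx hx).gam_p hx
  · apply DividedPowers.ext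
    intro n x hx
    show γ'.dpow n x = if x ∈ I then gam p d n x else 0
    rw [if_pos hx]
    exact (MM x x hx hx).eq_gam γ' hγ' n x hx

end Main

end Groth.Agent.Lib.Helper59.DPp
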