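import Groth.Agent.Lib.Helper59.DPpBase
import Mathlib.Algebra.MvPolynomial.Eval
import Mathlib.Algebra.MvPolynomial.Rename
import Mathlib.Algebra.MvPolynomial.CommRing
import Mathlib.RingTheory.DividedPowers.RatAlgebra

/-!
# Models for the reconstruction of divided powers from the `p`-th one
-/

set_option autoImplicit false
set_option linter.unusedVariables false

namespace Groth.Agent.Lib.Helper59.DPp

open Finset

universe u

variable (p : ℕ) [hp : Fact p.Prime]

/-- the cross term in the addition formula for the `p`-th divided power -/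
noncomputable def cross {A : Type*} [CommRing A] [Algebra (K p) A] (x y : A) : A :=
  ∑ k ∈ (antidiagonal p).filter (fun k => 0 < k.1 ∧ 0 < k.2),
    invK p (k.1.factorial * k.2.factorial) • (x ^ k.1 * y ^ k.2)

/-- a model: a `ℤ_(p)`-algebra with an ideal, a `p`-th divided power and two elements -/
structure Model where
  A : Type u
  [ring : CommRing A]
  [alg : Algebra (K p) A]
  I : Ideal A
  d : A → A
  hdI : ∀ x ∈ I, d x ∈ I
  h1 : ∀ x ∈ I, (p.factorial : A) * d x = x ^ p
  h2 : ∀ (a x : A), x ∈ I → d (a * x) = a ^ p * d x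
  h3 : ∀ x ∈ I, ∀ y ∈ I, d (x + y) = d x + d y + cross p x y
  x : A
  y : A
  hx : x ∈ I
  hy : y ∈ I

attribute [instance] Model.ring Model.alg

/-- the candidate divided powers -/
noncomputable def gam {A : Type*} [CommRing A] [Algebra (K p) A] (d : A → A) : ℕ → A → A
  | n, x => if h : n = 0 then 1 else sK p n • (x ^ (n % p) * gam d (n / p) (d x))
termination_by n => n
decreasing_by exact Nat.div_lt_self (Nat.pos_of_ne_zero h) hp.out.one_lt

theorem gam_zero {A : Type*} [CommRing A] [Algebra (K p) A] (d : A → A) (x : A) :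
    gam p d 0 x = 1 := by
  rw [gam, dif_pos rfl]

theorem gam_of_ne_zero {A : Type*} [CommRing A] [Algebra (K p) A] (d : A → A) {n : ℕ}
    (hn : n ≠ 0) (x : A) :
    gam p d n x = sK p n • (x ^ (n % p) * gam p d (n / p) (d x)) := by
  rw [gam, dif_neg hn]

namespace Model

variable {p}
variable (M : Model.{u} p)

theorem d_zero : M.d 0 = 0 := by
  have := M.h2 0 0 M.I.zero_mem
  rw [zero_mul, zero_pow hp.out.ne_zero, zero_mul] at this
  exact this

theorem iter_mem {z : M.A} (hz : z ∈ M.I) (k : ℕ) : M.d^[k] z ∈ M.I := by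
  induction k with
  | zero => exact hz
  | succ k ih =>
    rw [Function.iterate_succ_apply']
    exact M.hdI _ ih

end Model

/-- the rational model ring -/
abbrev W := MvPolynomial (Fin 2) ℚ

/-- the divided power structure on `W` -/
noncomputable def WDP : DividedPowers (⊤ : Ideal W) := by
  classical
  exact DividedPowers.RatAlgebra.dividedPowers ⊤

theorem WDP_apply (n : ℕ) (z : W) : WDP.dpow n z = ((n.factorial : ℚ)⁻¹) • z ^ n := by
  classical
  rw [DividedPowers.RatAlgebra.dpow_eq_inv_fact_smul ⊤ WDP (Submodule.mem_top),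
    Ring.inverse_eq_inv']

/-- the `p`-th divided power on `W` -/
noncomputable def dW (z : W) : W := WDP.dpow p z

theorem WDP_rec (n : ℕ) (z : W) :
    WDP.dpow n z = toQ p (sK p n) • (z ^ (n % p) * WDP.dpow (n / p) (dW p z)) := by
  have hz : z ∈ (⊤ : Ideal W) := Submodule.mem_top
  have e1 : z ^ (n % p) = ((n % p).factorial : W) * WDP.dpow (n % p) z :=
    (WDP.factorial_mul_dpow_eq_pow hz).symm
  have e2 : WDP.dpow (n / p) (dW p z) =
      (Nat.uniformBell (n / p) p : W) * WDP.dpow (n / p * p) z := by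
    rw [dW, WDP.dpow_comp hp.out.ne_zero hz]
  have e3 : WDP.dpow (n % p) z * WDP.dpow (n / p * p) z =
      ((n.choose (n % p) : ℕ) : W) * WDP.dpow n z := by
    rw [WDP.mul_dpow hz]
    have : n % p + n / p * p = n := by
      rw [mul_comm, add_comm]; exact Nat.div_add_mod n p
    rw [this]
  have e4 : z ^ (n % p) * WDP.dpow (n / p) (dW p z) = (Nn p n : W) * WDP.dpow n z := by
    rw [e1, e2, mul_mul_mul_comm, e3, Nn]
    push_cast
    ring
  rw [e4]
  have e5 := congrArg (toQ p) (sK_mul p n)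
  rw [map_mul, map_one, toQ_natCast] at e5
  rw [← nsmul_eq_mul, ← Nat.cast_smul_eq_nsmul ℚ, smul_smul, e5, one_smul]

/-- the universal polynomial ring -/
abbrev Poly := MvPolynomial (ℕ ⊕ ℕ) (K p)

/-- images of the variables in `W` -/
noncomputable def theta : ℕ ⊕ ℕ → W :=
  Sum.elim (fun k => (dW p)^[k] (MvPolynomial.X 0)) (fun k => (dW p)^[k] (MvPolynomial.X 1))

/-- evaluation in the rational model -/
noncomputable def Theta : Poly p →+* W :=
  MvPolynomial.eval₂Hom ((algebraMap ℚ W).comp (toQ p)) (theta p)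

theorem Theta_X (i : ℕ ⊕ ℕ) : Theta p (MvPolynomial.X i) = theta p i := by
  simp [Theta]

theorem Theta_smul (c : K p) (F : Poly p) : Theta p (c • F) = toQ p c • Theta p F := by
  rw [MvPolynomial.smul_eq_C_mul, map_mul, Algebra.smul_def]
  congr 1
  simp [Theta]

/-- evaluation in a model -/
noncomputable def ev (M : Model.{u} p) : Poly p →ₐ[K p] M.A :=
  MvPolynomial.aeval (Sum.elim (fun k => M.d^[k] M.x) (fun k => M.d^[k] M.y))

theorem ev_X_inl (M : Model.{u} p) (k : ℕ) : ev p M (MvPolynomial.X (Sum.inl k)) = M.d^[k] M.x := by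
  simp [ev]

theorem ev_X_inr (M : Model.{u} p) (k : ℕ) : ev p M (MvPolynomial.X (Sum.inr k)) = M.d^[k] M.y := by
  simp [ev]

/-- the augmentation ideal -/
noncomputable def aug : Ideal (Poly p) := Ideal.span (Set.range MvPolynomial.X)

theorem ev_mem (M : Model.{u} p) {F : Poly p} (hF : F ∈ aug p) : ev p M F ∈ M.I := by
  rw [aug] at hF
  induction hF using Submodule.span_induction with
  | mem z h =>
    obtain ⟨i, rfl⟩ := h
    rcases i with k | k
    · rw [ev_X_inl]; exact M.iter_mem M.hx k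
    · rw [ev_X_inr]; exact M.iter_mem M.hy k
  | zero => rw [map_zero]; exact M.I.zero_mem
  | add a b _ _ ha hb => rw [map_add]; exact M.I.add_mem ha hb
  | smul c a _ ha => rw [smul_eq_mul, map_mul]; exact M.I.mul_mem_left _ ha

theorem ev_cross (M : Model.{u} p) (F G : Poly p) :
    ev p M (cross p F G) = cross p (ev p M F) (ev p M G) := by
  simp only [cross, map_sum, map_smul, map_mul, map_pow]

theorem not_dvd_of_mem_filter {k : ℕ × ℕ}
    (hk : k ∈ (antidiagonal p).filter (fun k => 0 < k.1 ∧ 0 < k.2)) :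
    ¬ p ∣ k.1.factorial * k.2.factorial := by
  rw [mem_filter, mem_antidiagonal] at hk
  rw [hp.out.dvd_mul]
  rintro (h | h)
  · exact not_dvd_factorial_of_lt p (by omega) h
  · exact not_dvd_factorial_of_lt p (by omega) h

theorem Theta_cross (F G : Poly p) :
    Theta p (cross p F G) =
      ∑ k ∈ (antidiagonal p).filter (fun k => 0 < k.1 ∧ 0 < k.2),
        WDP.dpow k.1 (Theta p F) * WDP.dpow k.2 (Theta p G) := by
  rw [cross, map_sum]
  refine sum_congr rfl fun k hk => ?_
  rw [Theta_smul, toQ_invK p (not_dvd_of_mem_filter p hk), map_mul, map_pow, map_pow,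
    WDP_apply, WDP_apply, smul_mul_smul_comm]
  congr 1
  push_cast
  rw [mul_inv]

theorem dW_add (a b : W) :
    dW p (a + b) = dW p a + dW p b +
      ∑ k ∈ (antidiagonal p).filter (fun k => 0 < k.1 ∧ 0 < k.2),
        WDP.dpow k.1 a * WDP.dpow k.2 b := by
  have ha : a ∈ (⊤ : Ideal W) := Submodule.mem_top
  have hb : b ∈ (⊤ : Ideal W) := Submodule.mem_top
  rw [dW, WDP.dpow_add ha hb,
    ← sum_filter_add_sum_filter_not (antidiagonal p) (fun k => 0 < k.1 ∧ 0 < k.2)]
  have hp0 : p ≠ 0 := hp.out.ne_zero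
  have hset : (antidiagonal p).filter (fun k => ¬ (0 < k.1 ∧ 0 < k.2)) = {(0, p), (p, 0)} := by
    ext ⟨i, j⟩
    simp only [mem_filter, mem_antidiagonal, mem_insert, mem_singleton, Prod.mk.injEq]
    constructor
    · rintro ⟨h1, h2⟩
      by_cases hi : i = 0
      · left; exact ⟨hi, by omega⟩
      · right
        have : j = 0 := by
          by_contra hj
          exact h2 ⟨Nat.pos_of_ne_zero hi, Nat.pos_of_ne_zero hj⟩
        exact ⟨by omega, this⟩
    · rintro (⟨rfl, rfl⟩ | ⟨rfl, rfl⟩)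
      · exact ⟨by omega, by simp⟩
      · exact ⟨by omega, by simp⟩
  have hne : ((0, p) : ℕ × ℕ) ≠ (p, 0) := by
    intro h
    exact hp0 (congrArg Prod.fst h).symm
  rw [hset, sum_pair hne, WDP.dpow_zero ha, WDP.dpow_zero hb, dW, dW]
  ring

theorem dW_mul (a b : W) : dW p (a * b) = a ^ p * dW p b := by
  rw [dW, dW, WDP.dpow_mul Submodule.mem_top]

theorem dW_zero : dW p 0 = 0 := by
  rw [dW, WDP.dpow_eval_zero hp.out.ne_zero]

/-- the `d`-step -/
theorem dstep (F : Poly p) (hF : F ∈ aug p) :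
    ∃ G ∈ aug p, Theta p G = dW p (Theta p F) ∧
      ∀ M : Model.{u} p, ev p M G = M.d (ev p M F) := by
  have hF' := hF
  rw [aug] at hF
  induction hF using Submodule.span_induction with
  | mem z h =>
    obtain ⟨i, rfl⟩ := h
    rcases i with k | k
    · refine ⟨MvPolynomial.X (Sum.inl (k + 1)), Ideal.subset_span ⟨_, rfl⟩, ?_, fun M => ?_⟩
      · rw [Theta_X, Theta_X, theta, Sum.elim_inl, Sum.elim_inl, Function.iterate_succ_apply']
      · rw [ev_X_inl, ev_X_inl, Function.iterate_succ_apply']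
    · refine ⟨MvPolynomial.X (Sum.inr (k + 1)), Ideal.subset_span ⟨_, rfl⟩, ?_, fun M => ?_⟩
      · rw [Theta_X, Theta_X, theta, Sum.elim_inr, Sum.elim_inr, Function.iterate_succ_apply']
      · rw [ev_X_inr, ev_X_inr, Function.iterate_succ_apply']
  | zero =>
    refine ⟨0, Ideal.zero_mem _, ?_, fun M => ?_⟩
    · rw [map_zero, dW_zero]
    · rw [map_zero, M.d_zero]
  | add a b ha hb iha ihb =>
    have ha' : a ∈ aug p := ha
    have hb' : b ∈ aug p := hb
    obtain ⟨Ga, hGa, hGa1, hGa2⟩ := iha ha'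
    obtain ⟨Gb, hGb, hGb1, hGb2⟩ := ihb hb'
    refine ⟨Ga + Gb + cross p a b, ?_, ?_, fun M => ?_⟩
    · refine Ideal.add_mem _ (Ideal.add_mem _ hGa hGb) ?_
      rw [cross]
      refine Ideal.sum_mem _ fun k hk => ?_
      rw [mem_filter] at hk
      refine Submodule.smul_of_tower_mem _ _ ?_
      exact Ideal.mul_mem_right _ _ (Ideal.pow_mem_of_mem _ ha' _ hk.2.1)
    · rw [map_add, map_add, map_add, hGa1, hGb1, Theta_cross, dW_add]
    · rw [map_add, map_add, map_add, hGa2, hGb2, ev_cross,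
        M.h3 _ (ev_mem p M ha') _ (ev_mem p M hb')]
  | smul c a ha iha =>
    have ha' : a ∈ aug p := ha
    obtain ⟨Ga, hGa, hGa1, hGa2⟩ := iha ha'
    refine ⟨c ^ p * Ga, Ideal.mul_mem_left _ _ hGa, ?_, fun M => ?_⟩
    · rw [smul_eq_mul, map_mul, map_mul, map_pow, hGa1, dW_mul]
    · rw [smul_eq_mul, map_mul, map_mul, map_pow, hGa2, M.h2 _ _ (ev_mem p M ha')]

/-- the `γ`-step -/
theorem gstep (n : ℕ) : ∀ F ∈ aug p, ∃ Γ : Poly p, (n ≠ 0 → Γ ∈ aug p) ∧
      Theta p Γ = WDP.dpow n (Theta p F) ∧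
      ∀ M : Model.{u} p, ev p M Γ = gam p M.d n (ev p M F) := by
  induction n using Nat.strong_induction_on with
  | _ n ih =>
    intro F hF
    by_cases hn : n = 0
    · subst hn
      refine ⟨1, fun h => absurd rfl h, ?_, fun M => ?_⟩
      · rw [map_one, WDP.dpow_zero Submodule.mem_top]
      · rw [map_one, gam_zero]
    · obtain ⟨G, hG, hG1, hG2⟩ := dstep.{u} p F hF
      have hlt : n / p < n := Nat.div_lt_self (Nat.pos_of_ne_zero hn) hp.out.one_lt
      obtain ⟨Γm, hΓm, hΓm1, hΓm2⟩ := ih (n / p) hlt G hG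
      refine ⟨sK p n • (F ^ (n % p) * Γm), fun _ => ?_, ?_, fun M => ?_⟩
      · refine Submodule.smul_of_tower_mem _ _ ?_
        by_cases ha : n % p = 0
        · have hm : n / p ≠ 0 := by
            intro h0
            have := Nat.div_add_mod n p
            rw [h0, ha] at this
            omega
          exact Ideal.mul_mem_left _ _ (hΓm hm)
        · exact Ideal.mul_mem_right _ _ (Ideal.pow_mem_of_mem _ hF _ (Nat.pos_of_ne_zero ha))
      · rw [Theta_smul, map_mul, map_pow, hΓm1, hG1, ← WDP_rec]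
      · rw [map_smul, map_mul, map_pow, hΓm2, hG2, ← gam_of_ne_zero p M.d hn]

end Groth.Agent.Lib.Helper59.DPp
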