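import Groth.Agent.Lib.Helper59.DPpModel

/-!
# The presentation lemma: identities valid in the rational model hold in all models
-/

set_option autoImplicit false
set_option linter.unusedVariables false

namespace Groth.Agent.Lib.Helper59.DPp

open Finset

universe u

variable (p : ℕ) [hp : Fact p.Prime]

/-- two polynomials with the same value in the rational model and in all models -/
def Rel (F G : Poly p) : Prop :=
  Theta p F = Theta p G ∧ ∀ M : Model.{u} p, ev p M F = ev p M G

namespace Rel

variable {p}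

theorem refl (F : Poly p) : Rel.{u} p F F := ⟨rfl, fun _ => rfl⟩

theorem of_eq {F G : Poly p} (h : F = G) : Rel.{u} p F G := h ▸ refl F

theorem symm {F G : Poly p} (h : Rel.{u} p F G) : Rel.{u} p G F :=
  ⟨h.1.symm, fun M => (h.2 M).symm⟩

theorem trans {F G H : Poly p} (h : Rel.{u} p F G) (h' : Rel.{u} p G H) : Rel.{u} p F H :=
  ⟨h.1.trans h'.1, fun M => (h.2 M).trans (h'.2 M)⟩

theorem add {F G F' G' : Poly p} (h : Rel.{u} p F G) (h' : Rel.{u} p F' G') :
    Rel.{u} p (F + F') (G + G') :=
  ⟨by rw [map_add, map_add, h.1, h'.1], fun M => by rw [map_add, map_add, h.2 M, h'.2 M]⟩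

theorem mul {F G F' G' : Poly p} (h : Rel.{u} p F G) (h' : Rel.{u} p F' G') :
    Rel.{u} p (F * F') (G * G') :=
  ⟨by rw [map_mul, map_mul, h.1, h'.1], fun M => by rw [map_mul, map_mul, h.2 M, h'.2 M]⟩

theorem smul {F G : Poly p} (c : K p) (h : Rel.{u} p F G) : Rel.{u} p (c • F) (c • G) :=
  ⟨by rw [Theta_smul, Theta_smul, h.1], fun M => by rw [map_smul, map_smul, h.2 M]⟩

end Rel

/-- replace `x` by `d x` -/
@[reducible] def Model.shift {p : ℕ} [Fact p.Prime] (M : Model.{u} p) : Model.{u} p :=
  { M with x := M.d M.x, hx := M.hdI _ M.hx }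

/-- exchange `x` and `y` -/
@[reducible] def Model.swap {p : ℕ} [Fact p.Prime] (M : Model.{u} p) : Model.{u} p :=
  { M with x := M.y, y := M.x, hx := M.hy, hy := M.hx }

/-- shift the first family of variables -/
noncomputable def shiftL : Poly p →ₐ[K p] Poly p :=
  MvPolynomial.rename (Sum.elim (fun k => Sum.inl (k + 1)) Sum.inr)

/-- exchange the two families of variables -/
noncomputable def swapP : Poly p →ₐ[K p] Poly p :=
  MvPolynomial.rename Sum.swap

theorem shiftL_X_inl (k : ℕ) :
    shiftL p (MvPolynomial.X (Sum.inl k)) = MvPolynomial.X (Sum.inl (k + 1)) := by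
  simp [shiftL]

theorem swapP_X_inl (k : ℕ) :
    swapP p (MvPolynomial.X (Sum.inl k)) = MvPolynomial.X (Sum.inr k) := by
  simp [swapP]

theorem ev_shiftL (M : Model.{u} p) (F : Poly p) : ev p M (shiftL p F) = ev p M.shift F := by
  rw [shiftL, ev, MvPolynomial.aeval_rename, ev]
  congr 2
  funext i
  rcases i with k | k
  · simp [Function.iterate_succ_apply]
  · simp

theorem ev_swapP (M : Model.{u} p) (F : Poly p) : ev p M (swapP p F) = ev p M.swap F := by
  rw [swapP, ev, MvPolynomial.aeval_rename, ev]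
  congr 2
  funext i
  rcases i with k | k
  · simp
  · simp

/-- the substitution `X 0 ↦ dW (X 0)` on `W` -/
noncomputable def sigL : W →ₐ[ℚ] W :=
  MvPolynomial.aeval ![dW p (MvPolynomial.X 0), MvPolynomial.X 1]

/-- the exchange of variables on `W` -/
noncomputable def tauW : W →ₐ[ℚ] W :=
  MvPolynomial.aeval ![MvPolynomial.X 1, MvPolynomial.X 0]

theorem algHom_dW (φ : W →ₐ[ℚ] W) (z : W) : φ (dW p z) = dW p (φ z) := by
  rw [dW, dW, WDP_apply, WDP_apply, map_smul, map_pow]

theorem algHom_iter_dW (φ : W →ₐ[ℚ] W) (z : W) (k : ℕ) :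
    φ ((dW p)^[k] z) = (dW p)^[k] (φ z) := by
  induction k generalizing z with
  | zero => rfl
  | succ k ih => rw [Function.iterate_succ_apply, ih, algHom_dW, Function.iterate_succ_apply]

theorem Theta_shiftL (F : Poly p) : Theta p (shiftL p F) = sigL p (Theta p F) := by
  have : (Theta p).comp (shiftL p).toRingHom = (sigL p).toRingHom.comp (Theta p) := by
    apply MvPolynomial.ringHom_ext
    · intro c
      simp [Theta, shiftL]
    · intro i
      rcases i with k | k
      · simp only [RingHom.comp_apply, AlgHom.toRingHom_eq_coe, RingHom.coe_coe, shiftL_X_inl,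
          Theta_X, theta, Sum.elim_inl]
        rw [algHom_iter_dW, Function.iterate_succ_apply]
        congr 1
        simp [sigL]
      · simp only [RingHom.comp_apply, AlgHom.toRingHom_eq_coe, RingHom.coe_coe]
        rw [show shiftL p (MvPolynomial.X (Sum.inr k)) = MvPolynomial.X (Sum.inr k) by
          simp [shiftL]]
        rw [Theta_X, theta, Sum.elim_inr, algHom_iter_dW]
        congr 1
        simp [sigL]
  exact congrArg (fun φ => φ F) this

theorem Theta_swapP (F : Poly p) : Theta p (swapP p F) = tauW (Theta p F) := by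
  have : (Theta p).comp (swapP p).toRingHom = (tauW).toRingHom.comp (Theta p) := by
    apply MvPolynomial.ringHom_ext
    · intro c
      simp [Theta, swapP]
    · intro i
      rcases i with k | k
      · simp only [RingHom.comp_apply, AlgHom.toRingHom_eq_coe, RingHom.coe_coe, swapP_X_inl,
          Theta_X, theta, Sum.elim_inl, Sum.elim_inr]
        rw [algHom_iter_dW]
        congr 1
        simp [tauW]
      · simp only [RingHom.comp_apply, AlgHom.toRingHom_eq_coe, RingHom.coe_coe]
        rw [show swapP p (MvPolynomial.X (Sum.inr k)) = MvPolynomial.X (Sum.inl k) by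
          simp [swapP]]
        rw [Theta_X, Theta_X, theta, Sum.elim_inr, Sum.elim_inl, algHom_iter_dW]
        congr 1
        simp [tauW]
  exact congrArg (fun φ => φ F) this

theorem Rel.shiftL {F G : Poly p} (h : Rel.{u} p F G) : Rel.{u} p (shiftL p F) (shiftL p G) :=
  ⟨by rw [Theta_shiftL, Theta_shiftL, h.1], fun M => by
    rw [ev_shiftL, ev_shiftL, h.2 M.shift]⟩

theorem Rel.swapP {F G : Poly p} (h : Rel.{u} p F G) : Rel.{u} p (swapP p F) (swapP p G) :=
  ⟨by rw [Theta_swapP, Theta_swapP, h.1], fun M => by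
    rw [ev_swapP, ev_swapP, h.2 M.swap]⟩

/-- canonical monomials in the first family -/
noncomputable def canL : ℕ → Poly p
  | n => if h : n = 0 then 1
    else MvPolynomial.X (Sum.inl 0) ^ (n % p) * shiftL p (canL (n / p))
termination_by n => n
decreasing_by exact Nat.div_lt_self (Nat.pos_of_ne_zero h) hp.out.one_lt

theorem canL_zero : canL p 0 = 1 := by
  rw [canL, dif_pos rfl]

theorem canL_eq (n : ℕ) :
    canL p n = MvPolynomial.X (Sum.inl 0) ^ (n % p) * shiftL p (canL p (n / p)) := by
  by_cases h : n = 0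
  · subst h
    rw [Nat.zero_mod, Nat.zero_div, canL_zero, pow_zero, map_one, one_mul]
  · rw [canL, dif_neg h]

/-- the basic relation `x_k^p = p! x_{k+1}` for `k = 0` -/
theorem rel_pow :
    Rel.{u} p (MvPolynomial.X (Sum.inl 0) ^ p)
      ((p.factorial : K p) • MvPolynomial.X (Sum.inl 1)) := by
  refine ⟨?_, fun M => ?_⟩
  · rw [map_pow, Theta_smul, Theta_X, Theta_X, theta, Sum.elim_inl, Sum.elim_inl,
      Function.iterate_zero, id, Function.iterate_one, dW, toQ_natCast,
      Nat.cast_smul_eq_nsmul, nsmul_eq_mul, WDP.factorial_mul_dpow_eq_pow Submodule.mem_top]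
  · rw [map_pow, map_smul, ev_X_inl, ev_X_inl, Function.iterate_zero, id, Function.iterate_one,
      Nat.cast_smul_eq_nsmul, nsmul_eq_mul, M.h1 _ M.hx]

theorem claimL0 (n : ℕ) : ∃ c : K p,
    Rel.{u} p (MvPolynomial.X (Sum.inl 0) * canL p n) (c • canL p (n + 1)) := by
  induction n using Nat.strong_induction_on with
  | _ n ih =>
    have hp2 := hp.out.two_le
    have hdm := Nat.div_add_mod n p
    have hlt := Nat.mod_lt n hp.out.pos
    by_cases hcase : n % p + 1 < p
    · refine ⟨1, ?_⟩
      rw [one_smul]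
      apply Rel.of_eq
      have e1 : (n + 1) % p = n % p + 1 := by
        rw [Nat.add_mod, Nat.mod_eq_of_lt (a := 1) (by omega), Nat.mod_eq_of_lt hcase]
      have e2 : (n + 1) / p = n / p := by
        have h3 : n + 1 = (n % p + 1) + p * (n / p) := by omega
        rw [h3, Nat.add_mul_div_left _ _ hp.out.pos, Nat.div_eq_of_lt hcase, zero_add]
      rw [canL_eq p (n + 1), e1, e2, canL_eq p n, pow_succ]
      ring
    · have hap : n % p + 1 = p := by omega
      have hn0 : n ≠ 0 := by
        rintro rfl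
        rw [Nat.zero_mod] at hap
        omega
      have hmlt : n / p < n := Nat.div_lt_self (Nat.pos_of_ne_zero hn0) hp.out.one_lt
      obtain ⟨c', hc'⟩ := ih (n / p) hmlt
      refine ⟨(p.factorial : K p) * c', ?_⟩
      have e1 : (n + 1) % p = 0 := by
        have h3 : n + 1 = p * (n / p + 1) := by
          rw [mul_add, mul_one]; omega
        rw [h3, Nat.mul_mod_right]
      have e2 : (n + 1) / p = n / p + 1 := by
        have h3 : n + 1 = p * (n / p + 1) := by
          rw [mul_add, mul_one]; omega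
        rw [h3, Nat.mul_div_cancel_left _ hp.out.pos]
      have step1 : MvPolynomial.X (Sum.inl 0) * canL p n =
          MvPolynomial.X (Sum.inl 0) ^ p * shiftL p (canL p (n / p)) := by
        have hpow : (MvPolynomial.X (Sum.inl 0) : Poly p) ^ (n % p + 1) =
            MvPolynomial.X (Sum.inl 0) ^ p := by rw [hap]
        rw [canL_eq p n, ← hpow, pow_succ]
        ring
      have step2 : ((p.factorial : K p) • MvPolynomial.X (Sum.inl 1)) * shiftL p (canL p (n / p)) =
          (p.factorial : K p) • shiftL p (MvPolynomial.X (Sum.inl 0) * canL p (n / p)) := by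
        rw [map_mul, shiftL_X_inl, smul_mul_assoc]
      have step3 : ((p.factorial : K p) * c') • canL p (n + 1) =
          (p.factorial : K p) • shiftL p (c' • canL p (n / p + 1)) := by
        rw [canL_eq p (n + 1), e1, e2, pow_zero, one_mul, map_smul, smul_smul]
      rw [step1, step3]
      refine Rel.trans ((rel_pow p).mul (Rel.refl _)) ?_
      rw [step2]
      exact (hc'.shiftL p).smul _

theorem claimLk (k : ℕ) : ∀ n : ℕ, ∃ c : K p,
    Rel.{u} p (MvPolynomial.X (Sum.inl k) * canL p n) (c • canL p (n + p ^ k)) := by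
  induction k with
  | zero =>
    intro n
    simpa using claimL0 p n
  | succ k ih =>
    intro n
    obtain ⟨c, hc⟩ := ih (n / p)
    refine ⟨c, ?_⟩
    have hdm := Nat.div_add_mod n p
    have e1 : (n + p ^ (k + 1)) % p = n % p := by
      rw [pow_succ, mul_comm, Nat.add_mul_mod_self_left]
    have e2 : (n + p ^ (k + 1)) / p = n / p + p ^ k := by
      rw [pow_succ, mul_comm, Nat.add_mul_div_left _ _ hp.out.pos]
    have step1 : MvPolynomial.X (Sum.inl (k + 1)) * canL p n =
        MvPolynomial.X (Sum.inl 0) ^ (n % p) *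
          shiftL p (MvPolynomial.X (Sum.inl k) * canL p (n / p)) := by
      rw [canL_eq p n, map_mul, shiftL_X_inl]
      ring
    have step2 : c • canL p (n + p ^ (k + 1)) =
        MvPolynomial.X (Sum.inl 0) ^ (n % p) * shiftL p (c • canL p (n / p + p ^ k)) := by
      rw [canL_eq p (n + p ^ (k + 1)), e1, e2, map_smul, mul_smul_comm]
    rw [step1, step2]
    exact (Rel.refl _).mul (hc.shiftL p)

/-- canonical monomials in the second family -/
noncomputable def canR (n : ℕ) : Poly p := swapP p (canL p n)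

theorem claimRk (k n : ℕ) : ∃ c : K p,
    Rel.{u} p (MvPolynomial.X (Sum.inr k) * canR p n) (c • canR p (n + p ^ k)) := by
  obtain ⟨c, hc⟩ := claimLk.{u} p k n
  refine ⟨c, ?_⟩
  have := hc.swapP p
  rwa [map_mul, swapP_X_inl, map_smul] at this

/-- the canonical combination attached to a coefficient vector -/
noncomputable def Psi : (ℕ × ℕ →₀ K p) →+ Poly p :=
  Finsupp.liftAddHom (fun nn =>
    ((AddMonoidHom.mulRight (canL p nn.1 * canR p nn.2)).comp
      (algebraMap (K p) (Poly p)).toAddMonoidHom))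

theorem Psi_single (nn : ℕ × ℕ) (c : K p) :
    Psi p (Finsupp.single nn c) = c • (canL p nn.1 * canR p nn.2) := by
  simp [Psi, Algebra.smul_def]

theorem Psi_mul_X (i : ℕ ⊕ ℕ) (f : ℕ × ℕ →₀ K p) :
    ∃ f' : ℕ × ℕ →₀ K p, Rel.{u} p (Psi p f * MvPolynomial.X i) (Psi p f') := by
  induction f using Finsupp.induction_linear with
  | zero => exact ⟨0, by rw [map_zero, zero_mul]; exact Rel.refl _⟩
  | add f g hf hg =>
    obtain ⟨f', hf'⟩ := hf
    obtain ⟨g', hg'⟩ := hg
    refine ⟨f' + g', ?_⟩
    rw [map_add, map_add, add_mul]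
    exact hf'.add hg'
  | single nn c =>
    rcases i with k | k
    · obtain ⟨c', hc'⟩ := claimLk.{u} p k nn.1
      refine ⟨Finsupp.single (nn.1 + p ^ k, nn.2) (c * c'), ?_⟩
      rw [Psi_single, Psi_single]
      have e1 : c • (canL p nn.1 * canR p nn.2) * MvPolynomial.X (Sum.inl k) =
          c • ((MvPolynomial.X (Sum.inl k) * canL p nn.1) * canR p nn.2) := by
        rw [smul_mul_assoc]; ring_nf
      have e2 : (c * c') • (canL p (nn.1 + p ^ k) * canR p nn.2) =
          c • ((c' • canL p (nn.1 + p ^ k)) * canR p nn.2) := by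
        rw [smul_mul_assoc, smul_smul]
      rw [e1, e2]
      exact (hc'.mul (Rel.refl _)).smul c
    · obtain ⟨c', hc'⟩ := claimRk.{u} p k nn.2
      refine ⟨Finsupp.single (nn.1, nn.2 + p ^ k) (c * c'), ?_⟩
      rw [Psi_single, Psi_single]
      have e1 : c • (canL p nn.1 * canR p nn.2) * MvPolynomial.X (Sum.inr k) =
          c • (canL p nn.1 * (MvPolynomial.X (Sum.inr k) * canR p nn.2)) := by
        rw [smul_mul_assoc]; ring_nf
      have e2 : (c * c') • (canL p nn.1 * canR p (nn.2 + p ^ k)) =
          c • (canL p nn.1 * (c' • canR p (nn.2 + p ^ k))) := by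
        rw [mul_smul_comm, smul_smul]
      rw [e1, e2]
      exact ((Rel.refl _).mul hc').smul c

theorem exists_Psi (F : Poly p) : ∃ f : ℕ × ℕ →₀ K p, Rel.{u} p F (Psi p f) := by
  induction F using MvPolynomial.induction_on with
  | C a =>
    refine ⟨Finsupp.single (0, 0) a, ?_⟩
    rw [Psi_single]
    apply Rel.of_eq
    rw [canR, canL_zero, map_one, mul_one, MvPolynomial.smul_eq_C_mul, mul_one]
  | add F G hF hG =>
    obtain ⟨f, hf⟩ := hF
    obtain ⟨g, hg⟩ := hG
    exact ⟨f + g, by rw [map_add]; exact hf.add hg⟩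
  | mul_X F i hF =>
    obtain ⟨f, hf⟩ := hF
    obtain ⟨f', hf'⟩ := Psi_mul_X.{u} p i f
    exact ⟨f', (hf.mul (Rel.refl _)).trans hf'⟩

theorem Theta_canL (n : ℕ) : ∃ κ : ℚ, κ ≠ 0 ∧
    Theta p (canL p n) = κ • (MvPolynomial.X 0 : W) ^ n := by
  induction n using Nat.strong_induction_on with
  | _ n ih =>
    by_cases hn : n = 0
    · subst hn
      exact ⟨1, one_ne_zero, by rw [canL_zero, map_one, pow_zero, one_smul]⟩
    · have hmlt : n / p < n := Nat.div_lt_self (Nat.pos_of_ne_zero hn) hp.out.one_lt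
      obtain ⟨κ, hκ, h⟩ := ih (n / p) hmlt
      refine ⟨κ * ((p.factorial : ℚ)⁻¹) ^ (n / p), ?_, ?_⟩
      · apply mul_ne_zero hκ
        apply pow_ne_zero
        apply inv_ne_zero
        exact_mod_cast Nat.factorial_ne_zero p
      · rw [canL_eq p n, map_mul, map_pow, Theta_shiftL, h, Theta_X, theta, Sum.elim_inl,
          Function.iterate_zero, id, map_smul, map_pow]
        have e1 : sigL p (MvPolynomial.X 0) = dW p (MvPolynomial.X 0) := by simp [sigL]
        rw [e1, dW, WDP_apply, smul_pow, ← pow_mul, mul_smul_comm, mul_smul_comm, smul_smul,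
          ← pow_add]
        have hdm := Nat.div_add_mod n p
        have : n % p + p * (n / p) = n := by omega
        rw [this]

theorem Theta_canR (n : ℕ) : ∃ κ : ℚ, κ ≠ 0 ∧
    Theta p (canR p n) = κ • (MvPolynomial.X 1 : W) ^ n := by
  obtain ⟨κ, hκ, h⟩ := Theta_canL p n
  refine ⟨κ, hκ, ?_⟩
  rw [canR, Theta_swapP, h, map_smul, map_pow]
  congr 2
  simp [tauW]

/-- the monomial exponent attached to a pair -/
noncomputable def expo (nn : ℕ × ℕ) : Fin 2 →₀ ℕ := Finsupp.single 0 nn.1 + Finsupp.single 1 nn.2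

theorem expo_injective : Function.Injective expo := by
  intro a b h
  have h0 := congrArg (fun f => f 0) h
  have h1 := congrArg (fun f => f 1) h
  simp [expo] at h0 h1
  exact Prod.ext h0 h1

theorem coeff_Theta_Psi (f : ℕ × ℕ →₀ K p) (nn : ℕ × ℕ) :
    ∃ κ : ℚ, κ ≠ 0 ∧ ∀ f : ℕ × ℕ →₀ K p,
      MvPolynomial.coeff (expo nn) (Theta p (Psi p f)) = toQ p (f nn) * κ := by
  obtain ⟨κ1, hκ1, h1⟩ := Theta_canL p nn.1
  obtain ⟨κ2, hκ2, h2⟩ := Theta_canR p nn.2
  refine ⟨κ1 * κ2, mul_ne_zero hκ1 hκ2, fun f => ?_⟩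
  induction f using Finsupp.induction_linear with
  | zero => simp
  | add f g hf hg =>
    rw [map_add, map_add, MvPolynomial.coeff_add, hf, hg, Finsupp.add_apply, map_add]
    ring
  | single mm c =>
    obtain ⟨μ1, hμ1, g1⟩ := Theta_canL p mm.1
    obtain ⟨μ2, hμ2, g2⟩ := Theta_canR p mm.2
    rw [Psi_single, Theta_smul, map_mul, g1, g2, smul_mul_smul_comm, smul_smul,
      MvPolynomial.coeff_smul, MvPolynomial.X_pow_eq_monomial, MvPolynomial.X_pow_eq_monomial,
      MvPolynomial.monomial_mul, MvPolynomial.coeff_monomial, Finsupp.single_apply]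
    by_cases hmm : mm = nn
    · subst hmm
      have e1 : μ1 = κ1 := by
        have := g1.symm.trans h1
        have h3 := congrArg (MvPolynomial.coeff (Finsupp.single 0 mm.1)) this
        rw [MvPolynomial.coeff_smul, MvPolynomial.coeff_smul, MvPolynomial.X_pow_eq_monomial,
          MvPolynomial.coeff_monomial, if_pos rfl] at h3
        simpa using h3
      have e2 : μ2 = κ2 := by
        have := g2.symm.trans h2
        have h3 := congrArg (MvPolynomial.coeff (Finsupp.single 1 mm.2)) this
        rw [MvPolynomial.coeff_smul, MvPolynomial.coeff_smul, MvPolynomial.X_pow_eq_monomial,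
          MvPolynomial.coeff_monomial, if_pos rfl] at h3
        simpa using h3
      have hpos : Finsupp.single 0 mm.1 + Finsupp.single 1 mm.2 = expo mm := rfl
      rw [if_pos rfl, if_pos hpos, e1, e2]
      simp
    · have hne : ¬ (Finsupp.single 0 mm.1 + Finsupp.single 1 mm.2 = expo nn) :=
        fun h => hmm (expo_injective h)
      rw [if_neg hmm, if_neg hne, map_zero]
      simp

theorem Psi_injective_Theta (f g : ℕ × ℕ →₀ K p) (h : Theta p (Psi p f) = Theta p (Psi p g)) :
    f = g := by
  ext nn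
  obtain ⟨κ, hκ, hc⟩ := coeff_Theta_Psi p f nn
  have h1 := congrArg (MvPolynomial.coeff (expo nn)) h
  rw [hc f, hc g] at h1
  exact toQ_injective p (mul_right_cancel₀ hκ h1)

/-- the presentation lemma -/
theorem ev_eq_of_Theta_eq {F G : Poly p} (h : Theta p F = Theta p G) (M : Model.{u} p) :
    ev p M F = ev p M G := by
  obtain ⟨f, hf⟩ := exists_Psi.{u} p F
  obtain ⟨g, hg⟩ := exists_Psi.{u} p G
  have : f = g := by
    apply Psi_injective_Theta p
    rw [← hf.1, ← hg.1, h]
  subst this
  rw [hf.2 M, hg.2 M]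

end Groth.Agent.Lib.Helper59.DPp
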