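import Mathlib

/-!
# Countability of the bounded derived category

If an abelian category has countable Hom sets and countably many isomorphism classes, so does its
bounded derived category: objects are represented by strictly bounded complexes with terms in a
fixed countable list, and morphisms by right fractions with such a complex in the middle.
-/

set_option autoImplicit false
set_option linter.unusedVariables false

namespace Groth.Agent.Lib.Helper59.DbCount

open CategoryTheory CategoryTheory.Limits ZeroObject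

universe w v u

variable {A : Type u} [Category.{v} A] [Abelian A]

/-- chain maps out of a strictly bounded complex form a countable set -/
theorem countable_hom (hhom : ∀ X Y : A, Countable (X ⟶ Y)) (a b : ℤ)
    (K L : CochainComplex A ℤ) [K.IsStrictlyGE a] [K.IsStrictlyLE b] : Countable (K ⟶ L) := by
  have : ∀ i : Set.Icc a b, Countable (K.X i ⟶ L.X i) := fun i => hhom _ _
  let F : (K ⟶ L) → (∀ i : Set.Icc a b, K.X i ⟶ L.X i) := fun f i => f.f i
  have hF : Function.Injective F := by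
    intro f g hfg
    ext i
    by_cases hi : i ∈ Set.Icc a b
    · exact congrFun hfg ⟨i, hi⟩
    · rw [Set.mem_Icc, not_and_or, not_le, not_le] at hi
      rcases hi with hi | hi
      · exact (K.isZero_of_isStrictlyGE a i hi).eq_of_src _ _
      · exact (K.isZero_of_isStrictlyLE b i hi).eq_of_src _ _
  exact hF.countable

section Enum

variable (e : ℕ → A) (n₀ : ℕ) (a b : ℤ)

/-- index functions which are constant outside `[a, b]` -/
def XDat : Type := { x : ℤ → ℕ // ∀ i, i ∉ Set.Icc a b → x i = n₀ }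

instance : Countable (XDat n₀ a b) := by
  let F : XDat n₀ a b → (Set.Icc a b → ℕ) := fun x i => x.1 i
  have hF : Function.Injective F := by
    intro x y hxy
    apply Subtype.ext
    funext i
    by_cases hi : i ∈ Set.Icc a b
    · exact congrFun hxy ⟨i, hi⟩
    · rw [x.2 i hi, y.2 i hi]
  exact hF.countable

/-- differentials on the objects `e (x i)` -/
def DDat (x : XDat n₀ a b) : Type v :=
  { d : ∀ i : ℤ, e (x.1 i) ⟶ e (x.1 (i + 1)) // ∀ i, d i ≫ d (i + 1) = 0 }

variable {e n₀ a b}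

theorem countable_DDat (hhom : ∀ X Y : A, Countable (X ⟶ Y)) (hz : IsZero (e n₀))
    (x : XDat n₀ a b) : Countable (DDat e n₀ a b x) := by
  have : ∀ i : Set.Icc a b, Countable (e (x.1 i) ⟶ e (x.1 (i + 1))) := fun i => hhom _ _
  let F : DDat e n₀ a b x → (∀ i : Set.Icc a b, e (x.1 i) ⟶ e (x.1 (i + 1))) := fun d i => d.1 i
  have hF : Function.Injective F := by
    intro d d' hdd
    apply Subtype.ext
    funext i
    by_cases hi : i ∈ Set.Icc a b
    · exact congrFun hdd ⟨i, hi⟩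
    · have hzi : IsZero (e (x.1 i)) := by rw [x.2 i hi]; exact hz
      exact hzi.eq_of_src _ _
  exact hF.countable

/-- the complex attached to the data -/
noncomputable def cplx (x : XDat n₀ a b) (d : DDat e n₀ a b x) : CochainComplex A ℤ :=
  CochainComplex.of (fun i => e (x.1 i)) d.1 d.2

theorem cplx_strict (hz : IsZero (e n₀)) (x : XDat n₀ a b) (d : DDat e n₀ a b x) :
    (cplx x d).IsStrictlyGE a ∧ (cplx x d).IsStrictlyLE b := by
  constructor
  · rw [CochainComplex.isStrictlyGE_iff]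
    intro i hi
    have : i ∉ Set.Icc a b := fun h => by rw [Set.mem_Icc] at h; omega
    change IsZero (e (x.1 i))
    rw [x.2 i this]; exact hz
  · rw [CochainComplex.isStrictlyLE_iff]
    intro i hi
    have : i ∉ Set.Icc a b := fun h => by rw [Set.mem_Icc] at h; omega
    change IsZero (e (x.1 i))
    rw [x.2 i this]; exact hz

variable (e a b)

theorem exists_enum (hhom : ∀ X Y : A, Countable (X ⟶ Y))
    (hiso : ∀ X : A, ∃ n : ℕ, Nonempty (X ≅ e n)) :
    ∃ c : ℕ → CochainComplex A ℤ, (∀ n, (c n).IsStrictlyGE a ∧ (c n).IsStrictlyLE b) ∧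
      ∀ (K : CochainComplex A ℤ) [K.IsStrictlyGE a] [K.IsStrictlyLE b],
        ∃ n, Nonempty (K ≅ c n) := by
  obtain ⟨n₀, ⟨e0⟩⟩ := hiso (0 : A)
  have hz : IsZero (e n₀) := (isZero_zero A).of_iso e0.symm
  have hcd : ∀ x : XDat n₀ a b, Countable (DDat e n₀ a b x) := fun x => countable_DDat hhom hz x
  let T := Σ x : XDat n₀ a b, DDat e n₀ a b x
  have hT : Countable T := inferInstance
  have hTne : Nonempty T := ⟨⟨⟨fun _ => n₀, fun _ _ => rfl⟩, ⟨fun _ => 0, fun _ => by simp⟩⟩⟩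
  obtain ⟨f, hf⟩ := exists_surjective_nat T
  refine ⟨fun n => cplx (f n).1 (f n).2, fun n => cplx_strict hz _ _, ?_⟩
  intro K _ _
  have h1 : ∀ i : ℤ, ∃ n : ℕ, Nonempty (K.X i ≅ e n) ∧ (i ∉ Set.Icc a b → n = n₀) := by
    intro i
    by_cases hi : i ∈ Set.Icc a b
    · obtain ⟨n, hn⟩ := hiso (K.X i)
      exact ⟨n, hn, fun h => absurd hi h⟩
    · have hi' := hi
      rw [Set.mem_Icc, not_and_or, not_le, not_le] at hi'
      have hzK : IsZero (K.X i) := by
        rcases hi' with hi' | hi'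
        · exact K.isZero_of_isStrictlyGE a i hi'
        · exact K.isZero_of_isStrictlyLE b i hi'
      exact ⟨n₀, ⟨hzK.iso hz⟩, fun _ => rfl⟩
  choose x hx using h1
  let φ : ∀ i, K.X i ≅ e (x i) := fun i => (hx i).1.some
  let xd : XDat n₀ a b := ⟨x, fun i hi => (hx i).2 hi⟩
  let d : ∀ i : ℤ, e (x i) ⟶ e (x (i + 1)) := fun i => (φ i).inv ≫ K.d i (i + 1) ≫ (φ (i + 1)).hom
  have sq : ∀ i, d i ≫ d (i + 1) = 0 := by
    intro i
    simp [d]
  let dd : DDat e n₀ a b xd := ⟨d, sq⟩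
  obtain ⟨n, hn⟩ := hf ⟨xd, dd⟩
  refine ⟨n, ⟨?_⟩⟩
  change K ≅ cplx (f n).1 (f n).2
  rw [hn]
  refine HomologicalComplex.Hom.isoOfComponents φ ?_
  intro i j hij
  have hij' : i + 1 = j := hij
  subst hij'
  change (φ i).hom ≫ CochainComplex.of.d (fun i => e (x i)) d i (i + 1) = _
  rw [CochainComplex.of_d]
  simp [d]
  rfl

end Enum

section Derived

variable [HasDerivedCategory.{w} A]

open DerivedCategory

theorem countable_hom_Q (e : ℕ → A) (hhom : ∀ X Y : A, Countable (X ⟶ Y))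
    (hiso : ∀ X : A, ∃ n : ℕ, Nonempty (X ≅ e n)) (a b : ℤ)
    (KX KY : CochainComplex A ℤ) [KX.IsStrictlyGE a] [KX.IsStrictlyLE b] [KY.IsStrictlyGE a] :
    Countable ((Q : _ ⥤ DerivedCategory A).obj KX ⟶ Q.obj KY) := by
  classical
  obtain ⟨c, hc1, hc2⟩ := exists_enum e a b hhom hiso
  have h1 : ∀ n, Countable (c n ⟶ KX) := fun n => by
    have := (hc1 n).1
    have := (hc1 n).2
    exact countable_hom hhom a b _ _
  have h2 : ∀ n, Countable (c n ⟶ KY) := fun n => by
    have := (hc1 n).1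
    have := (hc1 n).2
    exact countable_hom hhom a b _ _
  let S := Σ n : ℕ, (c n ⟶ KX) × (c n ⟶ KY)
  have hS : Countable S := inferInstance
  let F : S → ((Q : _ ⥤ DerivedCategory A).obj KX ⟶ Q.obj KY) := fun p =>
    if h : IsIso (Q.map p.2.1) then (@inv _ _ _ _ (Q.map p.2.1) h) ≫ Q.map p.2.2 else 0
  have hF : Function.Surjective F := by
    intro f
    obtain ⟨X', _, _, s, hs, g, rfl⟩ := right_fac_of_isStrictlyLE_of_isStrictlyGE a b f
    obtain ⟨n, ⟨ψ⟩⟩ := hc2 X'
    refine ⟨⟨n, ψ.inv ≫ s, ψ.inv ≫ g⟩, ?_⟩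
    have hiso' : IsIso ((Q : _ ⥤ DerivedCategory A).map (ψ.inv ≫ s)) := by
      rw [Functor.map_comp]; infer_instance
    change (if h : IsIso ((Q : _ ⥤ DerivedCategory A).map (ψ.inv ≫ s)) then
      (@inv _ _ _ _ (Q.map (ψ.inv ≫ s)) h) ≫ Q.map (ψ.inv ≫ g) else 0) = _
    rw [dif_pos hiso']
    rw [← cancel_epi ((Q : _ ⥤ DerivedCategory A).map (ψ.inv ≫ s)), IsIso.hom_inv_id_assoc,
      Functor.map_comp, Functor.map_comp, Category.assoc, IsIso.hom_inv_id_assoc]
  exact hF.countable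

theorem countable_hom_D (e : ℕ → A) (hhom : ∀ X Y : A, Countable (X ⟶ Y))
    (hiso : ∀ X : A, ∃ n : ℕ, Nonempty (X ≅ e n)) (X Y : DerivedCategory A) (a b : ℤ)
    [X.IsGE a] [X.IsLE b] [Y.IsGE a] [Y.IsLE b] : Countable (X ⟶ Y) := by
  obtain ⟨KX, _, _, ⟨φX⟩⟩ := exists_iso_Q_obj_of_isGE_of_isLE X a b
  obtain ⟨KY, _, _, ⟨φY⟩⟩ := exists_iso_Q_obj_of_isGE_of_isLE Y a b
  have := countable_hom_Q e hhom hiso a b KX KY
  exact (Iso.homCongr φX φY).injective.countable

theorem main (hhom : ∀ X Y : A, Countable (X ⟶ Y))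
    (hiso : ∃ e : ℕ → A, ∀ X : A, ∃ n : ℕ, Nonempty (X ≅ e n)) :
    (∀ K L : DerivedCategory.Bounded A, Countable (K ⟶ L)) ∧
      ∃ e : ℕ → DerivedCategory.Bounded A, ∀ K : DerivedCategory.Bounded A,
        ∃ n : ℕ, Nonempty (K ≅ e n) := by
  obtain ⟨e, he⟩ := hiso
  constructor
  · intro K L
    obtain ⟨⟨a₁, ha₁⟩, ⟨b₁, hb₁⟩⟩ := K.property
    obtain ⟨⟨a₂, ha₂⟩, ⟨b₂, hb₂⟩⟩ := L.property
    have h1 : K.obj.IsGE (min a₁ a₂) := TStructure.t.isGE_of_ge K.obj _ a₁ (min_le_left _ _)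
    have h2 : L.obj.IsGE (min a₁ a₂) := TStructure.t.isGE_of_ge L.obj _ a₂ (min_le_right _ _)
    have h3 : K.obj.IsLE (max b₁ b₂) := TStructure.t.isLE_of_le K.obj b₁ _ (le_max_left _ _)
    have h4 : L.obj.IsLE (max b₁ b₂) := TStructure.t.isLE_of_le L.obj b₂ _ (le_max_right _ _)
    have hc : Countable ((TStructure.t (C := A)).bounded.ι.obj K ⟶
        (TStructure.t (C := A)).bounded.ι.obj L) :=
      countable_hom_D e hhom he K.obj L.obj (min a₁ a₂) (max b₁ b₂)
    exact ((TStructure.t (C := A)).bounded.ι.map_injective).countable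
  · choose c hc1 hc2 using fun p : ℤ × ℤ => exists_enum e p.1 p.2 hhom he
    obtain ⟨g, hg⟩ := exists_surjective_nat (ℤ × ℤ × ℕ)
    have hmem : ∀ (a b : ℤ) (n : ℕ),
        (TStructure.t (C := A)).bounded ((Q : _ ⥤ DerivedCategory A).obj (c (a, b) n)) := by
      intro a b n
      have := (hc1 (a, b) n).1
      have := (hc1 (a, b) n).2
      exact ⟨⟨a, inferInstance⟩, ⟨b, inferInstance⟩⟩
    refine ⟨fun m => ⟨Q.obj (c ((g m).1, (g m).2.1) (g m).2.2), hmem _ _ _⟩, ?_⟩
    intro K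
    obtain ⟨⟨a, ha⟩, ⟨b, hb⟩⟩ := K.property
    obtain ⟨K', _, _, ⟨φ⟩⟩ := exists_iso_Q_obj_of_isGE_of_isLE K.obj a b
    obtain ⟨n, ⟨ψ⟩⟩ := hc2 (a, b) K'
    obtain ⟨m, hm⟩ := hg (a, b, n)
    refine ⟨m, ⟨(TStructure.t (C := A)).bounded.ι.preimageIso ?_⟩⟩
    change K.obj ≅ Q.obj (c ((g m).1, (g m).2.1) (g m).2.2)
    rw [hm]
    exact φ ≪≫ Q.mapIso ψ

end Derived

end Groth.Agent.Lib.Helper59.DbCount
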