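import Groth.Agent.Lib.Helper59.DescRingDatum

/-!
# Tensor computations for faithfully flat descent of modules (helper59)
-/

set_option autoImplicit false
set_option backward.isDefEq.respectTransparency false
open CategoryTheory Opposite ModuleCat TensorProduct
open scoped ChangeOfRings
universe u

namespace Groth.Agent.Lib.Helper59.DescRing

section liftOut

variable {A B : CommRingCat.{u}}

/-- additive maps out of an extension of scalars from balanced biadditive maps. -/
noncomputable def liftOut (b : A ⟶ B) (N : ModuleCat.{u} A) {Q : Type*} [AddCommMonoid Q]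
    (lam : B →+ N →+ Q) (h : ∀ (s : A) (t : B) (n : N), lam (b.hom s * t) n = lam t (s • n)) :
    (extendScalars b.hom).obj N →+ Q :=
  show TensorProduct A ((restrictScalars b.hom).obj (of B B)) N →+ Q from
    TensorProduct.liftAddHom lam (fun s t n => h s t n)

lemma liftOut_tmul (b : A ⟶ B) (N : ModuleCat.{u} A) {Q : Type*} [AddCommMonoid Q]
    (lam : B →+ N →+ Q) (h : ∀ (s : A) (t : B) (n : N), lam (b.hom s * t) n = lam t (s • n))
    (t : B) (n : N) : liftOut b N lam h (t ⊗ₜ[A, b.hom] n) = lam t n := rfl

lemma ext_induction (b : A ⟶ B) (N : ModuleCat.{u} A)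
    {P : (extendScalars b.hom).obj N → Prop} (z : (extendScalars b.hom).obj N)
    (h0 : P 0) (ht : ∀ (t : B) (n : N), P (t ⊗ₜ[A, b.hom] n))
    (ha : ∀ x y, P x → P y → P (x + y)) : P z := by
  let _ : Module A B := Module.compHom B b.hom
  induction z using TensorProduct.induction_on with
  | zero => exact h0
  | tmul t n => exact ht t n
  | add x y hx hy => exact ha x y hx hy

lemma smul_tmul' (b : A ⟶ B) (N : ModuleCat.{u} A) (t t' : B) (n : N) :
    t • (t' ⊗ₜ[A, b.hom] n : (extendScalars b.hom).obj N) = (t * t') ⊗ₜ[A, b.hom] n := rfl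

lemma tmul_smul_bal (b : A ⟶ B) (N : ModuleCat.{u} A) (s : A) (t : B) (n : N) :
    ((b.hom s * t) ⊗ₜ[A, b.hom] n : (extendScalars b.hom).obj N) = t ⊗ₜ[A, b.hom] (s • n) := by
  let _ : Module A B := Module.compHom B b.hom
  exact TensorProduct.smul_tmul s t n

end liftOut

section main

variable (R S : Type u) [CommRing R] [CommRing S] [Algebra R S]

/-- `S ⊗_R S`. -/
abbrev T2 : CommRingCat.{u} := CommRingCat.of (S ⊗[R] S)

/-- `s ↦ s ⊗ 1`. -/
noncomputable def i1 : CommRingCat.of S ⟶ T2 R S :=
  CommRingCat.ofHom (Algebra.TensorProduct.includeLeftRingHom)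

/-- `s ↦ 1 ⊗ s`. -/
noncomputable def i2 : CommRingCat.of S ⟶ T2 R S :=
  CommRingCat.ofHom ((Algebra.TensorProduct.includeRight : S →ₐ[R] S ⊗[R] S) : S →+* S ⊗[R] S)

lemma i1_apply (x : S) : (i1 R S).hom x = x ⊗ₜ[R] (1 : S) := rfl
lemma i2_apply (x : S) : (i2 R S).hom x = (1 : S) ⊗ₜ[R] x := rfl

lemma al_i1_i2 : al R S ≫ i1 R S = al R S ≫ i2 R S := by
  refine CommRingCat.hom_ext (RingHom.ext fun r => ?_)
  change (algebraMap R S r) ⊗ₜ[R] (1 : S) = (1 : S) ⊗ₜ[R] (algebraMap R S r)
  rw [Algebra.algebraMap_eq_smul_one]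
  exact TensorProduct.smul_tmul r (1 : S) (1 : S)

/-- multiplication `S ⊗_R S → S`. -/
noncomputable def mu : T2 R S ⟶ CommRingCat.of S :=
  CommRingCat.ofHom ((Algebra.TensorProduct.lmul' R (S := S)) : S ⊗[R] S →+* S)

lemma mu_apply (x y : S) : (mu R S).hom (x ⊗ₜ[R] y) = x * y := by
  change Algebra.TensorProduct.lmul' R (S := S) (x ⊗ₜ[R] y) = x * y
  exact Algebra.TensorProduct.lmul'_apply_tmul x y

lemma i1_mu : i1 R S ≫ mu R S = 𝟙 _ := by
  refine CommRingCat.hom_ext (RingHom.ext fun s => ?_)
  change (mu R S).hom ((i1 R S).hom s) = s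
  rw [i1_apply, mu_apply, mul_one]

lemma i2_mu : i2 R S ≫ mu R S = 𝟙 _ := by
  refine CommRingCat.hom_ext (RingHom.ext fun s => ?_)
  change (mu R S).hom ((i2 R S).hom s) = s
  rw [i2_apply, mu_apply, one_mul]

variable {S}

/-- `G N = S ⊗_R N`, the comonad of the adjunction. -/
noncomputable abbrev GN (N : ModuleCat.{u} S) : ModuleCat.{u} S :=
  (extendScalars (algebraMap R S)).obj ((restrictScalars (algebraMap R S)).obj N)

/-- pure tensors of `G N`. -/
noncomputable def gt (N : ModuleCat.{u} S) (x : S) (m : N) : GN R N :=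
  x ⊗ₜ[R, algebraMap R S] (show (restrictScalars (algebraMap R S)).obj N from m)

lemma gt_add_left (N : ModuleCat.{u} S) (x x' : S) (m : N) :
    gt R N (x + x') m = gt R N x m + gt R N x' m := by
  let _ : Module R S := Module.compHom S (algebraMap R S)
  exact TensorProduct.add_tmul x x' _

lemma gt_add_right (N : ModuleCat.{u} S) (x : S) (m m' : N) :
    gt R N x (m + m') = gt R N x m + gt R N x m' := by
  let _ : Module R S := Module.compHom S (algebraMap R S)
  exact TensorProduct.tmul_add x _ _

lemma gt_balanced (N : ModuleCat.{u} S) (r : R) (x : S) (m : N) :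
    gt R N (algebraMap R S r * x) m = gt R N x (algebraMap R S r • m) := by
  let _ : Module R S := Module.compHom S (algebraMap R S)
  exact TensorProduct.smul_tmul r x (show (restrictScalars (algebraMap R S)).obj N from m)

lemma smul_gt (N : ModuleCat.{u} S) (s x : S) (m : N) :
    s • gt R N x m = gt R N (s * x) m := rfl

lemma GN_induction (N : ModuleCat.{u} S) {P : GN R N → Prop} (z : GN R N)
    (h0 : P 0) (ht : ∀ (x : S) (m : N), P (gt R N x m))
    (ha : ∀ x y, P x → P y → P (x + y)) : P z := by
  let _ : Module R S := Module.compHom S (algebraMap R S)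
  induction z using TensorProduct.induction_on with
  | zero => exact h0
  | tmul t n => exact ht t n
  | add x y hx hy => exact ha x y hx hy

/-- the biadditive map underlying `psi`. -/
noncomputable def psi0 (N : ModuleCat.{u} S) : (S ⊗[R] S) →+ N →+ GN R N :=
  TensorProduct.liftAddHom
    (AddMonoidHom.mk' (fun x : S => AddMonoidHom.mk' (fun y : S =>
        AddMonoidHom.mk' (fun n : N => gt R N x (y • n))
          (fun n n' => by rw [smul_add, gt_add_right]))
        (fun y y' => by
          ext n
          simp only [AddMonoidHom.mk'_apply, AddMonoidHom.add_apply, add_smul, gt_add_right]))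
      (fun x x' => by
        ext y n
        simp only [AddMonoidHom.mk'_apply, AddMonoidHom.add_apply, gt_add_left]))
    (fun r x y => by
      ext n
      simp only [AddMonoidHom.mk'_apply]
      rw [Algebra.smul_def, Algebra.smul_def, gt_balanced, mul_smul])

lemma psi0_tmul (N : ModuleCat.{u} S) (x y : S) (n : N) :
    psi0 R N (x ⊗ₜ[R] y) n = gt R N x (y • n) := rfl

lemma psi0_i2_mul (N : ModuleCat.{u} S) (s : S) (t : S ⊗[R] S) (n : N) :
    psi0 R N ((i2 R S).hom s * t) n = psi0 R N t (s • n) := by
  induction t using TensorProduct.induction_on with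
  | zero => simp only [mul_zero, map_zero, AddMonoidHom.zero_apply]
  | tmul x y =>
    rw [i2_apply, Algebra.TensorProduct.tmul_mul_tmul, psi0_tmul, psi0_tmul, one_mul,
      mul_comm, mul_smul]
  | add a b ha hb => simp only [mul_add, map_add, AddMonoidHom.add_apply, ha, hb]

lemma psi0_i1_mul (N : ModuleCat.{u} S) (s : S) (t : S ⊗[R] S) (n : N) :
    psi0 R N ((i1 R S).hom s * t) n = s • psi0 R N t n := by
  induction t using TensorProduct.induction_on with
  | zero => simp only [mul_zero, map_zero, AddMonoidHom.zero_apply, smul_zero]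
  | tmul x y =>
    rw [i1_apply, Algebra.TensorProduct.tmul_mul_tmul, psi0_tmul, psi0_tmul, one_mul, smul_gt]
  | add a b ha hb => simp only [mul_add, map_add, AddMonoidHom.add_apply, ha, hb, smul_add]

lemma psi0_smulR (N : ModuleCat.{u} S) (r : R) (t : S ⊗[R] S) (n : N) :
    psi0 R N (r • t) n = algebraMap R S r • psi0 R N t n := by
  induction t using TensorProduct.induction_on with
  | zero => simp only [smul_zero, map_zero, AddMonoidHom.zero_apply]
  | tmul x y =>
    rw [TensorProduct.smul_tmul', psi0_tmul, psi0_tmul, smul_gt, Algebra.smul_def]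
  | add a b ha hb => simp only [smul_add, map_add, AddMonoidHom.add_apply, ha, hb]

/-- `(x ⊗ y) ⊗ n ↦ x ⊗ y n`. -/
noncomputable def psi (N : ModuleCat.{u} S) : (extendScalars (i2 R S).hom).obj N →+ GN R N :=
  liftOut (i2 R S) N (psi0 R N) (fun s t n => psi0_i2_mul R N s t n)

lemma psi_tmul (N : ModuleCat.{u} S) (t : S ⊗[R] S) (n : N) :
    psi R N (t ⊗ₜ[S, (i2 R S).hom] n) = psi0 R N t n := rfl

lemma psi_one_tmul (N : ModuleCat.{u} S) (n : N) :
    psi R N ((1 : S ⊗[R] S) ⊗ₜ[S, (i2 R S).hom] n) = gt R N 1 n := by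
  rw [psi_tmul, Algebra.TensorProduct.one_def, psi0_tmul, one_smul]

lemma psi_i1_smul (N : ModuleCat.{u} S) (s : S) (z : (extendScalars (i2 R S).hom).obj N) :
    psi R N ((i1 R S).hom s • z) = s • psi R N z := by
  refine ext_induction (i2 R S) N
    (P := fun z => psi R N ((i1 R S).hom s • z) = s • psi R N z) z ?_ ?_ ?_
  · change psi R N ((i1 R S).hom s • 0) = s • psi R N 0
    rw [smul_zero, map_zero, smul_zero]
  · intro t n
    exact psi0_i1_mul R N s t n
  · intro x y hx hy
    change psi R N ((i1 R S).hom s • (x + y)) = s • psi R N (x + y)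
    change psi R N ((i1 R S).hom s • x) = s • psi R N x at hx
    change psi R N ((i1 R S).hom s • y) = s • psi R N y at hy
    rw [smul_add, map_add, map_add, hx, hy, smul_add]

/-- `x ⊗ n ↦ (x ⊗ 1) ⊗ n`. -/
noncomputable def beta (N : ModuleCat.{u} S) : GN R N →+ (extendScalars (i2 R S).hom).obj N :=
  show TensorProduct R ((restrictScalars (algebraMap R S)).obj (of S S))
      ((restrictScalars (algebraMap R S)).obj N) →+ _ from
    TensorProduct.liftAddHom
      (AddMonoidHom.mk' (fun x : S => AddMonoidHom.mk' (fun m : N =>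
          (((i1 R S).hom x) ⊗ₜ[S, (i2 R S).hom] m : (extendScalars (i2 R S).hom).obj N))
          (fun m m' => by
            let _ : Module S (S ⊗[R] S) := Module.compHom _ (i2 R S).hom
            exact TensorProduct.tmul_add _ _ _))
        (fun x x' => by
          ext m
          let _ : Module S (S ⊗[R] S) := Module.compHom _ (i2 R S).hom
          simp only [AddMonoidHom.mk'_apply, AddMonoidHom.add_apply, map_add]
          exact TensorProduct.add_tmul _ _ _))
      (fun r (x : S) (m : N) => by
        change (((i1 R S).hom (algebraMap R S r * x)) ⊗ₜ[S, (i2 R S).hom] m :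
            (extendScalars (i2 R S).hom).obj N) =
          ((i1 R S).hom x) ⊗ₜ[S, (i2 R S).hom] (algebraMap R S r • (m : N))
        have h0 := congrArg (fun k => k.hom r) (al_i1_i2 R S)
        change (i1 R S).hom (algebraMap R S r) = (i2 R S).hom (algebraMap R S r) at h0
        have hw : (i1 R S).hom (algebraMap R S r * x) =
            (i2 R S).hom (algebraMap R S r) * (i1 R S).hom x := by
          rw [map_mul, h0]
        exact (congrArg (fun w => (w ⊗ₜ[S, (i2 R S).hom] m :
          (extendScalars (i2 R S).hom).obj N)) hw).trans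
          (tmul_smul_bal (i2 R S) N (algebraMap R S r) ((i1 R S).hom x) m))

lemma beta_gt (N : ModuleCat.{u} S) (x : S) (m : N) :
    beta R N (gt R N x m) = ((i1 R S).hom x) ⊗ₜ[S, (i2 R S).hom] m := rfl

lemma beta_psi (N : ModuleCat.{u} S) (z : (extendScalars (i2 R S).hom).obj N) :
    beta R N (psi R N z) = z := by
  refine ext_induction (i2 R S) N (P := fun z => beta R N (psi R N z) = z) z ?_ ?_ ?_
  · change beta R N (psi R N 0) = 0
    rw [map_zero, map_zero]
  · intro t n
    change beta R N (psi R N (t ⊗ₜ[S, (i2 R S).hom] n)) = t ⊗ₜ[S, (i2 R S).hom] n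
    rw [psi_tmul]
    induction t using TensorProduct.induction_on with
    | zero =>
      rw [map_zero, AddMonoidHom.zero_apply, map_zero]
      let _ : Module S (S ⊗[R] S) := Module.compHom _ (i2 R S).hom
      exact (TensorProduct.zero_tmul _ _).symm
    | tmul x y =>
      have hw : (i2 R S).hom y * (i1 R S).hom x = x ⊗ₜ[R] y := by
        rw [i1_apply, i2_apply, Algebra.TensorProduct.tmul_mul_tmul, one_mul, mul_one]
      exact (tmul_smul_bal (i2 R S) N y ((i1 R S).hom x) n).symm.trans
        (congrArg (fun w => (w ⊗ₜ[S, (i2 R S).hom] n :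
          (extendScalars (i2 R S).hom).obj N)) hw)
    | add a b ha hb =>
      rw [map_add, AddMonoidHom.add_apply, map_add, ha, hb]
      let _ : Module S (S ⊗[R] S) := Module.compHom _ (i2 R S).hom
      exact (TensorProduct.add_tmul _ _ _).symm
  · intro x y hx hy
    change beta R N (psi R N (x + y)) = x + y
    change beta R N (psi R N x) = x at hx
    change beta R N (psi R N y) = y at hy
    rw [map_add, map_add, hx, hy]

lemma psi_injective (N : ModuleCat.{u} S) : Function.Injective (psi R N) :=
  Function.LeftInverse.injective (beta_psi R N)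

end main

end Groth.Agent.Lib.Helper59.DescRing
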