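import Groth.Agent.Lib.Helper59.DescRingAlg

/-!
# Tensor computations for faithfully flat descent of modules, part 2 (helper59)
-/

set_option autoImplicit false
set_option backward.isDefEq.respectTransparency false
open CategoryTheory Opposite ModuleCat TensorProduct
open scoped ChangeOfRings
universe u

namespace Groth.Agent.Lib.Helper59.DescRing

section counit

variable (R : Type u) {S : Type u} [CommRing R] [CommRing S] [Algebra R S]

/-- the action map through a ring map `ρ`. -/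
noncomputable def evlam {A B : CommRingCat.{u}} (ρ : B ⟶ A) (N : ModuleCat.{u} A) : B →+ N →+ N :=
  ((Module.toAddMonoidEnd A N : A →+* AddMonoid.End N).comp ρ.hom).toAddMonoidHom

/-- evaluation `t ⊗ n ↦ ρ t • n` when `ρ` is a retraction of `b`. -/
noncomputable def evG {A B : CommRingCat.{u}} (b : A ⟶ B) (ρ : B ⟶ A)
    (hc : ∀ s, ρ.hom (b.hom s) = s) (N : ModuleCat.{u} A) : (extendScalars b.hom).obj N →+ N :=
  liftOut b N (evlam ρ N)
    (fun s t n => by
      change ρ.hom (b.hom s * t) • n = ρ.hom t • s • n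
      rw [map_mul, hc, mul_comm, mul_smul])

lemma evG_tmul {A B : CommRingCat.{u}} (b : A ⟶ B) (ρ : B ⟶ A)
    (hc : ∀ s, ρ.hom (b.hom s) = s) (N : ModuleCat.{u} A) (t : B) (n : N) :
    evG b ρ hc N (t ⊗ₜ[A, b.hom] n) = ρ.hom t • n := rfl

/-- evaluation `t ⊗ n ↦ t n` when `c` is the identity. -/
noncomputable def ev (c : CommRingCat.of S ⟶ CommRingCat.of S) (hc : ∀ s, c.hom s = s)
    (N : ModuleCat.{u} S) : (extendScalars c.hom).obj N →+ N :=
  evG c (𝟙 _) hc N

/-- the counit, as an additive map. -/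
noncomputable def eps (N : ModuleCat.{u} S) : GN R N →+ N :=
  ((extendRestrictScalarsAdj (algebraMap R S)).counit.app N).hom.toAddMonoidHom

lemma eps_gt (N : ModuleCat.{u} S) (x : S) (m : N) : eps R N (gt R N x m) = x • m := by
  have h1 : gt R N x m = x • gt R N 1 m := by rw [smul_gt, mul_one]
  rw [h1]
  change ((extendRestrictScalarsAdj (algebraMap R S)).counit.app N).hom (x • gt R N 1 m) = x • m
  rw [map_smul]
  congr 1
  exact ExtendRestrictScalarsAdj.Counit.map_apply_one_tmul (algebraMap R S) m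

lemma i2_mu_apply (s : S) : (i2 R S ≫ mu R S).hom s = s := by
  have := congrArg (fun k => k.hom s) (i2_mu R S)
  exact this

lemma eps_psi (N : ModuleCat.{u} S) (z : (extendScalars (i2 R S).hom).obj N) :
    eps R N (psi R N z) =
      ev (i2 R S ≫ mu R S) (i2_mu_apply R) N
        (bc (i2 R S) (mu R S) (i2 R S ≫ mu R S) rfl N z) := by
  refine ext_induction (i2 R S) N
    (P := fun z => eps R N (psi R N z) = ev (i2 R S ≫ mu R S) (i2_mu_apply R) N
        (bc (i2 R S) (mu R S) (i2 R S ≫ mu R S) rfl N z)) z ?_ ?_ ?_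
  · change eps R N (psi R N 0) = ev (i2 R S ≫ mu R S) (i2_mu_apply R) N
        (bc (i2 R S) (mu R S) (i2 R S ≫ mu R S) rfl N 0)
    rw [map_zero, map_zero, map_zero, map_zero]
  · intro t n
    change eps R N (psi0 R N t n) = ev (i2 R S ≫ mu R S) (i2_mu_apply R) N
        (bc (i2 R S) (mu R S) (i2 R S ≫ mu R S) rfl N (t ⊗ₜ[S, (i2 R S).hom] n))
    rw [bc_tmul]
    unfold ev
    rw [evG_tmul]
    change eps R N (psi0 R N t n) = (mu R S).hom t • n
    induction t using TensorProduct.induction_on with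
    | zero => simp only [map_zero, AddMonoidHom.zero_apply, zero_smul]
    | tmul x y => rw [psi0_tmul, eps_gt, mu_apply, mul_smul]
    | add a b ha hb => simp only [map_add, AddMonoidHom.add_apply, ha, hb, add_smul]
  · intro x y hx hy
    change eps R N (psi R N (x + y)) = ev (i2 R S ≫ mu R S) (i2_mu_apply R) N
        (bc (i2 R S) (mu R S) (i2 R S ≫ mu R S) rfl N (x + y))
    change eps R N (psi R N x) = ev (i2 R S ≫ mu R S) (i2_mu_apply R) N
        (bc (i2 R S) (mu R S) (i2 R S ≫ mu R S) rfl N x) at hx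
    change eps R N (psi R N y) = ev (i2 R S ≫ mu R S) (i2_mu_apply R) N
        (bc (i2 R S) (mu R S) (i2 R S ≫ mu R S) rfl N y) at hy
    rw [map_add, map_add, map_add, map_add, hx, hy]

end counit

section triple

variable (R S : Type u) [CommRing R] [CommRing S] [Algebra R S]

/-- `S ⊗_R (S ⊗_R S)`. -/
abbrev T3 : CommRingCat.{u} := CommRingCat.of (S ⊗[R] (S ⊗[R] S))

/-- `x ↦ x ⊗ 1`. -/
noncomputable def j1 : CommRingCat.of S ⟶ T3 R S :=
  CommRingCat.ofHom (Algebra.TensorProduct.includeLeftRingHom)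

/-- `t ↦ 1 ⊗ t`. -/
noncomputable def j23 : T2 R S ⟶ T3 R S :=
  CommRingCat.ofHom ((Algebra.TensorProduct.includeRight :
    (S ⊗[R] S) →ₐ[R] S ⊗[R] (S ⊗[R] S)) : (S ⊗[R] S) →+* S ⊗[R] (S ⊗[R] S))

/-- `x ⊗ y ↦ x ⊗ (y ⊗ 1)`. -/
noncomputable def j12 : T2 R S ⟶ T3 R S :=
  CommRingCat.ofHom ((Algebra.TensorProduct.map (AlgHom.id R S)
    (Algebra.TensorProduct.includeLeft : S →ₐ[R] S ⊗[R] S)) : (S ⊗[R] S) →+* S ⊗[R] (S ⊗[R] S))

/-- `x ⊗ y ↦ x ⊗ (1 ⊗ y)`. -/
noncomputable def j13 : T2 R S ⟶ T3 R S :=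
  CommRingCat.ofHom ((Algebra.TensorProduct.map (AlgHom.id R S)
    (Algebra.TensorProduct.includeRight : S →ₐ[R] S ⊗[R] S)) : (S ⊗[R] S) →+* S ⊗[R] (S ⊗[R] S))

lemma j1_apply (x : S) : (j1 R S).hom x = x ⊗ₜ[R] (1 : S ⊗[R] S) := rfl
lemma j23_apply (t : S ⊗[R] S) : (j23 R S).hom t = (1 : S) ⊗ₜ[R] t := rfl

lemma j12_apply (x y : S) : (j12 R S).hom (x ⊗ₜ[R] y) = x ⊗ₜ[R] (y ⊗ₜ[R] (1 : S)) := by
  change Algebra.TensorProduct.map (AlgHom.id R S)
    (Algebra.TensorProduct.includeLeft : S →ₐ[R] S ⊗[R] S) (x ⊗ₜ[R] y) = _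
  rw [Algebra.TensorProduct.map_tmul]
  rfl

lemma j13_apply (x y : S) : (j13 R S).hom (x ⊗ₜ[R] y) = x ⊗ₜ[R] ((1 : S) ⊗ₜ[R] y) := by
  change Algebra.TensorProduct.map (AlgHom.id R S)
    (Algebra.TensorProduct.includeRight : S →ₐ[R] S ⊗[R] S) (x ⊗ₜ[R] y) = _
  rw [Algebra.TensorProduct.map_tmul]
  rfl

/-- `y ↦ 1 ⊗ (y ⊗ 1)`. -/
noncomputable abbrev j2 : CommRingCat.of S ⟶ T3 R S := i1 R S ≫ j23 R S
/-- `z ↦ 1 ⊗ (1 ⊗ z)`. -/
noncomputable abbrev j3 : CommRingCat.of S ⟶ T3 R S := i2 R S ≫ j23 R S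

lemma j2_apply (y : S) : (j2 R S).hom y = (1 : S) ⊗ₜ[R] (y ⊗ₜ[R] (1 : S)) := rfl
lemma j3_apply (y : S) : (j3 R S).hom y = (1 : S) ⊗ₜ[R] ((1 : S) ⊗ₜ[R] y) := rfl

lemma i1_j12 : i1 R S ≫ j12 R S = j1 R S := by
  refine CommRingCat.hom_ext (RingHom.ext fun s => ?_)
  change (j12 R S).hom ((i1 R S).hom s) = (j1 R S).hom s
  rw [i1_apply, j12_apply, j1_apply, Algebra.TensorProduct.one_def]

lemma i2_j12 : i2 R S ≫ j12 R S = j2 R S := by
  refine CommRingCat.hom_ext (RingHom.ext fun s => ?_)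
  change (j12 R S).hom ((i2 R S).hom s) = (j2 R S).hom s
  rw [i2_apply, j12_apply, j2_apply]

lemma i1_j13 : i1 R S ≫ j13 R S = j1 R S := by
  refine CommRingCat.hom_ext (RingHom.ext fun s => ?_)
  change (j13 R S).hom ((i1 R S).hom s) = (j1 R S).hom s
  rw [i1_apply, j13_apply, j1_apply, Algebra.TensorProduct.one_def]

lemma i2_j13 : i2 R S ≫ j13 R S = j3 R S := by
  refine CommRingCat.hom_ext (RingHom.ext fun s => ?_)
  change (j13 R S).hom ((i2 R S).hom s) = (j3 R S).hom s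
  rw [i2_apply, j13_apply, j3_apply]

lemma al_j2_j3 : al R S ≫ j2 R S = al R S ≫ j3 R S := by
  change al R S ≫ i1 R S ≫ j23 R S = al R S ≫ i2 R S ≫ j23 R S
  rw [← Category.assoc, ← Category.assoc, al_i1_i2]

lemma al_j1_j2 : al R S ≫ j1 R S = al R S ≫ j2 R S := by
  rw [← i1_j12, ← i2_j12, ← Category.assoc, ← Category.assoc, al_i1_i2]

variable {S}

/-- the biadditive map underlying `Psi3`. -/
noncomputable def Psi3lam (N : ModuleCat.{u} S) :
    (S ⊗[R] (S ⊗[R] S)) →+ N →+ GN R (GN R N) :=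
  TensorProduct.liftAddHom
    (AddMonoidHom.mk' (fun x : S => AddMonoidHom.mk' (fun t : S ⊗[R] S =>
        AddMonoidHom.mk' (fun n : N => gt R (GN R N) x (psi0 R N t n))
          (fun n n' => by rw [map_add, gt_add_right]))
        (fun t t' => by
          ext n
          simp only [AddMonoidHom.mk'_apply, AddMonoidHom.add_apply, map_add, gt_add_right]))
      (fun x x' => by
        ext t n
        simp only [AddMonoidHom.mk'_apply, AddMonoidHom.add_apply, gt_add_left]))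
    (fun r x t => by
      ext n
      simp only [AddMonoidHom.mk'_apply]
      rw [Algebra.smul_def, gt_balanced, psi0_smulR])

lemma Psi3lam_tmul (N : ModuleCat.{u} S) (x : S) (t : S ⊗[R] S) (n : N) :
    Psi3lam R N (x ⊗ₜ[R] t) n = gt R (GN R N) x (psi0 R N t n) := rfl

lemma Psi3lam_j3_mul (N : ModuleCat.{u} S) (s : S) (w : S ⊗[R] (S ⊗[R] S)) (n : N) :
    Psi3lam R N ((j3 R S).hom s * w) n = Psi3lam R N w (s • n) := by
  induction w using TensorProduct.induction_on with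
  | zero => simp only [mul_zero, map_zero, AddMonoidHom.zero_apply]
  | tmul x t =>
    have h : (j3 R S).hom s = (1 : S) ⊗ₜ[R] ((i2 R S).hom s) := rfl
    rw [h, Algebra.TensorProduct.tmul_mul_tmul, Psi3lam_tmul, Psi3lam_tmul, one_mul, psi0_i2_mul]
  | add a b ha hb => simp only [mul_add, map_add, AddMonoidHom.add_apply, ha, hb]

/-- `(x ⊗ t) ⊗ n ↦ x ⊗ psi (t ⊗ n)`. -/
noncomputable def Psi3 (N : ModuleCat.{u} S) :
    (extendScalars (j3 R S).hom).obj N →+ GN R (GN R N) :=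
  liftOut (j3 R S) N (Psi3lam R N) (fun s w n => Psi3lam_j3_mul R N s w n)

lemma Psi3_tmul (N : ModuleCat.{u} S) (w : S ⊗[R] (S ⊗[R] S)) (n : N) :
    Psi3 R N (w ⊗ₜ[S, (j3 R S).hom] n) = Psi3lam R N w n := rfl

/-- the comultiplication, as an additive map. -/
noncomputable def dlt (N : ModuleCat.{u} S) : GN R N →+ GN R (GN R N) :=
  ((extendScalars (algebraMap R S)).map ((extendRestrictScalarsAdj (algebraMap R S)).unit.app
    ((restrictScalars (algebraMap R S)).obj N))).hom.toAddMonoidHom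

lemma dlt_gt (N : ModuleCat.{u} S) (x : S) (m : N) :
    dlt R N (gt R N x m) = gt R (GN R N) x (gt R N 1 m) := rfl

lemma Psi3_bc13 (N : ModuleCat.{u} S) (z : (extendScalars (i2 R S).hom).obj N) :
    Psi3 R N (bc (i2 R S) (j13 R S) (j3 R S) (i2_j13 R S) N z) = dlt R N (psi R N z) := by
  refine ext_induction (i2 R S) N
    (P := fun z => Psi3 R N (bc (i2 R S) (j13 R S) (j3 R S) (i2_j13 R S) N z) =
      dlt R N (psi R N z)) z ?_ ?_ ?_
  · change Psi3 R N (bc (i2 R S) (j13 R S) (j3 R S) (i2_j13 R S) N 0) = dlt R N (psi R N 0)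
    rw [map_zero, map_zero, map_zero, map_zero]
  · intro t n
    change Psi3 R N (bc (i2 R S) (j13 R S) (j3 R S) (i2_j13 R S) N (t ⊗ₜ[S, (i2 R S).hom] n)) =
      dlt R N (psi0 R N t n)
    rw [bc_tmul, Psi3_tmul]
    induction t using TensorProduct.induction_on with
    | zero => simp only [map_zero, AddMonoidHom.zero_apply]
    | tmul x y =>
      rw [j13_apply, Psi3lam_tmul, psi0_tmul, psi0_tmul, dlt_gt]
    | add a b ha hb =>
      simp only [map_add, AddMonoidHom.add_apply, ha, hb]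
  · intro x y hx hy
    change Psi3 R N (bc (i2 R S) (j13 R S) (j3 R S) (i2_j13 R S) N (x + y)) =
      dlt R N (psi R N (x + y))
    change Psi3 R N (bc (i2 R S) (j13 R S) (j3 R S) (i2_j13 R S) N x) = dlt R N (psi R N x) at hx
    change Psi3 R N (bc (i2 R S) (j13 R S) (j3 R S) (i2_j13 R S) N y) = dlt R N (psi R N y) at hy
    rw [map_add, map_add, map_add, map_add, hx, hy]

lemma Psi3_j1_smul_bc23 (N : ModuleCat.{u} S) (x : S)
    (w : (extendScalars (i2 R S).hom).obj N) :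
    Psi3 R N ((j1 R S).hom x • bc (i2 R S) (j23 R S) (j3 R S) rfl N w) =
      gt R (GN R N) x (psi R N w) := by
  refine ext_induction (i2 R S) N
    (P := fun w => Psi3 R N ((j1 R S).hom x • bc (i2 R S) (j23 R S) (j3 R S) rfl N w) =
      gt R (GN R N) x (psi R N w)) w ?_ ?_ ?_
  · change Psi3 R N ((j1 R S).hom x • bc (i2 R S) (j23 R S) (j3 R S) rfl N 0) =
      gt R (GN R N) x (psi R N 0)
    rw [map_zero, smul_zero, map_zero, map_zero]
    let _ : Module R S := Module.compHom S (algebraMap R S)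
    exact (TensorProduct.tmul_zero _ x).symm
  · intro t n
    change Psi3 R N ((j1 R S).hom x •
        bc (i2 R S) (j23 R S) (j3 R S) rfl N (t ⊗ₜ[S, (i2 R S).hom] n)) =
      gt R (GN R N) x (psi0 R N t n)
    rw [bc_tmul, smul_tmul', Psi3_tmul, j1_apply, j23_apply, Algebra.TensorProduct.tmul_mul_tmul,
      mul_one, one_mul, Psi3lam_tmul]
  · intro a b ha hb
    change Psi3 R N ((j1 R S).hom x • bc (i2 R S) (j23 R S) (j3 R S) rfl N (a + b)) =
      gt R (GN R N) x (psi R N (a + b))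
    change Psi3 R N ((j1 R S).hom x • bc (i2 R S) (j23 R S) (j3 R S) rfl N a) =
      gt R (GN R N) x (psi R N a) at ha
    change Psi3 R N ((j1 R S).hom x • bc (i2 R S) (j23 R S) (j3 R S) rfl N b) =
      gt R (GN R N) x (psi R N b) at hb
    rw [map_add, smul_add, map_add, map_add, ha, hb, gt_add_right]

lemma bc12_tmul (N : ModuleCat.{u} S) (x y : S) (n : N) :
    bc (i2 R S) (j12 R S) (j2 R S) (i2_j12 R S) N ((x ⊗ₜ[R] y) ⊗ₜ[S, (i2 R S).hom] n) =
      (j1 R S).hom x • (((1 : S ⊗[R] (S ⊗[R] S)) ⊗ₜ[S, (j2 R S).hom] (y • n)) :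
        (extendScalars (j2 R S).hom).obj N) := by
  rw [bc_tmul]
  have hw : (j12 R S).hom (x ⊗ₜ[R] y) = (j1 R S).hom x * ((j2 R S).hom y * 1) := by
    rw [j12_apply, j1_apply, j2_apply, mul_one, Algebra.TensorProduct.tmul_mul_tmul, mul_one,
      one_mul]
  rw [hw, ← smul_tmul']
  congr 1
  exact tmul_smul_bal (j2 R S) N y 1 n

end triple

end Groth.Agent.Lib.Helper59.DescRing
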