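import Groth.Agent.Lib.Helper59.DescRingAlg

/-!
# The universal property of `S ⊗_R S` in `CommRingCat` (helper59)
-/

set_option autoImplicit false
open CategoryTheory Opposite TensorProduct
universe u

namespace Groth.Agent.Lib.Helper59.DescRing

variable {R S : Type u} [CommRing R] [CommRing S] [Algebra R S]

lemma exists_T2_desc {T : CommRingCat.{u}} (a₁ a₂ : CommRingCat.of S ⟶ T)
    (h : al R S ≫ a₁ = al R S ≫ a₂) :
    ∃ g : T2 R S ⟶ T, i1 R S ≫ g = a₁ ∧ i2 R S ≫ g = a₂ := by
  letI : Algebra R T := ((al R S ≫ a₁).hom).toAlgebra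
  let f₁ : S →ₐ[R] T := { a₁.hom with commutes' := fun r => rfl }
  let f₂ : S →ₐ[R] T := { a₂.hom with
    commutes' := fun r => by
      have := congrArg (fun k => k.hom r) h
      exact this.symm }
  refine ⟨CommRingCat.ofHom ((Algebra.TensorProduct.productMap f₁ f₂ : S ⊗[R] S →ₐ[R] T) :
    S ⊗[R] S →+* T), ?_, ?_⟩
  · refine CommRingCat.hom_ext (RingHom.ext fun s => ?_)
    change Algebra.TensorProduct.productMap f₁ f₂ (s ⊗ₜ[R] (1 : S)) = a₁.hom s
    rw [Algebra.TensorProduct.productMap_apply_tmul, map_one, mul_one]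
    rfl
  · refine CommRingCat.hom_ext (RingHom.ext fun s => ?_)
    change Algebra.TensorProduct.productMap f₁ f₂ ((1 : S) ⊗ₜ[R] s) = a₂.hom s
    rw [Algebra.TensorProduct.productMap_apply_tmul, map_one, one_mul]
    rfl

end Groth.Agent.Lib.Helper59.DescRing
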