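import Groth.Prelude.Def_Desc
import Mathlib.Algebra.Category.ModuleCat.Descent

/-!
# Element-level access to Mathlib descent data for `Desc.ringModPF`
-/

set_option autoImplicit false
set_option backward.isDefEq.respectTransparency false
open CategoryTheory Opposite ModuleCat TensorProduct
open scoped ChangeOfRings
universe u

namespace Groth.Agent.Lib.Helper59.DescRing

variable {A B C : CommRingCat.{u}}

/-- the comparison `c^* ⟶ b^* a^*` of the pseudofunctor, at `N`. -/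
noncomputable def mcHom (a : A ⟶ B) (b : B ⟶ C) (c : A ⟶ C) (h : a ≫ b = c) (N : ModuleCat.{u} A) :
    (extendScalars c.hom).obj N ⟶ (extendScalars b.hom).obj ((extendScalars a.hom).obj N) :=
  (Desc.ringModPF.{u}.mapComp' a.op.op.toLoc b.op.op.toLoc c.op.op.toLoc
    (by subst h; rfl)).hom.toNatTrans.app N

/-- the inverse comparison. -/
noncomputable def mcInv (a : A ⟶ B) (b : B ⟶ C) (c : A ⟶ C) (h : a ≫ b = c) (N : ModuleCat.{u} A) :
    (extendScalars b.hom).obj ((extendScalars a.hom).obj N) ⟶ (extendScalars c.hom).obj N :=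
  (Desc.ringModPF.{u}.mapComp' a.op.op.toLoc b.op.op.toLoc c.op.op.toLoc
    (by subst h; rfl)).inv.toNatTrans.app N

lemma mcHom_mcInv (a : A ⟶ B) (b : B ⟶ C) (c : A ⟶ C) (h : a ≫ b = c) (N : ModuleCat.{u} A) :
    mcHom a b c h N ≫ mcInv a b c h N = 𝟙 _ :=
  Cat.Hom.hom_inv_id_toNatTrans_app _ _

lemma mcInv_mcHom (a : A ⟶ B) (b : B ⟶ C) (c : A ⟶ C) (h : a ≫ b = c) (N : ModuleCat.{u} A) :
    mcInv a b c h N ≫ mcHom a b c h N = 𝟙 _ :=
  Cat.Hom.inv_hom_id_toNatTrans_app _ _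

lemma mcHom_eq (a : A ⟶ B) (b : B ⟶ C) (N : ModuleCat.{u} A) :
    mcHom a b _ rfl N = (extendScalarsComp a.hom b.hom).hom.app N := by
  unfold mcHom
  have := Pseudofunctor.mapComp'_eq_mapComp Desc.ringModPF.{u} a.op.op.toLoc b.op.op.toLoc
  erw [this]
  have h3 : (Desc.ringModPF.{u}.mapComp a.op.op.toLoc b.op.op.toLoc).hom.toNatTrans.app N =
      𝟙 _ ≫ (extendScalarsComp a.hom b.hom).hom.app N := rfl
  erw [h3, Category.id_comp]

lemma mcHom_one_tmul (a : A ⟶ B) (b : B ⟶ C) (c : A ⟶ C) (h : a ≫ b = c) (N : ModuleCat.{u} A)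
    (n : N) :
    mcHom a b c h N ((1 : C) ⊗ₜ[A, c.hom] n) =
      ((1 : C) ⊗ₜ[B, b.hom] ((1 : B) ⊗ₜ[A, a.hom] n) :
        (extendScalars b.hom).obj ((extendScalars a.hom).obj N)) := by
  subst h
  rw [mcHom_eq]
  exact extendScalarsComp_hom_app_one_tmul a.hom b.hom N n

lemma mcInv_one_tmul (a : A ⟶ B) (b : B ⟶ C) (c : A ⟶ C) (h : a ≫ b = c) (N : ModuleCat.{u} A)
    (n : N) :
    mcInv a b c h N ((1 : C) ⊗ₜ[B, b.hom] ((1 : B) ⊗ₜ[A, a.hom] n) :
        (extendScalars b.hom).obj ((extendScalars a.hom).obj N)) = (1 : C) ⊗ₜ[A, c.hom] n := by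
  rw [← mcHom_one_tmul a b c h N n]
  have := ConcreteCategory.congr_hom (mcHom_mcInv a b c h N) ((1 : C) ⊗ₜ[A, c.hom] n)
  rw [ConcreteCategory.comp_apply, ConcreteCategory.id_apply] at this
  exact this

/-- Base change of elements: `t ⊗ n ↦ g t ⊗ n`. -/
noncomputable def bc (a : A ⟶ B) (g : B ⟶ C) (c : A ⟶ C) (h : a ≫ g = c) (N : ModuleCat.{u} A) :
    (extendScalars a.hom).obj N →+ (extendScalars c.hom).obj N where
  toFun z := mcInv a g c h N ((1 : C) ⊗ₜ[B, g.hom] z)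
  map_zero' := by rw [TensorProduct.tmul_zero, map_zero]
  map_add' x y := by rw [TensorProduct.tmul_add, map_add]

lemma bc_apply (a : A ⟶ B) (g : B ⟶ C) (c : A ⟶ C) (h : a ≫ g = c) (N : ModuleCat.{u} A)
    (z : (extendScalars a.hom).obj N) :
    bc a g c h N z = mcInv a g c h N ((1 : C) ⊗ₜ[B, g.hom] z) := rfl

lemma one_tmul_smul (g : B ⟶ C) (P : ModuleCat.{u} B) (t : B) (z : P) :
    ((1 : C) ⊗ₜ[B, g.hom] (t • z) : (extendScalars g.hom).obj P) =
      g.hom t • ((1 : C) ⊗ₜ[B, g.hom] z : (extendScalars g.hom).obj P) := by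
  rw [ExtendScalars.smul_tmul, mul_one]
  letI : Module B C := Module.compHom C g.hom
  have : (g.hom t : C) = t • (1 : C) := by
    change g.hom t = g.hom t * 1
    rw [mul_one]
  rw [this]
  exact (TensorProduct.smul_tmul t (1 : C) z).symm

lemma bc_smul (a : A ⟶ B) (g : B ⟶ C) (c : A ⟶ C) (h : a ≫ g = c) (N : ModuleCat.{u} A)
    (t : B) (z : (extendScalars a.hom).obj N) :
    bc a g c h N (t • z) = g.hom t • bc a g c h N z := by
  rw [bc_apply, bc_apply, one_tmul_smul, map_smul]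

lemma bc_one_tmul (a : A ⟶ B) (g : B ⟶ C) (c : A ⟶ C) (h : a ≫ g = c) (N : ModuleCat.{u} A)
    (n : N) :
    bc a g c h N ((1 : B) ⊗ₜ[A, a.hom] n) = (1 : C) ⊗ₜ[A, c.hom] n :=
  mcInv_one_tmul a g c h N n

lemma tmul_eq_smul (a : A ⟶ B) (N : ModuleCat.{u} A) (t : B) (n : N) :
    (t ⊗ₜ[A, a.hom] n : (extendScalars a.hom).obj N) =
      t • ((1 : B) ⊗ₜ[A, a.hom] n : (extendScalars a.hom).obj N) := by
  rw [ExtendScalars.smul_tmul, mul_one]

lemma bc_tmul (a : A ⟶ B) (g : B ⟶ C) (c : A ⟶ C) (h : a ≫ g = c) (N : ModuleCat.{u} A)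
    (t : B) (n : N) :
    bc a g c h N (t ⊗ₜ[A, a.hom] n) = (g.hom t) ⊗ₜ[A, c.hom] n := by
  rw [tmul_eq_smul, bc_smul, bc_one_tmul, ← tmul_eq_smul]

/-- additive maps out of an extension of scalars agree if they agree on pure tensors. -/
lemma addHom_ext {Q : Type*} [AddCommMonoid Q] (a : A ⟶ B) (N : ModuleCat.{u} A)
    (f g : (extendScalars a.hom).obj N →+ Q)
    (h : ∀ (t : B) (n : N), f (t ⊗ₜ[A, a.hom] n) = g (t ⊗ₜ[A, a.hom] n)) : f = g := by
  ext z
  let _ : Module A B := Module.compHom B a.hom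
  induction z using TensorProduct.induction_on with
  | zero => rw [map_zero, map_zero]
  | tmul t n => exact h t n
  | add x y hx hy => rw [map_add, map_add, hx, hy]

end Groth.Agent.Lib.Helper59.DescRing
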