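import Groth.Agent.Lib.Helper59.DescRingAlg2

/-!
# The coalgebra attached to a descent datum for modules relative to `R → S` (helper59)
-/

set_option autoImplicit false
set_option backward.isDefEq.respectTransparency false
open CategoryTheory Opposite ModuleCat TensorProduct
open scoped ChangeOfRings
universe u

namespace Groth.Agent.Lib.Helper59.DescRing

variable {R S : Type u} [CommRing R] [CommRing S] [Algebra R S] (D : DD R S)

/-- the gluing morphism over `S ⊗_R S`. -/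
noncomputable def phi : (extendScalars (i1 R S).hom).obj (Nmod D) ⟶
    (extendScalars (i2 R S).hom).obj (Nmod D) :=
  dh D (al R S ≫ i1 R S) (i1 R S) (i2 R S) rfl (al_i1_i2 R S).symm

lemma dh_eq_self {T : CommRingCat.{u}} (q : CommRingCat.of R ⟶ T)
    (c₁ c₂ : CommRingCat.of S ⟶ T) (hc : c₁ = c₂) (h₁ : al R S ≫ c₁ = q) (h₂ : al R S ≫ c₂ = q)
    (n : Nmod D) :
    dh D q c₁ c₂ h₁ h₂ ((1 : T) ⊗ₜ[S, c₁.hom] n) = (1 : T) ⊗ₜ[S, c₂.hom] n := by
  subst hc
  rw [dh_self]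
  rfl

/-- naturality of the gluing morphism, from the universal one. -/
lemma dh_eq_bc_phi {T : CommRingCat.{u}} (g : T2 R S ⟶ T) (q : CommRingCat.of R ⟶ T)
    (c₁ c₂ : CommRingCat.of S ⟶ T) (k₁ : i1 R S ≫ g = c₁) (k₂ : i2 R S ≫ g = c₂)
    (h₁ : al R S ≫ c₁ = q) (h₂ : al R S ≫ c₂ = q) (n : Nmod D) :
    dh D q c₁ c₂ h₁ h₂ ((1 : T) ⊗ₜ[S, c₁.hom] n) =
      bc (i2 R S) g c₂ k₂ (Nmod D) (phi D ((1 : S ⊗[R] S) ⊗ₜ[S, (i1 R S).hom] n)) :=
  dh_pull_apply D g (al R S ≫ i1 R S) q (by rw [Category.assoc, k₁, h₁]) (i1 R S) (i2 R S) rfl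
    (al_i1_i2 R S).symm c₁ c₂ k₁ k₂ h₁ h₂ n

lemma bc_phi_of_eq {T : CommRingCat.{u}} (g : T2 R S ⟶ T)
    (c : CommRingCat.of S ⟶ T) (k₁ : i1 R S ≫ g = c) (k₂ : i2 R S ≫ g = c) (n : Nmod D) :
    bc (i2 R S) g c k₂ (Nmod D) (phi D ((1 : S ⊗[R] S) ⊗ₜ[S, (i1 R S).hom] n)) =
      (1 : T) ⊗ₜ[S, c.hom] n := by
  rw [← dh_eq_bc_phi D g (al R S ≫ c) c c k₁ k₂ rfl rfl n]
  exact dh_eq_self D _ c c rfl rfl rfl n

/-- the coaction, as a function. -/
noncomputable def coactFun (n : Nmod D) : GN R (Nmod D) :=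
  psi R (Nmod D) (phi D ((1 : S ⊗[R] S) ⊗ₜ[S, (i1 R S).hom] n))

lemma one_tmul_add (n n' : Nmod D) :
    ((1 : S ⊗[R] S) ⊗ₜ[S, (i1 R S).hom] (n + n') : (extendScalars (i1 R S).hom).obj (Nmod D)) =
      (1 : S ⊗[R] S) ⊗ₜ[S, (i1 R S).hom] n + (1 : S ⊗[R] S) ⊗ₜ[S, (i1 R S).hom] n' := by
  let _ : Module S (S ⊗[R] S) := Module.compHom _ (i1 R S).hom
  exact TensorProduct.tmul_add _ _ _

lemma one_tmul_smul' (s : S) (n : Nmod D) :
    ((1 : S ⊗[R] S) ⊗ₜ[S, (i1 R S).hom] (s • n) : (extendScalars (i1 R S).hom).obj (Nmod D)) =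
      (i1 R S).hom s • ((1 : S ⊗[R] S) ⊗ₜ[S, (i1 R S).hom] n :
        (extendScalars (i1 R S).hom).obj (Nmod D)) :=
  (tmul_smul_bal (i1 R S) (Nmod D) s 1 n).symm

lemma coactFun_add (n n' : Nmod D) : coactFun D (n + n') = coactFun D n + coactFun D n' := by
  unfold coactFun
  rw [one_tmul_add, map_add, map_add]

lemma coactFun_smul (s : S) (n : Nmod D) : coactFun D (s • n) = s • coactFun D n := by
  unfold coactFun
  rw [one_tmul_smul', map_smul, psi_i1_smul]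

/-- the coaction. -/
noncomputable def coact : Nmod D ⟶ GN R (Nmod D) :=
  ModuleCat.ofHom
    { toFun := coactFun D
      map_add' := coactFun_add D
      map_smul' := coactFun_smul D }

lemma coact_apply (n : Nmod D) : coact D n = coactFun D n := rfl

lemma eps_coactFun (n : Nmod D) : eps R (Nmod D) (coactFun D n) = n := by
  unfold coactFun
  rw [eps_psi, bc_phi_of_eq D (mu R S) (i2 R S ≫ mu R S) ((i1_mu R S).trans (i2_mu R S).symm) rfl n]
  exact (evG_tmul _ _ _ _ _ n).trans (by rw [map_one, one_smul])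

/-- the common composite `R → S ⊗ S ⊗ S`. -/
noncomputable abbrev q3 : CommRingCat.of R ⟶ T3 R S := al R S ≫ j1 R S

lemma al_j2_q3 : al R S ≫ j2 R S = q3 (R := R) (S := S) := (al_j1_j2 R S).symm
lemma al_j3_q3 : al R S ≫ j3 R S = q3 (R := R) (S := S) :=
  ((al_j1_j2 R S).trans (al_j2_j3 R S)).symm

/-- the gluing morphism over the triple product between the last two factors. -/
noncomputable def dh23 : (extendScalars (j2 R S).hom).obj (Nmod D) ⟶
    (extendScalars (j3 R S).hom).obj (Nmod D) :=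
  dh D q3 (j2 R S) (j3 R S) al_j2_q3 al_j3_q3

lemma dh23_one_tmul (m : Nmod D) :
    dh23 D ((1 : S ⊗[R] (S ⊗[R] S)) ⊗ₜ[S, (j2 R S).hom] m) =
      bc (i2 R S) (j23 R S) (j3 R S) rfl (Nmod D)
        (phi D ((1 : S ⊗[R] S) ⊗ₜ[S, (i1 R S).hom] m)) :=
  dh_eq_bc_phi D (j23 R S) q3 (j2 R S) (j3 R S) rfl rfl al_j2_q3 al_j3_q3 m

/-- `G` applied to the coaction. -/
noncomputable def Gcoact : GN R (Nmod D) ⟶ GN R (GN R (Nmod D)) :=
  (extendScalars (algebraMap R S)).map ((restrictScalars (algebraMap R S)).map (coact D))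

lemma Gcoact_gt (x : S) (m : Nmod D) :
    Gcoact D (gt R (Nmod D) x m) = gt R (GN R (Nmod D)) x (coactFun D m) := rfl

lemma tmul_add_left' (a b : S ⊗[R] S) (n : Nmod D) :
    (((a + b) ⊗ₜ[S, (i2 R S).hom] n) : (extendScalars (i2 R S).hom).obj (Nmod D)) =
      a ⊗ₜ[S, (i2 R S).hom] n + b ⊗ₜ[S, (i2 R S).hom] n := by
  let _ : Module S (S ⊗[R] S) := Module.compHom _ (i2 R S).hom
  exact TensorProduct.add_tmul _ _ _

lemma zero_tmul' (n : Nmod D) :
    (((0 : S ⊗[R] S) ⊗ₜ[S, (i2 R S).hom] n) : (extendScalars (i2 R S).hom).obj (Nmod D)) = 0 := by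
  let _ : Module S (S ⊗[R] S) := Module.compHom _ (i2 R S).hom
  exact TensorProduct.zero_tmul _ _

lemma key_C2 (z : (extendScalars (i2 R S).hom).obj (Nmod D)) :
    Psi3 R (Nmod D) (dh23 D (bc (i2 R S) (j12 R S) (j2 R S) (i2_j12 R S) (Nmod D) z)) =
      Gcoact D (psi R (Nmod D) z) := by
  refine ext_induction (i2 R S) (Nmod D)
    (P := fun z => Psi3 R (Nmod D) (dh23 D (bc (i2 R S) (j12 R S) (j2 R S) (i2_j12 R S)
      (Nmod D) z)) = Gcoact D (psi R (Nmod D) z)) z ?_ ?_ ?_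
  · change Psi3 R (Nmod D) (dh23 D (bc (i2 R S) (j12 R S) (j2 R S) (i2_j12 R S) (Nmod D) 0)) =
      Gcoact D (psi R (Nmod D) 0)
    rw [map_zero, map_zero, map_zero, map_zero, map_zero]
  · intro t n
    change Psi3 R (Nmod D) (dh23 D (bc (i2 R S) (j12 R S) (j2 R S) (i2_j12 R S) (Nmod D)
      (t ⊗ₜ[S, (i2 R S).hom] n))) = Gcoact D (psi0 R (Nmod D) t n)
    induction t using TensorProduct.induction_on with
    | zero =>
      rw [zero_tmul']
      simp only [map_zero, AddMonoidHom.zero_apply]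
    | tmul x y =>
      rw [bc12_tmul, map_smul, dh23_one_tmul, Psi3_j1_smul_bc23, psi0_tmul, Gcoact_gt]
      rfl
    | add a b ha hb =>
      rw [tmul_add_left']
      simp only [map_add, AddMonoidHom.add_apply, ha, hb]
  · intro x y hx hy
    change Psi3 R (Nmod D) (dh23 D (bc (i2 R S) (j12 R S) (j2 R S) (i2_j12 R S) (Nmod D)
      (x + y))) = Gcoact D (psi R (Nmod D) (x + y))
    change Psi3 R (Nmod D) (dh23 D (bc (i2 R S) (j12 R S) (j2 R S) (i2_j12 R S) (Nmod D) x)) =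
      Gcoact D (psi R (Nmod D) x) at hx
    change Psi3 R (Nmod D) (dh23 D (bc (i2 R S) (j12 R S) (j2 R S) (i2_j12 R S) (Nmod D) y)) =
      Gcoact D (psi R (Nmod D) y) at hy
    rw [map_add, map_add, map_add, map_add, map_add, hx, hy]

lemma coassoc_elt (n : Nmod D) :
    dlt R (Nmod D) (coactFun D n) = Gcoact D (coactFun D n) := by
  unfold coactFun
  rw [← key_C2, ← Psi3_bc13]
  congr 1
  -- cocycle condition over the triple product
  rw [← dh_eq_bc_phi D (j13 R S) q3 (j1 R S) (j3 R S) (i1_j13 R S) (i2_j13 R S) rfl al_j3_q3 n,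
    ← dh_eq_bc_phi D (j12 R S) q3 (j1 R S) (j2 R S) (i1_j12 R S) (i2_j12 R S) rfl al_j2_q3 n]
  have := ConcreteCategory.congr_hom
    (dh_comp D q3 (j1 R S) (j2 R S) (j3 R S) rfl al_j2_q3 al_j3_q3)
    ((1 : S ⊗[R] (S ⊗[R] S)) ⊗ₜ[S, (j1 R S).hom] n)
  rw [ConcreteCategory.comp_apply] at this
  exact this.symm

/-- the coalgebra attached to a descent datum. -/
noncomputable def coalg : (extendRestrictScalarsAdj (algebraMap R S)).toComonad.Coalgebra where
  A := Nmod D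
  a := coact D
  counit := by
    refine ModuleCat.hom_ext (LinearMap.ext fun n => ?_)
    exact eps_coactFun D n
  coassoc := by
    refine ModuleCat.hom_ext (LinearMap.ext fun n => ?_)
    exact coassoc_elt D n

end Groth.Agent.Lib.Helper59.DescRing
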