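import Groth.Agent.Lib.Helper59.DescRingBase

/-!
# Element-level access to a descent datum for `Desc.ringModPF` relative to `R → S`
-/

set_option autoImplicit false
set_option backward.isDefEq.respectTransparency false
open CategoryTheory Opposite ModuleCat TensorProduct
open scoped ChangeOfRings
universe u

namespace Groth.Agent.Lib.Helper59.DescRing

variable (R S : Type u) [CommRing R] [CommRing S] [Algebra R S]

/-- the structure map as a morphism of `CommRingCat`. -/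
abbrev al : CommRingCat.of R ⟶ CommRingCat.of S := CommRingCat.ofHom (algebraMap R S)

/-- descent data relative to `R → S`. -/
abbrev DD := Desc.ringModPF.{u}.DescentData
  (fun _ : PUnit.{u + 1} => (CommRingCat.ofHom (algebraMap R S)).op)

variable {R S} (D : DD R S)

/-- the underlying `S`-module of a descent datum. -/
noncomputable def Nmod : ModuleCat.{u} S := D.obj PUnit.unit

/-- the gluing morphism over a test ring `T`. -/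
noncomputable def dh {T : CommRingCat.{u}} (q : CommRingCat.of R ⟶ T)
    (a₁ a₂ : CommRingCat.of S ⟶ T) (h₁ : al R S ≫ a₁ = q) (h₂ : al R S ≫ a₂ = q) :
    (extendScalars a₁.hom).obj (Nmod D) ⟶ (extendScalars a₂.hom).obj (Nmod D) :=
  D.hom (Y := op T) q.op (i₁ := PUnit.unit) (i₂ := PUnit.unit) a₁.op a₂.op
    (by subst h₁; rfl) (by subst h₂; rfl)

lemma dh_self {T : CommRingCat.{u}} (q : CommRingCat.of R ⟶ T)
    (a : CommRingCat.of S ⟶ T) (h : al R S ≫ a = q) :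
    dh D q a a h h = 𝟙 _ :=
  D.hom_self (Y := op T) q.op (i := PUnit.unit) a.op (by subst h; rfl)

lemma dh_comp {T : CommRingCat.{u}} (q : CommRingCat.of R ⟶ T)
    (a₁ a₂ a₃ : CommRingCat.of S ⟶ T) (h₁ : al R S ≫ a₁ = q) (h₂ : al R S ≫ a₂ = q)
    (h₃ : al R S ≫ a₃ = q) :
    dh D q a₁ a₂ h₁ h₂ ≫ dh D q a₂ a₃ h₂ h₃ = dh D q a₁ a₃ h₁ h₃ :=
  D.hom_comp (Y := op T) q.op (i₁ := PUnit.unit) (i₂ := PUnit.unit) (i₃ := PUnit.unit)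
    a₁.op a₂.op a₃.op (by subst h₁; rfl) (by subst h₂; rfl) (by subst h₃; rfl)

lemma dh_pull {T T' : CommRingCat.{u}} (g : T ⟶ T') (q : CommRingCat.of R ⟶ T)
    (q' : CommRingCat.of R ⟶ T') (hq : q ≫ g = q')
    (a₁ a₂ : CommRingCat.of S ⟶ T) (h₁ : al R S ≫ a₁ = q) (h₂ : al R S ≫ a₂ = q)
    (c₁ c₂ : CommRingCat.of S ⟶ T') (k₁ : a₁ ≫ g = c₁) (k₂ : a₂ ≫ g = c₂)
    (h₁' : al R S ≫ c₁ = q') (h₂' : al R S ≫ c₂ = q') :
    mcHom a₁ g c₁ k₁ (Nmod D) ≫ (extendScalars g.hom).map (dh D q a₁ a₂ h₁ h₂) ≫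
      mcInv a₂ g c₂ k₂ (Nmod D) = dh D q' c₁ c₂ h₁' h₂' :=
  D.pullHom_hom (Y' := op T') (Y := op T) g.op q.op q'.op (by subst hq; rfl)
    (i₁ := PUnit.unit) (i₂ := PUnit.unit) a₁.op a₂.op (by subst h₁; rfl) (by subst h₂; rfl)
    c₁.op c₂.op (by subst k₁; rfl) (by subst k₂; rfl)

lemma dh_pull_apply {T T' : CommRingCat.{u}} (g : T ⟶ T') (q : CommRingCat.of R ⟶ T)
    (q' : CommRingCat.of R ⟶ T') (hq : q ≫ g = q')
    (a₁ a₂ : CommRingCat.of S ⟶ T) (h₁ : al R S ≫ a₁ = q) (h₂ : al R S ≫ a₂ = q)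
    (c₁ c₂ : CommRingCat.of S ⟶ T') (k₁ : a₁ ≫ g = c₁) (k₂ : a₂ ≫ g = c₂)
    (h₁' : al R S ≫ c₁ = q') (h₂' : al R S ≫ c₂ = q') (n : Nmod D) :
    dh D q' c₁ c₂ h₁' h₂' ((1 : T') ⊗ₜ[S, c₁.hom] n) =
      bc a₂ g c₂ k₂ (Nmod D) (dh D q a₁ a₂ h₁ h₂ ((1 : T) ⊗ₜ[S, a₁.hom] n)) := by
  rw [← dh_pull D g q q' hq a₁ a₂ h₁ h₂ c₁ c₂ k₁ k₂ h₁' h₂']
  rw [ConcreteCategory.comp_apply, ConcreteCategory.comp_apply, mcHom_one_tmul]
  rfl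

lemma dh_one_tmul_of_inv {T T' : CommRingCat.{u}} (g : T ⟶ T') (q : CommRingCat.of R ⟶ T)
    (q' : CommRingCat.of R ⟶ T') (hq : q ≫ g = q')
    (a₁ a₂ : CommRingCat.of S ⟶ T) (h₁ : al R S ≫ a₁ = q) (h₂ : al R S ≫ a₂ = q)
    (c₁ c₂ : CommRingCat.of S ⟶ T') (k₁ : a₁ ≫ g = c₁) (k₂ : a₂ ≫ g = c₂)
    (h₁' : al R S ≫ c₁ = q') (h₂' : al R S ≫ c₂ = q') (n : Nmod D)
    (hn : dh D q a₁ a₂ h₁ h₂ ((1 : T) ⊗ₜ[S, a₁.hom] n) = (1 : T) ⊗ₜ[S, a₂.hom] n) :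
    dh D q' c₁ c₂ h₁' h₂' ((1 : T') ⊗ₜ[S, c₁.hom] n) = (1 : T') ⊗ₜ[S, c₂.hom] n := by
  rw [dh_pull_apply D g q q' hq a₁ a₂ h₁ h₂ c₁ c₂ k₁ k₂ h₁' h₂', hn, bc_one_tmul]

end Groth.Agent.Lib.Helper59.DescRing
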