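import Groth.Agent.Lib.Helper59.DescRingCoalg
import Groth.Agent.Lib.Helper59.DescRingAlg3

/-!
# Effectivity of descent data for modules along a faithfully flat ring map (helper59)
-/

set_option autoImplicit false
set_option backward.isDefEq.respectTransparency false
open CategoryTheory Opposite ModuleCat TensorProduct
open scoped ChangeOfRings
universe u

namespace Groth.Agent.Lib.Helper59.DescRing

variable {R S : Type u} [CommRing R] [CommRing S] [Algebra R S] (D : DD R S)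

/-- comonadicity of extension of scalars, with the standard adjunction. -/
@[instance_reducible]
noncomputable def cmp (hf : (algebraMap R S).FaithfullyFlat) :
    ComonadicLeftAdjoint (extendScalars.{u, u, u} (algebraMap R S)) :=
  haveI := ModuleCat.preservesFiniteLimits_extendScalars_of_flat hf.flat
  haveI := ModuleCat.reflectsIsomorphisms_extendScalars_of_faithfullyFlat hf
  haveI : Comonad.HasEqualizerOfIsCosplitPair (extendScalars.{u, u, u} (algebraMap R S)) :=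
    ⟨inferInstance⟩
  haveI : Comonad.PreservesLimitOfIsCosplitPair (extendScalars.{u, u, u} (algebraMap R S)) :=
    ⟨inferInstance⟩
  Comonad.comonadicOfHasPreservesFSplitEqualizersOfReflectsIsomorphisms
    (extendRestrictScalarsAdj (algebraMap R S))

/-- elements in the image of a coalgebra morphism from a cofree-type coalgebra are invariant. -/
lemma phi_inv_of_coalgHom (M : ModuleCat.{u} R)
    (κ : (Comonad.comparison (extendRestrictScalarsAdj (algebraMap R S))).obj M ⟶ coalg D)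
    (m : M) :
    phi D ((1 : S ⊗[R] S) ⊗ₜ[S, (i1 R S).hom] (κ.f ((1 : S) ⊗ₜ[R, algebraMap R S] m))) =
      (1 : S ⊗[R] S) ⊗ₜ[S, (i2 R S).hom] (κ.f ((1 : S) ⊗ₜ[R, algebraMap R S] m)) := by
  apply psi_injective R (Nmod D)
  rw [psi_one_tmul]
  have := ConcreteCategory.congr_hom κ.h ((1 : S) ⊗ₜ[R, algebraMap R S] m)
  rw [ConcreteCategory.comp_apply, ConcreteCategory.comp_apply] at this
  exact this.symm

lemma comm_ring {T : CommRingCat.{u}} (q : CommRingCat.of R ⟶ T)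
    (a₁ a₂ : CommRingCat.of S ⟶ T) (h₁ : al R S ≫ a₁ = q) (h₂ : al R S ≫ a₂ = q)
    (M : ModuleCat.{u} R) (e : (extendScalars (al R S).hom).obj M ⟶ Nmod D)
    (hinv : ∀ m : M,
      phi D ((1 : S ⊗[R] S) ⊗ₜ[S, (i1 R S).hom] (e ((1 : S) ⊗ₜ[R, (al R S).hom] m))) =
        (1 : S ⊗[R] S) ⊗ₜ[S, (i2 R S).hom] (e ((1 : S) ⊗ₜ[R, (al R S).hom] m))) :
    (extendScalars a₁.hom).map e ≫ dh D q a₁ a₂ h₁ h₂ =
      (mcInv (al R S) a₁ q h₁ M ≫ mcHom (al R S) a₂ q h₂ M) ≫ (extendScalars a₂.hom).map e := by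
  haveI : IsIso (mcHom (al R S) a₁ q h₁ M) :=
    ⟨⟨mcInv (al R S) a₁ q h₁ M, mcHom_mcInv _ _ _ _ _, mcInv_mcHom _ _ _ _ _⟩⟩
  rw [← cancel_epi (mcHom (al R S) a₁ q h₁ M)]
  have hepi : mcHom (al R S) a₁ q h₁ M ≫ (mcInv (al R S) a₁ q h₁ M ≫ mcHom (al R S) a₂ q h₂ M) ≫
      (extendScalars a₂.hom).map e = mcHom (al R S) a₂ q h₂ M ≫ (extendScalars a₂.hom).map e := by
    rw [Category.assoc, ← Category.assoc, mcHom_mcInv, Category.id_comp]
  rw [hepi]
  refine ExtendScalars.hom_ext (fun m => ?_)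
  rw [ConcreteCategory.comp_apply, ConcreteCategory.comp_apply, ConcreteCategory.comp_apply,
    mcHom_one_tmul, mcHom_one_tmul]
  obtain ⟨g, k₁, k₂⟩ := exists_T2_desc (R := R) a₁ a₂ (h₁.trans h₂.symm)
  change dh D q a₁ a₂ h₁ h₂ ((1 : T) ⊗ₜ[S, a₁.hom] (e ((1 : S) ⊗ₜ[R, (al R S).hom] m))) =
    (1 : T) ⊗ₜ[S, a₂.hom] (e ((1 : S) ⊗ₜ[R, (al R S).hom] m))
  rw [dh_eq_bc_phi D g q a₁ a₂ k₁ k₂ h₁ h₂, hinv m, bc_one_tmul]

theorem exists_iso_toDescentData [Module.FaithfullyFlat R S] :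
    ∃ M : ModuleCat.{u} R, Nonempty ((Desc.ringModPF.{u}.toDescentData
      (fun _ : PUnit.{u + 1} => (CommRingCat.ofHom (algebraMap R S)).op)).obj M ≅ D) := by
  have hf : (algebraMap R S).FaithfullyFlat :=
    (RingHom.faithfullyFlat_algebraMap_iff).2 inferInstance
  have : (Comonad.comparison (extendRestrictScalarsAdj (algebraMap R S))).IsEquivalence :=
    (cmp hf).eqv
  let M : ModuleCat.{u} R :=
    (Comonad.comparison (extendRestrictScalarsAdj (algebraMap R S))).objPreimage (coalg D)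
  let κ : (Comonad.comparison (extendRestrictScalarsAdj (algebraMap R S))).obj M ≅ coalg D :=
    (Comonad.comparison (extendRestrictScalarsAdj (algebraMap R S))).objObjPreimageIso (coalg D)
  let e : (extendScalars (al R S).hom).obj M ≅ Nmod D :=
    ((extendRestrictScalarsAdj (algebraMap R S)).toComonad.forget).mapIso κ
  have hinv : ∀ m : M,
      phi D ((1 : S ⊗[R] S) ⊗ₜ[S, (i1 R S).hom] (e.hom ((1 : S) ⊗ₜ[R, (al R S).hom] m))) =
        (1 : S ⊗[R] S) ⊗ₜ[S, (i2 R S).hom] (e.hom ((1 : S) ⊗ₜ[R, (al R S).hom] m)) :=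
    fun m => phi_inv_of_coalgHom D M κ.hom m
  refine ⟨M, ⟨Pseudofunctor.DescentData.isoMk (fun _ => e) ?_⟩⟩
  intro Y q i₁ i₂ f₁ f₂ hf₁ hf₂
  exact (comm_ring D q.unop f₁.unop f₂.unop (congrArg Quiver.Hom.unop hf₁)
    (congrArg Quiver.Hom.unop hf₂) M e.hom hinv)

end Groth.Agent.Lib.Helper59.DescRing
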