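import Groth.Agent.Lib.Helper59.GPA

/-!
# Primes of the Segre product containing all diagonal tensors

`B` graded, generated in degree one.  A "prime" `𝔓` (given as a submodule of the tensor power with
multiplicativity and primality on pure tensors of homogeneous entries) which contains all the
`f ⊗ ⋯ ⊗ f` (`f` homogeneous of positive degree) contains all pure tensors whose entries are
homogeneous of the same positive degree.
-/

set_option autoImplicit false

namespace Groth.Agent.Lib.Helper59.SegreCore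

open scoped TensorProduct

section Graded

variable {A B : Type*} [CommRing A] [CommRing B] [Algebra A B] (𝒜 : ℕ → Submodule A B)
  [GradedAlgebra 𝒜]

theorem pow_le (n : ℕ) : (𝒜 1) ^ n ≤ 𝒜 n := by
  induction n with
  | zero =>
    rw [pow_zero, Submodule.one_le]
    exact SetLike.GradedOne.one_mem
  | succ n ih =>
    rw [pow_succ, Submodule.mul_le]
    intro x hx y hy
    exact SetLike.GradedMul.mul_mem (ih hx) hy

theorem decompose_mem_pow (hgen : Algebra.adjoin A (𝒜 1 : Set B) = ⊤) (x : B) (n : ℕ) :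
    (DirectSum.decompose 𝒜 x n : B) ∈ (𝒜 1) ^ n := by
  have hx : x ∈ Subalgebra.toSubmodule (Algebra.adjoin A (𝒜 1 : Set B)) := by
    rw [hgen]; trivial
  rw [Algebra.adjoin_eq_span] at hx
  induction hx using Submodule.span_induction with
  | mem y hy =>
    have : ∃ m, y ∈ (𝒜 1) ^ m := by
      induction hy using Submonoid.closure_induction with
      | mem z hz => exact ⟨1, by rwa [pow_one]⟩
      | one => exact ⟨0, by rw [pow_zero]; exact Submodule.one_le.1 le_rfl⟩
      | mul a b _ _ ha hb =>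
        obtain ⟨m, hm⟩ := ha
        obtain ⟨m', hm'⟩ := hb
        exact ⟨m + m', by rw [pow_add]; exact Submodule.mul_mem_mul hm hm'⟩
    obtain ⟨m, hm⟩ := this
    by_cases hmn : m = n
    · subst hmn
      rw [DirectSum.decompose_of_mem_same 𝒜 (pow_le 𝒜 m hm)]
      exact hm
    · rw [DirectSum.decompose_of_mem_ne 𝒜 (pow_le 𝒜 m hm) hmn]
      exact zero_mem _
  | zero =>
    rw [DirectSum.decompose_zero, DirectSum.zero_apply]
    exact zero_mem _
  | add a b _ _ ha hb =>
    rw [DirectSum.decompose_add, DirectSum.add_apply]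
    exact add_mem ha hb
  | smul r a _ ha =>
    rw [DirectSum.decompose_smul, DirectSum.smul_apply]
    exact Submodule.smul_mem _ r ha

theorem graded_eq_pow (hgen : Algebra.adjoin A (𝒜 1 : Set B) = ⊤) (n : ℕ) :
    𝒜 n = (𝒜 1) ^ n := by
  refine le_antisymm (fun x hx => ?_) (pow_le 𝒜 n)
  have := decompose_mem_pow 𝒜 hgen x n
  rwa [DirectSum.decompose_of_mem_same 𝒜 hx] at this

theorem graded_add (hgen : Algebra.adjoin A (𝒜 1 : Set B) = ⊤) (n m : ℕ) :
    𝒜 (n + m) = 𝒜 n * 𝒜 m := by
  have h1 := graded_eq_pow 𝒜 hgen (n + m)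
  have h2 := graded_eq_pow 𝒜 hgen n
  have h3 := graded_eq_pow 𝒜 hgen m
  rw [h1, pow_add, ← h2, ← h3]

end Graded

section Multilinear

variable {A : Type*} [CommRing A]

theorem multilinear_span_induction {ι : Type*} [Fintype ι] [DecidableEq ι] {M N : Type*}
    [AddCommGroup M] [Module A M] [AddCommGroup N] [Module A N]
    (φ : MultilinearMap A (fun _ : ι => M) N) (S : ι → Set M) (P : Submodule A N)
    (h : ∀ x : ι → M, (∀ j, x j ∈ S j) → φ x ∈ P) (x : ι → M)
    (hx : ∀ j, x j ∈ Submodule.span A (S j)) : φ x ∈ P := by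
  suffices H : ∀ s : Finset ι, ∀ x : ι → M, (∀ j ∈ s, x j ∈ Submodule.span A (S j)) →
      (∀ j, j ∉ s → x j ∈ S j) → φ x ∈ P from
    H Finset.univ x (fun j _ => hx j) (fun j hj => absurd (Finset.mem_univ j) hj)
  intro s
  induction s using Finset.induction_on with
  | empty =>
    intro x _ hx2
    exact h x (fun j => hx2 j (Finset.notMem_empty j))
  | insert a s ha ih =>
    intro x hx1 hx2
    have key : ∀ y ∈ Submodule.span A (S a), φ (Function.update x a y) ∈ P := by
      intro y hy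
      induction hy using Submodule.span_induction with
      | mem y hy =>
        apply ih
        · intro j hj
          have hja : j ≠ a := fun h => ha (h ▸ hj)
          rw [Function.update_of_ne hja]
          exact hx1 j (Finset.mem_insert_of_mem hj)
        · intro j hj
          by_cases hja : j = a
          · subst hja
            rw [Function.update_self]
            exact hy
          · rw [Function.update_of_ne hja]
            apply hx2
            intro hmem
            rcases Finset.mem_insert.1 hmem with h' | h'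
            · exact hja h'
            · exact hj h'
      | zero =>
        rw [MultilinearMap.map_update_zero]
        exact zero_mem _
      | add y z _ _ hy hz =>
        rw [MultilinearMap.map_update_add]
        exact add_mem hy hz
      | smul r y _ hy =>
        rw [MultilinearMap.map_update_smul]
        exact Submodule.smul_mem _ r hy
    have := key (x a) (hx1 a (Finset.mem_insert_self a s))
    rwa [Function.update_eq_self] at this

end Multilinear

section Avoid

/-- avoiding finitely many "`p`-prime" submodules, if `R ⧸ p` has enough elements -/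
theorem exists_mem_forall_notMem {R M ι : Type*} [CommRing R] [AddCommGroup M] [Module R M]
    [DecidableEq ι] (N₀ : Submodule R M) (p : Ideal R) (n : ℕ) (e : Fin n ↪ R ⧸ p)
    (N : ι → Submodule R M) (s : Finset ι)
    (hprime : ∀ i ∈ s, ∀ (r : R) (x : M), x ∈ N₀ → r • x ∈ N i → r ∈ p ∨ x ∈ N i)
    (hN : ∀ i ∈ s, ∃ h ∈ N₀, h ∉ N i) (hs : s.card ≤ n) :
    ∃ g ∈ N₀, ∀ i ∈ s, g ∉ N i := by
  classical
  induction s using Finset.induction_on with
  | empty => exact ⟨0, N₀.zero_mem, fun i hi => absurd hi (Finset.notMem_empty i)⟩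
  | insert a s ha ih =>
    rw [Finset.card_insert_of_notMem ha] at hs
    obtain ⟨g', hg'N, hg'⟩ := ih (fun i hi => hprime i (Finset.mem_insert_of_mem hi))
      (fun i hi => hN i (Finset.mem_insert_of_mem hi)) (by omega)
    by_cases hgP : g' ∉ N a
    · refine ⟨g', hg'N, fun i hi => ?_⟩
      rcases Finset.mem_insert.1 hi with rfl | hi
      · exact hgP
      · exact hg' i hi
    rw [not_not] at hgP
    obtain ⟨h, hhN, hhP⟩ := hN a (Finset.mem_insert_self a s)
    by_contra hcon
    have hcon' : ∀ g ∈ N₀, ∃ i ∈ insert a s, g ∈ N i := by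
      intro g hg
      by_contra h1
      apply hcon
      refine ⟨g, hg, fun i hi hgi => h1 ⟨i, hi, hgi⟩⟩
    have hrep : ∀ t : R ⧸ p, ∃ r : R, Ideal.Quotient.mk p r = t := Ideal.Quotient.mk_surjective
    choose rep hrepeq using hrep
    let φ : R ⧸ p → M := fun t => if t = 0 then h else g' + rep t • h
    have hφN : ∀ t, φ t ∈ N₀ := by
      intro t
      by_cases ht : t = 0
      · simp only [φ, ht, if_true]; exact hhN
      · simp only [φ, ht, if_false]
        exact N₀.add_mem hg'N (N₀.smul_mem _ hhN)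
    have hφP : ∀ t, φ t ∉ N a := by
      intro t
      by_cases ht : t = 0
      · simp only [φ, ht, if_true]; exact hhP
      · simp only [φ, ht, if_false]
        intro hmem
        have h1 : rep t • h ∈ N a := ((N a).add_mem_iff_right hgP).1 hmem
        rcases hprime a (Finset.mem_insert_self a s) (rep t) h hhN h1 with h2 | h2
        · rw [← Ideal.Quotient.eq_zero_iff_mem, hrepeq] at h2
          exact ht h2
        · exact hhP h2
    have hφs : ∀ t, ∃ i ∈ s, φ t ∈ N i := by
      intro t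
      obtain ⟨i, hi, hmem⟩ := hcon' (φ t) (hφN t)
      rcases Finset.mem_insert.1 hi with rfl | hi
      · exact absurd hmem (hφP t)
      · exact ⟨i, hi, hmem⟩
    choose c hc hcmem using hφs
    have hcard : s.card < (Finset.univ : Finset (Fin n)).card := by
      rw [Finset.card_univ, Fintype.card_fin]; omega
    obtain ⟨a', -, b', -, hab, hceq⟩ := Finset.exists_ne_map_eq_of_card_lt_of_maps_to hcard
      (f := fun a => c (e a)) (fun a _ => hc (e a))
    have hne : e a' ≠ e b' := fun h => hab (e.injective h)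
    have h1 := hcmem (e a')
    have h2 := hcmem (e b')
    replace hceq : c (e a') = c (e b') := hceq
    rw [hceq] at h1
    set q := c (e b') with hqdef
    have hqs : q ∈ s := hc (e b')
    have hgQ : g' ∈ N q := by
      by_cases ha0 : e a' = 0
      · have hb0 : e b' ≠ 0 := fun h => hne (ha0.trans h.symm)
        simp only [φ, ha0, if_true] at h1
        simp only [φ, hb0, if_false] at h2
        exact ((N q).add_mem_iff_left ((N q).smul_mem _ h1)).1 h2
      · by_cases hb0 : e b' = 0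
        · simp only [φ, ha0, if_false] at h1
          simp only [φ, hb0, if_true] at h2
          exact ((N q).add_mem_iff_left ((N q).smul_mem _ h2)).1 h1
        · simp only [φ, ha0, if_false] at h1
          simp only [φ, hb0, if_false] at h2
          have h3 : (rep (e a') - rep (e b')) • h ∈ N q := by
            have := (N q).sub_mem h1 h2
            rwa [add_sub_add_left_eq_sub, ← sub_smul] at this
          have h4 : h ∈ N q := by
            rcases hprime q (Finset.mem_insert_of_mem hqs) _ h hhN h3 with h5 | h5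
            · rw [← Ideal.Quotient.eq_zero_iff_mem, map_sub, hrepeq, hrepeq,
                sub_eq_zero] at h5
              exact absurd h5 hne
            · exact h5
          exact ((N q).add_mem_iff_left ((N q).smul_mem _ h4)).1 h1
    exact hg' q hqs hgQ

end Avoid

section Core

variable {A B : Type*} [CommRing A] [CommRing B] [Algebra A B] (𝒜 : ℕ → Submodule A B)
  [GradedAlgebra 𝒜] (d : ℕ) (𝔓 : Submodule A (⨂[A] _ : Fin d, B))

/-- the `i`-th "projection" of the prime `𝔓`, in degree `n` -/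
def Q (i : Fin d) (n : ℕ) : Submodule A B where
  carrier := {b₀ | b₀ ∈ 𝒜 n ∧ ∀ b : Fin d → B, (∀ j, b j ∈ 𝒜 n) →
    PiTensorProduct.tprod A (Function.update b i b₀) ∈ 𝔓}
  add_mem' := by
    rintro x y ⟨hx, hx'⟩ ⟨hy, hy'⟩
    refine ⟨add_mem hx hy, fun b hb => ?_⟩
    rw [MultilinearMap.map_update_add]
    exact add_mem (hx' b hb) (hy' b hb)
  zero_mem' := ⟨zero_mem _, fun b _ => by
    rw [MultilinearMap.map_update_zero]; exact zero_mem _⟩
  smul_mem' := by
    rintro a x ⟨hx, hx'⟩
    refine ⟨Submodule.smul_mem _ a hx, fun b hb => ?_⟩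
    rw [MultilinearMap.map_update_smul]
    exact Submodule.smul_mem _ a (hx' b hb)

variable {𝒜 d 𝔓}

omit [GradedAlgebra 𝒜] in
theorem mem_Q {i : Fin d} {n : ℕ} {b₀ : B} : b₀ ∈ Q 𝒜 d 𝔓 i n ↔ b₀ ∈ 𝒜 n ∧
    ∀ b : Fin d → B, (∀ j, b j ∈ 𝒜 n) → PiTensorProduct.tprod A (Function.update b i b₀) ∈ 𝔓 :=
  Iff.rfl

omit [GradedAlgebra 𝒜] in
theorem tprod_mem_of_entry {i : Fin d} {n : ℕ} (b : Fin d → B) (hb : ∀ j, b j ∈ 𝒜 n)
    (hi : b i ∈ Q 𝒜 d 𝔓 i n) : PiTensorProduct.tprod A b ∈ 𝔓 := by
  have := hi.2 b hb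
  rwa [Function.update_eq_self] at this

variable (hmul : ∀ (n m : ℕ) (b c : Fin d → B), (∀ i, b i ∈ 𝒜 n) → (∀ i, c i ∈ 𝒜 m) →
    PiTensorProduct.tprod A b ∈ 𝔓 → PiTensorProduct.tprod A (fun i => b i * c i) ∈ 𝔓)
  (hprime : ∀ (n m : ℕ) (b c : Fin d → B), (∀ i, b i ∈ 𝒜 n) → (∀ i, c i ∈ 𝒜 m) →
    PiTensorProduct.tprod A (fun i => b i * c i) ∈ 𝔓 →
      PiTensorProduct.tprod A b ∈ 𝔓 ∨ PiTensorProduct.tprod A c ∈ 𝔓)
  (hone : PiTensorProduct.tprod A (fun _ : Fin d => (1 : B)) ∉ 𝔓)

include hprime hone in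
theorem prod_notMem {κ : Type*} [DecidableEq κ] (s : Finset κ) (γ : κ → Fin d → B) (nn : κ → ℕ)
    (hγ : ∀ l ∈ s, ∀ j, γ l j ∈ 𝒜 (nn l))
    (hn : ∀ l ∈ s, PiTensorProduct.tprod A (γ l) ∉ 𝔓) :
    PiTensorProduct.tprod A (fun j => ∏ l ∈ s, γ l j) ∉ 𝔓 := by
  induction s using Finset.induction_on with
  | empty =>
    simp only [Finset.prod_empty]
    exact hone
  | insert a s ha ih =>
    intro hmem
    have e : (fun j => ∏ l ∈ insert a s, γ l j) = fun j => γ a j * ∏ l ∈ s, γ l j := by
      funext j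
      rw [Finset.prod_insert ha]
    rw [e] at hmem
    rcases hprime (nn a) (∑ l ∈ s, nn l) (γ a) (fun j => ∏ l ∈ s, γ l j)
      (hγ a (Finset.mem_insert_self a s))
      (fun j => SetLike.prod_mem_graded 𝒜 nn (fun l => γ l j)
        (fun l hl => hγ l (Finset.mem_insert_of_mem hl) j)) hmem with h | h
    · exact hn a (Finset.mem_insert_self a s) h
    · exact ih (fun l hl => hγ l (Finset.mem_insert_of_mem hl))
        (fun l hl => hn l (Finset.mem_insert_of_mem hl)) h

include hmul hprime hone in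
theorem exists_entry_mem {n : ℕ} (b : Fin d → B) (hb : ∀ j, b j ∈ 𝒜 n)
    (hmem : PiTensorProduct.tprod A b ∈ 𝔓) : ∃ i, b i ∈ Q 𝒜 d 𝔓 i n := by
  classical
  by_contra hcon
  have hex : ∀ i : Fin d, ∃ c : Fin d → B, (∀ j, c j ∈ 𝒜 n) ∧
      PiTensorProduct.tprod A (Function.update c i (b i)) ∉ 𝔓 := by
    intro i
    by_contra hcon2
    apply hcon
    refine ⟨i, hb i, fun c hc => ?_⟩
    by_contra hcon3
    exact hcon2 ⟨c, hc, hcon3⟩
  choose c hc hcn using hex
  have hγ : ∀ l ∈ (Finset.univ : Finset (Fin d)), ∀ j,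
      Function.update (c l) l (b l) j ∈ 𝒜 ((fun _ => n) l) := by
    intro l _ j
    by_cases hjl : j = l
    · subst hjl
      rw [Function.update_self]
      exact hb j
    · rw [Function.update_of_ne hjl]
      exact hc l j
  have h1 := prod_notMem hprime hone Finset.univ (fun l => Function.update (c l) l (b l))
    (fun _ => n) hγ (fun l _ => hcn l)
  apply h1
  have e : (fun j => ∏ l, Function.update (c l) l (b l) j) =
      fun j => b j * ∏ l ∈ Finset.univ.erase j, Function.update (c l) l (b l) j := by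
    funext j
    rw [← Finset.mul_prod_erase Finset.univ _ (Finset.mem_univ j), Function.update_self]
  rw [e]
  refine hmul n ((d - 1) * n) b _ hb (fun j => ?_) hmem
  have h2 := SetLike.prod_mem_graded (F := Finset.univ.erase j) 𝒜 (fun _ => n)
    (fun l => Function.update (c l) l (b l) j)
    (fun l _ => hγ l (Finset.mem_univ l) j)
  have e2 : ∑ _l ∈ Finset.univ.erase j, n = (d - 1) * n := by
    rw [Finset.sum_const, Finset.card_erase_of_mem (Finset.mem_univ j), Finset.card_univ,
      Fintype.card_fin, smul_eq_mul]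
  rwa [e2] at h2

include hone in
theorem h0 (i : Fin d) : (1 : B) ∉ Q 𝒜 d 𝔓 i 0 := by
  intro h
  apply hone
  have := h.2 (fun _ => 1) (fun _ => SetLike.GradedOne.one_mem)
  rwa [Function.update_eq_self] at this

include hmul in
theorem h1 (hgen : Algebra.adjoin A (𝒜 1 : Set B) = ⊤) (i : Fin d) (n m : ℕ) (b c : B)
    (hb : b ∈ Q 𝒜 d 𝔓 i n) (hc : c ∈ 𝒜 m) : b * c ∈ Q 𝒜 d 𝔓 i (n + m) := by
  classical
  refine ⟨SetLike.GradedMul.mul_mem hb.1 hc, fun β hβ => ?_⟩
  let S : Fin d → Set B := fun j => {x | ∃ u ∈ 𝒜 n, ∃ v ∈ 𝒜 m, x = u * v ∧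
    (j = i → u = b ∧ v = c)}
  refine multilinear_span_induction (PiTensorProduct.tprod A) S 𝔓 ?_ _ ?_
  · intro x hx
    choose u hu v hv hxuv huv using hx
    have e : x = fun j => u j * v j := funext hxuv
    rw [e]
    refine hmul n m u v hu hv ?_
    have : u = Function.update u i b := by
      rw [← (huv i rfl).1, Function.update_eq_self]
    rw [this]
    exact hb.2 u hu
  · intro j
    by_cases hji : j = i
    · subst hji
      rw [Function.update_self]
      exact Submodule.subset_span ⟨b, hb.1, c, hc, rfl, fun _ => ⟨rfl, rfl⟩⟩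
    · rw [Function.update_of_ne hji]
      have h1 : β j ∈ 𝒜 n * 𝒜 m := by
        rw [← graded_add 𝒜 hgen]
        exact hβ j
      rw [Submodule.mul_eq_span_mul_set] at h1
      refine Submodule.span_mono ?_ h1
      rintro _ ⟨u, hu, v, hv, rfl⟩
      exact ⟨u, hu, v, hv, rfl, fun h => absurd h hji⟩

include hprime in
theorem h2 (i : Fin d) (n m : ℕ) (b c : B) (hb : b ∈ 𝒜 n) (hc : c ∈ 𝒜 m)
    (hbc : b * c ∈ Q 𝒜 d 𝔓 i (n + m)) : b ∈ Q 𝒜 d 𝔓 i n ∨ c ∈ Q 𝒜 d 𝔓 i m := by
  classical
  by_contra hcon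
  have hb' : b ∉ Q 𝒜 d 𝔓 i n := fun h => hcon (Or.inl h)
  have hc' : c ∉ Q 𝒜 d 𝔓 i m := fun h => hcon (Or.inr h)
  have hexb : ∃ β : Fin d → B, (∀ j, β j ∈ 𝒜 n) ∧
      PiTensorProduct.tprod A (Function.update β i b) ∉ 𝔓 := by
    by_contra h
    apply hb'
    refine ⟨hb, fun β hβ => ?_⟩
    by_contra h'
    exact h ⟨β, hβ, h'⟩
  have hexc : ∃ γ : Fin d → B, (∀ j, γ j ∈ 𝒜 m) ∧
      PiTensorProduct.tprod A (Function.update γ i c) ∉ 𝔓 := by
    by_contra h
    apply hc'
    refine ⟨hc, fun γ hγ => ?_⟩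
    by_contra h'
    exact h ⟨γ, hγ, h'⟩
  obtain ⟨β, hβ, hβn⟩ := hexb
  obtain ⟨γ, hγ, hγn⟩ := hexc
  have hmem := hbc.2 (fun j => β j * γ j) (fun j => SetLike.GradedMul.mul_mem (hβ j) (hγ j))
  have e : Function.update (fun j => β j * γ j) i (b * c) =
      fun j => Function.update β i b j * Function.update γ i c j := by
    funext j
    by_cases hji : j = i
    · subst hji
      rw [Function.update_self, Function.update_self, Function.update_self]
    · rw [Function.update_of_ne hji, Function.update_of_ne hji, Function.update_of_ne hji]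
  rw [e] at hmem
  have hβ' : ∀ j, Function.update β i b j ∈ 𝒜 n := by
    intro j
    by_cases hji : j = i
    · subst hji; rw [Function.update_self]; exact hb
    · rw [Function.update_of_ne hji]; exact hβ j
  have hγ' : ∀ j, Function.update γ i c j ∈ 𝒜 m := by
    intro j
    by_cases hji : j = i
    · subst hji; rw [Function.update_self]; exact hc
    · rw [Function.update_of_ne hji]; exact hγ j
  rcases hprime n m _ _ hβ' hγ' hmem with h | h
  · exact hβn h
  · exact hγn h

include hmul hprime hone in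
/-- a prime of the Segre product containing all `f ⊗ ⋯ ⊗ f` contains the irrelevant ideal -/
theorem core1 (hgen : Algebra.adjoin A (𝒜 1 : Set B) = ⊤)
    (hdiag : ∀ n, 0 < n → ∀ f ∈ 𝒜 n, PiTensorProduct.tprod A (fun _ : Fin d => f) ∈ 𝔓)
    (n : ℕ) (hn : 0 < n) (b : Fin d → B) (hb : ∀ i, b i ∈ 𝒜 n) :
    PiTensorProduct.tprod A b ∈ 𝔓 := by
  classical
  obtain ⟨i, -, hi⟩ := GPA.main 𝒜 (Q 𝒜 d 𝔓) (h0 hone) (h1 hmul hgen) (h2 hprime) Finset.univ
    (fun n hn f hf => by
      obtain ⟨i, hi⟩ := exists_entry_mem hmul hprime hone (fun _ => f) (fun _ => hf)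
        (hdiag n hn f hf)
      exact ⟨i, Finset.mem_univ i, hi⟩)
  exact tprod_mem_of_entry b hb (hi n hn (hb i))

include hmul in
/-- if the degree one part of some projection is everything, all positive degree pure tensors
lie in `𝔓` -/
theorem of_degOne_le (hgen : Algebra.adjoin A (𝒜 1 : Set B) = ⊤) (i : Fin d)
    (hi : 𝒜 1 ≤ Q 𝒜 d 𝔓 i 1)
    (n : ℕ) (hn : 0 < n) (b : Fin d → B) (hb : ∀ i, b i ∈ 𝒜 n) :
    PiTensorProduct.tprod A b ∈ 𝔓 := by
  have hall : ∀ m, 𝒜 (1 + m) ≤ Q 𝒜 d 𝔓 i (1 + m) := by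
    intro m
    rw [graded_add 𝒜 hgen 1 m, Submodule.mul_le]
    intro u hu v hv
    exact h1 hmul hgen i 1 m u v (hi hu) hv
  obtain ⟨m, rfl⟩ := Nat.exists_eq_succ_of_ne_zero hn.ne'
  have hb' : ∀ j, b j ∈ 𝒜 (1 + m) := by
    intro j
    rw [Nat.add_comm]
    exact hb j
  exact tprod_mem_of_entry b hb' (hall m (hb' i))

include hmul hprime hone in
/-- the degree one version, when the residue field is large enough -/
theorem core2 (hgen : Algebra.adjoin A (𝒜 1 : Set B) = ⊤) (p : Ideal A)
    (hp : ∀ a : A, a • PiTensorProduct.tprod A (fun _ : Fin d => (1 : B)) ∈ 𝔓 → a ∈ p)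
    (e : Fin d ↪ A ⧸ p)
    (hdiag : ∀ f ∈ 𝒜 1, PiTensorProduct.tprod A (fun _ : Fin d => f) ∈ 𝔓)
    (n : ℕ) (hn : 0 < n) (b : Fin d → B) (hb : ∀ i, b i ∈ 𝒜 n) :
    PiTensorProduct.tprod A b ∈ 𝔓 := by
  classical
  have hcover : ∀ f ∈ 𝒜 1, ∃ i, f ∈ Q 𝒜 d 𝔓 i 1 := fun f hf =>
    exists_entry_mem hmul hprime hone (fun _ => f) (fun _ => hf) (hdiag f hf)
  have hprime' : ∀ i ∈ (Finset.univ : Finset (Fin d)), ∀ (r : A) (x : B), x ∈ 𝒜 1 →
      r • x ∈ Q 𝒜 d 𝔓 i 1 → r ∈ p ∨ x ∈ Q 𝒜 d 𝔓 i 1 := by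
    intro i _ r x hx hrx
    have hr0 : algebraMap A B r ∈ 𝒜 0 := SetLike.algebraMap_mem_graded 𝒜 r
    have hrx' : algebraMap A B r * x ∈ Q 𝒜 d 𝔓 i (0 + 1) := by
      rw [zero_add, ← Algebra.smul_def]; exact hrx
    rcases h2 hprime i 0 1 (algebraMap A B r) x hr0 hx hrx' with h | h
    · left
      apply hp
      have := h.2 (fun _ => 1) (fun _ => SetLike.GradedOne.one_mem)
      rw [Algebra.algebraMap_eq_smul_one, MultilinearMap.map_update_smul,
        Function.update_eq_self] at this
      exact this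
    · exact Or.inr h
  have hex : ∃ i, 𝒜 1 ≤ Q 𝒜 d 𝔓 i 1 := by
    by_contra hcon
    have hN : ∀ i ∈ (Finset.univ : Finset (Fin d)), ∃ h ∈ 𝒜 1, h ∉ Q 𝒜 d 𝔓 i 1 := by
      intro i _
      by_contra h
      apply hcon
      refine ⟨i, fun x hx => ?_⟩
      by_contra hx'
      exact h ⟨x, hx, hx'⟩
    obtain ⟨g, hg, hgn⟩ := exists_mem_forall_notMem (𝒜 1) p d e (fun i => Q 𝒜 d 𝔓 i 1)
      Finset.univ hprime' hN (by rw [Finset.card_univ, Fintype.card_fin])
    obtain ⟨i, hi⟩ := hcover g hg
    exact hgn i (Finset.mem_univ i) hi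
  obtain ⟨i, hi⟩ := hex
  have hall : ∀ m, 𝒜 (1 + m) ≤ Q 𝒜 d 𝔓 i (1 + m) := by
    intro m
    rw [graded_add 𝒜 hgen 1 m, Submodule.mul_le]
    intro u hu v hv
    exact h1 hmul hgen i 1 m u v (hi hu) hv
  obtain ⟨m, rfl⟩ := Nat.exists_eq_succ_of_ne_zero hn.ne'
  have hb' : ∀ j, b j ∈ 𝒜 (1 + m) := by
    intro j
    rw [Nat.add_comm]
    exact hb j
  exact tprod_mem_of_entry b hb' (hall m (hb' i))

end Core

end Groth.Agent.Lib.Helper59.SegreCore
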