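import Groth.Agent.Lib.Helper59.LawDescend
import Groth.Agent.Lib.Helper59.SegreCore

/-!
# The determinant law of a finite module over a normal domain
-/

set_option autoImplicit false
set_option linter.unusedSectionVars false

namespace Groth.Agent.Lib.Helper59.DetNormal

open scoped TensorProduct
open PolLaw

universe u

section NAT

variable {A : Type u} [CommRing A] {B : Type u} [CommRing B] [Algebra A B] (M : Type u)
  [AddCommGroup M] [Module A M] [Module B M] [IsScalarTower A B M]

/-- naturality of the determinant of the action, when the source module is free -/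
theorem det_actEnd_map {S' S'' : Type u} [CommRing S'] [Algebra A S'] [CommRing S'']
    [Algebra A S''] (ψ : S' →ₐ[A] S'') [Module.Free S' (S' ⊗[A] M)]
    [Module.Finite S' (S' ⊗[A] M)] (z : S' ⊗[A] B) :
    LinearMap.det (actEnd M S'' (Algebra.TensorProduct.map ψ (AlgHom.id A B) z)) =
      ψ (LinearMap.det (actEnd M S' z)) := by
  let : Algebra S' S'' := ψ.toRingHom.toAlgebra
  have hst : IsScalarTower A S' S'' := IsScalarTower.of_algebraMap_eq (fun a => (ψ.commutes a).symm)
  let e : S'' ⊗[S'] (S' ⊗[A] M) ≃ₗ[S''] S'' ⊗[A] M :=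
    TensorProduct.AlgebraTensorModule.cancelBaseChange A S' S'' S'' M
  have he : ∀ (s'' : S'') (n' : S' ⊗[A] M),
      e (s'' ⊗ₜ n') = s'' • ψ.toLinearMap.rTensor M n' := by
    intro s'' n'
    induction n' using TensorProduct.induction_on with
    | zero => simp
    | tmul s' m =>
      rw [TensorProduct.AlgebraTensorModule.cancelBaseChange_tmul, LinearMap.rTensor_tmul,
        TensorProduct.smul_tmul', AlgHom.toLinearMap_apply, Algebra.smul_def, smul_eq_mul,
        mul_comm]
      rfl
    | add x y hx hy => rw [TensorProduct.tmul_add, map_add, map_add, smul_add, hx, hy]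
  have hconj : (e : _ →ₗ[S''] _) ∘ₗ ((actEnd M S' z).baseChange S'') ∘ₗ
      (e.symm : _ →ₗ[S''] _) =
      actEnd M S'' (Algebra.TensorProduct.map ψ (AlgHom.id A B) z) := by
    apply LinearMap.ext
    intro w
    obtain ⟨w', rfl⟩ := e.surjective w
    simp only [LinearMap.comp_apply, LinearEquiv.coe_coe, LinearEquiv.symm_apply_apply]
    induction w' using TensorProduct.induction_on with
    | zero => simp
    | tmul s'' n' =>
      rw [LinearMap.baseChange_tmul, he, he, rTensor_actEnd, map_smul]
    | add x y hx hy => simp only [map_add, hx, hy]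
  rw [← hconj, LinearMap.det_conj, LinearMap.det_baseChange]
  rfl

theorem detAct_map' {S' S'' : Type u} [CommRing S'] [Algebra A S'] [CommRing S'']
    [Algebra A S''] (ψ : S' →ₐ[A] S'') [Module.Free S' (S' ⊗[A] M)]
    [Module.Finite S' (S' ⊗[A] M)] (z : S' ⊗[A] B) :
    detAct M S'' (Algebra.TensorProduct.map ψ (AlgHom.id A B) z) = ψ (detAct M S' z) :=
  det_actEnd_map M ψ z

/-- freeness of `S' ⊗ M` for a test ring under the fraction field -/
theorem free_of_algHom {K : Type u} [Field K] [Algebra A K] [Module.Finite A M]
    {S' : Type u} [CommRing S'] [Algebra A S'] (κ : K →ₐ[A] S') :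
    Module.Free S' (S' ⊗[A] M) := by
  let : Algebra K S' := κ.toRingHom.toAlgebra
  have hst : IsScalarTower A K S' := IsScalarTower.of_algebraMap_eq (fun a => (κ.commutes a).symm)
  exact Module.Free.of_equiv (TensorProduct.AlgebraTensorModule.cancelBaseChange A K S' S' M)

theorem finrank_of_algHom {K : Type u} [Field K] [Algebra A K] [Module.Finite A M]
    {S' : Type u} [Field S'] [Algebra A S'] (κ : K →ₐ[A] S') :
    Module.finrank S' (S' ⊗[A] M) = Module.finrank K (K ⊗[A] M) := by
  let : Algebra K S' := κ.toRingHom.toAlgebra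
  have hst : IsScalarTower A K S' := IsScalarTower.of_algebraMap_eq (fun a => (κ.commutes a).symm)
  rw [← LinearEquiv.finrank_eq
    (TensorProduct.AlgebraTensorModule.cancelBaseChange A K S' S' M)]
  exact Module.finrank_baseChange

end NAT

section Frac

variable {A : Type u} [CommRing A] [IsDomain A] (P : Type u) [CommRing P] [IsDomain P]
  [Algebra A P] (hinj : Function.Injective (algebraMap A P))

/-- the fraction field of `A` inside the fraction field of `P` -/
noncomputable def kap : FractionRing A →ₐ[A] FractionRing P :=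
  IsFractionRing.liftAlgHom (g := Algebra.ofId A (FractionRing P)) (by
    intro a b hab
    apply hinj
    apply IsFractionRing.injective P (FractionRing P)
    rw [← IsScalarTower.algebraMap_apply, ← IsScalarTower.algebraMap_apply]
    exact hab)

/-- `P ⊗ K → L` -/
noncomputable def jj : P ⊗[A] FractionRing A →ₐ[A] FractionRing P :=
  Algebra.TensorProduct.lift (IsScalarTower.toAlgHom A P (FractionRing P)) (kap P hinj)
    (fun _ _ => Commute.all _ _)

theorem jj_tmul (p : P) (k : FractionRing A) :
    jj P hinj (p ⊗ₜ k) = algebraMap P (FractionRing P) p * kap P hinj k := by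
  rw [jj, Algebra.TensorProduct.lift_tmul]
  rfl

theorem jj_includeLeft (p : P) : jj P hinj (p ⊗ₜ 1) = algebraMap P (FractionRing P) p := by
  rw [jj_tmul, map_one, mul_one]

theorem jj_injective : Function.Injective (jj P hinj) := by
  rw [injective_iff_map_eq_zero]
  intro z hz
  have hloc : IsLocalization (Algebra.algebraMapSubmonoid P (nonZeroDivisors A))
      (P ⊗[A] FractionRing A) := IsLocalization.tensor (FractionRing A) (nonZeroDivisors A)
  obtain ⟨⟨p, s⟩, hps⟩ := IsLocalization.surj (Algebra.algebraMapSubmonoid P (nonZeroDivisors A)) z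
  have hu : IsUnit (algebraMap P (P ⊗[A] FractionRing A) s) :=
    IsLocalization.map_units (P ⊗[A] FractionRing A) s
  have h1 := congrArg (jj P hinj) hps
  simp only [map_mul, hz, zero_mul] at h1
  have h2 : jj P hinj (algebraMap P (P ⊗[A] FractionRing A) p) =
      algebraMap P (FractionRing P) p := jj_includeLeft P hinj p
  rw [h2] at h1
  have hp : p = 0 := by
    apply IsFractionRing.injective P (FractionRing P)
    rw [map_zero]; exact h1.symm
  rw [hp, map_zero] at hps
  exact (hu.mul_left_eq_zero).1 hps

end Frac

section Lattice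

/-- the determinant of an endomorphism of a finite dimensional vector space that stabilises the
lattice generated by a finite spanning family is integral -/
theorem isIntegral_det_of_lattice {R : Type*} [CommRing R] {L : Type*} [Field L]
    [Algebra R L] {W : Type*} [AddCommGroup W] [Module L W] [Module R W] [IsScalarTower R L W]
    [Module.Finite L W] (F : W →ₗ[L] W) (r : ℕ) (g : Fin r → W)
    (hspan : Submodule.span L (Set.range g) = ⊤)
    (hstab : ∀ k, F (g k) ∈ Submodule.span R (Set.range g)) :
    IsIntegral R (LinearMap.det F) := by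
  classical
  let d := Module.finrank L W
  let c : Module.Basis (Fin d) L W := Module.finBasis L W
  let φL : MultilinearMap L (fun _ : Fin d => W) L := c.det
  let φR : MultilinearMap R (fun _ : Fin d => W) L := φL.restrictScalars R
  let I : Submodule R L := Submodule.span R (Set.range fun σ : Fin d → Fin r => c.det (g ∘ σ))
  have key1 : ∀ v : Fin d → W, (∀ i, v i ∈ Submodule.span R (Set.range g)) → c.det v ∈ I := by
    intro v hv
    refine SegreCore.multilinear_span_induction φR (fun _ => Set.range g) I ?_ v hv
    intro x hx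
    choose σ hσ using hx
    have : x = g ∘ σ := funext fun j => (hσ j).symm
    rw [this]
    exact Submodule.subset_span ⟨σ, rfl⟩
  have hstabI : ∀ n ∈ I, LinearMap.det F • n ∈ I := by
    intro n hn
    induction hn using Submodule.span_induction with
    | mem t ht =>
      obtain ⟨σ, rfl⟩ := ht
      rw [smul_eq_mul, ← Module.Basis.det_comp]
      apply key1
      intro i
      exact hstab (σ i)
    | zero => rw [smul_zero]; exact I.zero_mem
    | add x y _ _ hx hy => rw [smul_add]; exact I.add_mem hx hy
    | smul a x _ hx => rw [smul_comm]; exact I.smul_mem a hx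
  have hI : I ≠ ⊥ := by
    intro h0
    have hall : ∀ v : Fin d → W, c.det v ∈ (⊥ : Submodule L L) := by
      intro v
      refine SegreCore.multilinear_span_induction φL (fun _ => Set.range g) ⊥ ?_ v ?_
      · intro x hx
        choose σ hσ using hx
        have : x = g ∘ σ := funext fun j => (hσ j).symm
        rw [this, Submodule.mem_bot]
        have hmem : c.det (g ∘ σ) ∈ I := Submodule.subset_span ⟨σ, rfl⟩
        rw [h0, Submodule.mem_bot] at hmem
        exact hmem
      · intro j
        rw [hspan]
        trivial
    have := hall c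
    rw [Submodule.mem_bot, Module.Basis.det_self] at this
    exact one_ne_zero this
  exact isIntegral_of_smul_mem_submodule I hI (Submodule.fg_span (Set.finite_range _))
    (LinearMap.det F) hstabI

end Lattice

section Dn

variable {A : Type u} [CommRing A] [IsDomain A] {B : Type u} [CommRing B] [Algebra A B]
  (M : Type u) [AddCommGroup M] [Module A M] [Module B M] [IsScalarTower A B M]
  [Module.Finite A M]
  (P : Type u) [CommRing P] [IsDomain P] [Algebra A P]

/-- the generic determinant -/
noncomputable def Dn (x : P ⊗[A] B) : FractionRing P :=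
  LinearMap.det (actEnd M (FractionRing P)
    (Algebra.TensorProduct.map (IsScalarTower.toAlgHom A P (FractionRing P)) (AlgHom.id A B) x))

theorem Dn_one : Dn M P (1 : P ⊗[A] B) = 1 := by
  rw [Dn, map_one, map_one, map_one]

theorem Dn_mul (x y : P ⊗[A] B) : Dn M P (x * y) = Dn M P x * Dn M P y := by
  rw [Dn, map_mul, map_mul, map_mul]
  rfl

omit [IsDomain A] [IsDomain P] in
theorem map_smul' (s : P) (x : P ⊗[A] B) :
    Algebra.TensorProduct.map (IsScalarTower.toAlgHom A P (FractionRing P)) (AlgHom.id A B)
      (s • x) = algebraMap P (FractionRing P) s •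
        Algebra.TensorProduct.map (IsScalarTower.toAlgHom A P (FractionRing P))
          (AlgHom.id A B) x := by
  induction x using TensorProduct.induction_on with
  | zero => simp
  | tmul p b =>
    rw [TensorProduct.smul_tmul', Algebra.TensorProduct.map_tmul, Algebra.TensorProduct.map_tmul,
      TensorProduct.smul_tmul', smul_eq_mul, map_mul]
    rfl
  | add x y hx hy => rw [smul_add, map_add, hx, hy, map_add, smul_add]

theorem isIntegral_Dn (x : P ⊗[A] B) : IsIntegral P (Dn M P x) := by
  obtain ⟨r, m, hm⟩ := Module.Finite.exists_fin (R := A) (M := M)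
  let g : Fin r → FractionRing P ⊗[A] M := fun k => 1 ⊗ₜ m k
  have hmem : ∀ m' : M, m' ∈ Submodule.span A (Set.range m) := fun m' => hm ▸ Submodule.mem_top
  -- every `l ⊗ m'` with `l` in the image of `P` lies in the `P`-span
  have hP : ∀ (p : P) (m' : M), (algebraMap P (FractionRing P) p) ⊗ₜ[A] m' ∈
      Submodule.span P (Set.range g) := by
    intro p m'
    have := hmem m'
    induction this using Submodule.span_induction with
    | mem t ht =>
      obtain ⟨k, rfl⟩ := ht
      have e : (algebraMap P (FractionRing P) p) ⊗ₜ[A] m k = p • g k := by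
        change _ = p • ((1 : FractionRing P) ⊗ₜ[A] m k)
        rw [TensorProduct.smul_tmul', Algebra.smul_def, mul_one]
      rw [e]
      exact Submodule.smul_mem _ p (Submodule.subset_span ⟨k, rfl⟩)
    | zero => rw [TensorProduct.tmul_zero]; exact Submodule.zero_mem _
    | add y z _ _ hy hz => rw [TensorProduct.tmul_add]; exact Submodule.add_mem _ hy hz
    | smul a y _ hy =>
      rw [TensorProduct.tmul_smul]
      have e : a • ((algebraMap P (FractionRing P) p) ⊗ₜ[A] y) =
          (algebraMap A P a) • ((algebraMap P (FractionRing P) p) ⊗ₜ[A] y) := by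
        rw [algebraMap_smul]
      rw [e]
      exact Submodule.smul_mem _ _ hy
  have hrT : ∀ n₀ : P ⊗[A] M,
      (IsScalarTower.toAlgHom A P (FractionRing P)).toLinearMap.rTensor M n₀ ∈
        Submodule.span P (Set.range g) := by
    intro n₀
    induction n₀ using TensorProduct.induction_on with
    | zero => rw [map_zero]; exact Submodule.zero_mem _
    | tmul p m' => exact hP p m'
    | add y z hy hz => rw [map_add]; exact Submodule.add_mem _ hy hz
  have hL : ∀ m' : M, (1 : FractionRing P) ⊗ₜ[A] m' ∈
      Submodule.span (FractionRing P) (Set.range g) := by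
    intro m'
    have := hmem m'
    induction this using Submodule.span_induction with
    | mem t ht =>
      obtain ⟨k, rfl⟩ := ht
      exact Submodule.subset_span ⟨k, rfl⟩
    | zero => rw [TensorProduct.tmul_zero]; exact Submodule.zero_mem _
    | add y z _ _ hy hz => rw [TensorProduct.tmul_add]; exact Submodule.add_mem _ hy hz
    | smul a y _ hy =>
      rw [TensorProduct.tmul_smul]
      have e2 : a • ((1 : FractionRing P) ⊗ₜ[A] y) =
          (algebraMap A (FractionRing P) a) • ((1 : FractionRing P) ⊗ₜ[A] y) := by
        rw [algebraMap_smul]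
      rw [e2]
      exact Submodule.smul_mem _ _ hy
  refine isIntegral_det_of_lattice (R := P) _ r g ?_ ?_
  · rw [eq_top_iff]
    rintro w -
    induction w using TensorProduct.induction_on with
    | zero => exact Submodule.zero_mem _
    | tmul l m' =>
      have e : l ⊗ₜ[A] m' = l • ((1 : FractionRing P) ⊗ₜ[A] m') := by
        rw [TensorProduct.smul_tmul', smul_eq_mul, mul_one]
      rw [e]
      exact Submodule.smul_mem _ l (hL m')
    | add y z hy hz => exact Submodule.add_mem _ hy hz
  · intro k
    have h1 := rTensor_actEnd M (IsScalarTower.toAlgHom A P (FractionRing P)) x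
      ((1 : P) ⊗ₜ[A] m k)
    rw [LinearMap.rTensor_tmul, AlgHom.toLinearMap_apply, map_one] at h1
    change actEnd M (FractionRing P) _ ((1 : FractionRing P) ⊗ₜ[A] m k) ∈ _
    rw [← h1]
    exact hrT _

variable (hinj : Function.Injective (algebraMap A P))

/-- the determinant over `P ⊗ K` -/
noncomputable def En (x : P ⊗[A] B) : P ⊗[A] FractionRing A :=
  detAct M (P ⊗[A] FractionRing A)
    (Algebra.TensorProduct.map
      (Algebra.TensorProduct.includeLeft : P →ₐ[A] P ⊗[A] FractionRing A) (AlgHom.id A B) x)

theorem jj_En (x : P ⊗[A] B) : jj P hinj (En M P x) = Dn M P x := by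
  have hfree : Module.Free (P ⊗[A] FractionRing A) ((P ⊗[A] FractionRing A) ⊗[A] M) :=
    free_of_algHom M (Algebra.TensorProduct.includeRight : FractionRing A →ₐ[A] _)
  have hcomp : (jj P hinj).comp
      (Algebra.TensorProduct.includeLeft : P →ₐ[A] P ⊗[A] FractionRing A) =
      IsScalarTower.toAlgHom A P (FractionRing P) := AlgHom.ext (jj_includeLeft P hinj)
  rw [En, ← detAct_map' M (jj P hinj), ← AlgHom.comp_apply,
    ← Algebra.TensorProduct.map_comp, hcomp, AlgHom.comp_id]
  rfl

theorem En_map {P' : Type u} [CommRing P'] [IsDomain P'] [Algebra A P'] (φ : P →ₐ[A] P')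
    (x : P ⊗[A] B) :
    Algebra.TensorProduct.map φ (AlgHom.id A (FractionRing A)) (En M P x) =
      En M P' (Algebra.TensorProduct.map φ (AlgHom.id A B) x) := by
  have hfree : Module.Free (P ⊗[A] FractionRing A) ((P ⊗[A] FractionRing A) ⊗[A] M) :=
    free_of_algHom M (Algebra.TensorProduct.includeRight : FractionRing A →ₐ[A] _)
  rw [En, ← detAct_map' M (Algebra.TensorProduct.map φ (AlgHom.id A (FractionRing A))), En,
    ← AlgHom.comp_apply, ← Algebra.TensorProduct.map_comp, ← AlgHom.comp_apply,
    ← Algebra.TensorProduct.map_comp]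
  congr 3

variable [IsIntegrallyClosed P]

theorem exists_Tn (x : P ⊗[A] B) : ∃ t : P, algebraMap P (FractionRing P) t = Dn M P x :=
  IsIntegrallyClosed.isIntegral_iff.1 (isIntegral_Dn M P x)

/-- the determinant, as an element of `P` -/
noncomputable def Tn (x : P ⊗[A] B) : P := (exists_Tn M P x).choose

theorem Tn_spec (x : P ⊗[A] B) : algebraMap P (FractionRing P) (Tn M P x) = Dn M P x :=
  (exists_Tn M P x).choose_spec

include hinj in
theorem En_eq (x : P ⊗[A] B) : En M P x = Tn M P x ⊗ₜ 1 := by
  apply jj_injective P hinj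
  rw [jj_En, jj_includeLeft, Tn_spec]

include hinj in
theorem Tn_map {P' : Type u} [CommRing P'] [IsDomain P'] [Algebra A P'] [IsIntegrallyClosed P']
    (hinj' : Function.Injective (algebraMap A P')) (φ : P →ₐ[A] P') (x : P ⊗[A] B) :
    φ (Tn M P x) = Tn M P' (Algebra.TensorProduct.map φ (AlgHom.id A B) x) := by
  apply IsFractionRing.injective P' (FractionRing P')
  have h1 := En_map M P φ x
  rw [En_eq M P hinj, En_eq M P' hinj', Algebra.TensorProduct.map_tmul, map_one] at h1
  have h2 := congrArg (jj P' hinj') h1
  rwa [jj_includeLeft, jj_includeLeft] at h2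

theorem Tn_one : Tn M P (1 : P ⊗[A] B) = 1 := by
  apply IsFractionRing.injective P (FractionRing P)
  rw [Tn_spec, Dn_one, map_one]

theorem Tn_mul (x y : P ⊗[A] B) : Tn M P (x * y) = Tn M P x * Tn M P y := by
  apply IsFractionRing.injective P (FractionRing P)
  rw [Tn_spec, Dn_mul, map_mul, Tn_spec, Tn_spec]

include hinj in
theorem Tn_smul (d : ℕ) (hd : Module.finrank (FractionRing A) (FractionRing A ⊗[A] M) = d)
    (s : P) (x : P ⊗[A] B) : Tn M P (s • x) = s ^ d * Tn M P x := by
  apply IsFractionRing.injective P (FractionRing P)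
  rw [Tn_spec, map_mul, map_pow, Tn_spec, Dn, map_smul', map_smul, LinearMap.det_smul,
    finrank_of_algHom M (kap P hinj), hd]
  rfl

end Dn

section Main

open Groth.Agent.Lib.Helper98.PolyLawRestrict

variable {A : Type u} [CommRing A] [IsDomain A] [IsIntegrallyClosed A] {B : Type u} [CommRing B]
  [Algebra A B] (M : Type u) [AddCommGroup M] [Module A M] [Module B M] [IsScalarTower A B M]
  [Module.Finite A M]

theorem isIntegrallyClosed_mvPolynomial (n : ℕ) :
    IsIntegrallyClosed (MvPolynomial (Fin n) A) := by
  induction n with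
  | zero =>
    exact IsIntegrallyClosed.of_equiv (MvPolynomial.isEmptyAlgEquiv A (Fin 0)).symm.toRingEquiv
  | succ n ih =>
    have := ih
    exact IsIntegrallyClosed.of_equiv (MvPolynomial.finSuccEquiv A n).symm.toRingEquiv

theorem hinjP (n : ℕ) : Function.Injective (algebraMap A (MvPolynomial (Fin n) A)) :=
  MvPolynomial.C_injective (Fin n) A

/-- the family on polynomial rings -/
noncomputable def TT (n : ℕ) (x : MvPolynomial (Fin n) A ⊗[A] B) : MvPolynomial (Fin n) A ⊗[A] A :=
  have := isIntegrallyClosed_mvPolynomial (A := A) n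
  Tn M (MvPolynomial (Fin n) A) x ⊗ₜ[A] (1 : A)

theorem TT_compat : Compat (A := A) (M := B) (N := A) (TT (A := A) (B := B) M) := by
  intro n m φ
  funext x
  have := isIntegrallyClosed_mvPolynomial (A := A) n
  have := isIntegrallyClosed_mvPolynomial (A := A) m
  simp only [Function.comp_apply, TT]
  rw [LinearMap.rTensor_tmul, AlgHom.toLinearMap_apply, rTensor_algHom_apply,
    Tn_map M (MvPolynomial (Fin n) A) (hinjP n) (hinjP m) φ x]

theorem TT_one (n : ℕ) : TT (A := A) (B := B) M n 1 = 1 := by
  have := isIntegrallyClosed_mvPolynomial (A := A) n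
  simp only [TT]
  rw [Tn_one]
  rfl

theorem TT_mul (n : ℕ) (p q : MvPolynomial (Fin n) A ⊗[A] B) :
    TT M n (p * q) = TT M n p * TT M n q := by
  have := isIntegrallyClosed_mvPolynomial (A := A) n
  simp only [TT]
  rw [Tn_mul, Algebra.TensorProduct.tmul_mul_tmul, mul_one]

theorem TT_smul (d : ℕ) (hd : Module.finrank (FractionRing A) (FractionRing A ⊗[A] M) = d)
    (n : ℕ) (s : MvPolynomial (Fin n) A) (p : MvPolynomial (Fin n) A ⊗[A] B) :
    TT M n (s • p) = s ^ d • TT M n p := by
  have := isIntegrallyClosed_mvPolynomial (A := A) n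
  simp only [TT]
  rw [Tn_smul M (MvPolynomial (Fin n) A) (hinjP n) d hd, TensorProduct.smul_tmul', smul_eq_mul]

set_option maxHeartbeats 2000000 in
/-- the determinant law -/
noncomputable def detLawN (d : ℕ)
    (hd : Module.finrank (FractionRing A) (FractionRing A ⊗[A] M) = d) : MulLaw A B A d :=
  LawDescend.mulLawOf (A := A) (M := B) (N := A) (T := TT (A := A) (B := B) M)
    (TT_compat M) d (TT_one M) (TT_mul M) (TT_smul M d hd)

theorem detLawN_spec (d : ℕ)
    (hd : Module.finrank (FractionRing A) (FractionRing A ⊗[A] M) = d) (n : ℕ)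
    (x : MvPolynomial (Fin n) A ⊗[A] B) :
    algebraMap (MvPolynomial (Fin n) A) (FractionRing (MvPolynomial (Fin n) A))
        (TensorProduct.rid A (MvPolynomial (Fin n) A)
          ((detLawN (B := B) M d hd).law.toFun' (MvPolynomial (Fin n) A) x)) =
      Dn M (MvPolynomial (Fin n) A) x := by
  have := isIntegrallyClosed_mvPolynomial (A := A) n
  have h1 : (detLawN (B := B) M d hd).law.toFun' (MvPolynomial (Fin n) A) = TT M n :=
    lawOf_toFun' (TT_compat M) n
  rw [h1, TT, TensorProduct.rid_tmul, one_smul, Tn_spec]

theorem main (d : ℕ) (hd : Module.finrank (FractionRing A) (FractionRing A ⊗[A] M) = d) :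
    ∃! N : PolLaw.MulLaw A B A d, ∀ (n : ℕ) (x : MvPolynomial (Fin n) A ⊗[A] B),
      algebraMap (MvPolynomial (Fin n) A) (FractionRing (MvPolynomial (Fin n) A))
          (TensorProduct.rid A (MvPolynomial (Fin n) A)
            (N.law.toFun' (MvPolynomial (Fin n) A) x)) =
        LinearMap.det (PolLaw.actEnd M (FractionRing (MvPolynomial (Fin n) A))
          (Algebra.TensorProduct.map
            (IsScalarTower.toAlgHom A (MvPolynomial (Fin n) A)
              (FractionRing (MvPolynomial (Fin n) A)))
            (AlgHom.id A B) x)) := by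
  refine ⟨detLawN (B := B) M d hd, fun n x => detLawN_spec M d hd n x, ?_⟩
  intro N' hN'
  apply MulLaw.ext
  apply law_ext
  intro n
  funext x
  apply (TensorProduct.rid A (MvPolynomial (Fin n) A)).injective
  apply IsFractionRing.injective (MvPolynomial (Fin n) A)
    (FractionRing (MvPolynomial (Fin n) A))
  rw [hN' n x, detLawN_spec M d hd n x]
  rfl

end Main

end Groth.Agent.Lib.Helper59.DetNormal
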