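import Groth.Prelude.Def_PolLaw2
import Mathlib

/-!
# Multiplicative polynomial laws `B → A` from a natural family of multiplicative maps on ring
test algebras

`RingFam A B` : a family `D R : R ⊗[A] B → R` for commutative RING test algebras `R`, natural,
unital and multiplicative.  `RingFam.law` is the polynomial law with members `D S x ⊗ 1` over ring
test algebras (`law_toFun'_ring`); it is multiplicative (`law_isMult`) and homogeneous of degree
`d` if every `D R` is (`law_isHomog`).  Same construction as the prelude's `PolLaw.detFun`.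
Also: `isMult`-laws to `A` are determined by their members over LOCAL ring test algebras
(`ext_of_local`).
-/

set_option autoImplicit false

namespace Groth.Agent.Lib.Helper59.RingFamLaw

open scoped TensorProduct
open PolLaw

universe u

/-- A natural family of unital multiplicative maps `R ⊗[A] B → R` over ring test algebras. -/
structure RingFam (A B : Type u) [CommRing A] [CommRing B] [Algebra A B] where
  D : ∀ (R : Type u) [CommRing R] [Algebra A R], R ⊗[A] B → R
  one : ∀ (R : Type u) [CommRing R] [Algebra A R], D R 1 = 1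
  mul : ∀ (R : Type u) [CommRing R] [Algebra A R] (x y : R ⊗[A] B), D R (x * y) = D R x * D R y
  map : ∀ {R R' : Type u} [CommRing R] [Algebra A R] [CommRing R'] [Algebra A R'] (ψ : R →ₐ[A] R')
    (x : R ⊗[A] B), D R' (Algebra.TensorProduct.map ψ (AlgHom.id A B) x) = ψ (D R x)

namespace RingFam

variable {A B : Type u} [CommRing A] [CommRing B] [Algebra A B] (F : RingFam A B)

/-- the member of the law over a semiring test algebra -/
noncomputable def fn (S : Type u) [CommSemiring S] [Algebra A S] (x : S ⊗[A] B) : S ⊗[A] A :=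
  (Algebra.TensorProduct.lid A S (F.D (A ⊗[A] S) (toRing A B S x))) ⊗ₜ[A] (1 : A)

theorem fn_one (S : Type u) [CommSemiring S] [Algebra A S] : F.fn S 1 = 1 := by
  have h : toRing A B S 1 = 1 := by
    first
      | exact map_one (toRing A B S)
      | simp [Algebra.TensorProduct.one_def, Algebra.TensorProduct.map_tmul,
          Algebra.TensorProduct.lid_symm_apply]
  have h1 : Algebra.TensorProduct.lid A S 1 = 1 := map_one (Algebra.TensorProduct.lid A S)
  unfold fn
  rw [h, F.one, h1]
  rfl

theorem fn_mul (S : Type u) [CommSemiring S] [Algebra A S] (x y : S ⊗[A] B) :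
    F.fn S (x * y) = F.fn S x * F.fn S y := by
  simp [fn, F.mul, Algebra.TensorProduct.tmul_mul_tmul]

theorem fn_compat {S S' : Type u} [CommSemiring S] [Algebra A S] [CommSemiring S'] [Algebra A S']
    (φ : S →ₐ[A] S') (x : S ⊗[A] B) :
    φ.toLinearMap.rTensor A (F.fn S x) = F.fn S' (φ.toLinearMap.rTensor B x) := by
  let ψ : A ⊗[A] S →ₐ[A] A ⊗[A] S' := Algebra.TensorProduct.map (AlgHom.id A A) φ
  have hψ : Algebra.TensorProduct.map ψ (AlgHom.id A B) (toRing A B S x) =
      toRing A B S' (φ.toLinearMap.rTensor B x) := by
    induction x using TensorProduct.induction_on with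
    | zero => simp
    | tmul s b => simp [ψ, Algebra.TensorProduct.map_tmul, Algebra.TensorProduct.lid_symm_apply,
        LinearMap.rTensor_tmul]
    | add x y hx hy => simp only [map_add, hx, hy]
  have hlid : ∀ r : A ⊗[A] S,
      Algebra.TensorProduct.lid A S' (ψ r) = φ (Algebra.TensorProduct.lid A S r) := by
    intro r
    induction r using TensorProduct.induction_on with
    | zero => simp
    | tmul a s => simp [ψ, Algebra.TensorProduct.map_tmul, Algebra.TensorProduct.lid_tmul]
    | add x y hx hy => simp only [map_add, hx, hy]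
  unfold fn
  rw [LinearMap.rTensor_tmul, ← hψ, F.map ψ, AlgHom.toLinearMap_apply, hlid]

/-- the polynomial law of the family -/
noncomputable def law : B →ₚₗ[A] A where
  toFun' S _ _ := F.fn S
  isCompat' φ := funext (F.fn_compat φ)

theorem law_isMult : IsMult F.law := fun S _ _ => ⟨F.fn_one S, F.fn_mul S⟩

theorem fn_ring (S : Type u) [CommRing S] [Algebra A S] (x : S ⊗[A] B) :
    F.fn S x = (F.D S x) ⊗ₜ[A] (1 : A) := by
  have h1 : Algebra.TensorProduct.map (Algebra.TensorProduct.lid A S).toAlgHom (AlgHom.id A B)
      (toRing A B S x) = x := by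
    induction x using TensorProduct.induction_on with
    | zero => simp
    | tmul s b => simp [Algebra.TensorProduct.map_tmul, Algebra.TensorProduct.lid_symm_apply]
    | add x y hx hy => simp only [map_add, hx, hy]
  have h2 := F.map (Algebra.TensorProduct.lid A S).toAlgHom (toRing A B S x)
  rw [h1] at h2
  unfold fn
  rw [h2]
  rfl

theorem law_toFun'_ring (S : Type u) [CommRing S] [Algebra A S] (x : S ⊗[A] B) :
    F.law.toFun' S x = (F.D S x) ⊗ₜ[A] (1 : A) := F.fn_ring S x

theorem fn_smul (d : ℕ)
    (h : ∀ (R : Type u) [CommRing R] [Algebra A R] (r : R) (x : R ⊗[A] B),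
      F.D R (r • x) = r ^ d * F.D R x)
    (S : Type u) [CommSemiring S] [Algebra A S] (s : S) (x : S ⊗[A] B) :
    F.fn S (s • x) = s ^ d • F.fn S x := by
  have hx : toRing A B S (s • x) = ((1 : A) ⊗ₜ[A] s) • toRing A B S x := by
    induction x using TensorProduct.induction_on with
    | zero => simp
    | tmul t b =>
        simp [TensorProduct.smul_tmul', Algebra.TensorProduct.map_tmul,
          Algebra.TensorProduct.lid_symm_apply, Algebra.TensorProduct.tmul_mul_tmul]
    | add x y hx hy => simp only [smul_add, map_add, hx, hy]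
  unfold fn
  rw [hx, h, map_mul, map_pow, Algebra.TensorProduct.lid_tmul, one_smul, TensorProduct.smul_tmul',
    smul_eq_mul]

theorem law_isHomog (d : ℕ)
    (h : ∀ (R : Type u) [CommRing R] [Algebra A R] (r : R) (x : R ⊗[A] B),
      F.D R (r • x) = r ^ d * F.D R x) : IsHomog F.law d :=
  fun S _ _ s x => F.fn_smul d h S s x

end RingFam


section Ext

variable {A : Type u} [CommRing A] {M N : Type u} [AddCommGroup M] [Module A M]
  [AddCommGroup N] [Module A N]

/-- Two polynomial laws agreeing on all test algebras that are rings are equal. -/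
theorem ext_of_rings (F G : M →ₚₗ[A] N)
    (h : ∀ (S : Type u) [CommRing S] [Algebra A S] (z : S ⊗[A] M), F.toFun' S z = G.toFun' S z) :
    F = G := by
  apply PolynomialLaw.ext
  funext S _ _ z
  let ψ : S →ₐ[A] A ⊗[A] S := (Algebra.TensorProduct.lid A S).symm.toAlgHom
  let ψi : A ⊗[A] S →ₐ[A] S := (Algebra.TensorProduct.lid A S).toAlgHom
  have hψ : ψi.comp ψ = AlgHom.id A S := by
    ext x
    simp [ψ, ψi]
  have key : ∀ (H : M →ₚₗ[A] N), H.toFun' S z =
      ψi.toLinearMap.rTensor N (H.toFun' (A ⊗[A] S) (ψ.toLinearMap.rTensor M z)) := by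
    intro H
    have h1 := congrFun (H.isCompat' ψ) z
    simp only [Function.comp_apply] at h1
    rw [← h1, ← LinearMap.comp_apply, ← LinearMap.rTensor_comp, ← AlgHom.comp_toLinearMap, hψ]
    simp
  rw [key F, key G, h]

theorem rid_rTensor {S S' : Type u} [CommRing S] [Algebra A S] [CommRing S'] [Algebra A S']
    (ψ : S →ₐ[A] S') (y : S ⊗[A] A) :
    TensorProduct.rid A S' (ψ.toLinearMap.rTensor A y) = ψ (TensorProduct.rid A S y) := by
  induction y using TensorProduct.induction_on with
  | zero => simp
  | tmul s a => simp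
  | add x y hx hy => simp only [map_add, hx, hy]

/-- Polynomial laws with values in `A` are determined by their members over LOCAL ring test
algebras. -/
theorem ext_of_local (F G : M →ₚₗ[A] A)
    (h : ∀ (S : Type u) [CommRing S] [IsLocalRing S] [Algebra A S] (z : S ⊗[A] M),
      F.toFun' S z = G.toFun' S z) :
    F = G := by
  apply ext_of_rings
  intro S _ _ z
  apply (TensorProduct.rid A S).injective
  rw [← sub_eq_zero]
  apply eq_zero_of_localization
  intro J hJ
  let ψ : S →ₐ[A] Localization.AtPrime J := IsScalarTower.toAlgHom A S (Localization.AtPrime J)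
  have e1 := congrFun (F.isCompat' ψ) z
  have e2 := congrFun (G.isCompat' ψ) z
  simp only [Function.comp_apply] at e1 e2
  have e3 : algebraMap S (Localization.AtPrime J) = (ψ : S →+* Localization.AtPrime J) := rfl
  rw [map_sub, sub_eq_zero, e3]
  change ψ _ = ψ _
  rw [← rid_rTensor ψ, ← rid_rTensor ψ, e1, e2, h]

end Ext

end Groth.Agent.Lib.Helper59.RingFamLaw
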