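import Groth.Prelude.Def_PolLaw2
import Groth.Agent.Lib.Helper59.RingFamLaw
import Mathlib

/-!
# The determinant law of an algebra acting on a finitely generated projective module

For `M` a `B`-module which is f.g. projective over `A`, written as a retract `r ∘ i = id` of
`A^n`, `UEnd R x = i ∘ x ∘ r + (1 - i ∘ r)` on `R ⊗ A^n` and `detP R x = det (UEnd R x)`.
`detP` is natural, multiplicative, equals `PolLaw.detAct M R x` over local `R` (Sylvester), and is
homogeneous of degree `d` when `M` has constant rank `d`.
-/

set_option autoImplicit false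

namespace Groth.Agent.Lib.Helper59.DetProj

open scoped TensorProduct
open PolLaw Groth.Agent.Lib.Helper59.RingFamLaw

universe u

section General

variable {A : Type u} [CommRing A]

theorem baseChange_rTensor {M N : Type u} [AddCommGroup M] [Module A M] [AddCommGroup N] [Module A N]
    (f : M →ₗ[A] N) {S S' : Type u} [CommRing S] [Algebra A S] [CommRing S'] [Algebra A S']
    (ψ : S →ₐ[A] S') (z : S ⊗[A] M) :
    ψ.toLinearMap.rTensor N (f.baseChange S z) = f.baseChange S' (ψ.toLinearMap.rTensor M z) := by
  induction z using TensorProduct.induction_on with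
  | zero => simp
  | tmul s m => simp
  | add x y hx hy => simp only [map_add, hx, hy]

theorem basis_repr_rTensor' {M : Type u} [AddCommGroup M] [Module A M] {ι : Type*}
    (b : Module.Basis ι A M) {S S' : Type u} [CommRing S] [Algebra A S] [CommRing S'] [Algebra A S']
    (φ : S →ₐ[A] S') (z : S ⊗[A] M) (i : ι) :
    (Algebra.TensorProduct.basis S' b).repr (φ.toLinearMap.rTensor M z) i =
      φ ((Algebra.TensorProduct.basis S b).repr z i) := by
  induction z using TensorProduct.induction_on with
  | zero => simp
  | tmul t m =>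
      simp [LinearMap.rTensor_tmul, Algebra.TensorProduct.basis_repr_tmul, Finsupp.smul_apply,
        Finsupp.mapRange_apply]
  | add z z' hz hz' => simp only [map_add, Finsupp.add_apply, hz, hz']

end General

section Det

variable {A B : Type u} [CommRing A] [CommRing B] [Algebra A B]
  (M : Type u) [AddCommGroup M] [Module A M] [Module B M] [IsScalarTower A B M]
  {n : ℕ} (i : M →ₗ[A] (Fin n → A)) (r : (Fin n → A) →ₗ[A] M)

/-- `i ∘ x ∘ r + (1 - i ∘ r)` on `R ⊗ A^n`. -/
noncomputable def UEnd (R : Type u) [CommRing R] [Algebra A R] (x : R ⊗[A] B) :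
    Module.End R (R ⊗[A] (Fin n → A)) :=
  (i.baseChange R) ∘ₗ (actEnd M R x) ∘ₗ (r.baseChange R) +
    (LinearMap.id - (i.baseChange R) ∘ₗ (r.baseChange R))

theorem UEnd_apply (R : Type u) [CommRing R] [Algebra A R] (x : R ⊗[A] B)
    (z : R ⊗[A] (Fin n → A)) :
    UEnd M i r R x z = i.baseChange R (actEnd M R x (r.baseChange R z)) +
      (z - i.baseChange R (r.baseChange R z)) := rfl

variable (hri : r ∘ₗ i = LinearMap.id)

include hri in
theorem r_i_apply (R : Type u) [CommRing R] [Algebra A R] (w : R ⊗[A] M) :
    r.baseChange R (i.baseChange R w) = w := by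
  rw [← LinearMap.comp_apply, ← LinearMap.baseChange_comp, hri, LinearMap.baseChange_id,
    LinearMap.id_apply]

include hri in
theorem r_UEnd (R : Type u) [CommRing R] [Algebra A R] (x : R ⊗[A] B)
    (z : R ⊗[A] (Fin n → A)) :
    r.baseChange R (UEnd M i r R x z) = actEnd M R x (r.baseChange R z) := by
  rw [UEnd_apply, map_add, map_sub, r_i_apply M i r hri, r_i_apply M i r hri, sub_self, add_zero]

theorem UEnd_one (R : Type u) [CommRing R] [Algebra A R] :
    UEnd M i r R (1 : R ⊗[A] B) = 1 := by
  refine LinearMap.ext fun z => ?_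
  rw [UEnd_apply, map_one, Module.End.one_apply, Module.End.one_apply]
  abel

include hri in
theorem UEnd_mul (R : Type u) [CommRing R] [Algebra A R] (x y : R ⊗[A] B) :
    UEnd M i r R (x * y) = UEnd M i r R x * UEnd M i r R y := by
  refine LinearMap.ext fun z => ?_
  rw [Module.End.mul_apply, UEnd_apply M i r R x, r_UEnd M i r hri, UEnd_apply M i r R y,
    UEnd_apply M i r R (x * y), map_mul, Module.End.mul_apply]
  abel

theorem rTensor_UEnd {R R' : Type u} [CommRing R] [Algebra A R] [CommRing R'] [Algebra A R']
    (ψ : R →ₐ[A] R') (x : R ⊗[A] B) (z : R ⊗[A] (Fin n → A)) :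
    ψ.toLinearMap.rTensor (Fin n → A) (UEnd M i r R x z) =
      UEnd M i r R' (Algebra.TensorProduct.map ψ (AlgHom.id A B) x)
        (ψ.toLinearMap.rTensor (Fin n → A) z) := by
  rw [UEnd_apply, UEnd_apply, map_add, map_sub, baseChange_rTensor, rTensor_actEnd,
    baseChange_rTensor, baseChange_rTensor, baseChange_rTensor]

/-- the determinant of `x` acting on the projective module `R ⊗ M`, computed on `R ⊗ A^n` -/
noncomputable def detP (R : Type u) [CommRing R] [Algebra A R] (x : R ⊗[A] B) : R :=
  LinearMap.det (UEnd M i r R x)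

theorem detP_one (R : Type u) [CommRing R] [Algebra A R] :
    detP M i r R (1 : R ⊗[A] B) = 1 := by
  rw [detP, UEnd_one, map_one]

include hri in
theorem detP_mul (R : Type u) [CommRing R] [Algebra A R] (x y : R ⊗[A] B) :
    detP M i r R (x * y) = detP M i r R x * detP M i r R y := by
  rw [detP, UEnd_mul M i r hri, map_mul]
  rfl

theorem detP_map {R R' : Type u} [CommRing R] [Algebra A R] [CommRing R'] [Algebra A R']
    (ψ : R →ₐ[A] R') (x : R ⊗[A] B) :
    detP M i r R' (Algebra.TensorProduct.map ψ (AlgHom.id A B) x) = ψ (detP M i r R x) := by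
  classical
  let bM := Pi.basisFun A (Fin n)
  unfold detP
  rw [← LinearMap.det_toMatrix (Algebra.TensorProduct.basis R' bM),
    ← LinearMap.det_toMatrix (Algebra.TensorProduct.basis R bM), AlgHom.map_det]
  congr 1
  ext k j
  simp only [AlgHom.mapMatrix_apply, Matrix.map_apply, LinearMap.toMatrix_apply,
    Algebra.TensorProduct.basis_apply]
  rw [← basis_repr_rTensor' bM ψ, rTensor_UEnd, LinearMap.rTensor_tmul, AlgHom.toLinearMap_apply,
    map_one]

/-- the natural multiplicative family of determinants -/
noncomputable def detFam : RingFam A B where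
  D R _ _ := detP M i r R
  one R _ _ := detP_one M i r R
  mul R _ _ := detP_mul M i r hri R
  map ψ x := detP_map M i r ψ x


section Local

variable [Module.Finite A M] [Module.Projective A M]

/-- Sylvester: for linear maps `f : P → F`, `g : F → P` between finite free modules,
`det (1 + f ∘ g) = det (1 + g ∘ f)`. -/
theorem det_one_add_comp_comm {R : Type u} [CommRing R] {P F : Type u} [AddCommGroup P] [Module R P]
    [AddCommGroup F] [Module R F] [Module.Free R P] [Module.Finite R P] [Module.Free R F]
    [Module.Finite R F] (f : P →ₗ[R] F) (g : F →ₗ[R] P) :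
    LinearMap.det (1 + f ∘ₗ g) = LinearMap.det (1 + g ∘ₗ f) := by
  classical
  let bP := Module.Free.chooseBasis R P
  let bF := Module.Free.chooseBasis R F
  rw [← LinearMap.det_toMatrix bF, ← LinearMap.det_toMatrix bP, map_add, map_add,
    LinearMap.toMatrix_comp bF bP bF, LinearMap.toMatrix_comp bP bF bP]
  have h1 : LinearMap.toMatrix bF bF (1 : Module.End R F) = 1 := LinearMap.toMatrix_one bF
  have h2 : LinearMap.toMatrix bP bP (1 : Module.End R P) = 1 := LinearMap.toMatrix_one bP
  rw [h1, h2, Matrix.det_one_add_mul_comm]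

include hri in
theorem detP_eq_detAct (R : Type u) [CommRing R] [Algebra A R] [IsLocalRing R] (x : R ⊗[A] B) :
    detP M i r R x = detAct M R x := by
  have : Module.Free R (R ⊗[A] M) := Module.free_of_flat_of_isLocalRing
  have hU : UEnd M i r R x =
      1 + (i.baseChange R) ∘ₗ ((actEnd M R x - 1) ∘ₗ (r.baseChange R)) := by
    refine LinearMap.ext fun z => ?_
    rw [UEnd_apply]
    simp only [LinearMap.add_apply, Module.End.one_apply, LinearMap.comp_apply, LinearMap.sub_apply,
      map_sub]
    abel
  have hA : actEnd M R x =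
      1 + ((actEnd M R x - 1) ∘ₗ (r.baseChange R)) ∘ₗ (i.baseChange R) := by
    refine LinearMap.ext fun z => ?_
    simp only [LinearMap.add_apply, Module.End.one_apply, LinearMap.comp_apply, LinearMap.sub_apply,
      r_i_apply M i r hri]
    abel
  rw [detP, detAct, hU, det_one_add_comp_comm, ← hA]


theorem finrank_baseChange_of_local (d : ℕ) (hd : ∀ p : PrimeSpectrum A, Module.rankAtStalk M p = d)
    (R : Type u) [CommRing R] [Algebra A R] [IsLocalRing R] :
    Module.finrank R (R ⊗[A] M) = d := by
  have : Module.Free R (R ⊗[A] M) := Module.free_of_flat_of_isLocalRing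
  have h1 := Module.rankAtStalk_baseChange (R := A) (M := M) (S := R) (IsLocalRing.closedPoint R)
  rw [hd, Module.rankAtStalk_eq_finrank_of_free] at h1
  exact h1

theorem detAct_smul_of_local (d : ℕ) (hd : ∀ p : PrimeSpectrum A, Module.rankAtStalk M p = d)
    (R : Type u) [CommRing R] [Algebra A R] [IsLocalRing R] (c : R) (x : R ⊗[A] B) :
    detAct M R (c • x) = c ^ d * detAct M R x := by
  have : Module.Free R (R ⊗[A] M) := Module.free_of_flat_of_isLocalRing
  rw [detAct, detAct, map_smul, LinearMap.det_smul, finrank_baseChange_of_local M d hd R]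

include hri in
theorem detP_smul (d : ℕ) (hd : ∀ p : PrimeSpectrum A, Module.rankAtStalk M p = d)
    (R : Type u) [CommRing R] [Algebra A R] (c : R) (x : R ⊗[A] B) :
    detP M i r R (c • x) = c ^ d * detP M i r R x := by
  rw [← sub_eq_zero]
  refine eq_zero_of_localization _ fun J hJ => ?_
  let ψ : R →ₐ[A] Localization.AtPrime J := IsScalarTower.toAlgHom A R (Localization.AtPrime J)
  have hψ : ∀ y : R, algebraMap R (Localization.AtPrime J) y = ψ y := fun _ => rfl
  rw [hψ, map_sub, sub_eq_zero, map_mul, map_pow, ← detP_map, ← detP_map,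
    detP_eq_detAct M i r hri, detP_eq_detAct M i r hri,
    ← detAct_smul_of_local M d hd]
  congr 1
  rw [Algebra.smul_def, Algebra.smul_def, map_mul]
  congr 1

end Local

end Det

end Groth.Agent.Lib.Helper59.DetProj
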