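import Groth.Agent.Lib.Helper59.GenCover

/-!
# The generic polynomial `hgen` does not vanish identically on geometric fibres

For `B` finite étale free over `A` and `K` an algebraically closed field over `A`, there is a point
`t : Fin d → K` at which `hgen b` does not vanish (`exists_point`).  Hence the localization of the
polynomial ring at `hgen b` is faithfully flat over `A` (`faithfullyFlat_away`).
-/

set_option autoImplicit false

namespace Groth.Agent.Lib.Helper59.GenFibre

open scoped TensorProduct
open Polynomial Matrix Groth.Agent.Lib.Helper59.GenSplit Groth.Agent.Lib.Helper59.GenCover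

universe u

variable {A : Type u} [CommRing A] {B : Type u} [CommRing B] [Algebra A B] {d : ℕ}
  (b : Module.Basis (Fin d) A B)

section Field

variable (K : Type u) [Field K] [Algebra A K]

theorem theta_repr (y : K ⊗[A] B) :
    theta b K (fun i => (Algebra.TensorProduct.basis K b).repr y i) = y := by
  unfold theta
  conv_rhs => rw [← (Algebra.TensorProduct.basis K b).sum_repr y]
  refine Finset.sum_congr rfl fun i _ => ?_
  rw [Algebra.TensorProduct.basis_apply, TensorProduct.smul_tmul', smul_eq_mul, mul_one]

/-- a polynomial of degree `< d` vanishing at `theta` vanishes, when the image of `theta` in a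
product of `d` copies of `K` has distinct coordinates -/
theorem exists_point_aux {I : Type u} [Fintype I] (hI : Fintype.card I = d)
    (ψ : (K ⊗[A] B) ≃ₐ[K] (I → K)) (c : I → K) (hc : Function.Injective c) :
    MvPolynomial.aeval (fun i => (Algebra.TensorProduct.basis K b).repr (ψ.symm c) i) (hgen b) ≠
      0 := by
  classical
  set y := ψ.symm c with hy
  set t : Fin d → K := fun i => (Algebra.TensorProduct.basis K b).repr y i with ht
  have hθ : theta b K t = y := theta_repr b K y
  have hψ : ψ y = c := by rw [hy, AlgEquiv.apply_symm_apply]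
  have hroot : ∀ (q : K[X]), aeval y q = 0 → ∀ i, q.eval (c i) = 0 := by
    intro q hq i
    have h1 := congrArg ψ hq
    rw [← Polynomial.aeval_algHom_apply, map_zero, hψ] at h1
    have h2 := congrFun h1 i
    rw [Pi.zero_apply] at h2
    have h3 : (aeval c q) i = aeval (c i) q := by
      have := Polynomial.aeval_algHom_apply (Pi.evalAlgHom K (fun _ : I => K) i) c q
      exact this.symm
    rw [h3, Polynomial.coe_aeval_eq_eval] at h2
    exact h2
  rw [aeval_hgen]
  refine mul_ne_zero ?_ ?_
  · -- the powers of `y` are linearly independent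
    intro hdet
    unfold GenSplit.h1 at hdet
    obtain ⟨v, hv0, hv⟩ := Matrix.exists_mulVec_eq_zero_iff.mpr hdet
    let q : K[X] := ∑ j : Fin d, C (v j) * X ^ (j : ℕ)
    have hq : aeval y q = 0 := by
      apply (Algebra.TensorProduct.basis K b).repr.injective
      ext i
      rw [map_zero, Finsupp.zero_apply, map_sum, map_sum, Finsupp.finsetSum_apply]
      have h1 : ∀ j : Fin d, ((Algebra.TensorProduct.basis K b).repr
          (aeval y (C (v j) * X ^ (j : ℕ)))) i = Mt b K t i j * v j := by
        intro j
        rw [map_mul, aeval_C, map_pow, aeval_X, ← Algebra.smul_def, map_smul, Finsupp.smul_apply,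
          ← hθ, repr_theta_pow, smul_eq_mul, mul_comm]
        rfl
      rw [Finset.sum_congr rfl fun j _ => h1 j]
      exact congrFun hv i
    have hq0 : q = 0 := by
      refine Polynomial.eq_zero_of_natDegree_lt_card_of_eval_eq_zero q hc (hroot q hq) ?_
      rw [hI]
      rcases Nat.eq_zero_or_pos d with hd0 | hd
      · subst hd0
        exact absurd (_root_.funext fun j : Fin 0 => j.elim0) hv0
      refine lt_of_le_of_lt (natDegree_sum_le_of_forall_le _ _ (n := d - 1) fun j _ => ?_) (by omega)
      refine (natDegree_C_mul_X_pow_le _ _).trans ?_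
      have := j.isLt
      omega
    apply hv0
    refine _root_.funext fun j => ?_
    have h2 := congrArg (fun p => p.coeff (j : ℕ)) hq0
    simp only [q, finsetSum_coeff, coeff_C_mul, coeff_X_pow, coeff_zero] at h2
    rw [Finset.sum_eq_single j] at h2
    · simpa using h2
    · intro k _ hkj
      rw [if_neg (fun h => hkj (Fin.ext h).symm), mul_zero]
    · intro h
      exact absurd (Finset.mem_univ j) h
  · -- the characteristic polynomial of `y` is separable
    have hG0 : aeval y (Gt b K t) = 0 := by
      rw [← hθ]
      exact aeval_theta_Gt b K t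
    have hGroot := hroot _ hG0
    have hmon : (∏ i : I, (X - C (c i))).Monic :=
      monic_prod_of_monic _ _ fun i _ => monic_X_sub_C (c i)
    have hdvd : (∏ i : I, (X - C (c i))) ∣ Gt b K t := by
      refine Finset.prod_dvd_of_coprime ?_ fun i _ => ?_
      · intro i _ k _ hik
        exact isCoprime_X_sub_C_of_isUnit_sub (sub_ne_zero.mpr fun h => hik (hc h)).isUnit
      · rw [dvd_iff_isRoot]
        exact hGroot i
    have hGeq : Gt b K t = ∏ i : I, (X - C (c i)) := by
      refine Polynomial.eq_of_monic_of_dvd_of_natDegree_le hmon (Gt_monic b K t) hdvd ?_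
      rw [Gt_natDegree, natDegree_prod_of_monic _ _ fun i _ => monic_X_sub_C (c i)]
      simp [hI]
    have hsep : (Gt b K t).Separable := by
      rw [hGeq]
      exact separable_prod_X_sub_C_iff.mpr hc
    have hunit := (Polynomial.isUnit_resultant_iff_isCoprime (Gt_monic b K t)).mpr hsep
    have hk : d - 1 = (derivative (Gt b K t)).natDegree +
        (d - 1 - (derivative (Gt b K t)).natDegree) := by
      have := natDegree_derivative_le (Gt b K t)
      rw [Gt_natDegree] at this
      omega
    unfold GenSplit.h2
    rw [hk, Polynomial.resultant_add_right_deg _ _ _ _ _ le_rfl]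
    have hc1 : (Gt b K t).coeff d = 1 := by
      have := (Gt_monic b K t).coeff_natDegree
      rw [Gt_natDegree] at this
      exact this
    rw [hc1, one_pow, one_mul]
    have h3 : (Gt b K t).resultant (derivative (Gt b K t)) d (derivative (Gt b K t)).natDegree =
        (Gt b K t).resultant (derivative (Gt b K t)) := by
      conv_rhs => rw [show (Gt b K t).natDegree = d from Gt_natDegree b K t]
    rw [h3]
    exact hunit.ne_zero

theorem exists_point [Module.Finite A B] [Algebra.Etale A B] [IsAlgClosed K] :
    ∃ t : Fin d → K, MvPolynomial.aeval t (hgen b) ≠ 0 := by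
  have hart : IsArtinianRing (K ⊗[A] B) := IsArtinianRing.of_finite K _
  have hfin : Finite (PrimeSpectrum (K ⊗[A] B)) := inferInstance
  let _ := Fintype.ofFinite (PrimeSpectrum (K ⊗[A] B))
  let ψ := Algebra.FormallyEtale.equivPiOfIsSepClosed K (K ⊗[A] B)
  have hI : Fintype.card (PrimeSpectrum (K ⊗[A] B)) = d := by
    have h1 := ψ.toLinearEquiv.finrank_eq
    rw [Module.finrank_fintype_fun_eq_card,
      Module.finrank_eq_card_basis (Algebra.TensorProduct.basis K b), Fintype.card_fin] at h1
    exact h1.symm
  obtain ⟨c, hc⟩ : ∃ c : PrimeSpectrum (K ⊗[A] B) → K, Function.Injective c := by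
    let f := Finite.equivFin (PrimeSpectrum (K ⊗[A] B))
    refine ⟨fun i => Infinite.natEmbedding K ((f i : Fin _) : ℕ), ?_⟩
    intro i j hij
    have h1 := (Infinite.natEmbedding K).injective hij
    exact f.injective (Fin.ext h1)
  exact ⟨_, exists_point_aux b K hI ψ c hc⟩

end Field

section Flat

variable [Module.Finite A B] [Algebra.Etale A B]

theorem faithfullyFlat_away : Module.FaithfullyFlat A (Localization.Away (hgen b)) := by
  have hflat : Module.Flat A (Localization.Away (hgen b)) :=
    Module.Flat.trans A (MvPolynomial (Fin d) A) (Localization.Away (hgen b))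
  refine ⟨fun m hm htop => ?_⟩
  let _ : Field (A ⧸ m) := Ideal.Quotient.field m
  obtain ⟨t, ht⟩ := exists_point b (AlgebraicClosure (A ⧸ m))
  let ev : MvPolynomial (Fin d) A →ₐ[A] AlgebraicClosure (A ⧸ m) := MvPolynomial.aeval t
  have hunit : IsUnit (ev.toRingHom (hgen b)) := (Ne.isUnit ht)
  let χ : Localization.Away (hgen b) →+* AlgebraicClosure (A ⧸ m) :=
    IsLocalization.Away.lift (hgen b) hunit
  have hχ : ∀ a : A, χ (algebraMap A (Localization.Away (hgen b)) a) =
      algebraMap A (AlgebraicClosure (A ⧸ m)) a := by
    intro a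
    rw [IsScalarTower.algebraMap_apply A (MvPolynomial (Fin d) A) (Localization.Away (hgen b))]
    show IsLocalization.Away.lift (hgen b) hunit _ = _
    rw [IsLocalization.Away.lift_eq]
    show ev (algebraMap A _ a) = _
    rw [AlgHom.commutes]
  have hm0 : ∀ a ∈ m, algebraMap A (AlgebraicClosure (A ⧸ m)) a = 0 := by
    intro a ha
    rw [IsScalarTower.algebraMap_apply A (A ⧸ m) (AlgebraicClosure (A ⧸ m))]
    have : algebraMap A (A ⧸ m) a = 0 := Ideal.Quotient.eq_zero_iff_mem.mpr ha
    rw [this, map_zero]
  have h1 : (1 : Localization.Away (hgen b)) ∈ m • (⊤ : Submodule A (Localization.Away (hgen b))) := by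
    rw [htop]
    trivial
  have h0 : ∀ z ∈ m • (⊤ : Submodule A (Localization.Away (hgen b))), χ z = 0 := by
    intro z hz
    refine Submodule.smul_induction_on hz ?_ ?_
    · intro a ha n _
      rw [Algebra.smul_def, map_mul, hχ, hm0 a ha, zero_mul]
    · intro x y hx hy
      rw [map_add, hx, hy, add_zero]
  have h2 := h0 1 h1
  rw [map_one] at h2
  exact one_ne_zero h2

end Flat

end Groth.Agent.Lib.Helper59.GenFibre
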