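import Groth.Agent.Lib.Helper59.SplitLaw
import Groth.Agent.Lib.Helper59.GenFibre
import Groth.Agent.Lib.Helper59.RingFamLaw

/-!
# The norm law of a finite étale free algebra

`main` : for `B` finite étale free of rank `d` over `A` and `N` the norm law, `ker N = ⊥` and `N`
is the only multiplicative law of degree `d` whose kernel is nil.
-/

set_option autoImplicit false

namespace Groth.Agent.Lib.Helper59.EtaleNorm

open scoped TensorProduct
open PolLaw Polynomial Groth.Agent.Lib.Helper59.KerPoly Groth.Agent.Lib.Helper59.CHCore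
  Groth.Agent.Lib.Helper59.GenSplit Groth.Agent.Lib.Helper59.GenCover
  Groth.Agent.Lib.Helper59.GenFibre Groth.Agent.Lib.Helper59.SplitLaw

universe u

variable {A : Type u} [CommRing A] {B : Type u} [CommRing B] [Algebra A B] {d : ℕ}

section Ker

variable (b : Module.Basis (Fin d) A B)

include b in
/-- the kernel of the norm law is nil -/
theorem ker_norm_le_nilradical (N : MulLaw A B A d)
    (hN : ∀ (S : Type u) [CommRing S] [Algebra A S] (x : S ⊗[A] B),
      N.law.toFun' S x = Algebra.norm S x ⊗ₜ[A] (1 : A)) :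
    PolLaw.ker N.law ≤ nilradical B := by
  classical
  intro b₀ hb₀
  have h1 := hb₀ A[X] ((X : A[X]) ⊗ₜ[A] (1 : B)) (-1)
  have h2 : ((X : A[X]) ⊗ₜ[A] (1 : B)) = (X : A[X]) • (1 : A[X] ⊗[A] B) := by
    rw [Algebra.TensorProduct.one_def, TensorProduct.smul_tmul', smul_eq_mul, mul_one]
  have h3 : N.law.toFun' A[X] ((X : A[X]) ⊗ₜ[A] (1 : B)) = ((X : A[X]) ^ d) ⊗ₜ[A] (1 : A) := by
    rw [h2, N.homog, (N.mult A[X]).1, Algebra.TensorProduct.one_def, TensorProduct.smul_tmul',
      smul_eq_mul, mul_one]
  rw [h3, hN] at h1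
  have h4 : Algebra.norm A[X] ((X : A[X]) ⊗ₜ[A] (1 : B) + -1 * ((1 : A[X]) ⊗ₜ[A] b₀)) = X ^ d := by
    have := congrArg (TensorProduct.rid A A[X]) h1
    simpa using this
  have h40 : ((X : A[X]) ⊗ₜ[A] (1 : B) + -1 * ((1 : A[X]) ⊗ₜ[A] b₀)) =
      (X : A[X]) ⊗ₜ[A] (1 : B) + -((1 : A[X]) ⊗ₜ[A] b₀) := by ring
  rw [h40, Algebra.norm_eq_matrix_det (Algebra.TensorProduct.basis A[X] b), map_add,
    map_neg, leftMulMatrix_tmul, leftMulMatrix_tmul, one_smul] at h4
  have h5 : ((X : A[X]) • (Algebra.leftMulMatrix b 1).map (algebraMap A A[X]) +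
      -(Algebra.leftMulMatrix b b₀).map (algebraMap A A[X])) =
      Matrix.charmatrix (Algebra.leftMulMatrix b b₀) := by
    rw [map_one, Matrix.charmatrix]
    ext i j
    simp [Matrix.one_apply, Matrix.smul_apply, sub_eq_add_neg, Matrix.scalar_apply,
      Matrix.diagonal_apply]
  rw [h5] at h4
  have h6 : (Algebra.leftMulMatrix b b₀).charpoly = X ^ d := h4
  have h7 := Matrix.aeval_self_charpoly (Algebra.leftMulMatrix b b₀)
  rw [h6, map_pow, aeval_X, ← map_pow] at h7
  have h8 : b₀ ^ d = 0 := by
    apply Algebra.leftMulMatrix_injective b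
    rw [h7, map_zero]
  exact ⟨d, h8⟩

end Ker

section Cover

variable [Module.Finite A B] [Algebra.Etale A B] (b : Module.Basis (Fin d) A B)

include b in
/-- every `A`-algebra embeds into one over which `B` splits completely -/
theorem exists_good_cover (S : Type u) [CommRing S] [Algebra A S] :
    ∃ (R' : Type u) (_ : CommRing R') (_ : Algebra A R') (ψ : S →ₐ[A] R'),
      Function.Injective ψ ∧
      ∃ e : Fin d → R' ⊗[A] B, (∀ j, e j * e j = e j) ∧ (∀ j k, j ≠ k → e j * e k = 0) ∧
        ∑ j, e j = 1 ∧ (∀ j (r : R'), r • e j = 0 → r = 0) ∧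
        ∀ y : R' ⊗[A] B, ∃ r : Fin d → R', y = ∑ j, r j • e j := by
  have hff : Module.FaithfullyFlat A (Localization.Away (hgen b)) := faithfullyFlat_away b
  let ι : S →ₐ[A] Localization.Away (hgen b) ⊗[A] S := Algebra.TensorProduct.includeRight
  have hι : Function.Injective ι := by
    have h := Module.FaithfullyFlat.tensorProduct_mk_injective (A := A)
      (B := Localization.Away (hgen b)) S
    intro x y hxy
    exact h hxy
  let t : Fin d → Localization.Away (hgen b) ⊗[A] S := fun i =>
    (algebraMap (MvPolynomial (Fin d) A) (Localization.Away (hgen b)) (MvPolynomial.X i)) ⊗ₜ[A] 1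
  have ht : MvPolynomial.aeval t (hgen b) =
      (algebraMap (MvPolynomial (Fin d) A) (Localization.Away (hgen b)) (hgen b)) ⊗ₜ[A] 1 := by
    have h1 : (MvPolynomial.aeval t : MvPolynomial (Fin d) A →ₐ[A] _) =
        (Algebra.TensorProduct.includeLeft : Localization.Away (hgen b) →ₐ[A]
          Localization.Away (hgen b) ⊗[A] S).comp
          (IsScalarTower.toAlgHom A (MvPolynomial (Fin d) A) (Localization.Away (hgen b))) := by
      refine MvPolynomial.algHom_ext fun i => ?_
      rw [MvPolynomial.aeval_X]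
      rfl
    rw [h1]
    rfl
  have hu : IsUnit (MvPolynomial.aeval t (hgen b)) := by
    rw [ht]
    have h2 : IsUnit (algebraMap (MvPolynomial (Fin d) A) (Localization.Away (hgen b)) (hgen b)) :=
      IsLocalization.Away.algebraMap_isUnit (hgen b)
    exact h2.map (Algebra.TensorProduct.includeLeft : Localization.Away (hgen b) →ₐ[A]
          Localization.Away (hgen b) ⊗[A] S)
  obtain ⟨R', iR, iAR, φ, hφ, e, he⟩ := exists_cover b (Localization.Away (hgen b) ⊗[A] S) t hu
  exact ⟨R', iR, iAR, φ.comp ι, hφ.comp hι, e, he⟩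

include b in
/-- two multiplicative laws of degree `d` with nil kernels coincide -/
theorem agree (F₁ F₂ : MulLaw A B A d) (h₁ : PolLaw.ker F₁.law ≤ nilradical B)
    (h₂ : PolLaw.ker F₂.law ≤ nilradical B) : F₁ = F₂ := by
  apply MulLaw.ext
  apply Groth.Agent.Lib.Helper59.RingFamLaw.ext_of_rings
  intro S _ _ x
  obtain ⟨R', iR, iAR, ψ, hψ, e, hidem, horth, hsum, hfaith, hspan⟩ := exists_good_cover b S
  have h := eq_of_split F₁ F₂ h₁ h₂ R' e hidem horth hsum hfaith hspan
    (Algebra.TensorProduct.map ψ (AlgHom.id A B) x)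
  rw [← compat_apply, ← compat_apply] at h
  apply (TensorProduct.rid A S).injective
  apply hψ
  rw [← rid_rTensor', ← rid_rTensor', h]

include b in
/-- a multiplicative law of degree `d` with nil kernel has zero kernel -/
theorem ker_eq_bot (N : MulLaw A B A d) (hnil : PolLaw.ker N.law ≤ nilradical B) :
    PolLaw.ker N.law = ⊥ := by
  classical
  rw [eq_bot_iff]
  intro b₀ hb₀
  rw [Ideal.mem_bot]
  obtain ⟨R', iR, iAR, ψ, hψ, e, hidem, horth, hsum, hfaith, hspan⟩ := exists_good_cover b A
  obtain ⟨r, hr⟩ := hspan ((1 : R') ⊗ₜ[A] b₀)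
  have hval : ∀ (j : Fin d) (s : R'), val N.law R' ((1 - e j) + s • e j) = s := by
    intro j s
    have h1 := val_split_mixed N hnil R' e hidem horth hsum hfaith
      (Function.update (fun _ => (1 : R')) j s)
    have h2 : ∑ k, (Function.update (fun _ => (1 : R')) j s) k • e k = (1 - e j) + s • e j := by
      rw [← Finset.add_sum_erase Finset.univ _ (Finset.mem_univ j), Function.update_self]
      have h3 : ∑ k ∈ Finset.univ.erase j, (Function.update (fun _ => (1 : R')) j s) k • e k =
          ∑ k ∈ Finset.univ.erase j, e k := by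
        refine Finset.sum_congr rfl fun k hk => ?_
        rw [Function.update_of_ne (Finset.ne_of_mem_erase hk), one_smul]
      have h4 : ∑ k ∈ Finset.univ.erase j, e k = 1 - e j := by
        rw [← hsum, ← Finset.add_sum_erase Finset.univ _ (Finset.mem_univ j), add_sub_cancel_left]
      rw [h3, h4, add_comm]
    have h5 : ∏ k, (Function.update (fun _ => (1 : R')) j s) k = s := by
      rw [← Finset.mul_prod_erase Finset.univ _ (Finset.mem_univ j), Function.update_self,
        Finset.prod_eq_one, mul_one]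
      intro k hk
      rw [Function.update_of_ne (Finset.ne_of_mem_erase hk)]
    rw [h2, h5] at h1
    exact h1
  have hr0 : ∀ j, r j = 0 := by
    intro j
    have h1 := hb₀ R' (1 - e j) (e j)
    have h2 : e j * ((1 : R') ⊗ₜ[A] b₀) = r j • e j := by
      rw [hr, Finset.mul_sum, Finset.sum_eq_single j]
      · rw [mul_smul_comm, hidem j]
      · intro k _ hkj
        rw [mul_smul_comm, horth j k hkj.symm, smul_zero]
      · intro h
        exact absurd (Finset.mem_univ j) h
    have h3 := hval j (r j)
    have h4 := hval j 0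
    rw [zero_smul, add_zero] at h4
    unfold val at h3 h4
    rw [← h2, h1, h4] at h3
    exact h3.symm
  have h0 : (1 : R') ⊗ₜ[A] b₀ = 0 := by
    rw [hr]
    refine Finset.sum_eq_zero fun j _ => ?_
    rw [hr0 j, zero_smul]
  have hrepr : ∀ i, b.repr b₀ i = 0 := by
    intro i
    have h5 := congrArg (fun z => (Algebra.TensorProduct.basis R' b).repr z i) h0
    simp only [Algebra.TensorProduct.basis_repr_tmul, map_zero, Finsupp.zero_apply, one_smul,
      Finsupp.mapRange_apply] at h5
    apply hψ
    rw [map_zero, ← h5]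
    exact ψ.commutes (b.repr b₀ i)
  apply b.repr.injective
  ext i
  rw [hrepr i, map_zero, Finsupp.zero_apply]

include b in
theorem main (N : MulLaw A B A d)
    (hN : ∀ (S : Type u) [CommRing S] [Algebra A S] (x : S ⊗[A] B),
      N.law.toFun' S x = Algebra.norm S x ⊗ₜ[A] (1 : A)) :
    PolLaw.ker N.law = ⊥ ∧
      ∀ F : MulLaw A B A d, PolLaw.ker F.law ≤ nilradical B → F = N := by
  have hnil := ker_norm_le_nilradical b N hN
  exact ⟨ker_eq_bot b N hnil, fun F hF => agree b F N hF hnil⟩

end Cover

theorem main' [Module.Free A B] [Module.Finite A B] [Algebra.Etale A B]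
    (hd : Module.finrank A B = d) (N : MulLaw A B A d)
    (hN : ∀ (S : Type u) [CommRing S] [Algebra A S] (x : S ⊗[A] B),
      N.law.toFun' S x = Algebra.norm S x ⊗ₜ[A] (1 : A)) :
    PolLaw.ker N.law = ⊥ ∧
      ∀ F : MulLaw A B A d, PolLaw.ker F.law ≤ nilradical B → F = N := by
  rcases subsingleton_or_nontrivial A with hs | hn
  · have hB : Subsingleton B := Module.subsingleton A B
    refine ⟨?_, fun F _ => ?_⟩
    · rw [eq_bot_iff]
      intro x _
      rw [Ideal.mem_bot]
      exact Subsingleton.elim _ _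
    · apply MulLaw.ext
      apply PolynomialLaw.ext
      funext S _ _ x
      have : Subsingleton (S ⊗[A] A) := Module.subsingleton A _
      exact Subsingleton.elim _ _
  · exact main (Module.finBasisOfFinrankEq A B hd) N hN

end Groth.Agent.Lib.Helper59.EtaleNorm
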