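import Groth.Agent.Lib.Helper59.RingFamLaw

/-!
# From ring test algebras to semiring test algebras

Over a base ring every semiring test algebra is a ring; so multiplicativity and homogeneity of a
polynomial law can be checked over ring test algebras only.
-/

set_option autoImplicit false

namespace Groth.Agent.Lib.Helper59.FLawConv

open scoped TensorProduct
open PolLaw

universe u

variable {A : Type u} [CommRing A]

/-- the ring structure on a semiring algebra over a ring -/
noncomputable abbrev ringOf (S : Type u) [CommSemiring S] [Algebra A S] : CommRing S :=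
  { Algebra.semiringToRing A with mul_comm := mul_comm }

theorem isMult_of_rings {B C : Type u} [CommRing B] [Algebra A B] [CommRing C] [Algebra A C]
    (F : B →ₚₗ[A] C)
    (h : ∀ (S : Type u) [CommRing S] [Algebra A S], F.toFun' S 1 = 1 ∧
      ∀ x y : S ⊗[A] B, F.toFun' S (x * y) = F.toFun' S x * F.toFun' S y) : IsMult F := by
  intro S _ _
  exact @h S (ringOf (A := A) S) _

theorem isHomog_of_rings {M N : Type u} [AddCommGroup M] [Module A M] [AddCommGroup N]
    [Module A N] (F : M →ₚₗ[A] N) (d : ℕ)
    (h : ∀ (S : Type u) [CommRing S] [Algebra A S] (a : S) (z : S ⊗[A] M),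
      F.toFun' S (a • z) = a ^ d • F.toFun' S z) : IsHomog F d := by
  intro S _ _ s x
  exact @h S (ringOf (A := A) S) _ s x

/-- bundle a law with ring-test-algebra hypotheses -/
noncomputable def mk {B C : Type u} [CommRing B] [Algebra A B] [CommRing C] [Algebra A C]
    (F : B →ₚₗ[A] C) (d : ℕ)
    (h : (∀ (S : Type u) [CommRing S] [Algebra A S], F.toFun' S 1 = 1 ∧
        ∀ x y : S ⊗[A] B, F.toFun' S (x * y) = F.toFun' S x * F.toFun' S y) ∧
      ∀ (S : Type u) [CommRing S] [Algebra A S] (a : S) (z : S ⊗[A] B),
        F.toFun' S (a • z) = a ^ d • F.toFun' S z) : MulLaw A B C d where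
  law := F
  homog := isHomog_of_rings F d h.2
  mult := isMult_of_rings F h.1

end Groth.Agent.Lib.Helper59.FLawConv
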