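import Groth.Prelude.Def_PolLaw2
import Groth.Agent.Lib.Helper59.KerPoly
import Mathlib

/-!
# The image of a multiplicative law with reduced target is reduced

`poly_eq_C_of_dvd` : over a reduced ring, `P * Qp = C (q ^ n)`, `C q * Qq = P ^ n`,
`P.coeff 0 = q` force `P = C q`.
`Psi0`, `Psi` : `MvPolynomial σ A ⊗ C ≃ MvPolynomial σ C`, `MvPolynomial (Option σ) A ⊗ C ≃
(MvPolynomial σ C)[X]` with the compatibilities needed.
`isRadical_ker` : for a multiplicative law `F : B → C` with `C` reduced, `ker F` is radical.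
-/

set_option autoImplicit false

namespace Groth.Agent.Lib.Helper59.LawReduced

open scoped TensorProduct
open PolLaw Polynomial Groth.Agent.Lib.Helper59.KerPoly

universe u

section PolyLemma

variable {R₀ : Type*} [CommRing R₀] [IsReduced R₀]

theorem poly_eq_C_of_dvd (P Qp Qq : R₀[X]) (q : R₀) (n : ℕ)
    (h0 : P.coeff 0 = q) (h1 : P * Qp = C (q ^ n)) (h2 : C q * Qq = P ^ n) : P = C q := by
  -- Claim 1
  have c1 : ∀ k : ℕ, 0 < k → q * P.coeff k = 0 := by
    intro k hk
    apply IsReduced.eq_zero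
    rw [nilpotent_iff_mem_prime]
    intro J hJ
    by_cases hq : q ∈ J
    · exact Ideal.mul_mem_right _ _ hq
    · apply Ideal.mul_mem_left
      have : IsDomain (R₀ ⧸ J) := Ideal.Quotient.isDomain J
      let π := Ideal.Quotient.mk J
      have hπq : π q ≠ 0 := by
        rw [Ne, Ideal.Quotient.eq_zero_iff_mem]
        exact hq
      have e1 : P.map π * Qp.map π = C (π q ^ n) := by
        rw [← Polynomial.map_mul, h1, Polynomial.map_C, map_pow]
      have hne : (C (π q ^ n) : (R₀ ⧸ J)[X]) ≠ 0 := by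
        rw [Ne, Polynomial.C_eq_zero]
        exact pow_ne_zero _ hπq
      have hP : P.map π ≠ 0 := by
        intro h
        rw [h, zero_mul] at e1
        exact hne e1.symm
      have hQ : Qp.map π ≠ 0 := by
        intro h
        rw [h, mul_zero] at e1
        exact hne e1.symm
      have hdeg : (P.map π).natDegree = 0 := by
        have := Polynomial.natDegree_mul hP hQ
        rw [e1, Polynomial.natDegree_C] at this
        omega
      have hc : (P.map π).coeff k = 0 :=
        Polynomial.coeff_eq_zero_of_natDegree_lt (by omega)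
      rw [Polynomial.coeff_map] at hc
      exact Ideal.Quotient.eq_zero_iff_mem.mp hc
  set E : R₀[X] := P - C q with hE
  have c2 : E * C q = 0 := by
    ext k
    rw [Polynomial.coeff_mul_C, Polynomial.coeff_zero, hE, Polynomial.coeff_sub, Polynomial.coeff_C]
    rcases Nat.eq_zero_or_pos k with rfl | hk
    · rw [if_pos rfl, h0, sub_self, zero_mul]
    · rw [if_neg (Nat.pos_iff_ne_zero.mp hk), sub_zero, mul_comm]
      exact c1 k hk
  have hP : P = E + C q := by rw [hE]; ring
  have c3 : ∀ m : ℕ, (E + C q) ^ m * E = E ^ (m + 1) := by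
    intro m
    induction m with
    | zero => simp
    | succ m ih =>
        rw [pow_succ', mul_assoc, ih, add_mul, ← pow_succ']
        have : C q * E ^ (m + 1) = 0 := by
          rw [pow_succ', ← mul_assoc, mul_comm (C q), c2, zero_mul]
        rw [this, add_zero]
  have c4 : E ^ (n + 1) = 0 := by
    rw [← c3, ← hP, ← h2, mul_comm (C q), mul_assoc, mul_comm (C q), c2, mul_zero]
  have hnil : IsNilpotent E := ⟨n + 1, c4⟩
  rw [Polynomial.isNilpotent_iff] at hnil
  have hE0 : E = 0 := by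
    ext k
    rw [Polynomial.coeff_zero]
    exact IsReduced.eq_zero _ (hnil k)
  rw [hP, hE0, zero_add]

end PolyLemma


section Transport

variable (A : Type u) [CommRing A] (C' : Type u) [CommRing C'] [Algebra A C'] (σ : Type)

/-- `MvPolynomial σ A ⊗ C' ≃ MvPolynomial σ C'` -/
noncomputable def Psi0 : MvPolynomial σ A ⊗[A] C' ≃ₐ[A] MvPolynomial σ C' :=
  (Algebra.TensorProduct.comm A (MvPolynomial σ A) C').trans
    ((MvPolynomial.algebraTensorAlgEquiv A C').restrictScalars A)

theorem Psi0_tmul (p : MvPolynomial σ A) (c : C') :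
    Psi0 A C' σ (p ⊗ₜ[A] c) = c • MvPolynomial.map (algebraMap A C') p := by
  simp [Psi0]

/-- `MvPolynomial (Option σ) A ⊗ C' ≃ (MvPolynomial σ C')[X]` -/
noncomputable def Psi : MvPolynomial (Option σ) A ⊗[A] C' ≃ₐ[A] Polynomial (MvPolynomial σ C') :=
  (Psi0 A C' (Option σ)).trans ((MvPolynomial.optionEquivLeft C' σ).restrictScalars A)

theorem Psi_tmul (p : MvPolynomial (Option σ) A) (c : C') :
    Psi A C' σ (p ⊗ₜ[A] c) =
      c • MvPolynomial.optionEquivLeft C' σ (MvPolynomial.map (algebraMap A C') p) := by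
  show MvPolynomial.optionEquivLeft C' σ (Psi0 A C' (Option σ) (p ⊗ₜ[A] c)) = _
  rw [Psi0_tmul, map_smul]

/-- inclusion of constants -/
noncomputable def jσ : MvPolynomial σ A →ₐ[A] MvPolynomial (Option σ) A :=
  MvPolynomial.rename some

/-- specialisation of the extra variable -/
noncomputable def epsσ (t : MvPolynomial σ A) : MvPolynomial (Option σ) A →ₐ[A] MvPolynomial σ A :=
  MvPolynomial.aeval (fun o => o.elim t MvPolynomial.X)

theorem epsσ_comp_jσ (t : MvPolynomial σ A) : (epsσ A σ t).comp (jσ A σ) = AlgHom.id A _ := by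
  apply MvPolynomial.algHom_ext
  intro i
  simp [epsσ, jσ]

theorem epsσ_X_none (t : MvPolynomial σ A) : epsσ A σ t (MvPolynomial.X none) = t := by
  simp [epsσ]

theorem optionEquivLeft_rename_some (P' : MvPolynomial σ C') :
    MvPolynomial.optionEquivLeft C' σ (MvPolynomial.rename some P') = Polynomial.C P' := by
  rw [MvPolynomial.optionEquivLeft_apply, MvPolynomial.aeval_rename]
  induction P' using MvPolynomial.induction_on with
  | C a =>
      rw [MvPolynomial.aeval_C]
      rfl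
  | add p q hp hq => rw [map_add, hp, hq, map_add]
  | mul_X p i hp =>
      rw [map_mul, hp, MvPolynomial.aeval_X, map_mul]
      rfl

theorem optionEquivLeft_coeff_zero (P'' : MvPolynomial (Option σ) C') :
    (MvPolynomial.optionEquivLeft C' σ P'').coeff 0 =
      MvPolynomial.aeval (fun o : Option σ => o.elim (0 : MvPolynomial σ C') MvPolynomial.X) P'' := by
  rw [Polynomial.coeff_zero_eq_eval_zero, MvPolynomial.optionEquivLeft_apply]
  induction P'' using MvPolynomial.induction_on with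
  | C a =>
      rw [MvPolynomial.aeval_C, MvPolynomial.aeval_C]
      show Polynomial.eval 0 (Polynomial.C (MvPolynomial.C a)) = MvPolynomial.C a
      rw [Polynomial.eval_C]
  | add p q hp hq => rw [map_add, Polynomial.eval_add, hp, hq, map_add]
  | mul_X p i hp =>
      rw [map_mul, Polynomial.eval_mul, hp, map_mul, MvPolynomial.aeval_X, MvPolynomial.aeval_X]
      cases i with
      | none => simp
      | some i => simp

theorem map_epsσ_zero (P : MvPolynomial (Option σ) A) :
    MvPolynomial.map (algebraMap A C') (epsσ A σ 0 P) =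
      MvPolynomial.aeval (fun o : Option σ => o.elim (0 : MvPolynomial σ C') MvPolynomial.X)
        (MvPolynomial.map (algebraMap A C') P) := by
  induction P using MvPolynomial.induction_on with
  | C a => simp [epsσ]
  | add p q hp hq => rw [map_add, map_add, hp, hq, map_add, map_add]
  | mul_X p i hp =>
      rw [map_mul, map_mul, hp, map_mul, map_mul]
      congr 1
      cases i with
      | none => simp [epsσ]
      | some i => simp [epsσ]

theorem Psi_map_jσ (r : MvPolynomial σ A ⊗[A] C') :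
    Psi A C' σ (Algebra.TensorProduct.map (jσ A σ) (AlgHom.id A C') r) =
      Polynomial.C (Psi0 A C' σ r) := by
  induction r using TensorProduct.induction_on with
  | zero => simp
  | tmul p c =>
      rw [Algebra.TensorProduct.map_tmul, AlgHom.id_apply, Psi_tmul, Psi0_tmul]
      show c • MvPolynomial.optionEquivLeft C' σ
        (MvPolynomial.map (algebraMap A C') (MvPolynomial.rename some p)) = _
      rw [MvPolynomial.map_rename, optionEquivLeft_rename_some, Polynomial.smul_C]
  | add x y hx hy => rw [map_add, map_add, hx, hy, map_add, map_add]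

theorem Psi_coeff_zero (r : MvPolynomial (Option σ) A ⊗[A] C') :
    (Psi A C' σ r).coeff 0 =
      Psi0 A C' σ (Algebra.TensorProduct.map (epsσ A σ 0) (AlgHom.id A C') r) := by
  induction r using TensorProduct.induction_on with
  | zero => simp
  | tmul p c =>
      rw [Algebra.TensorProduct.map_tmul, AlgHom.id_apply, Psi_tmul, Psi0_tmul,
        Polynomial.coeff_smul, optionEquivLeft_coeff_zero, map_epsσ_zero]
  | add x y hx hy => rw [map_add, map_add, Polynomial.coeff_add, hx, hy, map_add]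

end Transport


section Main

variable {A : Type u} [CommRing A] {B C' : Type u} [CommRing B] [Algebra A B] [CommRing C']
  [Algebra A C']

theorem compat_map (F : B →ₚₗ[A] C') {S S' : Type u} [CommSemiring S] [Algebra A S]
    [CommSemiring S'] [Algebra A S'] (ψ : S →ₐ[A] S') (z : S ⊗[A] B) :
    Algebra.TensorProduct.map ψ (AlgHom.id A C') (F.toFun' S z) =
      F.toFun' S' (Algebra.TensorProduct.map ψ (AlgHom.id A B) z) := by
  rw [← rTensor_algHom_apply, compat_apply]

theorem law_pow (F : B →ₚₗ[A] C') (hF : IsMult F) (S : Type u) [CommSemiring S] [Algebra A S]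
    (x : S ⊗[A] B) (n : ℕ) : F.toFun' S (x ^ n) = (F.toFun' S x) ^ n := by
  induction n with
  | zero => rw [pow_zero, pow_zero, (hF S).1]
  | succ n ih => rw [pow_succ, pow_succ, (hF S).2, ih]

theorem exists_lift_pair {M : Type u} [AddCommGroup M] [Module A M] {S : Type u} [CommSemiring S]
    [Algebra A S] (x w : S ⊗[A] M) :
    ∃ (σ : Type) (ψ : MvPolynomial σ A →ₐ[A] S) (x₀ w₀ : MvPolynomial σ A ⊗[A] M),
      ψ.toLinearMap.rTensor M x₀ = x ∧ ψ.toLinearMap.rTensor M w₀ = w := by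
  obtain ⟨n₁, ψ₁, p₁, h₁⟩ := PolynomialLaw.exists_lift x
  obtain ⟨n₂, ψ₂, p₂, h₂⟩ := PolynomialLaw.exists_lift w
  let ψ : MvPolynomial (Fin n₁ ⊕ Fin n₂) A →ₐ[A] S :=
    MvPolynomial.aeval (Sum.elim (fun i => ψ₁ (MvPolynomial.X i)) (fun i => ψ₂ (MvPolynomial.X i)))
  let ρ₁ : MvPolynomial (Fin n₁) A →ₐ[A] MvPolynomial (Fin n₁ ⊕ Fin n₂) A :=
    MvPolynomial.rename Sum.inl
  let ρ₂ : MvPolynomial (Fin n₂) A →ₐ[A] MvPolynomial (Fin n₁ ⊕ Fin n₂) A :=
    MvPolynomial.rename Sum.inr
  have e₁ : ψ.comp ρ₁ = ψ₁ := by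
    apply MvPolynomial.algHom_ext
    intro i
    simp [ψ, ρ₁]
  have e₂ : ψ.comp ρ₂ = ψ₂ := by
    apply MvPolynomial.algHom_ext
    intro i
    simp [ψ, ρ₂]
  refine ⟨_, ψ, ρ₁.toLinearMap.rTensor M p₁, ρ₂.toLinearMap.rTensor M p₂, ?_, ?_⟩
  · rw [← LinearMap.comp_apply, ← LinearMap.rTensor_comp, ← AlgHom.comp_toLinearMap, e₁, h₁]
  · rw [← LinearMap.comp_apply, ← LinearMap.rTensor_comp, ← AlgHom.comp_toLinearMap, e₂, h₂]

variable [IsReduced C']

theorem poly_case (F : B →ₚₗ[A] C') (hF : IsMult F) (b : B) (n : ℕ) (hb : b ^ n ∈ PolLaw.ker F)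
    (σ : Type) (x w : MvPolynomial σ A ⊗[A] B) :
    F.toFun' (MvPolynomial σ A) (x + w * ((1 : MvPolynomial σ A) ⊗ₜ[A] b)) =
      F.toFun' (MvPolynomial σ A) x := by
  let S₀ := MvPolynomial σ A
  let S₁ := MvPolynomial (Option σ) A
  let j : S₀ →ₐ[A] S₁ := jσ A σ
  let T : S₁ ⊗[A] B := (MvPolynomial.X none : S₁) ⊗ₜ[A] (1 : B)
  set x₁ : S₁ ⊗[A] B := Algebra.TensorProduct.map j (AlgHom.id A B) x with hx₁
  set w₁ : S₁ ⊗[A] B := Algebra.TensorProduct.map j (AlgHom.id A B) w with hw₁
  set bb : S₁ ⊗[A] B := (1 : S₁) ⊗ₜ[A] b with hbb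
  have hbbn : bb ^ n = (1 : S₁) ⊗ₜ[A] (b ^ n) := by
    rw [hbb, Algebra.TensorProduct.tmul_pow, one_pow]
  set e : S₁ ⊗[A] B := x₁ + T * (w₁ * bb) with he
  set z : S₁ ⊗[A] B := -(T * (w₁ * bb)) with hz
  set G : S₁ ⊗[A] B := ∑ i ∈ Finset.range n, x₁ ^ i * z ^ (n - 1 - i) with hG
  set G' : S₁ ⊗[A] B := ∑ i ∈ Finset.range n, e ^ i * (T * (w₁ * bb)) ^ (n - 1 - i) with hG'
  have hGe : G * e = x₁ ^ n + (-(-(T * w₁)) ^ n) * ((1 : S₁) ⊗ₜ[A] (b ^ n)) := by
    have h := geom_sum₂_mul x₁ z n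
    have e1 : x₁ - z = e := by rw [hz, he]; ring
    rw [e1] at h
    rw [← hG] at h
    rw [h, ← hbbn, hz]
    ring
  have hG'x : G' * x₁ = e ^ n + (-(T * w₁) ^ n) * ((1 : S₁) ⊗ₜ[A] (b ^ n)) := by
    have h := geom_sum₂_mul e (T * (w₁ * bb)) n
    have e1 : e - T * (w₁ * bb) = x₁ := by rw [he]; ring
    rw [e1] at h
    rw [← hG'] at h
    rw [h, ← hbbn]
    ring
  have h1 : F.toFun' S₁ G * F.toFun' S₁ e = (F.toFun' S₁ x₁) ^ n := by
    rw [← (hF S₁).2, hGe, hb S₁, law_pow F hF]
  have h2 : F.toFun' S₁ G' * F.toFun' S₁ x₁ = (F.toFun' S₁ e) ^ n := by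
    rw [← (hF S₁).2, hG'x, hb S₁, law_pow F hF]
  -- transport
  let Ψ := Psi A C' σ
  set q : MvPolynomial σ C' := Psi0 A C' σ (F.toFun' S₀ x) with hq
  have hΨx : Ψ (F.toFun' S₁ x₁) = Polynomial.C q := by
    rw [hx₁, ← compat_map, hq]
    exact Psi_map_jσ A C' σ _
  have hε0 : Algebra.TensorProduct.map (epsσ A σ 0) (AlgHom.id A B) e = x := by
    rw [he, map_add, map_mul, hx₁, KerPoly.map_map, epsσ_comp_jσ]
    have h0 : Algebra.TensorProduct.map (epsσ A σ 0) (AlgHom.id A B) T = 0 := by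
      show Algebra.TensorProduct.map (epsσ A σ 0) (AlgHom.id A B)
        ((MvPolynomial.X none : S₁) ⊗ₜ[A] (1 : B)) = 0
      rw [Algebra.TensorProduct.map_tmul, epsσ_X_none, TensorProduct.zero_tmul]
    rw [h0, zero_mul, add_zero, Algebra.TensorProduct.map_id, AlgHom.id_apply]
  have hP0 : (Ψ (F.toFun' S₁ e)).coeff 0 = q := by
    rw [Psi_coeff_zero, compat_map, hε0]
  have h1' : Ψ (F.toFun' S₁ e) * Ψ (F.toFun' S₁ G) = Polynomial.C (q ^ n) := by
    rw [← map_mul, mul_comm, h1, map_pow, hΨx, map_pow]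
  have h2' : Polynomial.C q * Ψ (F.toFun' S₁ G') = (Ψ (F.toFun' S₁ e)) ^ n := by
    rw [← hΨx, ← map_mul, mul_comm, h2, map_pow]
  have hPC := poly_eq_C_of_dvd _ _ _ q n hP0 h1' h2'
  have hex : F.toFun' S₁ e = F.toFun' S₁ x₁ := by
    apply Ψ.injective
    rw [hPC, hΨx]
  -- specialise T to 1
  have hε1 : Algebra.TensorProduct.map (epsσ A σ 1) (AlgHom.id A B) e =
      x + w * ((1 : S₀) ⊗ₜ[A] b) := by
    rw [he, map_add, map_mul, map_mul, hx₁, hw₁, KerPoly.map_map, KerPoly.map_map, epsσ_comp_jσ]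
    have h0 : Algebra.TensorProduct.map (epsσ A σ 1) (AlgHom.id A B) T = 1 := by
      show Algebra.TensorProduct.map (epsσ A σ 1) (AlgHom.id A B)
        ((MvPolynomial.X none : S₁) ⊗ₜ[A] (1 : B)) = 1
      rw [Algebra.TensorProduct.map_tmul, epsσ_X_none]
      rfl
    rw [h0, one_mul, Algebra.TensorProduct.map_id, AlgHom.id_apply, AlgHom.id_apply, hbb,
      Algebra.TensorProduct.map_tmul, map_one, AlgHom.id_apply]
  have hε1x : Algebra.TensorProduct.map (epsσ A σ 1) (AlgHom.id A B) x₁ = x := by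
    rw [hx₁, KerPoly.map_map, epsσ_comp_jσ, Algebra.TensorProduct.map_id, AlgHom.id_apply]
  rw [← hε1, ← compat_map, hex, compat_map, hε1x]

theorem isRadical_ker (F : B →ₚₗ[A] C') (hF : IsMult F) : (PolLaw.ker F).IsRadical := by
  intro b hb
  obtain ⟨n, hn⟩ := hb
  intro S _ _ x w
  obtain ⟨σ, ψ, x₀, w₀, hx, hw⟩ := exists_lift_pair x w
  rw [rTensor_algHom_apply] at hx hw
  have key := poly_case F hF b n hn σ x₀ w₀
  have h1 : Algebra.TensorProduct.map ψ (AlgHom.id A B)
      (x₀ + w₀ * ((1 : MvPolynomial σ A) ⊗ₜ[A] b)) = x + w * ((1 : S) ⊗ₜ[A] b) := by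
    rw [map_add, map_mul, hx, hw, Algebra.TensorProduct.map_tmul, map_one, AlgHom.id_apply]
  rw [← h1, ← compat_map, key, compat_map, hx]

end Main

end Groth.Agent.Lib.Helper59.LawReduced
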