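import Groth.Agent.Lib.Helper59.SplitLaw
import Groth.Agent.Lib.Helper59.LawReduced

/-!
# Multiplicative laws on an algebra with finitely many points and nil radical

`R` reduced with connected spectrum, `B` an `R`-algebra with `R`-points `π i` (finitely many) which
separate a complete system of idempotents and whose common kernel is nil.  Then every
multiplicative law `F : B → R` of degree `d` is `z ↦ ∏ i, (π i z) ^ m i` with `∑ m i = d`.
-/

set_option autoImplicit false

namespace Groth.Agent.Lib.Helper59.FLawDecomp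

open scoped TensorProduct
open PolLaw Polynomial Groth.Agent.Lib.Helper59.KerPoly Groth.Agent.Lib.Helper59.CHCore
  Groth.Agent.Lib.Helper59.IdemCount Groth.Agent.Lib.Helper59.SplitLaw

universe u

section Gen

variable {A : Type u} [CommRing A] {B : Type u} [CommRing B] [Algebra A B]

/-- evaluation of `S ⊗ B` at an `A`-point of `B` -/
noncomputable def ev (S : Type u) [CommRing S] [Algebra A S] (p : B →ₐ[A] A) : S ⊗[A] B →ₐ[S] S :=
  Algebra.TensorProduct.lift (AlgHom.id S S) ((Algebra.ofId A S).comp p)
    (fun _ _ => Commute.all _ _)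

theorem ev_tmul (S : Type u) [CommRing S] [Algebra A S] (p : B →ₐ[A] A) (s : S) (b : B) :
    ev S p (s ⊗ₜ[A] b) = s * algebraMap A S (p b) := by
  unfold ev
  rw [Algebra.TensorProduct.lift_tmul]
  rfl

theorem prod_uu' {ι : Type*} [Fintype ι] (e : ι → B)
    (hidem : ∀ j, e j * e j = e j) (horth : ∀ j k, j ≠ k → e j * e k = 0) (hsum : ∑ j, e j = 1)
    (S : Type u) [CommRing S] [Algebra A S] (s : ι → S) :
    ∏ j, uu (A := A) S (s j) (e j) = ∑ j, s j ⊗ₜ[A] e j := by
  classical
  have key : ∀ (k : ι) (T : Finset ι),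
      ((1 : S) ⊗ₜ[A] e k) * ∏ j ∈ T, uu (A := A) S (s j) (e j) =
        (if k ∈ T then s k else 1) ⊗ₜ[A] e k := by
    intro k T
    induction T using Finset.induction_on with
    | empty => simp
    | insert j₀ T hj ih =>
      rw [Finset.prod_insert hj, ← mul_assoc]
      by_cases hk : k = j₀
      · subst hk
        have h1 : ((1 : S) ⊗ₜ[A] e k) * uu (A := A) S (s k) (e k) = s k • ((1 : S) ⊗ₜ[A] e k) := by
          unfold uu
          have h0 : e k * (1 - e k) = 0 := by rw [mul_sub, mul_one, hidem k, sub_self]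
          rw [mul_add, Algebra.TensorProduct.tmul_mul_tmul, Algebra.TensorProduct.tmul_mul_tmul,
            h0, hidem k, TensorProduct.tmul_zero, zero_add, one_mul,
            TensorProduct.smul_tmul', smul_eq_mul, mul_one]
        rw [h1, smul_mul_assoc, ih, if_neg hj, if_pos (Finset.mem_insert_self _ _),
          TensorProduct.smul_tmul', smul_eq_mul, mul_one]
      · have h1 : ((1 : S) ⊗ₜ[A] e k) * uu (A := A) S (s j₀) (e j₀) = (1 : S) ⊗ₜ[A] e k := by
          unfold uu
          have h0 : e k * (1 - e j₀) = e k := by rw [mul_sub, mul_one, horth k j₀ hk, sub_zero]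
          rw [mul_add, Algebra.TensorProduct.tmul_mul_tmul, Algebra.TensorProduct.tmul_mul_tmul,
            h0, horth k j₀ hk, TensorProduct.tmul_zero, add_zero, one_mul]
        rw [h1, ih]
        congr 2
        simp [Finset.mem_insert, hk]
  have h1 : (∑ k, (1 : S) ⊗ₜ[A] e k : S ⊗[A] B) = 1 := by
    rw [← TensorProduct.tmul_sum, hsum, Algebra.TensorProduct.one_def]
  calc ∏ j, uu (A := A) S (s j) (e j)
      = (∑ k, (1 : S) ⊗ₜ[A] e k) * ∏ j, uu (A := A) S (s j) (e j) := by rw [h1, one_mul]
    _ = ∑ k, s k ⊗ₜ[A] e k := by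
        rw [Finset.sum_mul]
        refine Finset.sum_congr rfl fun k _ => ?_
        rw [key k Finset.univ, if_pos (Finset.mem_univ k)]

/-- every element is, modulo the common kernel of the points, a combination of the idempotents -/
theorem sub_sum_mem {ι : Type*} [Fintype ι] [DecidableEq ι] (π : ι → (B →ₐ[A] A)) (e : ι → B)
    (hπ : ∀ i j, π j (e i) = if i = j then 1 else 0) (I : Ideal B)
    (hI : ∀ b : B, (∀ i, π i b = 0) → b ∈ I)
    (S : Type u) [CommRing S] [Algebra A S] (z : S ⊗[A] B) :
    z - ∑ i, (ev S (π i) z) ⊗ₜ[A] e i ∈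
      I.map (Algebra.TensorProduct.includeRight : B →ₐ[A] S ⊗[A] B) := by
  induction z using TensorProduct.induction_on with
  | zero => simp
  | tmul s b =>
    have h1 : ∑ i, (ev S (π i) (s ⊗ₜ[A] b)) ⊗ₜ[A] e i = s ⊗ₜ[A] (∑ i, π i b • e i) := by
      rw [TensorProduct.tmul_sum]
      refine Finset.sum_congr rfl fun i _ => ?_
      rw [ev_tmul, TensorProduct.tmul_smul, TensorProduct.smul_tmul', Algebra.smul_def, mul_comm]
    rw [h1, ← TensorProduct.tmul_sub]
    apply tmul_mem
    apply hI
    intro j
    rw [map_sub, map_sum]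
    have : ∀ i ∈ Finset.univ, π j (π i b • e i) = if i = j then π i b else 0 := by
      intro i _
      rw [map_smul, hπ, smul_eq_mul]
      split_ifs <;> simp
    rw [Finset.sum_congr rfl this, Finset.sum_ite_eq' Finset.univ j, if_pos (Finset.mem_univ j),
      sub_self]
  | add x y hx hy =>
    have : x + y - ∑ i, (ev S (π i) (x + y)) ⊗ₜ[A] e i =
        (x - ∑ i, (ev S (π i) x) ⊗ₜ[A] e i) + (y - ∑ i, (ev S (π i) y) ⊗ₜ[A] e i) := by
      simp only [map_add, TensorProduct.add_tmul, Finset.sum_add_distrib]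
      abel
    rw [this]
    exact Ideal.add_mem _ hx hy

end Gen

section Decomp

variable {R : Type u} [CommRing R] [IsReduced R] [ConnectedSpace (PrimeSpectrum R)]
  {B : Type u} [CommRing B] [Algebra R B] {d : ℕ}

theorem val_decomp (F : MulLaw R B R d) {ι : Type*} [Fintype ι] [DecidableEq ι]
    (π : ι → (B →ₐ[R] R))
    (hsurj : ∀ i, ∃ b : B, ∀ j, π j b = if i = j then 1 else 0)
    (hnil : ∀ b : B, (∀ i, π i b = 0) → IsNilpotent b) :
    ∃ m : ι → ℕ, ∑ i, m i = d ∧
      ∀ (S : Type u) [CommRing S] [Algebra R S] (z : S ⊗[R] B),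
        val F.law S z = ∏ i, (ev S (π i) z) ^ (m i) := by
  have hnt : Nontrivial R := PrimeSpectrum.nonempty_iff_nontrivial.mp inferInstance
  -- the kernel contains the common kernel of the points
  have hrad := Groth.Agent.Lib.Helper59.LawReduced.isRadical_ker F.law F.mult
  have hker : ∀ b : B, (∀ i, π i b = 0) → b ∈ PolLaw.ker F.law := by
    intro b hb
    obtain ⟨n, hn⟩ := hnil b hb
    apply hrad
    refine ⟨n, ?_⟩
    rw [hn]
    exact zero_mem _
  -- lift the idempotents
  let f : B →+* (ι → R) := RingHom.pi (fun i => (π i).toRingHom)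
  have hf : ∀ (b : B) (i : ι), f b i = π i b := fun b i => rfl
  have hfker : ∀ x ∈ RingHom.ker f, IsNilpotent x := by
    intro x hx
    apply hnil
    intro i
    rw [RingHom.mem_ker] at hx
    rw [← hf, hx]
    rfl
  obtain ⟨e, he, hfe⟩ := CompleteOrthogonalIdempotents.lift_of_isNilpotent_ker f hfker
    (CompleteOrthogonalIdempotents.single (fun _ : ι => R)) (by
      intro i
      obtain ⟨b, hb⟩ := hsurj i
      refine ⟨b, ?_⟩
      funext j
      rw [hf, hb j, Pi.single_apply]
      simp [eq_comm])
  have hπ : ∀ i j, π j (e i) = if i = j then 1 else 0 := by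
    intro i j
    have := congrFun (congrFun hfe i) j
    rw [Function.comp_apply, hf] at this
    rw [this, Pi.single_apply]
    simp [eq_comm]
  have hidem : ∀ j, e j * e j = e j := fun j => he.idem j
  have horth : ∀ j k, j ≠ k → e j * e k = 0 := fun j k hjk => he.ortho hjk
  have hsum : ∑ j, e j = 1 := he.complete
  -- the exponents
  have hex : ∀ i, ∃ m : ℕ, PP F (e i) = X ^ m := by
    intro i
    apply exists_pow F
    rw [hidem i, sub_self]
    exact zero_mem _
  choose m hm using hex
  refine ⟨m, ?_, ?_⟩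
  · have h1 := PP_prod F e horth Finset.univ
    rw [hsum, PP_one, Finset.prod_congr rfl (fun i _ => hm i), Finset.prod_pow_eq_pow_sum] at h1
    have h2 := congrArg Polynomial.natDegree h1
    rw [natDegree_X_pow, natDegree_X_pow] at h2
    exact h2
  · intro S _ _ z
    have h1 : val F.law S z = val F.law S (∑ i, (ev S (π i) z) ⊗ₜ[R] e i) := by
      apply val_eq_of_sub_mem
      exact sub_sum_mem π e hπ (PolLaw.ker F.law) hker S z
    rw [h1, ← prod_uu' e hidem horth hsum, val_prod]
    refine Finset.prod_congr rfl fun i _ => ?_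
    rw [val_uu, hm i, map_pow, aeval_X]

end Decomp

end Groth.Agent.Lib.Helper59.FLawDecomp
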