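import Groth.Agent.Lib.Helper59.FLawDecomp

/-!
# Multiplicative laws `K → k` for a finite field extension, over an algebraic closure

`Ω = AlgebraicClosure K`.  The `Ω`-points of `Ω ⊗[k] K` are the `pt σ`, `σ : Field.Emb k K`;
their common kernel is nil and they are separated by elements of `Ω ⊗[k] K`.  Hence
(`formula`) every multiplicative law `F : K → k` of degree `d` is given, over every
`Ω`-algebra `S'`, by `w ↦ ∏ σ, (sig S' σ w) ^ m σ`, with `∑ m σ = d`.
-/

set_option autoImplicit false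

namespace Groth.Agent.Lib.Helper59.FLawEmb

open scoped TensorProduct
open PolLaw Polynomial Groth.Agent.Lib.Helper59.KerPoly Groth.Agent.Lib.Helper59.CHCore
  Groth.Agent.Lib.Helper59.BCLaw Groth.Agent.Lib.Helper59.FLawDecomp

universe u

variable {k K : Type u} [Field k] [Field K] [Algebra k K]

/-- the `Ω`-point of `Ω ⊗ K` attached to an embedding -/
noncomputable def pt (σ : Field.Emb k K) :
    (AlgebraicClosure K) ⊗[k] K →ₐ[AlgebraicClosure K] AlgebraicClosure K :=
  Algebra.TensorProduct.lift (AlgHom.id _ _) σ (fun _ _ => Commute.all _ _)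

theorem pt_tmul (σ : Field.Emb k K) (a : AlgebraicClosure K) (x : K) :
    pt σ (a ⊗ₜ[k] x) = a * σ x := by
  unfold pt
  rw [Algebra.TensorProduct.lift_tmul]
  rfl

section Nil

variable [FiniteDimensional k K]

theorem isNilpotent_of_pt (b : (AlgebraicClosure K) ⊗[k] K)
    (hb : ∀ σ : Field.Emb k K, pt σ b = 0) : IsNilpotent b := by
  rw [nilpotent_iff_mem_prime]
  intro P hP
  have hdom : IsDomain (((AlgebraicClosure K) ⊗[k] K) ⧸ P) := Ideal.Quotient.isDomain P
  have hfin : Module.Finite (AlgebraicClosure K) (((AlgebraicClosure K) ⊗[k] K) ⧸ P) :=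
    Module.Finite.of_surjective (Ideal.Quotient.mkₐ (AlgebraicClosure K) P).toLinearMap
      (Ideal.Quotient.mkₐ_surjective (AlgebraicClosure K) P)
  have hint : Algebra.IsIntegral (AlgebraicClosure K) (((AlgebraicClosure K) ⊗[k] K) ⧸ P) :=
    Algebra.IsIntegral.of_finite _ _
  have hbij := IsAlgClosed.algebraMap_bijective_of_isIntegral (k := AlgebraicClosure K)
    (K := ((AlgebraicClosure K) ⊗[k] K) ⧸ P)
  let eq : AlgebraicClosure K ≃ₐ[AlgebraicClosure K] (((AlgebraicClosure K) ⊗[k] K) ⧸ P) :=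
    AlgEquiv.ofBijective (Algebra.ofId _ _) hbij
  let φ : (AlgebraicClosure K) ⊗[k] K →ₐ[AlgebraicClosure K] AlgebraicClosure K :=
    eq.symm.toAlgHom.comp (Ideal.Quotient.mkₐ (AlgebraicClosure K) P)
  let σ : Field.Emb k K := (φ.restrictScalars k).comp Algebra.TensorProduct.includeRight
  have hφ : pt σ = φ := by
    apply Algebra.TensorProduct.ext
    · ext
    · ext x
      simp only [AlgHom.coe_comp, AlgHom.coe_restrictScalars', Function.comp_apply,
        Algebra.TensorProduct.includeRight_apply, pt_tmul, one_mul]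
      rfl
  have h0 : φ b = 0 := by rw [← hφ]; exact hb σ
  have h1 : Ideal.Quotient.mk P b = 0 := by
    have h2 : eq.symm (Ideal.Quotient.mk P b) = 0 := h0
    exact (EmbeddingLike.map_eq_zero_iff (f := eq.symm)).mp h2
  exact Ideal.Quotient.eq_zero_iff_mem.mp h1

end Nil

theorem exists_lagrange [Fintype (Field.Emb k K)] [DecidableEq (Field.Emb k K)]
    (σ : Field.Emb k K) :
    ∃ b : (AlgebraicClosure K) ⊗[k] K, ∀ τ, pt τ b = if σ = τ then 1 else 0 := by
  have hx : ∀ τ : Field.Emb k K, ∃ x : K, τ ≠ σ → σ x ≠ τ x := by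
    intro τ
    by_cases h : τ = σ
    · exact ⟨0, fun h' => absurd h h'⟩
    · have : ∃ x, σ x ≠ τ x := by
        by_contra hcon
        apply h
        apply AlgHom.ext
        intro x
        by_contra hx
        exact hcon ⟨x, fun h' => hx h'.symm⟩
      obtain ⟨x, hx⟩ := this
      exact ⟨x, fun _ => hx⟩
  choose x hx using hx
  let c : Field.Emb k K → (AlgebraicClosure K) ⊗[k] K := fun τ =>
    ((σ (x τ) - τ (x τ))⁻¹) ⊗ₜ[k] (x τ) - ((σ (x τ) - τ (x τ))⁻¹ * τ (x τ)) ⊗ₜ[k] (1 : K)
  have hc : ∀ τ ρ : Field.Emb k K,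
      pt ρ (c τ) = (σ (x τ) - τ (x τ))⁻¹ * (ρ (x τ) - τ (x τ)) := by
    intro τ ρ
    simp only [c, map_sub, pt_tmul, map_one, mul_one]
    ring
  refine ⟨∏ τ ∈ Finset.univ.erase σ, c τ, fun ρ => ?_⟩
  rw [map_prod]
  split_ifs with h
  · subst h
    apply Finset.prod_eq_one
    intro τ hτ
    rw [hc]
    exact inv_mul_cancel₀ (sub_ne_zero.mpr (hx τ (Finset.ne_of_mem_erase hτ)))
  · apply Finset.prod_eq_zero (i := ρ) (Finset.mem_erase.mpr ⟨Ne.symm h, Finset.mem_univ _⟩)
    rw [hc, sub_self, mul_zero]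

section Sig

variable (S' : Type u) [CommRing S'] [Algebra k S'] [Algebra (AlgebraicClosure K) S']
  [IsScalarTower k (AlgebraicClosure K) S']

/-- the `S'`-point of `S' ⊗[k] K` attached to an embedding -/
noncomputable def sig (σ : Field.Emb k K) : S' ⊗[k] K →ₐ[S'] S' :=
  Algebra.TensorProduct.lift (AlgHom.id S' S')
    ((IsScalarTower.toAlgHom k (AlgebraicClosure K) S').comp σ) (fun _ _ => Commute.all _ _)

theorem sig_tmul (σ : Field.Emb k K) (s : S') (x : K) :
    sig S' σ (s ⊗ₜ[k] x) = s * algebraMap (AlgebraicClosure K) S' (σ x) := by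
  unfold sig
  rw [Algebra.TensorProduct.lift_tmul]
  rfl

theorem ev_eq_sig (σ : Field.Emb k K) (w₀ : S' ⊗[AlgebraicClosure K] ((AlgebraicClosure K) ⊗[k] K)) :
    ev S' (pt σ) w₀ = sig S' σ (canc (A := k) (B := K) (AlgebraicClosure K) S' w₀) := by
  induction w₀ using TensorProduct.induction_on with
  | zero => simp
  | tmul s y =>
    induction y using TensorProduct.induction_on with
    | zero => simp
    | tmul a x =>
      rw [ev_tmul, canc_tmul, sig_tmul, pt_tmul, map_mul, Algebra.smul_def]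
      ring
    | add y₁ y₂ h₁ h₂ => rw [TensorProduct.tmul_add, map_add, map_add, map_add, h₁, h₂]
  | add x y hx hy => rw [map_add, map_add, map_add, hx, hy]

end Sig

theorem formula [FiniteDimensional k K] [Fintype (Field.Emb k K)] [DecidableEq (Field.Emb k K)]
    {d : ℕ} (F : MulLaw k K k d) :
    ∃ m : Field.Emb k K → ℕ, ∑ σ, m σ = d ∧
      ∀ (S' : Type u) [CommRing S'] [Algebra k S'] [Algebra (AlgebraicClosure K) S']
        [IsScalarTower k (AlgebraicClosure K) S'] (w : S' ⊗[k] K),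
        val F.law S' w = ∏ σ, (sig S' σ w) ^ (m σ) := by
  obtain ⟨m, hm, hval⟩ := val_decomp (bc (AlgebraicClosure K) F) (fun σ : Field.Emb k K => pt σ)
    exists_lagrange isNilpotent_of_pt
  refine ⟨m, hm, ?_⟩
  intro S' _ _ _ _ w
  obtain ⟨w₀, rfl⟩ := (canc (A := k) (B := K) (AlgebraicClosure K) S').surjective w
  rw [← val_bc]
  rw [show bcLaw (AlgebraicClosure K) F.law = (bc (AlgebraicClosure K) F).law from rfl, hval S' w₀]
  refine Finset.prod_congr rfl fun σ _ => ?_
  rw [ev_eq_sig]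

end Groth.Agent.Lib.Helper59.FLawEmb
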