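import Groth.Agent.Lib.Helper59.RingFamLaw

/-!
# Existence of a multiplicative law `K → k` of degree `d_s * q ^ n * c`

`K / k` finite, `q` the exponential characteristic, `x ^ q ^ n` separable for all `x`.
The law is `z ↦ N_{Ks/k} (z ^ q ^ n) ^ c`, where `z ^ q ^ n ∈ R ⊗ Ks ⊆ R ⊗ K`.
-/

set_option autoImplicit false

namespace Groth.Agent.Lib.Helper59.FLawExist

open scoped TensorProduct
open PolLaw Groth.Agent.Lib.Helper59.RingFamLaw

universe u

variable {k K : Type u} [Field k] [Field K] [Algebra k K]

variable (k K) in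
/-- `R ⊗ Ks → R ⊗ K` -/
noncomputable def incl (R : Type u) [CommRing R] [Algebra k R] :
    R ⊗[k] (separableClosure k K) →ₐ[R] R ⊗[k] K :=
  Algebra.TensorProduct.map (AlgHom.id R R) (separableClosure k K).val

theorem incl_tmul (R : Type u) [CommRing R] [Algebra k R] (r : R) (a : separableClosure k K) :
    incl k K R (r ⊗ₜ[k] a) = r ⊗ₜ[k] (a : K) := rfl

theorem incl_injective (R : Type u) [CommRing R] [Algebra k R] :
    Function.Injective (incl k K R) := by
  have h := Module.Flat.lTensor_preserves_injective_linearMap (M := R)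
    (separableClosure k K).val.toLinearMap Subtype.val_injective
  intro x y hxy
  apply h
  rw [lTensor_algHom_apply, lTensor_algHom_apply]
  exact hxy

theorem incl_map {R R' : Type u} [CommRing R] [Algebra k R] [CommRing R'] [Algebra k R']
    (ψ : R →ₐ[k] R') (w : R ⊗[k] (separableClosure k K)) :
    incl k K R' (Algebra.TensorProduct.map ψ (AlgHom.id k (separableClosure k K)) w) =
      Algebra.TensorProduct.map ψ (AlgHom.id k K) (incl k K R w) := by
  induction w using TensorProduct.induction_on with
  | zero => simp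
  | tmul r a => rfl
  | add x y hx hy => simp only [map_add, hx, hy]

section Frob

variable (q : ℕ) [ExpChar k q] (n : ℕ) (hexp : ∀ x : K, x ^ (q ^ n) ∈ separableClosure k K)

include hexp in
theorem pow_mem_range (R : Type u) [CommRing R] [Algebra k R] (z : R ⊗[k] K) :
    ∃ w : R ⊗[k] (separableClosure k K), incl k K R w = z ^ (q ^ n) := by
  rcases subsingleton_or_nontrivial (R ⊗[k] K) with hs | hnt
  · exact ⟨0, Subsingleton.elim _ _⟩
  have : ExpChar (R ⊗[k] K) q :=
    expChar_of_injective_algebraMap (algebraMap k (R ⊗[k] K)).injective q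
  induction z using TensorProduct.induction_on with
  | zero =>
    refine ⟨0, ?_⟩
    rw [map_zero, zero_pow (pow_pos (expChar_pos k q) n).ne']
  | tmul r x =>
    refine ⟨(r ^ (q ^ n)) ⊗ₜ[k] ⟨x ^ (q ^ n), hexp x⟩, ?_⟩
    rw [incl_tmul, Algebra.TensorProduct.tmul_pow]
  | add x y hx hy =>
    obtain ⟨a, ha⟩ := hx
    obtain ⟨b, hb⟩ := hy
    refine ⟨a + b, ?_⟩
    rw [map_add, ha, hb, add_pow_expChar_pow]

/-- the Frobenius-type map `R ⊗ K → R ⊗ Ks` -/
noncomputable def G (R : Type u) [CommRing R] [Algebra k R] (z : R ⊗[k] K) :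
    R ⊗[k] (separableClosure k K) :=
  Classical.choose (pow_mem_range q n hexp R z)

theorem incl_G (R : Type u) [CommRing R] [Algebra k R] (z : R ⊗[k] K) :
    incl k K R (G q n hexp R z) = z ^ (q ^ n) :=
  Classical.choose_spec (pow_mem_range q n hexp R z)

theorem G_one (R : Type u) [CommRing R] [Algebra k R] : G q n hexp R 1 = 1 := by
  apply incl_injective (k := k) (K := K) R
  rw [incl_G, one_pow]
  exact ((incl k K R).toRingHom.map_one).symm

theorem G_mul (R : Type u) [CommRing R] [Algebra k R] (x y : R ⊗[k] K) :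
    G q n hexp R (x * y) = G q n hexp R x * G q n hexp R y := by
  apply incl_injective (k := k) (K := K) R
  rw [map_mul, incl_G, incl_G, incl_G, mul_pow]

theorem G_map {R R' : Type u} [CommRing R] [Algebra k R] [CommRing R'] [Algebra k R']
    (ψ : R →ₐ[k] R') (z : R ⊗[k] K) :
    G q n hexp R' (Algebra.TensorProduct.map ψ (AlgHom.id k K) z) =
      Algebra.TensorProduct.map ψ (AlgHom.id k (separableClosure k K)) (G q n hexp R z) := by
  apply incl_injective (k := k) (K := K) R'
  rw [incl_G, incl_map, incl_G, map_pow]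

theorem G_smul (R : Type u) [CommRing R] [Algebra k R] (r : R) (z : R ⊗[k] K) :
    G q n hexp R (r • z) = r ^ (q ^ n) • G q n hexp R z := by
  apply incl_injective (k := k) (K := K) R
  rw [map_smul, incl_G, incl_G, smul_pow]

variable [FiniteDimensional k K]

/-- the family `z ↦ N (z ^ q ^ n) ^ c` -/
noncomputable def fam (c : ℕ) : RingFam k K where
  D R _ _ z := (detAct (A := k) (B := separableClosure k K) (separableClosure k K) R
    (G q n hexp R z)) ^ c
  one R _ _ := by rw [G_one, detAct_one, one_pow]
  mul R _ _ x y := by rw [G_mul, detAct_mul, mul_pow]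
  map {R R'} _ _ _ _ ψ x := by rw [G_map, detAct_map, map_pow]

theorem fam_smul (c : ℕ) (R : Type u) [CommRing R] [Algebra k R] (r : R) (x : R ⊗[k] K) :
    (fam q n hexp c).D R (r • x) =
      r ^ (Module.finrank k (separableClosure k K) * q ^ n * c) * (fam q n hexp c).D R x := by
  show (detAct (A := k) (B := separableClosure k K) (separableClosure k K) R
    (G q n hexp R (r • x))) ^ c = _ * (detAct (A := k) (B := separableClosure k K)
      (separableClosure k K) R (G q n hexp R x)) ^ c
  rw [G_smul, detAct_smul, mul_pow, ← pow_mul, ← pow_mul]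
  congr 2
  ring

include hexp in
theorem exists_law (c : ℕ) :
    ∃ F : K →ₚₗ[k] k, IsMult F ∧
      IsHomog F (Module.finrank k (separableClosure k K) * q ^ n * c) :=
  ⟨(fam q n hexp c).law, (fam q n hexp c).law_isMult,
    (fam q n hexp c).law_isHomog _ (fam_smul q n hexp c)⟩

end Frob

end Groth.Agent.Lib.Helper59.FLawExist
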