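import Mathlib

/-!
# Exponents of purely inseparable parts: auxiliary field theory

* `exists_pow_eq`: the exponent `e` of `K / separableClosure k K` (the least `e ≥ 1` with
  `x ^ e` separable for all `x`) is a power of the exponential characteristic.
* `pow_mem_of_coeff_mem`: if all coefficients of `(X - x) ^ (q ^ a * r')` lie in an intermediate
  field and `q ∤ r'`, then `x ^ q ^ a` lies in it.
-/

set_option autoImplicit false

namespace Groth.Agent.Lib.Helper59.FLawExp

open Polynomial

section Coeff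

variable {k K : Type*} [Field k] [Field K] [Algebra k K]

theorem pow_mem_of_coeff_mem (Ks : IntermediateField k K) (q : ℕ) (hq : q.Prime) [CharP K q]
    (a r' : ℕ) (hr' : ¬ q ∣ r') (x : K)
    (h : ∀ n, ((X - C x) ^ (q ^ a * r')).coeff n ∈ Ks) : x ^ (q ^ a) ∈ Ks := by
  have : ExpChar K q := ExpChar.prime hq
  have hr0 : r' ≠ 0 := by
    rintro rfl
    exact hr' (dvd_zero q)
  obtain ⟨s, rfl⟩ : ∃ s, r' = s + 1 := ⟨r' - 1, by omega⟩
  have h1 : (X - C x) ^ (q ^ a * (s + 1)) =
      expand K (q ^ a) ((X + C (-(x ^ (q ^ a)))) ^ (s + 1)) := by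
    rw [pow_mul, sub_pow_expChar_pow, map_pow, map_add, expand_X, expand_C, C_neg, ← C_pow,
      sub_eq_add_neg]
  have h2 := h (s * q ^ a)
  rw [h1, coeff_expand_mul (pow_pos hq.pos a), coeff_X_add_C_pow, Nat.add_sub_cancel_left,
    pow_one, Nat.choose_succ_self_right] at h2
  have hcast : ((s + 1 : ℕ) : K) ≠ 0 := by
    rw [Ne, CharP.cast_eq_zero_iff K q]
    exact hr'
  have h3 : x ^ (q ^ a) = -(-(x ^ (q ^ a)) * ((s + 1 : ℕ) : K)) * ((s + 1 : ℕ) : K)⁻¹ := by
    field_simp
  rw [h3]
  exact Ks.mul_mem (Ks.neg_mem h2) (Ks.inv_mem (Ks.natCast_mem _))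

end Coeff

section Exponent

variable {k K : Type*} [Field k] [Field K] [Algebra k K] [FiniteDimensional k K]

omit [FiniteDimensional k K] in
/-- in characteristic `q`, if `q ∤ e'` and `y ^ e'` is separable over `k` then so is `y` -/
theorem mem_of_pow_mem (q : ℕ) [CharP k q] (e' : ℕ) (he' : ¬ q ∣ e') (y : K)
    (hy : y ^ e' ∈ separableClosure k K) : y ∈ separableClosure k K := by
  by_cases hy0 : y = 0
  · rw [hy0]
    exact zero_mem _
  let Ks := separableClosure k K
  let c : Ks := ⟨y ^ e', hy⟩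
  have hc0 : c ≠ 0 := by
    intro h
    have : (c : K) = 0 := by rw [h]; rfl
    exact hy0 (pow_eq_zero_iff (by rintro rfl; exact he' (dvd_zero q)) |>.mp this)
  have : CharP Ks q := charP_of_injective_algebraMap (algebraMap k Ks).injective q
  have hcast : ((e' : ℕ) : Ks) ≠ 0 := by
    rw [Ne, CharP.cast_eq_zero_iff Ks q]
    exact he'
  have hsep : (X ^ e' - C c : Ks[X]).Separable := separable_X_pow_sub_C c hcast hc0
  have hroot : aeval y (X ^ e' - C c : Ks[X]) = 0 := by
    rw [map_sub, map_pow, aeval_X, aeval_C, sub_eq_zero]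
    rfl
  have hsepy : IsSeparable Ks y := hsep.of_dvd (minpoly.dvd Ks y hroot)
  have : IsSeparable k y := IsSeparable.of_algebra_isSeparable_of_isSeparable k hsepy
  exact mem_separableClosure_iff.mpr this

theorem exists_pow_eq (q : ℕ) [hq : ExpChar k q] (e : ℕ) (he : 0 < e)
    (hexp : ∀ x : K, x ^ e ∈ separableClosure k K)
    (hmin : ∀ n : ℕ, 0 < n → (∀ x : K, x ^ n ∈ separableClosure k K) → e ≤ n) :
    ∃ n : ℕ, e = q ^ n := by
  cases hq with
  | zero =>
    refine ⟨0, ?_⟩
    have h1 : e ≤ 1 := hmin 1 Nat.one_pos (fun x => by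
      rw [pow_one]
      exact mem_separableClosure_iff.mpr (Algebra.IsSeparable.isSeparable k x))
    rw [pow_zero]
    omega
  | prime hprime =>
    obtain ⟨a, e', he', hee⟩ := Nat.exists_eq_pow_mul_and_not_dvd (Nat.pos_iff_ne_zero.mp he) q
      hprime.ne_one
    refine ⟨a, ?_⟩
    have h1 : ∀ x : K, x ^ (q ^ a) ∈ separableClosure k K := by
      intro x
      apply mem_of_pow_mem q e' he'
      rw [← pow_mul, ← hee]
      exact hexp x
    have h2 := hmin (q ^ a) (pow_pos hprime.pos a) h1
    have h3 : 0 < e' := by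
      rcases Nat.eq_zero_or_pos e' with h | h
      · rw [h] at he'
        exact absurd (dvd_zero q) he'
      · exact h
    have h4 : e' = 1 := by
      by_contra hne
      have : 2 ≤ e' := by omega
      have h5 : q ^ a * 2 ≤ q ^ a * e' := Nat.mul_le_mul_left _ this
      have h6 : 0 < q ^ a := pow_pos hprime.pos a
      omega
    rw [hee, h4, mul_one]

end Exponent

end Groth.Agent.Lib.Helper59.FLawExp
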