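import Groth.Agent.Lib.Helper59.FLawSym
import Groth.Agent.Lib.Helper59.FLawExp

/-!
# The coefficients of `(X - x) ^ r` are separable

If a multiplicative law `F : K → k` has constant multiplicity `r` at all embeddings, then for
every `x : K` the polynomial `(X - x) ^ r` has coefficients in the separable closure of `k` in `K`:
it is the value of `F` at an element of `Ks[X] ⊗ K` built from the separability idempotent.
-/

set_option autoImplicit false

namespace Groth.Agent.Lib.Helper59.FLawIdem

open scoped TensorProduct
open PolLaw Polynomial Groth.Agent.Lib.Helper59.KerPoly Groth.Agent.Lib.Helper59.CHCore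
  Groth.Agent.Lib.Helper59.FLawEmb Groth.Agent.Lib.Helper59.FLawSym

universe u

variable {k K : Type u} [Field k] [Field K] [Algebra k K]

/-- the canonical embedding -/
noncomputable def sig1 : Field.Emb k K := IsScalarTower.toAlgHom k K (AlgebraicClosure K)

theorem sig1_apply (x : K) : (sig1 : Field.Emb k K) x = algebraMap K (AlgebraicClosure K) x := rfl

/-- the embedding of the separable closure -/
noncomputable def iota : separableClosure k K →ₐ[k] AlgebraicClosure K :=
  (sig1 : Field.Emb k K).comp (separableClosure k K).val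

theorem iota_apply (a : separableClosure k K) :
    iota a = algebraMap K (AlgebraicClosure K) (a : K) := rfl

/-- `a ⊗ x ↦ a * σ x` -/
noncomputable def tau (σ : Field.Emb k K) :
    (separableClosure k K) ⊗[k] K →ₐ[k] AlgebraicClosure K :=
  Algebra.TensorProduct.lift iota σ (fun _ _ => Commute.all _ _)

theorem tau_tmul (σ : Field.Emb k K) (a : separableClosure k K) (x : K) :
    tau σ (a ⊗ₜ[k] x) = iota a * σ x := by
  unfold tau
  rw [Algebra.TensorProduct.lift_tmul]

variable [FiniteDimensional k K]

theorem exists_idem [DecidableEq (Field.Emb k K)] : ∃ ε0 : (separableClosure k K) ⊗[k] K,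
    ∀ σ : Field.Emb k K, tau σ ε0 = if σ = sig1 then 1 else 0 := by
  obtain ⟨θ, hθ⟩ := Field.exists_primitive_element k (separableClosure k K)
  have hsep : (minpoly k θ).Separable := Algebra.IsSeparable.isSeparable k θ
  have hroot : ((minpoly k θ).map (algebraMap k (separableClosure k K))).IsRoot θ := by
    rw [IsRoot, eval_map_algebraMap]
    exact minpoly.aeval k θ
  obtain ⟨h, hh⟩ := dvd_iff_isRoot.mpr hroot
  have hθ0 : eval θ h ≠ 0 := by
    have h1 := (hsep.map (f := algebraMap k (separableClosure k K))).aeval_derivative_ne_zero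
      (x := θ) (by rw [coe_aeval_eq_eval]; exact hroot)
    rw [coe_aeval_eq_eval, hh, derivative_mul, derivative_sub, derivative_X, derivative_C, sub_zero,
      one_mul, eval_add, eval_mul, eval_sub, eval_X, eval_C, sub_self, zero_mul, add_zero] at h1
    exact h1
  let incl : separableClosure k K →+* (separableClosure k K) ⊗[k] K :=
    Algebra.TensorProduct.includeLeftRingHom
  refine ⟨(((eval θ h)⁻¹ : separableClosure k K) ⊗ₜ[k] (1 : K)) *
    eval₂ incl ((1 : separableClosure k K) ⊗ₜ[k] (θ : K)) h, fun σ => ?_⟩
  have hcomp : (tau σ).toRingHom.comp incl = (iota : separableClosure k K →ₐ[k] _).toRingHom := by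
    ext a
    show tau σ (a ⊗ₜ[k] (1 : K)) = iota a
    rw [tau_tmul, map_one, mul_one]
  have h1 : tau σ ((((eval θ h)⁻¹ : separableClosure k K) ⊗ₜ[k] (1 : K)) *
      eval₂ incl ((1 : separableClosure k K) ⊗ₜ[k] (θ : K)) h) =
      iota ((eval θ h)⁻¹) * eval₂ (iota : separableClosure k K →ₐ[k] _).toRingHom (σ (θ : K)) h := by
    rw [map_mul, tau_tmul, map_one, mul_one]
    congr 1
    have h2 := hom_eval₂ h incl (tau σ).toRingHom ((1 : separableClosure k K) ⊗ₜ[k] (θ : K))
    rw [hcomp] at h2
    have h3 : (tau σ).toRingHom ((1 : separableClosure k K) ⊗ₜ[k] (θ : K)) = σ (θ : K) := by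
      show tau σ _ = _
      rw [tau_tmul, map_one, one_mul]
    rw [h3] at h2
    exact h2
  have h2 : (σ (θ : K) - iota θ) *
      eval₂ (iota : separableClosure k K →ₐ[k] _).toRingHom (σ (θ : K)) h = 0 := by
    have h3 : eval₂ (iota : separableClosure k K →ₐ[k] _).toRingHom (σ (θ : K))
        ((minpoly k θ).map (algebraMap k (separableClosure k K))) = 0 := by
      rw [eval₂_map]
      have h4 : (iota : separableClosure k K →ₐ[k] _).toRingHom.comp
          (algebraMap k (separableClosure k K)) = algebraMap k (AlgebraicClosure K) := by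
        ext c
        exact (iota : separableClosure k K →ₐ[k] _).commutes c
      rw [h4, ← aeval_def]
      have h5 : (θ : K) = (separableClosure k K).val θ := rfl
      rw [aeval_algHom_apply, h5, aeval_algHom_apply, minpoly.aeval, map_zero, map_zero]
    rw [hh, eval₂_mul, eval₂_sub, eval₂_X, eval₂_C] at h3
    exact h3
  rw [h1]
  split_ifs with hσ
  · rw [hσ]
    have h6 : (sig1 : Field.Emb k K) (θ : K) =
        (iota : separableClosure k K →ₐ[k] _).toRingHom θ := rfl
    rw [h6, eval₂_at_apply]
    show iota _ * iota _ = 1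
    rw [← map_mul, inv_mul_cancel₀ hθ0, map_one]
  · have hne : σ (θ : K) - iota θ ≠ 0 := by
      rw [sub_ne_zero]
      intro heq
      exact hσ (emb_ext_of_primitive θ hθ σ sig1 heq)
    rw [(mul_eq_zero.mp h2).resolve_left hne, mul_zero]

theorem coeff_mem [Fintype (Field.Emb k K)] [DecidableEq (Field.Emb k K)] {d : ℕ}
    (F : MulLaw k K k d) (r : ℕ)
    (hval : ∀ (S' : Type u) [CommRing S'] [Algebra k S'] [Algebra (AlgebraicClosure K) S']
        [IsScalarTower k (AlgebraicClosure K) S'] (w : S' ⊗[k] K),
        val F.law S' w = ∏ σ : Field.Emb k K, (sig S' σ w) ^ r)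
    (x : K) (n : ℕ) : ((X - C x) ^ r).coeff n ∈ separableClosure k K := by
  obtain ⟨ε0, hε0⟩ := exists_idem (k := k) (K := K)
  let cK : separableClosure k K →ₐ[k] (separableClosure k K)[X] := CAlgHom
  let j : (separableClosure k K)[X] →ₐ[k] (AlgebraicClosure K)[X] := Polynomial.mapAlgHom iota
  let z : (separableClosure k K)[X] ⊗[k] K :=
    1 + Algebra.TensorProduct.map cK (AlgHom.id k K) ε0 *
      (((X : (separableClosure k K)[X]) ⊗ₜ[k] (1 : K) - (1 : (separableClosure k K)[X]) ⊗ₜ[k] x) - 1)
  have hsigε : ∀ (σ : Field.Emb k K) (y : (separableClosure k K) ⊗[k] K),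
      sig (AlgebraicClosure K)[X] σ (Algebra.TensorProduct.map j (AlgHom.id k K)
        (Algebra.TensorProduct.map cK (AlgHom.id k K) y)) = C (tau σ y) := by
    intro σ y
    induction y using TensorProduct.induction_on with
    | zero => simp
    | tmul a b =>
      rw [Algebra.TensorProduct.map_tmul, Algebra.TensorProduct.map_tmul, sig_tmul, tau_tmul, C_mul]
      congr 1
      simp [j, cK]
    | add y₁ y₂ h₁ h₂ => simp only [map_add, h₁, h₂]
  have hsig : ∀ σ : Field.Emb k K,
      sig (AlgebraicClosure K)[X] σ (Algebra.TensorProduct.map j (AlgHom.id k K) z) =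
        if σ = sig1 then X - C (algebraMap K (AlgebraicClosure K) x) else 1 := by
    intro σ
    have hX : j (X : (separableClosure k K)[X]) = X := by simp [j]
    simp only [z, map_add, map_one, map_mul, map_sub, Algebra.TensorProduct.map_tmul, sig_tmul,
      AlgHom.coe_id, id_eq, hsigε, hε0, hX, mul_one, one_mul]
    split_ifs with hσ
    · rw [hσ, C_1, one_mul, sig1_apply]
      simp
    · rw [C_0, zero_mul, add_zero]
  have hjQ : j (val F.law (separableClosure k K)[X] z) =
      (X - C (algebraMap K (AlgebraicClosure K) x)) ^ r := by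
    have h1 : j (val F.law (separableClosure k K)[X] z) = val F.law (AlgebraicClosure K)[X]
        (Algebra.TensorProduct.map j (AlgHom.id k K) z) := (val_map F.law j z).symm
    rw [h1, hval, Finset.prod_eq_single sig1]
    · rw [hsig, if_pos rfl]
    · intro σ _ hσ
      rw [hsig, if_neg hσ, one_pow]
    · intro h
      exact absurd (Finset.mem_univ _) h
  have hQ : (val F.law (separableClosure k K)[X] z).map (algebraMap (separableClosure k K) K) =
      (X - C x) ^ r := by
    apply Polynomial.map_injective _ (algebraMap K (AlgebraicClosure K)).injective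
    rw [Polynomial.map_map, Polynomial.map_pow, Polynomial.map_sub, map_X, map_C]
    exact hjQ
  rw [← hQ, coeff_map]
  exact (coeff (val F.law (separableClosure k K)[X] z) n).2

end Groth.Agent.Lib.Helper59.FLawIdem
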