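import Groth.Agent.Lib.Helper59.FLawConv
import Groth.Agent.Lib.Helper59.FLawIdem
import Groth.Agent.Lib.Helper59.FLawExist

/-!
# Multiplicative laws `K → k` for a finite field extension

There is at most one multiplicative law `K → k` homogeneous of degree `d`, and one exists iff
`d_s * e ∣ d` (`d_s` the separable degree, `e` the exponent of `K` over its separable closure).
-/

set_option autoImplicit false

namespace Groth.Agent.Lib.Helper59.FLawMain

open scoped TensorProduct
open PolLaw Polynomial Groth.Agent.Lib.Helper59.KerPoly Groth.Agent.Lib.Helper59.CHCore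
  Groth.Agent.Lib.Helper59.FLawEmb Groth.Agent.Lib.Helper59.FLawSym
  Groth.Agent.Lib.Helper59.FLawIdem Groth.Agent.Lib.Helper59.FLawExp

universe u

variable {k K : Type u} [Field k] [Field K] [Algebra k K] [FiniteDimensional k K]

/-- the structure of a multiplicative law of degree `d` -/
theorem structure_thm [Fintype (Field.Emb k K)] [DecidableEq (Field.Emb k K)]
    (d e : ℕ) (he : 0 < e) (hexp : ∀ x : K, x ^ e ∈ separableClosure k K)
    (hmin : ∀ n : ℕ, 0 < n → (∀ x : K, x ^ n ∈ separableClosure k K) → e ≤ n)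
    (F : MulLaw k K k d) :
    ∃ r : ℕ, d = Fintype.card (Field.Emb k K) * r ∧ e ∣ r ∧
      ∀ (S' : Type u) [CommRing S'] [Algebra k S'] [Algebra (AlgebraicClosure K) S']
        [IsScalarTower k (AlgebraicClosure K) S'] (w : S' ⊗[k] K),
        val F.law S' w = ∏ σ : Field.Emb k K, (sig S' σ w) ^ r := by
  obtain ⟨m, hm, hval⟩ := formula F
  obtain ⟨r, hr⟩ := multiplicities_eq F m hval
  have hval' : ∀ (S' : Type u) [CommRing S'] [Algebra k S'] [Algebra (AlgebraicClosure K) S']
      [IsScalarTower k (AlgebraicClosure K) S'] (w : S' ⊗[k] K),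
      val F.law S' w = ∏ σ : Field.Emb k K, (sig S' σ w) ^ r := by
    intro S' _ _ _ _ w
    rw [hval S' w]
    exact Finset.prod_congr rfl fun σ _ => by rw [hr σ]
  refine ⟨r, ?_, ?_, hval'⟩
  · rw [← hm, Finset.sum_congr rfl (fun σ _ => hr σ), Finset.sum_const, Finset.card_univ,
      smul_eq_mul]
  · obtain ⟨q, hq⟩ := ExpChar.exists k
    obtain ⟨n, hn⟩ := exists_pow_eq q e he hexp hmin
    cases hq with
    | zero =>
      rw [hn, one_pow]
      exact one_dvd r
    | prime hprime =>
      rcases Nat.eq_zero_or_pos r with h0 | hpos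
      · rw [h0]
        exact dvd_zero e
      obtain ⟨a, r', hr', hrr⟩ := Nat.exists_eq_pow_mul_and_not_dvd (Nat.pos_iff_ne_zero.mp hpos) q
        hprime.ne_one
      have hK : CharP K q := charP_of_injective_algebraMap (algebraMap k K).injective q
      have h1 : ∀ x : K, x ^ (q ^ a) ∈ separableClosure k K := by
        intro x
        apply pow_mem_of_coeff_mem (separableClosure k K) q hprime a r' hr' x
        intro j
        rw [← hrr]
        exact coeff_mem F r hval' x j
      have h2 := hmin (q ^ a) (pow_pos hprime.pos a) h1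
      rw [hn] at h2
      have h3 : n ≤ a := (Nat.pow_le_pow_iff_right hprime.one_lt).mp h2
      rw [hn, hrr]
      exact Dvd.dvd.mul_right (pow_dvd_pow q h3) r'

theorem main (d e : ℕ) (he : 0 < e) (hexp : ∀ x : K, x ^ e ∈ separableClosure k K)
    (hmin : ∀ n : ℕ, 0 < n → (∀ x : K, x ^ n ∈ separableClosure k K) → e ≤ n) :
    (∀ F F' : K →ₚₗ[k] k,
      ((∀ (S : Type u) [CommRing S] [Algebra k S], F.toFun' S 1 = 1 ∧
        ∀ x y : S ⊗[k] K, F.toFun' S (x * y) = F.toFun' S x * F.toFun' S y) ∧
      ∀ (S : Type u) [CommRing S] [Algebra k S] (a : S) (z : S ⊗[k] K), F.toFun' S (a • z) = a ^ d • F.toFun' S z) →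
      ((∀ (S : Type u) [CommRing S] [Algebra k S], F'.toFun' S 1 = 1 ∧
        ∀ x y : S ⊗[k] K, F'.toFun' S (x * y) = F'.toFun' S x * F'.toFun' S y) ∧
      ∀ (S : Type u) [CommRing S] [Algebra k S] (a : S) (z : S ⊗[k] K), F'.toFun' S (a • z) = a ^ d • F'.toFun' S z) → F = F') ∧
    ((∃ F : K →ₚₗ[k] k, ((∀ (S : Type u) [CommRing S] [Algebra k S], F.toFun' S 1 = 1 ∧
        ∀ x y : S ⊗[k] K, F.toFun' S (x * y) = F.toFun' S x * F.toFun' S y) ∧
      ∀ (S : Type u) [CommRing S] [Algebra k S] (a : S) (z : S ⊗[k] K), F.toFun' S (a • z) = a ^ d • F.toFun' S z)) ↔ Field.finSepDegree k K * e ∣ d) := by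
  classical
  have hfin : Finite (Field.Emb k K) :=
    Nat.finite_of_card_ne_zero (NeZero.ne (Field.finSepDegree k K))
  have hft : Fintype (Field.Emb k K) := Fintype.ofFinite _
  have hcard : Fintype.card (Field.Emb k K) = Field.finSepDegree k K :=
    (Nat.card_eq_fintype_card).symm
  have hds : Field.finSepDegree k K ≠ 0 := NeZero.ne _
  refine ⟨?_, ?_, ?_⟩
  · intro F F' hF hF'
    obtain ⟨r, hdr, -, hval⟩ := structure_thm d e he hexp hmin (FLawConv.mk F d hF)
    obtain ⟨r', hdr', -, hval'⟩ := structure_thm d e he hexp hmin (FLawConv.mk F' d hF')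
    have hrr : r = r' := by
      rw [hdr, hcard] at hdr'
      exact Nat.eq_of_mul_eq_mul_left (Nat.pos_of_ne_zero hds) hdr'
    subst hrr
    apply Groth.Agent.Lib.Helper59.RingFamLaw.ext_of_rings
    intro S _ _ z
    apply (TensorProduct.rid k S).injective
    show val F S z = val F' S z
    let jS : S →ₐ[k] (AlgebraicClosure K) ⊗[k] S := Algebra.TensorProduct.includeRight
    have hinj : Function.Injective jS :=
      Algebra.TensorProduct.includeRight_injective (algebraMap k (AlgebraicClosure K)).injective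
    apply hinj
    have h1 := val_map F jS z
    have h2 := val_map F' jS z
    have h3 := hval ((AlgebraicClosure K) ⊗[k] S) (Algebra.TensorProduct.map jS (AlgHom.id k K) z)
    have h4 := hval' ((AlgebraicClosure K) ⊗[k] S) (Algebra.TensorProduct.map jS (AlgHom.id k K) z)
    rw [← h1, ← h2]
    exact h3.trans h4.symm
  · rintro ⟨F, hF⟩
    obtain ⟨r, hdr, her, -⟩ := structure_thm d e he hexp hmin (FLawConv.mk F d hF)
    rw [hdr, hcard]
    exact Nat.mul_dvd_mul_left _ her
  · rintro ⟨c, hc⟩
    obtain ⟨q, hq⟩ := ExpChar.exists k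
    obtain ⟨n, hn⟩ := exists_pow_eq q e he hexp hmin
    have hexp' : ∀ x : K, x ^ (q ^ n) ∈ separableClosure k K := by
      intro x
      rw [← hn]
      exact hexp x
    obtain ⟨F, hFm, hFh⟩ := Groth.Agent.Lib.Helper59.FLawExist.exists_law q n hexp' c
    have hrank : Module.finrank k (separableClosure k K) = Field.finSepDegree k K := by
      rw [Field.finSepDegree_eq k K]
      rfl
    have hdeg : Module.finrank k (separableClosure k K) * q ^ n * c = d := by
      rw [hrank, ← hn, hc]
    rw [hdeg] at hFh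
    exact ⟨F, fun S _ _ => hFm S, fun S _ _ a z => hFh S a z⟩

end Groth.Agent.Lib.Helper59.FLawMain
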