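import Groth.Agent.Lib.Helper59.FLawEmb

/-!
# The multiplicities of a multiplicative law `K → k` at the embeddings are all equal

Root multiplicities of `F (X - θ) ∈ k[X]` for a primitive element `θ` of the separable closure.
-/

set_option autoImplicit false

namespace Groth.Agent.Lib.Helper59.FLawSym

open scoped TensorProduct
open PolLaw Polynomial Groth.Agent.Lib.Helper59.KerPoly Groth.Agent.Lib.Helper59.CHCore
  Groth.Agent.Lib.Helper59.FLawEmb

universe u

section Poly

theorem rootMultiplicity_prod_X_sub_C_pow {L : Type*} [Field L] [DecidableEq L] {ι : Type*}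
    (c : ι → L) (m : ι → ℕ) (a : L) (T : Finset ι) :
    rootMultiplicity a (∏ i ∈ T, (X - C (c i)) ^ (m i)) = ∑ i ∈ T, if c i = a then m i else 0 := by
  classical
  induction T using Finset.induction_on with
  | empty =>
    rw [Finset.prod_empty, Finset.sum_empty]
    apply rootMultiplicity_eq_zero
    simp [IsRoot]
  | insert j T hj ih =>
    have hne : ((X - C (c j)) ^ (m j)) * ∏ i ∈ T, (X - C (c i)) ^ (m i) ≠ 0 := by
      apply Monic.ne_zero
      apply Monic.mul
      · exact (monic_X_sub_C _).pow _
      · exact monic_prod_of_monic _ _ fun i _ => (monic_X_sub_C _).pow _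
    rw [Finset.prod_insert hj, Finset.sum_insert hj, rootMultiplicity_mul hne, ih]
    congr 1
    split_ifs with h
    · rw [h, rootMultiplicity_X_sub_C_pow]
    · apply rootMultiplicity_eq_zero
      rw [IsRoot, eval_pow, eval_sub, eval_X, eval_C]
      exact pow_ne_zero _ (sub_ne_zero.mpr (Ne.symm h))

theorem rootMultiplicity_pow' {L : Type*} [Field L] (p : L[X]) (n : ℕ) (a : L) :
    rootMultiplicity a (p ^ n) = n * rootMultiplicity a p := by
  classical
  rw [← count_roots, roots_pow, Multiset.count_nsmul, count_roots]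

/-- all the roots of an irreducible separable polynomial have the same multiplicity in a
polynomial over the base field -/
theorem exists_rootMultiplicity_eq {k L : Type*} [Field k] [Field L] [Algebra k L]
    (g P : k[X]) (hg : Irreducible g) (hgm : g.Monic) (hgs : g.Separable) (hP : P ≠ 0) :
    ∃ r : ℕ, ∀ a : L, aeval a g = 0 →
      rootMultiplicity a (P.map (algebraMap k L)) = r := by
  have hdeg : 0 < g.degree := degree_pos_of_irreducible hg
  obtain ⟨P', hPP, hnd⟩ :=
    (finiteMultiplicity_of_degree_pos_of_monic hdeg hgm hP).exists_eq_pow_mul_and_not_dvd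
  refine ⟨multiplicity g P, fun a ha => ?_⟩
  have hP'0 : P' ≠ 0 := by
    rintro rfl
    exact hnd (dvd_zero _)
  have hmapne : (g.map (algebraMap k L)) ^ (multiplicity g P) * P'.map (algebraMap k L) ≠ 0 := by
    apply mul_ne_zero
    · apply pow_ne_zero
      exact (Polynomial.map_ne_zero_iff (algebraMap k L).injective).mpr hgm.ne_zero
    · exact (Polynomial.map_ne_zero_iff (algebraMap k L).injective).mpr hP'0
  have hmin : minpoly k a = g := (minpoly.eq_of_irreducible_of_monic hg ha hgm).symm
  have h1 : rootMultiplicity a (g.map (algebraMap k L)) = 1 := by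
    apply le_antisymm (rootMultiplicity_le_one_of_separable hgs.map a)
    have : 0 < rootMultiplicity a (g.map (algebraMap k L)) := by
      rw [rootMultiplicity_pos ((Polynomial.map_ne_zero_iff (algebraMap k L).injective).mpr
        hgm.ne_zero), IsRoot, eval_map_algebraMap]
      exact ha
    exact this
  have h2 : rootMultiplicity a (P'.map (algebraMap k L)) = 0 := by
    apply rootMultiplicity_eq_zero
    intro hroot
    rw [IsRoot, eval_map_algebraMap] at hroot
    apply hnd
    rw [← hmin]
    exact minpoly.dvd k a hroot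
  conv_lhs => rw [hPP]
  rw [Polynomial.map_mul, Polynomial.map_pow, rootMultiplicity_mul hmapne, rootMultiplicity_pow',
    h1, h2, mul_one, add_zero]

end Poly

section Sym

variable {k K : Type u} [Field k] [Field K] [Algebra k K] [FiniteDimensional k K]

/-- an embedding is determined by its value at a primitive element of the separable closure -/
theorem emb_ext_of_primitive (θ : separableClosure k K) (hθ : IntermediateField.adjoin k {θ} = ⊤)
    (σ τ : Field.Emb k K) (h : σ (θ : K) = τ (θ : K)) : σ = τ := by
  have hadj : Algebra.adjoin k {θ} = ⊤ := by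
    rw [← IntermediateField.adjoin_simple_toSubalgebra_of_isAlgebraic
      (Algebra.IsAlgebraic.isAlgebraic θ), hθ, IntermediateField.top_toSubalgebra]
  have hs : σ.comp (separableClosure k K).val = τ.comp (separableClosure k K).val := by
    apply AlgHom.ext_of_adjoin_eq_top hadj
    intro x hx
    rw [Set.mem_singleton_iff.mp hx]
    exact h
  have hinj := IsPurelyInseparable.injective_comp_algebraMap (separableClosure k K) K
    (AlgebraicClosure K)
  have h2 : σ.toRingHom = τ.toRingHom := by
    apply hinj
    ext x
    exact congrArg (fun f => f x) hs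
  apply AlgHom.coe_ringHom_injective
  exact h2

theorem multiplicities_eq [Fintype (Field.Emb k K)] [DecidableEq (Field.Emb k K)] {d : ℕ}
    (F : MulLaw k K k d) (m : Field.Emb k K → ℕ)
    (hval : ∀ (S' : Type u) [CommRing S'] [Algebra k S'] [Algebra (AlgebraicClosure K) S']
        [IsScalarTower k (AlgebraicClosure K) S'] (w : S' ⊗[k] K),
        val F.law S' w = ∏ σ, (sig S' σ w) ^ (m σ)) :
    ∃ r : ℕ, ∀ σ, m σ = r := by
  classical
  obtain ⟨θ, hθ⟩ := Field.exists_primitive_element k (separableClosure k K)
  let z : k[X] ⊗[k] K := (X : k[X]) ⊗ₜ[k] (1 : K) - (1 : k[X]) ⊗ₜ[k] (θ : K)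
  let P : k[X] := val F.law k[X] z
  let j : k[X] →ₐ[k] (AlgebraicClosure K)[X] :=
    Polynomial.mapAlgHom (Algebra.ofId k (AlgebraicClosure K))
  have hPmap : P.map (algebraMap k (AlgebraicClosure K)) =
      ∏ σ : Field.Emb k K, (X - C (σ (θ : K))) ^ (m σ) := by
    have h1 : j P = val F.law (AlgebraicClosure K)[X]
        (Algebra.TensorProduct.map j (AlgHom.id k K) z) := (val_map F.law j z).symm
    have h2 : j P = P.map (algebraMap k (AlgebraicClosure K)) := rfl
    rw [← h2, h1, hval]
    refine Finset.prod_congr rfl fun σ _ => ?_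
    congr 1
    simp only [z, map_sub, Algebra.TensorProduct.map_tmul, map_one, AlgHom.coe_id, id_eq, sig_tmul,
      one_mul, mul_one]
    congr 1
    simp [j]
  have hP0 : P ≠ 0 := by
    intro h0
    have h3 : (∏ σ : Field.Emb k K, (X - C (σ (θ : K))) ^ (m σ) : (AlgebraicClosure K)[X]) ≠ 0 :=
      (monic_prod_of_monic _ _ fun i _ => (monic_X_sub_C _).pow _).ne_zero
    rw [← hPmap, h0, Polynomial.map_zero] at h3
    exact h3 rfl
  have hint : IsIntegral k (θ : K) := Algebra.IsIntegral.isIntegral _
  have hsep : (minpoly k (θ : K)).Separable := mem_separableClosure_iff.mp θ.2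
  obtain ⟨r, hr⟩ := exists_rootMultiplicity_eq (L := AlgebraicClosure K) (minpoly k (θ : K)) P
    (minpoly.irreducible hint) (minpoly.monic hint) hsep hP0
  refine ⟨r, fun σ => ?_⟩
  have h1 := hr (σ (θ : K)) (by
    rw [Polynomial.aeval_algHom_apply, minpoly.aeval, map_zero])
  rw [hPmap, rootMultiplicity_prod_X_sub_C_pow] at h1
  rw [← h1]
  have : ∀ τ ∈ Finset.univ, (if τ (θ : K) = σ (θ : K) then m τ else 0) =
      if τ = σ then m τ else 0 := by
    intro τ _
    by_cases h : τ = σ
    · rw [if_pos h, if_pos (by rw [h])]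
    · rw [if_neg h, if_neg (fun h' => h (emb_ext_of_primitive θ hθ τ σ h'))]
  rw [Finset.sum_congr rfl this, Finset.sum_ite_eq' Finset.univ σ, if_pos (Finset.mem_univ σ)]

end Sym

end Groth.Agent.Lib.Helper59.FLawSym
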