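import Groth.Agent.Lib.Helper59.CHRel4

/-!
# The fibres of the image of a family of zero-cycles have at most `d` points
-/

set_option autoImplicit false

namespace Groth.Agent.Lib.Helper59.FibreCount

open scoped TensorProduct
open PolLaw Polynomial Groth.Agent.Lib.Helper59.CHRel

universe u

theorem finite_card_le_of_no_inj {α : Type*} (d : ℕ)
    (h : ∀ f : Fin (d + 1) → α, ¬ Function.Injective f) : Finite α ∧ Nat.card α ≤ d := by
  have hfin : Finite α := by
    by_contra hinf
    rw [not_finite_iff_infinite] at hinf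
    exact h (fun i => Infinite.natEmbedding α i.1)
      (fun i j hij => Fin.ext ((Infinite.natEmbedding α).injective hij))
  refine ⟨hfin, ?_⟩
  by_contra hlt
  rw [not_le] at hlt
  let e := Finite.equivFin α
  exact h (fun i => e.symm (Fin.castLE hlt i)) (fun i j hij => by
    have := e.symm.injective hij
    exact Fin.castLE_injective hlt this)

section

variable {A : Type u} [CommRing A] {B : Type u} [CommRing B] [Algebra A B] {d : ℕ}

/-- every element of `A' ⊗ (B / ker F)` is a root of a monic polynomial of degree at most `d` -/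
theorem monic_quot (F : MulLaw A B A d) (A' : Type u) [CommRing A'] [Algebra A A']
    (ub : A' ⊗[A] PolLaw.image F.law) :
    ∃ p : A'[X], p.Monic ∧ p.natDegree ≤ d ∧ Polynomial.aeval ub p = 0 := by
  let q : B →ₐ[A] PolLaw.image F.law := Ideal.Quotient.mkₐ A (PolLaw.ker F.law)
  let Q : A' ⊗[A] B →ₐ[A'] A' ⊗[A] PolLaw.image F.law :=
    Algebra.TensorProduct.map (AlgHom.id A' A') q
  have hQ : Function.Surjective Q := by
    intro y
    obtain ⟨y', hy'⟩ := LinearMap.lTensor_surjective A' (g := q.toLinearMap)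
      (Ideal.Quotient.mkₐ_surjective A _) y
    refine ⟨y', ?_⟩
    rw [← hy']
    clear hy'
    induction y' using TensorProduct.induction_on with
    | zero => simp
    | tmul s b => simp [Q]
    | add x y hx hy => simp only [map_add, hx, hy]
  obtain ⟨u, rfl⟩ := hQ ub
  obtain ⟨p, hp, hdeg, hmem⟩ := exists_monic_rel F A' u
  refine ⟨p, hp, hdeg, ?_⟩
  rw [Polynomial.aeval_algHom_apply]
  have hle : (PolLaw.ker F.law).map (Algebra.TensorProduct.includeRight : B →ₐ[A] A' ⊗[A] B) ≤
      RingHom.ker Q := by
    rw [Ideal.map_le_iff_le_comap]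
    intro k hk
    rw [Ideal.mem_comap, RingHom.mem_ker]
    have : Q ((Algebra.TensorProduct.includeRight : B →ₐ[A] A' ⊗[A] B) k) = 1 ⊗ₜ[A] q k := by
      simp [Q]
    rw [this]
    have hq : q k = 0 := Ideal.Quotient.eq_zero_iff_mem.mpr hk
    rw [hq, TensorProduct.tmul_zero]
  exact hle hmem

end

section Abstract

variable {K : Type*} [Field K] {R : Type*} [CommRing R] [Algebra K R] (d : ℕ)

theorem card_le_of_monic [Algebra.IsIntegral K R]
    (H : ∀ e : Fin (d + 1) → R, ∃ p : K[X][X], p.Monic ∧ p.natDegree ≤ d ∧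
      Polynomial.eval₂ (Polynomial.mapRingHom (algebraMap K R))
        (∑ i : Fin (d + 1), (X : R[X]) ^ (i : ℕ) * C (e i)) p = 0) :
    Finite (PrimeSpectrum R) ∧ Nat.card (PrimeSpectrum R) ≤ d := by
  classical
  apply finite_card_le_of_no_inj
  intro f hf
  have hmax : ∀ j, (f j).asIdeal.IsMaximal := by
    intro j
    apply Ideal.Quotient.maximal_of_isField
    have : Algebra.IsIntegral K (R ⧸ (f j).asIdeal) :=
      Algebra.IsIntegral.of_surjective (Ideal.Quotient.mkₐ K (f j).asIdeal)
        (Ideal.Quotient.mkₐ_surjective K _)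
    exact isField_of_isIntegral_of_isField' (R := K) (S := R ⧸ (f j).asIdeal) (Field.toIsField K)
  have hcop : Pairwise (Function.onFun IsCoprime fun j => (f j).asIdeal) := by
    intro i j hij
    have := hmax i
    have := hmax j
    exact Ideal.isCoprime_of_isMaximal (fun h => hij (hf (PrimeSpectrum.ext h)))
  have he : ∀ i : Fin (d + 1), ∃ r : R, ∀ j, r - (if j = i then 1 else 0) ∈ (f j).asIdeal :=
    fun i => Ideal.exists_forall_sub_mem_ideal hcop _
  choose e he using he
  obtain ⟨p, hp, hdeg, h0⟩ := H e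
  have hroot : ∀ j : Fin (d + 1), p.IsRoot ((X : K[X]) ^ (j : ℕ)) := by
    intro j
    have := hmax j
    let ιj : K →+* R ⧸ (f j).asIdeal := (Ideal.Quotient.mk (f j).asIdeal).comp (algebraMap K R)
    have h1 := congrArg (Polynomial.mapRingHom (Ideal.Quotient.mk (f j).asIdeal)) h0
    rw [Polynomial.hom_eval₂, map_zero, Polynomial.mapRingHom_comp] at h1
    have h2 : Polynomial.mapRingHom (Ideal.Quotient.mk (f j).asIdeal)
        (∑ i : Fin (d + 1), (X : R[X]) ^ (i : ℕ) * C (e i)) =
        Polynomial.mapRingHom ιj ((X : K[X]) ^ (j : ℕ)) := by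
      rw [map_sum, Finset.sum_eq_single j]
      · have hej : Ideal.Quotient.mk (f j).asIdeal (e j) = 1 := by
          have := he j j
          rw [if_pos rfl, ← Ideal.Quotient.eq] at this
          rw [this, map_one]
        simp [hej]
      · intro i _ hij
        have hei : Ideal.Quotient.mk (f j).asIdeal (e i) = 0 := by
          have := he i j
          rw [if_neg (Ne.symm hij), sub_zero] at this
          exact Ideal.Quotient.eq_zero_iff_mem.mpr this
        simp [hei]
      · intro h
        exact absurd (Finset.mem_univ j) h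
    rw [h2, Polynomial.eval₂_at_apply] at h1
    have hinj : Function.Injective (Polynomial.mapRingHom ιj) :=
      Polynomial.map_injective ιj ιj.injective
    exact hinj (by rw [h1, map_zero])
  have hp0 : p ≠ 0 := hp.ne_zero
  let Z : Finset K[X] := Finset.univ.image fun j : Fin (d + 1) => (X : K[X]) ^ (j : ℕ)
  have hinjX : Function.Injective fun j : Fin (d + 1) => (X : K[X]) ^ (j : ℕ) := by
    intro i j hij
    have := congrArg Polynomial.natDegree hij
    simp only [Polynomial.natDegree_X_pow] at this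
    exact Fin.ext this
  have hZ : Z.card = d + 1 := by
    rw [Finset.card_image_of_injective _ hinjX, Finset.card_univ, Fintype.card_fin]
  have hsub : Z.val ⊆ p.roots := by
    intro a ha
    rw [Finset.mem_val, Finset.mem_image] at ha
    obtain ⟨j, _, rfl⟩ := ha
    exact (Polynomial.mem_roots hp0).mpr (hroot j)
  have := Polynomial.card_le_degree_of_subset_roots hsub
  omega

end Abstract

section Count

variable {A : Type u} [CommRing A] {B : Type u} [CommRing B] [Algebra A B] {d : ℕ}
  (F : MulLaw A B A d) (K : Type u) [Field K] [Algebra A K]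

theorem isIntegral_fibre : Algebra.IsIntegral K (K ⊗[A] PolLaw.image F.law) := by
  refine ⟨fun r => ?_⟩
  obtain ⟨p, hp, _, h0⟩ := monic_quot F K r
  exact ⟨p, hp, h0⟩

/-- `K ⊗ B̄ → K[X] ⊗ B̄` -/
noncomputable def jC : K ⊗[A] PolLaw.image F.law →ₐ[A] K[X] ⊗[A] PolLaw.image F.law :=
  Algebra.TensorProduct.map (Polynomial.CAlgHom (R := A) (A := K)) (AlgHom.id A _)

/-- `K[X] ⊗ B̄ → (K ⊗ B̄)[X]` -/
noncomputable def Psi : K[X] ⊗[A] PolLaw.image F.law →ₐ[A] (K ⊗[A] PolLaw.image F.law)[X] :=
  Algebra.TensorProduct.lift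
    (Polynomial.mapAlgHom (Algebra.TensorProduct.includeLeft : K →ₐ[A] K ⊗[A] PolLaw.image F.law))
    ((Polynomial.CAlgHom (R := A) (A := K ⊗[A] PolLaw.image F.law)).comp
      Algebra.TensorProduct.includeRight)
    (fun _ _ => Commute.all (S := (K ⊗[A] PolLaw.image F.law)[X]) _ _)

theorem Psi_tmul (k : K[X]) (b : PolLaw.image F.law) :
    Psi F K (k ⊗ₜ[A] b) =
      Polynomial.map (algebraMap K (K ⊗[A] PolLaw.image F.law)) k * C ((1 : K) ⊗ₜ[A] b) := by
  simp [Psi]
  rfl

theorem Psi_jC (r : K ⊗[A] PolLaw.image F.law) : Psi F K (jC F K r) = C r := by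
  induction r using TensorProduct.induction_on with
  | zero => simp
  | tmul k b =>
      rw [jC, Algebra.TensorProduct.map_tmul, Psi_tmul]
      simp only [Polynomial.CAlgHom_apply, Polynomial.map_C, AlgHom.coe_id, id_eq, ← map_mul,
        Algebra.TensorProduct.algebraMap_apply, Algebra.TensorProduct.tmul_mul_tmul, mul_one, one_mul]
      rfl
  | add x y hx hy => simp only [map_add, hx, hy]

theorem Psi_comp_algebraMap :
    (Psi F K).toRingHom.comp (algebraMap K[X] (K[X] ⊗[A] PolLaw.image F.law)) =
      Polynomial.mapRingHom (algebraMap K (K ⊗[A] PolLaw.image F.law)) := by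
  refine RingHom.ext fun k => ?_
  show Psi F K (algebraMap K[X] (K[X] ⊗[A] PolLaw.image F.law) k) = _
  rw [Algebra.TensorProduct.algebraMap_apply, Psi_tmul]
  simp [← Algebra.TensorProduct.one_def]

/-- the fibre of the image of a family of zero-cycles of degree `d` over a field-valued point
has at most `d` points -/
theorem fibre_card_le :
    Finite (PrimeSpectrum (K ⊗[A] PolLaw.image F.law)) ∧
      Nat.card (PrimeSpectrum (K ⊗[A] PolLaw.image F.law)) ≤ d := by
  have := isIntegral_fibre F K
  apply card_le_of_monic (K := K) d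
  intro e
  obtain ⟨p, hp, hdeg, h0⟩ := monic_quot F K[X]
    (∑ i : Fin (d + 1), (((X : K[X]) ^ (i : ℕ)) ⊗ₜ[A] (1 : PolLaw.image F.law)) * jC F K (e i))
  refine ⟨p, hp, hdeg, ?_⟩
  have h1 := congrArg (Psi F K).toRingHom h0
  rw [Polynomial.aeval_def, Polynomial.hom_eval₂, map_zero, Psi_comp_algebraMap] at h1
  rw [← h1]
  congr 1
  show _ = Psi F K _
  rw [map_sum]
  refine Finset.sum_congr rfl fun i _ => ?_
  rw [map_mul, Psi_jC, Psi_tmul]
  simp [← Algebra.TensorProduct.one_def]

end Count

end Groth.Agent.Lib.Helper59.FibreCount
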