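import Mathlib

/-!
# Graded prime avoidance

For a graded ring and finitely many "homogeneous primes" given by their graded pieces: if every
homogeneous element of positive degree lies in one of them, then one of them contains all
homogeneous elements of positive degree.
-/

set_option autoImplicit false

namespace Groth.Agent.Lib.Helper59.GPA

variable {A B : Type*} [CommRing A] [CommRing B] [Algebra A B] (𝒜 : ℕ → Submodule A B)
  [GradedAlgebra 𝒜] {ι : Type*} (Q : ι → ℕ → Submodule A B)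

section

variable (h0 : ∀ i, (1 : B) ∉ Q i 0)
  (h1 : ∀ i n m b c, b ∈ Q i n → c ∈ 𝒜 m → b * c ∈ Q i (n + m))
  (h2 : ∀ i n m b c, b ∈ 𝒜 n → c ∈ 𝒜 m → b * c ∈ Q i (n + m) → b ∈ Q i n ∨ c ∈ Q i m)

include h1 in
theorem pow_mem (i : ι) (n : ℕ) (f : B) (hf : f ∈ 𝒜 n) (hfQ : f ∈ Q i n) (a : ℕ) :
    f ^ (a + 1) ∈ Q i ((a + 1) * n) := by
  have h : f ^ a ∈ 𝒜 (a • n) := SetLike.pow_mem_graded a hf
  have := h1 i n (a • n) f (f ^ a) hfQ h
  rw [← pow_succ'] at this
  have e : n + a • n = (a + 1) * n := by rw [smul_eq_mul]; ring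
  rwa [e] at this

include h2 in
theorem of_pow_mem (i : ι) (n : ℕ) (f : B) (hf : f ∈ 𝒜 n) (a : ℕ)
    (h : f ^ (a + 1) ∈ Q i ((a + 1) * n)) : f ∈ Q i n := by
  induction a with
  | zero => simpa using h
  | succ a ih =>
      have hfa : f ^ (a + 1) ∈ 𝒜 ((a + 1) • n) := SetLike.pow_mem_graded (a + 1) hf
      have e : (a + 1 + 1) * n = n + (a + 1) • n := by rw [smul_eq_mul]; ring
      rw [e, pow_succ'] at h
      rcases h2 i n ((a + 1) • n) f (f ^ (a + 1)) hf hfa h with h' | h'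
      · exact h'
      · rw [smul_eq_mul] at h'
        exact ih h'

include h0 h2 in
theorem exists_of_prod_mem [DecidableEq ι] {κ : Type*} [DecidableEq κ] (i : ι) (s : Finset κ)
    (f : κ → B) (n : κ → ℕ) (hf : ∀ j ∈ s, f j ∈ 𝒜 (n j))
    (h : ∏ j ∈ s, f j ∈ Q i (∑ j ∈ s, n j)) : ∃ j ∈ s, f j ∈ Q i (n j) := by
  induction s using Finset.induction_on with
  | empty =>
      rw [Finset.prod_empty, Finset.sum_empty] at h
      exact absurd h (h0 i)
  | insert a s ha ih =>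
      rw [Finset.prod_insert ha, Finset.sum_insert ha] at h
      have hs : ∏ j ∈ s, f j ∈ 𝒜 (∑ j ∈ s, n j) :=
        SetLike.prod_mem_graded 𝒜 n f (fun j hj => hf j (Finset.mem_insert_of_mem hj))
      rcases h2 i (n a) _ (f a) _ (hf a (Finset.mem_insert_self a s)) hs h with h' | h'
      · exact ⟨a, Finset.mem_insert_self a s, h'⟩
      · obtain ⟨j, hj, hjQ⟩ := ih (fun j hj => hf j (Finset.mem_insert_of_mem hj)) h'
        exact ⟨j, Finset.mem_insert_of_mem hj, hjQ⟩

include h1 in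
theorem prod_mem_of_mem {κ : Type*} [DecidableEq κ] (i : ι) (s : Finset κ)
    (f : κ → B) (n : κ → ℕ) (hf : ∀ j ∈ s, f j ∈ 𝒜 (n j)) (l : κ) (hl : l ∈ s)
    (hlQ : f l ∈ Q i (n l)) : ∏ j ∈ s, f j ∈ Q i (∑ j ∈ s, n j) := by
  rw [← Finset.mul_prod_erase s f hl, ← Finset.add_sum_erase s n hl]
  refine h1 i _ _ _ _ hlQ ?_
  exact SetLike.prod_mem_graded 𝒜 n f (fun j hj => hf j (Finset.mem_of_mem_erase hj))

include h1 in
theorem pow_mem' (i : ι) (n : ℕ) (f : B) (hf : f ∈ 𝒜 n) (hfQ : f ∈ Q i n) (a : ℕ) (ha : 0 < a) :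
    f ^ a ∈ Q i (a * n) := by
  obtain ⟨a, rfl⟩ := Nat.exists_eq_succ_of_ne_zero ha.ne'
  exact pow_mem 𝒜 Q h1 i n f hf hfQ a

include h2 in
theorem of_pow_mem' (i : ι) (n : ℕ) (f : B) (hf : f ∈ 𝒜 n) (a : ℕ) (ha : 0 < a)
    (h : f ^ a ∈ Q i (a * n)) : f ∈ Q i n := by
  obtain ⟨a, rfl⟩ := Nat.exists_eq_succ_of_ne_zero ha.ne'
  exact of_pow_mem 𝒜 Q h2 i n f hf a h

include h0 h1 h2 in
/-- Graded prime avoidance. -/
theorem main [DecidableEq ι] (T : Finset ι)
    (cover : ∀ n, 0 < n → ∀ f ∈ 𝒜 n, ∃ i ∈ T, f ∈ Q i n) :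
    ∃ i ∈ T, ∀ n, 0 < n → 𝒜 n ≤ Q i n := by
  classical
  induction T using Finset.strongInduction with
  | H T ih =>
    by_cases hex : ∃ j ∈ T, ∀ n, 0 < n → ∀ f ∈ 𝒜 n, ∃ i ∈ T.erase j, f ∈ Q i n
    · obtain ⟨j, hj, hc⟩ := hex
      obtain ⟨i, hi, h⟩ := ih (T.erase j) (Finset.erase_ssubset hj) hc
      exact ⟨i, Finset.mem_of_mem_erase hi, h⟩
    · have hne : ∀ j ∈ T, ∃ n, 0 < n ∧ ∃ f, f ∈ 𝒜 n ∧ ∀ i ∈ T.erase j, f ∉ Q i n := by
        intro j hj
        by_contra hcon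
        apply hex
        refine ⟨j, hj, fun n hn f hf => ?_⟩
        by_contra hcon2
        apply hcon
        refine ⟨n, hn, f, hf, fun i hi hfi => hcon2 ⟨i, hi, hfi⟩⟩
      choose! nn hn ff hff hffQ using hne
      rcases T.eq_empty_or_nonempty with hT | ⟨j₀, hj₀⟩
      · obtain ⟨i, hi, -⟩ := cover 1 one_pos 0 (zero_mem _)
        rw [hT] at hi
        exact absurd hi (Finset.notMem_empty i)
      · have hj₀Q : ff j₀ ∈ Q j₀ (nn j₀) := by
          obtain ⟨i, hi, hiQ⟩ := cover (nn j₀) (hn j₀ hj₀) (ff j₀) (hff j₀ hj₀)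
          by_cases hij : i = j₀
          · rw [hij] at hiQ; exact hiQ
          · exact absurd hiQ (hffQ j₀ hj₀ i (Finset.mem_erase.2 ⟨hij, hi⟩))
        rcases (T.erase j₀).eq_empty_or_nonempty with hT' | ⟨j₁, hj₁⟩
        · refine ⟨j₀, hj₀, fun n hn' f hf => ?_⟩
          obtain ⟨i, hi, hiQ⟩ := cover n hn' f hf
          by_cases hij : i = j₀
          · rw [hij] at hiQ; exact hiQ
          · have : i ∈ T.erase j₀ := Finset.mem_erase.2 ⟨hij, hi⟩
            rw [hT'] at this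
            exact absurd this (Finset.notMem_empty i)
        · exfalso
          set T' := T.erase j₀ with hT'def
          set N := ∑ i ∈ T', nn i with hN
          set P := ∏ i ∈ T', ff i with hP
          have hT'T : ∀ i ∈ T', i ∈ T := fun i hi => Finset.mem_of_mem_erase hi
          have hNpos : 0 < N := by
            have h1' : nn j₁ ≤ N := Finset.single_le_sum (f := nn) (fun i _ => Nat.zero_le _) hj₁
            exact lt_of_lt_of_le (hn j₁ (hT'T j₁ hj₁)) h1'
          have hPmem : P ∈ 𝒜 N :=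
            SetLike.prod_mem_graded 𝒜 nn ff (fun j hj => hff j (hT'T j hj))
          have hg1 : ff j₀ ^ N ∈ 𝒜 (N * nn j₀) := by
            have := SetLike.pow_mem_graded N (hff j₀ hj₀)
            rwa [smul_eq_mul] at this
          have hg2 : P ^ nn j₀ ∈ 𝒜 (N * nn j₀) := by
            have := SetLike.pow_mem_graded (nn j₀) hPmem
            rwa [smul_eq_mul, mul_comm] at this
          have hMpos : 0 < N * nn j₀ := Nat.mul_pos hNpos (hn j₀ hj₀)
          obtain ⟨i, hi, hiQ⟩ := cover (N * nn j₀) hMpos (ff j₀ ^ N + P ^ nn j₀)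
            (add_mem hg1 hg2)
          by_cases hij : i = j₀
          · rw [hij] at hiQ
            have h1' : ff j₀ ^ N ∈ Q j₀ (N * nn j₀) :=
              pow_mem' 𝒜 Q h1 j₀ (nn j₀) (ff j₀) (hff j₀ hj₀) hj₀Q N hNpos
            have h2' : P ^ nn j₀ ∈ Q j₀ (N * nn j₀) := by
              have := sub_mem hiQ h1'
              rwa [add_sub_cancel_left] at this
            rw [mul_comm] at h2'
            have h3 : P ∈ Q j₀ N :=
              of_pow_mem' 𝒜 Q h2 j₀ N P hPmem (nn j₀) (hn j₀ hj₀) h2'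
            obtain ⟨l, hl, hlQ⟩ := exists_of_prod_mem 𝒜 Q h0 h2 j₀ T' ff nn
              (fun j hj => hff j (hT'T j hj)) h3
            have hl' : l ≠ j₀ := (Finset.mem_erase.1 hl).1
            exact hffQ l (hT'T l hl) j₀ (Finset.mem_erase.2 ⟨fun h => hl' h.symm, hj₀⟩) hlQ
          · have hiT' : i ∈ T' := Finset.mem_erase.2 ⟨hij, hi⟩
            have hiQ' : ff i ∈ Q i (nn i) := by
              obtain ⟨i', hi', hiQ'⟩ := cover (nn i) (hn i hi) (ff i) (hff i hi)
              by_cases hii : i' = i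
              · rw [hii] at hiQ'; exact hiQ'
              · exact absurd hiQ' (hffQ i hi i' (Finset.mem_erase.2 ⟨hii, hi'⟩))
            have h3 : P ∈ Q i N := prod_mem_of_mem 𝒜 Q h1 i T' ff nn
              (fun j hj => hff j (hT'T j hj)) i hiT' hiQ'
            have h2' : P ^ nn j₀ ∈ Q i (nn j₀ * N) :=
              pow_mem' 𝒜 Q h1 i N P hPmem h3 (nn j₀) (hn j₀ hj₀)
            rw [mul_comm] at h2'
            have h1' : ff j₀ ^ N ∈ Q i (N * nn j₀) := by
              have := sub_mem hiQ h2'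
              rwa [add_sub_cancel_right] at this
            have h4 : ff j₀ ∈ Q i (nn j₀) :=
              of_pow_mem' 𝒜 Q h2 i (nn j₀) (ff j₀) (hff j₀ hj₀) N hNpos h1'
            exact hffQ j₀ hj₀ i hiT' h4

end

end Groth.Agent.Lib.Helper59.GPA
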