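import Groth.Agent.Lib.Helper59.PolarGamma

/-!
# The top coefficient of `F (1 + t z)` for a homogeneous law

For `F` homogeneous of degree `e`, the coefficient of `t ^ e` in `F (1 + t • z)` (computed over
`S[t] = MvPolynomial Unit S`) is `F z` (`top_coeff`).
-/

set_option autoImplicit false

namespace Groth.Agent.Lib.Helper59.TopCoeff

open scoped TensorProduct
open PolLaw Groth.Agent.Lib.Helper59.KerPoly Groth.Agent.Lib.Helper59.LawReduced
  Groth.Agent.Lib.Helper59.CHCore Groth.Agent.Lib.Helper59.GammaGen
  Groth.Agent.Lib.Helper59.Polar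

universe u

section Coeff

variable {S : Type u} [CommRing S]

/-- `v ↦ v`, `t ↦ t v` -/
noncomputable def gσ : Option Unit → MvPolynomial (Option Unit) S :=
  fun o => o.elim (MvPolynomial.X none) (fun _ => MvPolynomial.X (some ()) * MvPolynomial.X none)

/-- `v ↦ 0`, `t ↦ t` -/
noncomputable def g₀ : Option Unit → MvPolynomial Unit S :=
  fun o => o.elim 0 (fun _ => MvPolynomial.X ())

/-- the exponent of `v ^ e t ^ e` -/
noncomputable def β (e : ℕ) : Option Unit →₀ ℕ :=
  Finsupp.single none e + Finsupp.single (some ()) e

theorem finsupp_ext_option {α α' : Option Unit →₀ ℕ} :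
    α = α' ↔ α none = α' none ∧ α (some ()) = α' (some ()) := by
  constructor
  · rintro rfl
    exact ⟨rfl, rfl⟩
  · rintro ⟨h1, h2⟩
    ext o
    cases o with
    | none => exact h1
    | some u => exact h2

theorem aeval_gσ_monomial (α : Option Unit →₀ ℕ) :
    MvPolynomial.aeval (gσ (S := S)) (MvPolynomial.monomial α (1 : S)) =
      MvPolynomial.monomial (Finsupp.single none (α none + α (some ())) +
        Finsupp.single (some ()) (α (some ()))) 1 := by
  rw [MvPolynomial.aeval_monomial, map_one, one_mul,
    Finsupp.prod_fintype _ _ (fun j => pow_zero _), Fintype.prod_option]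
  simp only [Finset.univ_unique, Finset.prod_singleton, gσ, Option.elim_none, Option.elim_some,
    PUnit.default_eq_unit]
  rw [MvPolynomial.X_pow_eq_monomial, mul_pow, MvPolynomial.X_pow_eq_monomial,
    MvPolynomial.X_pow_eq_monomial, MvPolynomial.monomial_mul, MvPolynomial.monomial_mul, one_mul,
    one_mul]
  congr 2
  rw [finsupp_ext_option]
  simp only [Finsupp.add_apply, Finsupp.single_apply]
  simp

theorem aeval_g₀_monomial (α : Option Unit →₀ ℕ) :
    MvPolynomial.aeval (g₀ (S := S)) (MvPolynomial.monomial α (1 : S)) =
      MvPolynomial.monomial (Finsupp.single () (α (some ()))) ((0 : S) ^ α none) := by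
  rw [MvPolynomial.aeval_monomial, map_one, one_mul,
    Finsupp.prod_fintype _ _ (fun j => pow_zero _), Fintype.prod_option]
  simp only [Finset.univ_unique, Finset.prod_singleton, g₀, Option.elim_none, Option.elim_some,
    PUnit.default_eq_unit]
  rw [MvPolynomial.X_pow_eq_monomial, ← map_zero (MvPolynomial.C (σ := Unit) (R := S)), ← map_pow,
    MvPolynomial.C_mul_monomial, mul_one]

theorem coeff_gσ_eq (e : ℕ) (p : MvPolynomial (Option Unit) S) :
    MvPolynomial.coeff (β e) (MvPolynomial.aeval (gσ (S := S)) p) =
      MvPolynomial.coeff (Finsupp.single () e) (MvPolynomial.aeval (g₀ (S := S)) p) := by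
  classical
  induction p using MvPolynomial.induction_on' with
  | monomial α a =>
    rw [monomial_eq_smul, map_smul, map_smul, MvPolynomial.coeff_smul, MvPolynomial.coeff_smul,
      aeval_gσ_monomial, aeval_g₀_monomial, MvPolynomial.coeff_monomial,
      MvPolynomial.coeff_monomial]
    congr 1
    by_cases h : α (some ()) = e
    · by_cases h0 : α none = 0
      · rw [if_pos, if_pos, h0, pow_zero]
        · rw [h]
        · rw [β, h0, zero_add, h]
      · rw [if_neg, if_pos, zero_pow h0]
        · rw [h]
        · intro h1
          have h2 := (finsupp_ext_option.mp h1).1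
          simp [β, Finsupp.add_apply] at h2
          omega
    · rw [if_neg, if_neg]
      · intro h1
        apply h
        have h2 := DFunLike.congr_fun h1 ()
        simpa using h2
      · intro h1
        apply h
        have h2 := (finsupp_ext_option.mp h1).2
        simpa [β, Finsupp.add_apply, Finsupp.single_apply] using h2
  | add p q hp hq => rw [map_add, map_add, MvPolynomial.coeff_add, MvPolynomial.coeff_add, hp, hq]

theorem coeff_X_pow_mul_rename (e : ℕ) (q : MvPolynomial Unit S) :
    MvPolynomial.coeff (β e)
        ((MvPolynomial.X none : MvPolynomial (Option Unit) S) ^ e *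
          MvPolynomial.rename some q) =
      MvPolynomial.coeff (Finsupp.single () e) q := by
  classical
  induction q using MvPolynomial.induction_on' with
  | monomial α a =>
    rw [MvPolynomial.rename_monomial, MvPolynomial.X_pow_eq_monomial, MvPolynomial.monomial_mul,
      one_mul, MvPolynomial.coeff_monomial, MvPolynomial.coeff_monomial]
    have hα : α = Finsupp.single () (α ()) := by
      ext
      simp
    by_cases h : α () = e
    · rw [if_pos, if_pos]
      · rw [hα, h]
      · rw [hα, Finsupp.mapDomain_single, h, β]
    · rw [if_neg, if_neg]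
      · intro h1
        apply h
        have h2 := DFunLike.congr_fun h1 ()
        simpa using h2
      · intro h1
        apply h
        have h2 := (finsupp_ext_option.mp h1).2
        rw [hα, Finsupp.mapDomain_single] at h2
        simpa [β, Finsupp.add_apply, Finsupp.single_apply] using h2
  | add p q hp hq => rw [map_add, mul_add, MvPolynomial.coeff_add, MvPolynomial.coeff_add, hp, hq]

end Coeff

section Top

variable {A : Type u} [CommRing A] {B C : Type u} [CommRing B] [Algebra A B] [CommRing C]
  [Algebra A C]

variable (A) in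
/-- the inclusion `S[t] → S[v, t]` -/
noncomputable def jA (S : Type u) [CommRing S] [Algebra A S] :
    MvPolynomial Unit S →ₐ[A] MvPolynomial (Option Unit) S :=
  (MvPolynomial.rename (R := S) (some : Unit → Option Unit)).restrictScalars A

theorem jA_apply (S : Type u) [CommRing S] [Algebra A S] (p : MvPolynomial Unit S) :
    jA A S p = MvPolynomial.rename some p := rfl

theorem jA_inc (M : Type u) [CommRing M] [Algebra A M] {S : Type u} [CommRing S] [Algebra A S]
    (y : S ⊗[A] M) :
    Algebra.TensorProduct.map (jA A S) (AlgHom.id A M) (inc A M Unit S y) =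
      inc A M (Option Unit) S y := by
  induction y using TensorProduct.induction_on with
  | zero => simp
  | tmul s m =>
    rw [inc_tmul, inc_tmul, Algebra.TensorProduct.map_tmul, jA_apply, MvPolynomial.rename_C]
    rfl
  | add a b ha hb => simp only [map_add, ha, hb]

/-- `1 + t z` -/
noncomputable def x₁ {S : Type u} [CommRing S] [Algebra A S] (z : S ⊗[A] B) :
    MvPolynomial Unit S ⊗[A] B :=
  1 + (MvPolynomial.X () : MvPolynomial Unit S) • inc A B Unit S z

/-- `v + t z` -/
noncomputable def hh {S : Type u} [CommRing S] [Algebra A S] (z : S ⊗[A] B) :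
    MvPolynomial (Option Unit) S ⊗[A] B :=
  (MvPolynomial.X none : MvPolynomial (Option Unit) S) • 1 +
    (MvPolynomial.X (some ()) : MvPolynomial (Option Unit) S) • inc A B (Option Unit) S z

theorem sub_gσ_hh {S : Type u} [CommRing S] [Algebra A S] (z : S ⊗[A] B) :
    Algebra.TensorProduct.map (sub A (gσ (S := S))) (AlgHom.id A B) (hh z) =
      (MvPolynomial.X none : MvPolynomial (Option Unit) S) •
        Algebra.TensorProduct.map (jA A S) (AlgHom.id A B) (x₁ z) := by
  rw [hh, x₁, map_add, map_add, map_smul', map_smul', map_smul', map_one, map_one, sub_inc,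
    jA_inc, Polar.sub_apply, Polar.sub_apply, MvPolynomial.aeval_X, MvPolynomial.aeval_X, jA_apply,
    MvPolynomial.rename_X, smul_add, smul_smul]
  simp only [gσ, Option.elim_none, Option.elim_some]
  rw [mul_comm]

theorem sub_g₀_hh {S : Type u} [CommRing S] [Algebra A S] (z : S ⊗[A] B) :
    Algebra.TensorProduct.map (sub A (g₀ (S := S))) (AlgHom.id A B) (hh z) =
      (MvPolynomial.X () : MvPolynomial Unit S) • inc A B Unit S z := by
  rw [hh, map_add, map_smul', map_smul', map_one, sub_inc, Polar.sub_apply, Polar.sub_apply,
    MvPolynomial.aeval_X, MvPolynomial.aeval_X]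
  simp only [g₀, Option.elim_none, Option.elim_some, zero_smul, zero_add]

theorem coefβ_smul_jA {S : Type u} [CommRing S] [Algebra A S] (e : ℕ)
    (G : MvPolynomial Unit S ⊗[A] C) :
    (coefL A (Option Unit) S (β e)).rTensor C
        ((MvPolynomial.X none : MvPolynomial (Option Unit) S) ^ e •
          Algebra.TensorProduct.map (jA A S) (AlgHom.id A C) G) =
      (coefL A Unit S (Finsupp.single () e)).rTensor C G := by
  induction G using TensorProduct.induction_on with
  | zero => simp
  | tmul q c =>
    rw [Algebra.TensorProduct.map_tmul, TensorProduct.smul_tmul', LinearMap.rTensor_tmul,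
      LinearMap.rTensor_tmul, coefL_apply, coefL_apply, smul_eq_mul, jA_apply,
      coeff_X_pow_mul_rename]
    rfl
  | add a b ha hb => rw [map_add, smul_add, map_add, ha, hb, map_add]

/-- the top coefficient of `F (1 + t z)` is `F z` -/
theorem top_coeff (F : B →ₚₗ[A] C) {e : ℕ} (hF : IsHomog F e) {S : Type u} [CommRing S]
    [Algebra A S] (z : S ⊗[A] B) :
    (coefL A Unit S (Finsupp.single () e)).rTensor C (F.toFun' (MvPolynomial Unit S) (x₁ z)) =
      F.toFun' S z := by
  have h1 : (coefL A (Option Unit) S (β e)) ∘ₗ (sub A (gσ (S := S))).toLinearMap =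
      (coefL A Unit S (Finsupp.single () e)) ∘ₗ (sub A (g₀ (S := S))).toLinearMap := by
    apply LinearMap.ext
    intro p
    exact coeff_gσ_eq e p
  have h2 : F.toFun' (MvPolynomial Unit S)
      ((MvPolynomial.X () : MvPolynomial Unit S) • inc A B Unit S z) =
      (MvPolynomial.X () : MvPolynomial Unit S) ^ e • inc A C Unit S (F.toFun' S z) := by
    rw [hF]
    congr 1
    exact (compat_map F (cS A Unit S) z).symm
  rw [← coefβ_smul_jA, compat_map, ← hF, ← sub_gσ_hh, ← compat_map, ← rTensor_algHom_apply,
    ← LinearMap.comp_apply, ← LinearMap.rTensor_comp, h1, LinearMap.rTensor_comp,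
    LinearMap.comp_apply, rTensor_algHom_apply, compat_map, sub_g₀_hh, h2, coef_smul_inc,
    MvPolynomial.X_pow_eq_monomial, MvPolynomial.coeff_monomial, if_pos rfl, one_smul]

end Top

section Aux

variable {A : Type u} [CommRing A]

theorem lamT_comp {S₁ S : Type u} [CommRing S₁] [Algebra A S₁] [CommRing S] [Algebra A S]
    {M : Type u} [AddCommGroup M] [Module A M] (lam : S →ₗ[A] A) (L : S₁ →ₗ[A] S)
    (y : S₁ ⊗[A] M) : lamT (lam ∘ₗ L) y = lamT lam (L.rTensor M y) := by
  induction y using TensorProduct.induction_on with
  | zero => simp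
  | tmul s m => rw [lamT_tmul, LinearMap.rTensor_tmul, lamT_tmul, LinearMap.comp_apply]
  | add a b ha hb => rw [map_add, ha, hb, map_add, map_add]

theorem lamT_coef_X_pow_smul {S : Type u} [CommRing S] [Algebra A S] {M : Type u}
    [AddCommGroup M] [Module A M] (lam : S →ₗ[A] A) (e : ℕ) (m : MvPolynomial Unit S ⊗[A] M) :
    lamT (lam ∘ₗ coefL A Unit S (Finsupp.single () e))
      ((MvPolynomial.X () : MvPolynomial Unit S) ^ (e + 1) • m) = 0 := by
  classical
  induction m using TensorProduct.induction_on with
  | zero => simp
  | tmul q c =>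
    rw [TensorProduct.smul_tmul', lamT_tmul, LinearMap.comp_apply, coefL_apply, smul_eq_mul,
      MvPolynomial.X_pow_eq_monomial, MvPolynomial.coeff_monomial_mul', if_neg, map_zero,
      zero_smul]
    intro h
    have h2 := h ()
    simp at h2
  | add a b ha hb => rw [smul_add, map_add, ha, hb, add_zero]

end Aux

end Groth.Agent.Lib.Helper59.TopCoeff
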