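import Groth.Agent.Lib.Helper59.TPow
import Groth.Agent.Lib.Helper59.TopCoeff

/-!
# Roby's theorem for algebras with a basis

A homogeneous law of degree `d` on an algebra `P` that is free as a module is a linear form of the
`d`-th tensor power law `P → T^d(P)`; the symmetric tensors of `P` are spanned by the coefficients
of the tensor power law.
-/

set_option autoImplicit false

namespace Groth.Agent.Lib.Helper59.GRoby

open scoped TensorProduct
open PolLaw Groth.Agent.Lib.Helper59.KerPoly Groth.Agent.Lib.Helper59.LawReduced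
  Groth.Agent.Lib.Helper59.CHCore Groth.Agent.Lib.Helper59.GammaGen

universe u

section Coef

variable {A : Type u} [CommRing A] {I : Type u}

/-- the coefficient of a monomial, on `A[X_i] ⊗ M` -/
noncomputable def cf (α : I →₀ ℕ) {M : Type u} [AddCommGroup M] [Module A M] :
    MvPolynomial I A ⊗[A] M →ₗ[A] M :=
  lamT (MvPolynomial.lcoeff A α)

theorem cf_tmul (α : I →₀ ℕ) {M : Type u} [AddCommGroup M] [Module A M] (g : MvPolynomial I A)
    (m : M) : cf α (g ⊗ₜ[A] m) = MvPolynomial.coeff α g • m := by
  rw [cf, lamT_tmul]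
  rfl

theorem coord_eq (α : I →₀ ℕ) :
    (MvPolynomial.basisMonomials I A).coord α = MvPolynomial.lcoeff A α := by
  ext g
  rfl

theorem cf_ext {M : Type u} [AddCommGroup M] [Module A M] (x y : MvPolynomial I A ⊗[A] M)
    (h : ∀ α, cf α x = cf α y) : x = y := by
  obtain ⟨T, hT⟩ := expand_left (MvPolynomial.basisMonomials I A) (x - y)
  rw [← sub_eq_zero, hT]
  refine Finset.sum_eq_zero fun α _ => ?_
  rw [coord_eq, map_sub]
  have := h α
  rw [cf] at this
  rw [this, sub_self, TensorProduct.tmul_zero]

theorem cf_map {M : Type u} [CommRing M] [Algebra A M] (α : I →₀ ℕ)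
    (L : MvPolynomial I A →ₐ[A] MvPolynomial I A) (lam : MvPolynomial I A →ₗ[A] A)
    (h : ∀ g, MvPolynomial.coeff α (L g) = lam g) (x : MvPolynomial I A ⊗[A] M) :
    cf α (Algebra.TensorProduct.map L (AlgHom.id A M) x) = lamT lam x := by
  induction x using TensorProduct.induction_on with
  | zero => simp
  | tmul g m => rw [Algebra.TensorProduct.map_tmul, cf_tmul, lamT_tmul, h]; rfl
  | add a b ha hb => rw [map_add, map_add, ha, hb, map_add]

end Coef

section Homog

variable {A : Type u} [CommRing A] {I : Type u} {M : Type u} [CommRing M] [Algebra A M]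

/-- the coefficient functional `g ↦ coeff α (coeff k g)` on `A[X_i][T]` -/
noncomputable def Lam (α : I →₀ ℕ) (k : ℕ) : Polynomial (MvPolynomial I A) →ₗ[A] A :=
  (MvPolynomial.lcoeff A α) ∘ₗ ((Polynomial.lcoeff (MvPolynomial I A) k).restrictScalars A)

theorem Lam_apply (α : I →₀ ℕ) (k : ℕ) (p : Polynomial (MvPolynomial I A)) :
    Lam α k p = MvPolynomial.coeff α (p.coeff k) := rfl

theorem lamT_Lam_psi (α : I →₀ ℕ) (x : MvPolynomial I A ⊗[A] M) :
    lamT (Lam α α.degree) (Algebra.TensorProduct.map (psi (A := A) (I := I)) (AlgHom.id A M) x) =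
      cf α x := by
  induction x using TensorProduct.induction_on with
  | zero => simp
  | tmul g m =>
      rw [Algebra.TensorProduct.map_tmul, lamT_tmul, cf_tmul, Lam_apply, coeff_psi,
        MvPolynomial.coeff_homogeneousComponent, if_pos rfl]
      rfl
  | add a b ha hb => rw [map_add, map_add, ha, hb, map_add]

theorem lamT_Lam_smul (α : I →₀ ℕ) (d : ℕ) (h : α.degree ≠ d) (x : MvPolynomial I A ⊗[A] M) :
    lamT (Lam α α.degree) ((Polynomial.X : Polynomial (MvPolynomial I A)) ^ d •
      Algebra.TensorProduct.map (Polynomial.CAlgHom (R := A) (A := MvPolynomial I A))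
        (AlgHom.id A M) x) = 0 := by
  induction x using TensorProduct.induction_on with
  | zero => simp
  | tmul g m =>
      rw [Algebra.TensorProduct.map_tmul, TensorProduct.smul_tmul', lamT_tmul, Lam_apply,
        smul_eq_mul, Polynomial.coeff_X_pow_mul']
      split_ifs with h1
      · have h2 : α.degree - d ≠ 0 := by omega
        have : (Polynomial.CAlgHom (R := A) (A := MvPolynomial I A) g).coeff (α.degree - d) = 0 := by
          show (Polynomial.C g).coeff (α.degree - d) = 0
          rw [Polynomial.coeff_C, if_neg h2]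
        rw [this, MvPolynomial.coeff_zero, zero_smul]
      · rw [MvPolynomial.coeff_zero, zero_smul]
  | add a b ha hb => rw [map_add, smul_add, map_add, ha, hb, add_zero]

/-- an element of `A[X_i] ⊗ M` that is homogeneous of degree `d` in the sense of the scaling
substitution has only coefficients of degree `d` -/
theorem cf_eq_zero_of_homog (x : MvPolynomial I A ⊗[A] M) (d : ℕ)
    (h : Algebra.TensorProduct.map (psi (A := A) (I := I)) (AlgHom.id A M) x =
      (Polynomial.X : Polynomial (MvPolynomial I A)) ^ d •
        Algebra.TensorProduct.map (Polynomial.CAlgHom (R := A) (A := MvPolynomial I A))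
          (AlgHom.id A M) x) (α : I →₀ ℕ) (hα : α.degree ≠ d) : cf α x = 0 := by
  rw [← lamT_Lam_psi, h, lamT_Lam_smul α d hα]

open Classical in
theorem cf_trunc (K : Finset I) (α : I →₀ ℕ) (x : MvPolynomial I A ⊗[A] M) :
    cf α (Algebra.TensorProduct.map (trunc K) (AlgHom.id A M) x) =
      if α.support ⊆ K then cf α x else 0 := by
  induction x using TensorProduct.induction_on with
  | zero => simp
  | tmul g m =>
      rw [Algebra.TensorProduct.map_tmul, cf_tmul, cf_tmul, coeff_trunc]
      split_ifs
      · rfl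
      · rw [zero_smul]
  | add a b ha hb =>
      rw [map_add, map_add, ha, hb, map_add]
      split_ifs
      · rfl
      · rw [add_zero]

end Homog

section Comb

variable {I : Type u} (d : ℕ)

/-- a representative tuple of a class -/
noncomputable def rep (α : I →₀ ℕ) (hne : Nonempty (Fin d → I)) : Fin d → I :=
  @Classical.epsilon _ hne fun c => cls d c = α

theorem cls_rep (α : I →₀ ℕ) (hne : Nonempty (Fin d → I)) (h : ∃ c : Fin d → I, cls d c = α) :
    cls d (rep d α hne) = α :=
  @Classical.epsilon_spec _ (fun c => cls d c = α) h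

/-- the representative of the class of a tuple -/
noncomputable def rp (c : Fin d → I) : Fin d → I := rep d (cls d c) ⟨c⟩

theorem cls_rp (c : Fin d → I) : cls d (rp d c) = cls d c := cls_rep d _ _ ⟨c, rfl⟩

theorem rp_congr (c c' : Fin d → I) (h : cls d c = cls d c') : rp d c = rp d c' := by
  unfold rp
  rw [h]

theorem rp_rp (c : Fin d → I) : rp d (rp d c) = rp d c := rp_congr d _ _ (cls_rp d c)

open Classical in
theorem cls_apply (c : Fin d → I) (μ : I) :
    cls d c μ = Fintype.card {i : Fin d // c i = μ} := by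
  rw [cls, Finsupp.coe_finsetSum, Finset.sum_apply, Fintype.card_subtype, Finset.card_filter]
  refine Finset.sum_congr rfl fun i _ => ?_
  rw [Finsupp.single_apply]

/-- two tuples in the same class differ by a permutation -/
theorem exists_perm (c c' : Fin d → I) (h : cls d c = cls d c') :
    ∃ σ : Equiv.Perm (Fin d), c' = c ∘ σ := by
  classical
  have hcard : ∀ μ : I, Fintype.card {i : Fin d // c' i = μ} = Fintype.card {i : Fin d // c i = μ} := by
    intro μ
    rw [← cls_apply, ← cls_apply, h]
  refine ⟨Equiv.ofFiberEquiv (f := c') (g := c) fun μ => Fintype.equivOfCardEq (hcard μ), ?_⟩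
  funext i
  exact (Equiv.ofFiberEquiv_map _ i).symm

end Comb

section Law

variable {A : Type u} [CommRing A] {P : Type u} [CommRing P] [Algebra A P] {I : Type u}
  (e : Module.Basis I A P) (d : ℕ) {C' : Type u} [CommRing C'] [Algebra A C'] (F : P →ₚₗ[A] C')

/-- the generic element supported on `J` -/
noncomputable def zg (J : Finset I) : MvPolynomial I A ⊗[A] P :=
  ∑ i ∈ J, (MvPolynomial.X i : MvPolynomial I A) ⊗ₜ[A] e i

theorem exists_repr {S : Type u} [CommSemiring S] [Algebra A S] (z : S ⊗[A] P) :
    ∃ (J : Finset I) (s : I → S),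
      z = Algebra.TensorProduct.map (MvPolynomial.aeval s) (AlgHom.id A P) (zg e J) := by
  classical
  obtain ⟨b, hb⟩ := TensorProduct.eq_repr_basis_right e z
  refine ⟨b.support, b, ?_⟩
  rw [← hb, zg, map_sum, Finsupp.sum]
  refine Finset.sum_congr rfl fun μ _ => ?_
  simp

theorem trunc_zg (K J : Finset I) (h : K ⊆ J) :
    Algebra.TensorProduct.map (trunc K) (AlgHom.id A P) (zg e J) = zg e K := by
  classical
  simp only [zg, map_sum, Algebra.TensorProduct.map_tmul, AlgHom.coe_id, id_eq]
  rw [← Finset.sum_subset h]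
  · refine Finset.sum_congr rfl fun μ hμ => ?_
    rw [trunc, MvPolynomial.aeval_X, if_pos hμ]
  · intro μ _ hμ
    rw [trunc, MvPolynomial.aeval_X, if_neg hμ, TensorProduct.zero_tmul]

theorem psi_zg (J : Finset I) :
    Algebra.TensorProduct.map (psi (A := A) (I := I)) (AlgHom.id A P) (zg e J) =
      (Polynomial.X : Polynomial (MvPolynomial I A)) •
        Algebra.TensorProduct.map (Polynomial.CAlgHom (R := A) (A := MvPolynomial I A))
          (AlgHom.id A P) (zg e J) := by
  simp only [zg, map_sum, Finset.smul_sum, Algebra.TensorProduct.map_tmul, AlgHom.coe_id, id_eq]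
  refine Finset.sum_congr rfl fun μ _ => ?_
  rw [TensorProduct.smul_tmul', smul_eq_mul, psi, MvPolynomial.aeval_X, mul_comm]
  rfl

/-- value of the law at the generic element -/
noncomputable def GJ (J : Finset I) : MvPolynomial I A ⊗[A] C' := F.toFun' _ (zg e J)

theorem cf_GJ_degree (hF : IsHomog F d) (J : Finset I) (α : I →₀ ℕ) (h : α.degree ≠ d) :
    cf α (GJ e F J) = 0 := by
  refine cf_eq_zero_of_homog _ d ?_ α h
  rw [GJ, compat_map, psi_zg, hF, compat_map]

theorem trunc_GJ (K J : Finset I) (h : K ⊆ J) :
    Algebra.TensorProduct.map (trunc K) (AlgHom.id A C') (GJ e F J) = GJ e F K := by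
  rw [GJ, compat_map, trunc_zg e K J h]
  rfl

theorem cf_GJ_support (J : Finset I) (α : I →₀ ℕ) (h : ¬ α.support ⊆ J) :
    cf α (GJ e F J) = 0 := by
  classical
  have h1 := cf_trunc J α (GJ e F J)
  rw [trunc_GJ e F J J (Finset.Subset.refl J), if_neg h] at h1
  exact h1

theorem cf_GJ_eq (J : Finset I) (α : I →₀ ℕ) (h : α.support ⊆ J) :
    cf α (GJ e F J) = cf α (GJ e F α.support) := by
  classical
  have h1 := cf_trunc α.support α (GJ e F J)
  rw [trunc_GJ e F α.support J h, if_pos (Finset.Subset.refl _)] at h1
  exact h1.symm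

open Classical in
/-- the values of the linear form on the basis of the tensor power -/
noncomputable def fval (c : Fin d → I) : C' :=
  if c = rp d c then cf (cls d c) (GJ e F (cls d c).support) else 0

/-- the linear form on the tensor power attached to a homogeneous law -/
noncomputable def flin : (⨂[A] _ : Fin d, P) →ₗ[A] C' :=
  (Basis.piTensorProduct (fun _ : Fin d => e)).constr A (fval e d F)

theorem flin_tprod (c : Fin d → I) :
    flin e d F (PiTensorProduct.tprod A (fun i => e (c i))) = fval e d F c := by
  rw [flin, ← Basis.piTensorProduct_apply, Module.Basis.constr_basis]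

theorem tpow_zg (J : Finset I) :
    (SymTen.tpowLaw A P d).law.toFun' _ (zg e J) =
      ∑ c ∈ Fintype.piFinset (fun _ : Fin d => J),
        (MvPolynomial.monomial (cls d c) (1 : A)) ⊗ₜ[A]
          PiTensorProduct.tprod A (fun i => e (c i)) := by
  classical
  rw [zg, TPow.tpow_sum_finset]
  refine Finset.sum_congr rfl fun c _ => ?_
  rw [prod_X_eq]

theorem flin_GJ (hF : IsHomog F d) (J : Finset I) :
    (flin e d F).lTensor _ ((SymTen.tpowLaw A P d).law.toFun' _ (zg e J)) = GJ e F J := by
  classical
  apply cf_ext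
  intro β
  rw [tpow_zg, map_sum, map_sum]
  simp only [LinearMap.lTensor_tmul, cf_tmul, flin_tprod, MvPolynomial.coeff_monomial]
  by_cases hβ : β.degree = d ∧ β.support ⊆ J
  · obtain ⟨hdeg, hsupp⟩ := hβ
    obtain ⟨c₀, hc₀⟩ := exists_cls_eq d β hdeg
    have hr : cls d (rp d c₀) = β := by rw [cls_rp, hc₀]
    have hmem : rp d c₀ ∈ Fintype.piFinset (fun _ : Fin d => J) := by
      rw [Fintype.mem_piFinset]
      intro i
      apply hsupp
      have h2 := mem_support_cls d (rp d c₀) i
      rw [hr] at h2
      exact h2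
    rw [cf_GJ_eq e F J β hsupp]
    have : ∀ c ∈ Fintype.piFinset (fun _ : Fin d => J),
        ((if cls d c = β then (1 : A) else 0) • fval e d F c) =
          if c = rp d c₀ then cf β (GJ e F β.support) else 0 := by
      intro c _
      by_cases h1 : cls d c = β
      · rw [if_pos h1, one_smul, fval, rp_congr d c c₀ (h1.trans hc₀.symm), h1]
      · rw [if_neg h1, zero_smul, if_neg]
        rintro rfl
        exact h1 hr
    rw [Finset.sum_congr rfl this, Finset.sum_ite_eq' _ _ _, if_pos hmem]
  · have hne : ∀ c ∈ Fintype.piFinset (fun _ : Fin d => J), cls d c ≠ β := by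
      intro c hc hcβ
      apply hβ
      refine ⟨by rw [← hcβ, degree_cls], ?_⟩
      intro μ hμ
      rw [← hcβ] at hμ
      obtain ⟨i, rfl⟩ := exists_of_mem_support_cls d c μ hμ
      exact Fintype.mem_piFinset.mp hc i
    rw [Finset.sum_eq_zero (fun c hc => by rw [if_neg (hne c hc), zero_smul])]
    by_cases hdeg : β.degree = d
    · exact (cf_GJ_support e F J β (fun h => hβ ⟨hdeg, h⟩)).symm
    · exact (cf_GJ_degree e d F hF J β hdeg).symm

theorem lTensor_map {M N : Type u} [CommRing M] [Algebra A M] [CommRing N] [Algebra A N]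
    (f : M →ₗ[A] N) {S S' : Type u} [CommSemiring S] [Algebra A S] [CommSemiring S']
    [Algebra A S'] (ψ : S →ₐ[A] S') (x : S ⊗[A] M) :
    Algebra.TensorProduct.map ψ (AlgHom.id A N) (f.lTensor S x) =
      f.lTensor S' (Algebra.TensorProduct.map ψ (AlgHom.id A M) x) := by
  induction x using TensorProduct.induction_on with
  | zero => simp
  | tmul s m => simp
  | add a b ha hb => rw [map_add, map_add, ha, hb, map_add, map_add]

/-- **Roby**: a homogeneous law of degree `d` on an algebra with a basis is a linear form of the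
`d`-th tensor power law -/
theorem flin_spec (hF : IsHomog F d) (S : Type u) [CommSemiring S] [Algebra A S] (z : S ⊗[A] P) :
    (flin e d F).lTensor S ((SymTen.tpowLaw A P d).law.toFun' S z) = F.toFun' S z := by
  obtain ⟨J, s, rfl⟩ := exists_repr e z
  rw [← compat_map, ← lTensor_map, flin_GJ e d F hF, GJ, compat_map]

end Law

section Sym

variable {A : Type u} [CommRing A] {P : Type u} [CommRing P] [Algebra A P] {I : Type u}

section

variable (e : Module.Basis I A P) (d : ℕ)

/-- the basis of the tensor power -/
noncomputable def bT : Module.Basis (Fin d → I) A (⨂[A] _ : Fin d, P) :=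
  Basis.piTensorProduct (fun _ : Fin d => e)

theorem bT_apply (c : Fin d → I) : bT e d c = PiTensorProduct.tprod A (fun i => e (c i)) := by
  rw [bT, Basis.piTensorProduct_apply]

/-- the orbit sums -/
noncomputable def Oa (α : I →₀ ℕ) : ⨂[A] _ : Fin d, P :=
  cf α ((SymTen.tpowLaw A P d).law.toFun' _ (zg e α.support))

open Classical in
theorem repr_Oa (α : I →₀ ℕ) (c' : Fin d → I) :
    (bT e d).repr (Oa e d α) c' = if cls d c' = α then 1 else 0 := by
  rw [Oa, tpow_zg, map_sum, map_sum, Finsupp.coe_finsetSum, Finset.sum_apply]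
  simp only [cf_tmul, MvPolynomial.coeff_monomial, ← bT_apply, map_smul,
    Module.Basis.repr_self, Finsupp.smul_apply, Finsupp.single_apply, smul_eq_mul, mul_ite,
    mul_one, mul_zero]
  rw [Finset.sum_ite_eq' _ _ _]
  by_cases h : cls d c' = α
  · rw [if_pos h, if_pos]
    rw [Fintype.mem_piFinset]
    intro i
    rw [← h]
    exact mem_support_cls d c' i
  · rw [if_neg h]
    split_ifs <;> rfl

/-- the linear endomorphism attached to the tensor power law itself -/
noncomputable def Phi : (⨂[A] _ : Fin d, P) →ₗ[A] (⨂[A] _ : Fin d, P) :=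
  flin e d (SymTen.tpowLaw A P d).law

open Classical in
theorem Phi_bT (c : Fin d → I) :
    Phi e d (bT e d c) = if c = rp d c then Oa e d (cls d c) else 0 := by
  rw [Phi, bT_apply, flin_tprod]
  rfl

theorem coord_Phi (c' : Fin d → I) :
    (bT e d).coord c' ∘ₗ Phi e d = (bT e d).coord (rp d c') := by
  classical
  refine (bT e d).ext fun c => ?_
  rw [LinearMap.comp_apply, Phi_bT, Module.Basis.coord_apply, Module.Basis.coord_apply,
    Module.Basis.repr_self, Finsupp.single_apply]
  by_cases h1 : c = rp d c
  · rw [if_pos h1, repr_Oa]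
    by_cases h2 : cls d c' = cls d c
    · rw [if_pos h2, if_pos]
      rw [h1]
      exact rp_congr d _ _ h2.symm
    · rw [if_neg h2, if_neg]
      intro h3
      apply h2
      rw [h3, cls_rp]
  · rw [if_neg h1, map_zero, Finsupp.zero_apply, if_neg]
    intro h3
    apply h1
    rw [h3, rp_rp]

theorem coord_perm (c : Fin d → I) (σ : Equiv.Perm (Fin d)) :
    (bT e d).coord c ∘ₗ (SymTen.perm A P d σ).toLinearMap = (bT e d).coord (c ∘ σ) := by
  classical
  refine (bT e d).ext fun c'' => ?_
  rw [LinearMap.comp_apply, AlgHom.toLinearMap_apply, bT_apply, SymTen.perm_tprod,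
    Module.Basis.coord_apply, Module.Basis.coord_apply]
  have : (PiTensorProduct.tprod A fun i => e (c'' (σ.symm i))) = bT e d (c'' ∘ σ.symm) := by
    rw [bT_apply]
    rfl
  rw [this, ← bT_apply, Module.Basis.repr_self, Module.Basis.repr_self, Finsupp.single_apply,
    Finsupp.single_apply]
  refine if_congr ⟨fun h => ?_, fun h => ?_⟩ rfl rfl
  · rw [← h]
    funext i
    simp
  · rw [h]
    funext i
    simp

theorem repr_eq_of_mem_TS (y : ⨂[A] _ : Fin d, P) (hy : y ∈ SymTen.TS A P d) (c c' : Fin d → I)
    (h : cls d c = cls d c') : (bT e d).repr y c' = (bT e d).repr y c := by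
  obtain ⟨σ, rfl⟩ := exists_perm d c c' h
  have h1 := LinearMap.congr_fun (coord_perm e d c σ) y
  rw [LinearMap.comp_apply, AlgHom.toLinearMap_apply, SymTen.perm_apply, hy σ,
    Module.Basis.coord_apply, Module.Basis.coord_apply] at h1
  exact h1.symm

theorem Phi_of_mem_TS (y : ⨂[A] _ : Fin d, P) (hy : y ∈ SymTen.TS A P d) : Phi e d y = y := by
  apply (bT e d).repr.injective
  ext c'
  have h1 := LinearMap.congr_fun (coord_Phi e d c') y
  rw [LinearMap.comp_apply, Module.Basis.coord_apply, Module.Basis.coord_apply] at h1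
  rw [h1]
  exact (repr_eq_of_mem_TS e d y hy (rp d c') c' (cls_rp d c')).symm

end

variable (d : ℕ)

/-- the symmetric tensors of an algebra with a basis are spanned by the coefficients of the
tensor power law -/
theorem TS_le (e : Module.Basis I A P) (K : Submodule A (⨂[A] _ : Fin d, P))
    (hK : ∀ (S : Type u) [CommRing S] [Algebra A S] (lam : S →ₗ[A] A) (z : S ⊗[A] P),
      lamT lam ((SymTen.tpowLaw A P d).law.toFun' S z) ∈ K) (y : ⨂[A] _ : Fin d, P)
    (hy : y ∈ SymTen.TS A P d) : y ∈ K := by
  classical
  rw [← Phi_of_mem_TS e d y hy]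
  have h1 : Phi e d y = ((bT e d).repr y).sum fun c a => a • Phi e d (bT e d c) := by
    conv_lhs => rw [← (bT e d).linearCombination_repr y, Finsupp.linearCombination_apply,
      map_finsuppSum]
    simp only [map_smul]
  rw [h1]
  refine K.sum_mem fun c _ => K.smul_mem _ ?_
  rw [Phi_bT]
  split_ifs
  · exact hK _ _ _
  · exact K.zero_mem

end Sym

end Groth.Agent.Lib.Helper59.GRoby
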