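import Groth.Agent.Lib.Helper59.TSGamma

/-!
# Flatness of the divided power algebra of a flat algebra
-/

set_option autoImplicit false

namespace Groth.Agent.Lib.Helper59.GammaFlat

open scoped TensorProduct
open PolLaw Groth.Agent.Lib.Helper59.GammaGen

universe u

variable {A : Type u} [CommRing A] {B : Type u} [CommRing B] [Algebra A B]

theorem postcomp_comp {C C' C'' : Type u} [CommRing C] [Algebra A C] [CommRing C'] [Algebra A C']
    [CommRing C''] [Algebra A C''] (f : C →ₐ[A] C') (g : C' →ₐ[A] C'') (F : B →ₚₗ[A] C) :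
    PolLaw.postcomp (g.comp f).toLinearMap F =
      PolLaw.postcomp g.toLinearMap (PolLaw.postcomp f.toLinearMap F) := by
  ext S _ _ x
  show (g.comp f).toLinearMap.lTensor S _ = g.toLinearMap.lTensor S (f.toLinearMap.lTensor S _)
  rw [← LinearMap.lTensor_comp_apply]
  rfl

theorem postcomp_id {C : Type u} [CommRing C] [Algebra A C] (F : B →ₚₗ[A] C) :
    PolLaw.postcomp (AlgHom.id A C).toLinearMap F = F := by
  ext S _ _ x
  show (AlgHom.id A C).toLinearMap.lTensor S _ = _
  rw [AlgHom.toLinearMap_id, LinearMap.lTensor_id, LinearMap.id_apply]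

/-- two universal multiplicative laws of degree `d` have isomorphic targets -/
theorem exists_algEquiv {d : ℕ} {C C' : Type u} [CommRing C] [Algebra A C] [CommRing C']
    [Algebra A C'] (γ : MulLaw A B C d) (hγ : IsGammaD γ) (γ' : MulLaw A B C' d)
    (hγ' : IsGammaD γ') :
    ∃ e : C ≃ₐ[A] C', PolLaw.postcomp e.toAlgHom.toLinearMap γ.law = γ'.law := by
  obtain ⟨f, hf, -⟩ := hγ C' γ'
  obtain ⟨g, hg, -⟩ := hγ' C γ
  have h1 : g.comp f = AlgHom.id A C := by
    obtain ⟨_, _, huniq⟩ := hγ C γ
    rw [huniq (g.comp f) (by beta_reduce; rw [postcomp_comp, hf, hg]),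
      huniq (AlgHom.id A C) (postcomp_id _)]
  have h2 : f.comp g = AlgHom.id A C' := by
    obtain ⟨_, _, huniq⟩ := hγ' C' γ'
    rw [huniq (f.comp g) (by beta_reduce; rw [postcomp_comp, hg, hf]),
      huniq (AlgHom.id A C') (postcomp_id _)]
  exact ⟨AlgEquiv.ofAlgHom f g h2 h1, hf⟩

/-- the divided power algebra of a flat algebra is flat -/
theorem flat_of_isGammaD {d : ℕ} {C : Type u} [CommRing C] [Algebra A C] (γ : MulLaw A B C d)
    (hγ : IsGammaD γ) [Module.Flat A B] : Module.Flat A C := by
  obtain ⟨e, -⟩ := exists_algEquiv γ hγ (TSGamma.tau A B d) (TSGamma.isGammaD_tau_of_flat d)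
  have h1 := TSFlat.flat_TSM (A := A) B d
  let e2 : ↥(⨅ σ : Equiv.Perm (Fin d),
      LinearMap.eqLocus (PiTensorProduct.reindex A (fun _ : Fin d => B) σ).toLinearMap
        LinearMap.id) ≃ₗ[A] SymTen.TS A B d :=
    { toFun := fun t => ⟨t.1, fun σ => by
        have := t.2
        simp only [Submodule.mem_iInf, LinearMap.mem_eqLocus] at this
        exact this σ⟩
      invFun := fun t => ⟨t.1, by
        simp only [Submodule.mem_iInf, LinearMap.mem_eqLocus]
        exact fun σ => t.2 σ⟩
      map_add' := fun x y => rfl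
      map_smul' := fun a x => rfl
      left_inv := fun x => rfl
      right_inv := fun x => rfl }
  have h2 : Module.Flat A (SymTen.TS A B d) := Module.Flat.of_linearEquiv e2.symm
  exact Module.Flat.of_linearEquiv e.toLinearEquiv

end Groth.Agent.Lib.Helper59.GammaFlat
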