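import Groth.Agent.Lib.Helper59.TSCross
import Groth.Agent.Lib.Helper59.GammaFlat

/-!
# The divided power algebra of a finitely presented algebra is finitely presented
-/

set_option autoImplicit false

namespace Groth.Agent.Lib.Helper59.GammaFP

open scoped TensorProduct
open PolLaw Groth.Agent.Lib.Helper59.CHCore Groth.Agent.Lib.Helper59.GRoby
  Groth.Agent.Lib.Helper59.TSCross Groth.Agent.Lib.Helper59.LawReduced
  Groth.Agent.Lib.Helper59.KerPoly Groth.Agent.Lib.Helper59.GammaGen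

universe u

section Orb

variable {A : Type u} [CommRing A] {P : Type u} [CommRing P] [Algebra A P] (d : ℕ) {n : ℕ}

open Classical in
/-- orbit sums of a finite family -/
noncomputable def orbT (b : Fin n → P) (α : Fin n →₀ ℕ) : ⨂[A] _ : Fin d, P :=
  ∑ c ∈ (Finset.univ : Finset (Fin d → Fin n)).filter (fun c => cls d c = α),
    PiTensorProduct.tprod A (fun i => b (c i))

theorem cls_comp_perm (c : Fin d → Fin n) (σ : Equiv.Perm (Fin d)) :
    cls d (c ∘ σ) = cls d c := by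
  rw [cls, cls]
  exact Equiv.sum_comp σ (fun i => Finsupp.single (c i) 1)

theorem orbT_mem (b : Fin n → P) (α : Fin n →₀ ℕ) : orbT (A := A) d b α ∈ SymTen.TS A P d := by
  classical
  rw [SymTen.mem_TS_iff]
  intro σ
  rw [← SymTen.perm_apply, orbT, map_sum]
  simp only [SymTen.perm_tprod]
  refine Finset.sum_nbij' (fun c => c ∘ σ.symm) (fun c => c ∘ σ) ?_ ?_ ?_ ?_ ?_
  · intro c hc
    rw [Finset.mem_filter] at hc ⊢
    exact ⟨Finset.mem_univ _, by rw [cls_comp_perm]; exact hc.2⟩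
  · intro c hc
    rw [Finset.mem_filter] at hc ⊢
    exact ⟨Finset.mem_univ _, by rw [cls_comp_perm]; exact hc.2⟩
  · intro c _
    funext i
    simp
  · intro c _
    funext i
    simp
  · intro c _
    rfl

/-- orbit sums as symmetric tensors -/
noncomputable def orb (b : Fin n → P) (α : Fin n →₀ ℕ) : SymTen.TS A P d :=
  ⟨orbT d b α, orbT_mem d b α⟩

theorem orb_eq_zero (b : Fin n → P) (α : Fin n →₀ ℕ) (j₀ : Fin n) (hb : b j₀ = 0)
    (hα : α j₀ ≠ 0) : orb (A := A) d b α = 0 := by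
  classical
  apply Subtype.ext
  show orbT d b α = 0
  rw [orbT]
  refine Finset.sum_eq_zero fun c hc => ?_
  rw [Finset.mem_filter] at hc
  have hmem : j₀ ∈ (cls d c).support := by
    rw [hc.2, Finsupp.mem_support_iff]
    exact hα
  obtain ⟨i, hi⟩ := exists_of_mem_support_cls d c j₀ hmem
  exact (PiTensorProduct.tprod A).map_coord_zero i (by rw [hi, hb])

/-- the value of `τ` at the generic combination -/
theorem tau_generic (b : Fin n → P) :
    (TSGamma.tau A P d).law.toFun' (MvPolynomial (Fin n) A)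
        (∑ j, (MvPolynomial.X j : MvPolynomial (Fin n) A) ⊗ₜ[A] b j) =
      ∑ α ∈ (Finset.univ : Finset (Fin d → Fin n)).image (cls d),
        (MvPolynomial.monomial α (1 : A)) ⊗ₜ[A] orb d b α := by
  classical
  apply Module.Flat.lTensor_preserves_injective_linearMap (M := MvPolynomial (Fin n) A)
    (SymTen.TS A P d).val.toLinearMap Subtype.val_injective
  rw [TSGamma.tau_formula, map_sum]
  simp only [LinearMap.lTensor_tmul, AlgHom.toLinearMap_apply, Subalgebra.coe_val]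
  have h1 : ∀ α : Fin n →₀ ℕ, (MvPolynomial.monomial α (1 : A)) ⊗ₜ[A] (orb d b α).1 =
      ∑ c ∈ (Finset.univ : Finset (Fin d → Fin n)).filter (fun c => cls d c = α),
        (MvPolynomial.monomial (cls d c) (1 : A)) ⊗ₜ[A]
          PiTensorProduct.tprod A (fun i => b (c i)) := by
    intro α
    show _ ⊗ₜ[A] orbT d b α = _
    rw [orbT, TensorProduct.tmul_sum]
    refine Finset.sum_congr rfl fun c hc => ?_
    rw [(Finset.mem_filter.mp hc).2]
  rw [Finset.sum_congr rfl fun α _ => h1 α,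
    Finset.sum_fiberwise_of_maps_to (fun c _ => Finset.mem_image_of_mem _ (Finset.mem_univ c))]
  refine Finset.sum_congr rfl fun c _ => ?_
  rw [prod_X_eq]

end Orb

section Cross

variable {A₀ A : Type u} [CommRing A₀] [CommRing A] [Algebra A₀ A]
  {P₀ P : Type u} [CommRing P₀] [Algebra A₀ P₀] [CommRing P] [Algebra A P] [Algebra A₀ P]
  [IsScalarTower A₀ A P] (ι : P₀ →ₐ[A₀] P) (d : ℕ) {n : ℕ}

theorem theta0_orb (b₀ : Fin n → P₀) (α : Fin n →₀ ℕ) :
    theta0 A ι d (orb d b₀ α) = orb d (fun j => ι (b₀ j)) α := by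
  classical
  apply Subtype.ext
  show thetaT A ι d (orbT d b₀ α) = orbT d (fun j => ι (b₀ j)) α
  rw [orbT, orbT, map_sum]
  exact Finset.sum_congr rfl fun c _ => thetaT_tprod ι d _

end Cross

section Phi

variable {A : Type u} [CommRing A] {P : Type u} [CommRing P] [Algebra A P] (d : ℕ) {n : ℕ}
  {B C : Type u} [CommRing B] [Algebra A B] [CommRing C] [Algebra A C]

/-- orbit sums with an entry killed by `q` die in `Γ^d(B)` -/
theorem phi_orb_eq_zero (γ : MulLaw A B C d) (q : P →ₐ[A] B) (φ : SymTen.TS A P d →ₐ[A] C)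
    (hφ : PolLaw.postcomp φ.toLinearMap (TSGamma.tau A P d).law = (γ.precomp q).law)
    (b : Fin n → P) (j₀ : Fin n) (hb : q (b j₀) = 0) (α : Fin n →₀ ℕ) (hα : α j₀ ≠ 0) :
    φ (orb d b α) = 0 := by
  classical
  have hz : q.toLinearMap.lTensor (MvPolynomial (Fin n) A)
      (∑ j, (MvPolynomial.X j : MvPolynomial (Fin n) A) ⊗ₜ[A] b j) =
      q.toLinearMap.lTensor (MvPolynomial (Fin n) A)
      (∑ j, (MvPolynomial.X j : MvPolynomial (Fin n) A) ⊗ₜ[A] (Function.update b j₀ 0) j) := by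
    rw [map_sum, map_sum]
    refine Finset.sum_congr rfl fun j _ => ?_
    rw [LinearMap.lTensor_tmul, LinearMap.lTensor_tmul]
    by_cases hj : j = j₀
    · subst hj
      rw [Function.update_self, AlgHom.toLinearMap_apply, AlgHom.toLinearMap_apply, hb, map_zero]
    · rw [Function.update_of_ne hj]
  have h1 : (γ.precomp q).law.toFun' (MvPolynomial (Fin n) A)
      (∑ j, (MvPolynomial.X j : MvPolynomial (Fin n) A) ⊗ₜ[A] b j) =
      (γ.precomp q).law.toFun' (MvPolynomial (Fin n) A)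
      (∑ j, (MvPolynomial.X j : MvPolynomial (Fin n) A) ⊗ₜ[A] (Function.update b j₀ 0) j) := by
    show γ.law.toFun' _ (q.toLinearMap.lTensor _ _) = γ.law.toFun' _ (q.toLinearMap.lTensor _ _)
    rw [hz]
  rw [← hφ, postcomp_toFun', postcomp_toFun', tau_generic, tau_generic, map_sum, map_sum] at h1
  simp only [LinearMap.lTensor_tmul, AlgHom.toLinearMap_apply] at h1
  have h3 := congrArg (lamT (MvPolynomial.lcoeff A α)) h1
  rw [map_sum, map_sum] at h3
  simp only [lamT_tmul, MvPolynomial.lcoeff_apply, MvPolynomial.coeff_monomial, ite_smul,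
    one_smul, zero_smul] at h3
  rw [Finset.sum_ite_eq', Finset.sum_ite_eq'] at h3
  by_cases hmem : α ∈ (Finset.univ : Finset (Fin d → Fin n)).image (cls d)
  · rw [if_pos hmem, if_pos hmem] at h3
    rw [h3, orb_eq_zero d (Function.update b j₀ 0) α j₀ (Function.update_self _ _ _) hα, map_zero]
  · have : orb (A := A) d b α = 0 := by
      apply Subtype.ext
      show orbT d b α = 0
      rw [orbT]
      refine Finset.sum_eq_zero fun c hc => ?_
      exact absurd (Finset.mem_image.mpr ⟨c, Finset.mem_univ c, (Finset.mem_filter.mp hc).2⟩) hmem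
    rw [this, map_zero]

/-- the value of `ρ ∘ τ` at a finite combination -/
theorem lTensor_tau_formula {D : Type u} [AddCommGroup D] [Module A D]
    (ρ : SymTen.TS A P d →ₗ[A] D)
    {S : Type u} [CommRing S] [Algebra A S] (s : Fin n → S) (b : Fin n → P) :
    ρ.lTensor S ((TSGamma.tau A P d).law.toFun' S (∑ j, s j ⊗ₜ[A] b j)) =
      ∑ α ∈ (Finset.univ : Finset (Fin d → Fin n)).image (cls d),
        (MvPolynomial.aeval s (MvPolynomial.monomial α (1 : A))) ⊗ₜ[A] ρ (orb d b α) := by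
  have h0 : (∑ j, s j ⊗ₜ[A] b j) =
      Algebra.TensorProduct.map (MvPolynomial.aeval s) (AlgHom.id A P)
        (∑ j, (MvPolynomial.X j : MvPolynomial (Fin n) A) ⊗ₜ[A] b j) := by
    rw [map_sum]
    refine Finset.sum_congr rfl fun j _ => ?_
    rw [Algebra.TensorProduct.map_tmul, MvPolynomial.aeval_X, AlgHom.id_apply]
  rw [h0, ← compat_map, tau_generic, map_sum, map_sum]
  refine Finset.sum_congr rfl fun α _ => ?_
  rw [Algebra.TensorProduct.map_tmul, LinearMap.lTensor_tmul, AlgHom.id_apply]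

omit [Algebra A P] in
theorem aeval_monomial_update {S : Type u} [CommRing S] [Algebra A S] (s : Fin n → S)
    (j₀ : Fin n) (α : Fin n →₀ ℕ) (hα : α j₀ = 0) :
    MvPolynomial.aeval (Function.update s j₀ 0) (MvPolynomial.monomial α (1 : A)) =
      MvPolynomial.aeval s (MvPolynomial.monomial α (1 : A)) := by
  rw [MvPolynomial.aeval_monomial, MvPolynomial.aeval_monomial]
  congr 1
  refine Finsupp.prod_congr fun i hi => ?_
  have : i ≠ j₀ := by
    intro h
    rw [Finsupp.mem_support_iff, h] at hi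
    exact hi hα
  rw [Function.update_of_ne this]

end Phi

section Claim

variable (A₀ : Type u) {A : Type u} [CommRing A₀] [CommRing A] [Algebra A₀ A] (κ : Type u) (d : ℕ)
  {B C : Type u} [CommRing B] [Algebra A B] [CommRing C] [Algebra A C]
  (γ : MulLaw A B C d) (q : MvPolynomial κ A →ₐ[A] B)
  (φ : SymTen.TS A (MvPolynomial κ A) d →ₐ[A] C)

/-- the kernel over the small ring -/
noncomputable def K0 : Ideal (SymTen.TS A₀ (MvPolynomial κ A₀) d) :=
  RingHom.ker ((φ.toRingHom).comp (theta0 A (iotaP A₀ A κ) d).toRingHom)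

/-- its extension -/
noncomputable def K1 : Ideal (SymTen.TS A (MvPolynomial κ A) d) :=
  Ideal.map (theta0 A (iotaP A₀ A κ) d) (K0 A₀ κ d φ)

theorem K1_le_ker : K1 A₀ κ d φ ≤ RingHom.ker φ.toRingHom := by
  rw [K1, Ideal.map_le_iff_le_comap]
  intro x hx
  exact hx

/-- the quotient map -/
noncomputable abbrev rho : SymTen.TS A (MvPolynomial κ A) d →ₐ[A]
    (SymTen.TS A (MvPolynomial κ A) d ⧸ K1 A₀ κ d φ) :=
  Ideal.Quotient.mkₐ A (K1 A₀ κ d φ)

/-- the law `ρ ∘ τ` -/
noncomputable def tauD : MulLaw A (MvPolynomial κ A)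
    (SymTen.TS A (MvPolynomial κ A) d ⧸ K1 A₀ κ d φ) d :=
  (TSGamma.tau A (MvPolynomial κ A) d).postcomp
    (C' := SymTen.TS A (MvPolynomial κ A) d ⧸ K1 A₀ κ d φ) (rho A₀ κ d φ)

theorem tauD_apply {S : Type u} [CommRing S] [Algebra A S] {n : ℕ} (s : Fin n → S)
    (b : Fin n → MvPolynomial κ A) :
    (tauD A₀ κ d φ).law.toFun' S (∑ j, s j ⊗ₜ[A] b j) =
      ∑ α ∈ (Finset.univ : Finset (Fin d → Fin n)).image (cls d),
        (MvPolynomial.aeval s (MvPolynomial.monomial α (1 : A))) ⊗ₜ[A]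
          rho A₀ κ d φ (orb d b α) := by
  show (rho A₀ κ d φ).toLinearMap.lTensor S
    ((TSGamma.tau A (MvPolynomial κ A) d).law.toFun' S (∑ j, s j ⊗ₜ[A] b j)) = _
  exact lTensor_tau_formula d (rho A₀ κ d φ).toLinearMap s b

variable (hφ : PolLaw.postcomp φ.toLinearMap (TSGamma.tau A (MvPolynomial κ A) d).law =
  (γ.precomp q).law)

include hφ in
theorem orb_mem_K1 {n : ℕ} (b₀ : Fin n → MvPolynomial κ A₀) (j₀ : Fin n)
    (hb : q (iotaP A₀ A κ (b₀ j₀)) = 0) (α : Fin n →₀ ℕ) (hα : α j₀ ≠ 0) :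
    orb d (fun j => iotaP A₀ A κ (b₀ j)) α ∈ K1 A₀ κ d φ := by
  rw [← theta0_orb]
  apply Ideal.mem_map_of_mem
  show φ (theta0 A (iotaP A₀ A κ) d (orb d b₀ α)) = 0
  rw [theta0_orb]
  exact phi_orb_eq_zero d γ q φ hφ _ j₀ hb α hα

/-- representability by elements coming from the small ring -/
def Rep {S : Type u} [CommRing S] [Algebra A S] (z : S ⊗[A] MvPolynomial κ A) : Prop :=
  ∃ (n : ℕ) (s : Fin n → S) (b₀ : Fin n → MvPolynomial κ A₀),
    z = ∑ j, s j ⊗ₜ[A] iotaP A₀ A κ (b₀ j)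

theorem rep_add {S : Type u} [CommRing S] [Algebra A S] {z₁ z₂ : S ⊗[A] MvPolynomial κ A}
    (h₁ : Rep A₀ κ z₁) (h₂ : Rep A₀ κ z₂) : Rep A₀ κ (z₁ + z₂) := by
  obtain ⟨n₁, s₁, b₁, rfl⟩ := h₁
  obtain ⟨n₂, s₂, b₂, rfl⟩ := h₂
  refine ⟨n₁ + n₂, Fin.append s₁ s₂, Fin.append b₁ b₂, ?_⟩
  rw [Fin.sum_univ_add]
  simp

theorem rep_all {S : Type u} [CommRing S] [Algebra A S] (z : S ⊗[A] MvPolynomial κ A) :
    Rep A₀ κ z := by
  induction z using TensorProduct.induction_on with
  | zero => exact ⟨0, Fin.elim0, Fin.elim0, by simp⟩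
  | add z₁ z₂ h₁ h₂ => exact rep_add A₀ κ h₁ h₂
  | tmul s p =>
    induction p using MvPolynomial.induction_on' with
    | monomial m a =>
      refine ⟨1, fun _ => a • s, fun _ => MvPolynomial.monomial m 1, ?_⟩
      rw [Fin.sum_univ_one, iotaP_apply, MvPolynomial.map_monomial, map_one,
        TensorProduct.smul_tmul, MvPolynomial.smul_monomial, smul_eq_mul, mul_one]
    | add p₁ p₂ h₁ h₂ =>
      rw [TensorProduct.tmul_add]
      exact rep_add A₀ κ h₁ h₂

include hφ in
/-- adding a single multiple of an element of `ker q` coming from the small ring does not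
change the value of `ρ ∘ τ` -/
theorem single_step (f₀ : MvPolynomial κ A₀) (hf : q (iotaP A₀ A κ f₀) = 0)
    {S : Type u} [CommRing S] [Algebra A S] (x : S ⊗[A] MvPolynomial κ A) (s' : S)
    (m' : MvPolynomial κ A₀) :
    (tauD A₀ κ d φ).law.toFun' S
      (x + (s' ⊗ₜ[A] iotaP A₀ A κ m') * ((1 : S) ⊗ₜ[A] iotaP A₀ A κ f₀)) =
    (tauD A₀ κ d φ).law.toFun' S x := by
  obtain ⟨n, s, b₀, rfl⟩ := rep_all A₀ κ x
  have h_a : (∑ j, s j ⊗ₜ[A] iotaP A₀ A κ (b₀ j)) +
      (s' ⊗ₜ[A] iotaP A₀ A κ m') * ((1 : S) ⊗ₜ[A] iotaP A₀ A κ f₀) =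
      ∑ j : Fin (n + 1), (Fin.snoc (α := fun _ => S) s s' j) ⊗ₜ[A]
        iotaP A₀ A κ (Fin.snoc (α := fun _ => MvPolynomial κ A₀) b₀ (m' * f₀) j) := by
    rw [Fin.sum_univ_castSucc]
    simp only [Fin.snoc_castSucc, Fin.snoc_last]
    rw [Algebra.TensorProduct.tmul_mul_tmul, mul_one, map_mul]
  have h_b : (∑ j, s j ⊗ₜ[A] iotaP A₀ A κ (b₀ j)) =
      ∑ j : Fin (n + 1), (Function.update (Fin.snoc (α := fun _ => S) s s') (Fin.last n) 0 j) ⊗ₜ[A]
        iotaP A₀ A κ (Fin.snoc (α := fun _ => MvPolynomial κ A₀) b₀ (m' * f₀) j) := by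
    rw [Fin.sum_univ_castSucc, Function.update_self, TensorProduct.zero_tmul, add_zero]
    refine Finset.sum_congr rfl fun j _ => ?_
    rw [Function.update_of_ne (Fin.castSucc_lt_last j).ne, Fin.snoc_castSucc, Fin.snoc_castSucc]
  rw [h_a]
  conv_rhs => rw [h_b]
  rw [tauD_apply A₀ κ d φ _ (fun j => iotaP A₀ A κ
      (Fin.snoc (α := fun _ => MvPolynomial κ A₀) b₀ (m' * f₀) j)),
    tauD_apply A₀ κ d φ _ (fun j => iotaP A₀ A κ
      (Fin.snoc (α := fun _ => MvPolynomial κ A₀) b₀ (m' * f₀) j))]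
  refine Finset.sum_congr rfl fun α _ => ?_
  by_cases hα : α (Fin.last n) = 0
  · rw [aeval_monomial_update _ _ _ hα]
  · have hmem := orb_mem_K1 A₀ κ d γ q φ hφ
      (Fin.snoc (α := fun _ => MvPolynomial κ A₀) b₀ (m' * f₀)) (Fin.last n)
      (by rw [Fin.snoc_last, map_mul, map_mul, hf, mul_zero]) α hα
    have h0 : (rho A₀ κ d φ)
        (orb d (fun j => iotaP A₀ A κ
          (Fin.snoc (α := fun _ => MvPolynomial κ A₀) b₀ (m' * f₀) j)) α) = 0 := by
      rw [Ideal.Quotient.mkₐ_eq_mk]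
      exact Ideal.Quotient.eq_zero_iff_mem.mpr hmem
    rw [h0, TensorProduct.tmul_zero, TensorProduct.tmul_zero]

include hφ in
theorem multi_step (f₀ : MvPolynomial κ A₀) (hf : q (iotaP A₀ A κ f₀) = 0)
    {S : Type u} [CommRing S] [Algebra A S] :
    ∀ (n₂ : ℕ) (s' : Fin n₂ → S) (m' : Fin n₂ → MvPolynomial κ A₀)
      (x : S ⊗[A] MvPolynomial κ A),
    (tauD A₀ κ d φ).law.toFun' S
      (x + (∑ l, s' l ⊗ₜ[A] iotaP A₀ A κ (m' l)) * ((1 : S) ⊗ₜ[A] iotaP A₀ A κ f₀)) =
    (tauD A₀ κ d φ).law.toFun' S x := by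
  intro n₂
  induction n₂ with
  | zero =>
    intro s' m' x
    rw [Finset.univ_eq_empty, Finset.sum_empty, zero_mul, add_zero]
  | succ k ih =>
    intro s' m' x
    rw [Fin.sum_univ_castSucc, add_mul, add_comm _ ((s' (Fin.last k) ⊗ₜ[A] _) * _), ← add_assoc,
      ih (fun l => s' l.castSucc) (fun l => m' l.castSucc)]
    exact single_step A₀ κ d γ q φ hφ f₀ hf x _ _

include hφ in
/-- elements of `ker q` coming from the small ring lie in the kernel of `ρ ∘ τ` -/
theorem mem_ker (f₀ : MvPolynomial κ A₀) (hf : q (iotaP A₀ A κ f₀) = 0) :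
    iotaP A₀ A κ f₀ ∈ PolLaw.ker (tauD A₀ κ d φ).law := by
  intro S _ _ x w
  obtain ⟨σ, ψ, x₀, w₀, hx, hw⟩ := exists_lift_pair x w
  rw [rTensor_algHom_apply] at hx hw
  obtain ⟨n₂, s', m', hw₀⟩ := rep_all A₀ κ w₀
  have key := multi_step A₀ κ d γ q φ hφ f₀ hf n₂ s' m' x₀
  rw [← hw₀] at key
  have h1 : x + w * ((1 : S) ⊗ₜ[A] iotaP A₀ A κ f₀) =
      Algebra.TensorProduct.map ψ (AlgHom.id A (MvPolynomial κ A))
        (x₀ + w₀ * ((1 : MvPolynomial σ A) ⊗ₜ[A] iotaP A₀ A κ f₀)) := by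
    rw [map_add, map_mul, hx, hw, Algebra.TensorProduct.map_tmul, map_one, AlgHom.id_apply]
  have e1 := compat_map (tauD A₀ κ d φ).law ψ
    (x₀ + w₀ * ((1 : MvPolynomial σ A) ⊗ₜ[A] iotaP A₀ A κ f₀))
  have e2 := compat_map (tauD A₀ κ d φ).law ψ x₀
  rw [h1, ← e1, ← hx, ← e2]
  exact congrArg _ key

end Claim

section Main

set_option maxHeartbeats 1600000 in
/-- the divided power algebra of a finitely presented algebra is finitely presented -/
theorem main {A : Type u} [CommRing A] {B : Type u} [CommRing B] [Algebra A B] {C : Type u}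
    [CommRing C] [Algebra A C] {d : ℕ} (γ : MulLaw A B C d) (hγ : IsGammaD γ)
    [Algebra.FinitePresentation A B] : Algebra.FinitePresentation A C := by
  classical
  obtain ⟨κ, hκ, q, hq, hker⟩ := Algebra.FinitePresentation.iff_quotient_mvPolynomial'.mp
    (inferInstance : Algebra.FinitePresentation A B)
  obtain ⟨sgen, hsgen⟩ := hker
  -- the small ring
  let cs : Finset A := sgen.biUnion (fun f => f.coeffs)
  let A₀ : Subalgebra ℤ A := Algebra.adjoin ℤ (cs : Set A)
  have hA₀ft : Algebra.FiniteType ℤ A₀ :=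
    (Subalgebra.fg_iff_finiteType A₀).mp (Subalgebra.fg_adjoin_finset cs)
  have hA₀n : IsNoetherianRing A₀ := Algebra.FiniteType.isNoetherianRing ℤ A₀
  have hlift : ∀ f ∈ sgen, ∃ f₀ : MvPolynomial κ A₀, iotaP A₀ A κ f₀ = f := by
    intro f hf
    have : f ∈ Set.range (MvPolynomial.map (algebraMap A₀ A)) := by
      rw [MvPolynomial.mem_range_map_iff_coeffs_subset]
      intro c hc
      exact ⟨⟨c, Algebra.subset_adjoin (Finset.mem_coe.mpr
        (Finset.mem_biUnion.mpr ⟨f, hf, hc⟩))⟩, rfl⟩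
    exact this
  -- the symmetric tensors of the polynomial ring
  obtain ⟨φ, hφ, -⟩ := TSGamma.isGammaD_tau_of_flat (A := A) (B := MvPolynomial κ A) d C
    (γ.precomp q)
  have hsurj : Function.Surjective φ :=
    GammaGen.surjective_of_surjective (TSGamma.tau A (MvPolynomial κ A) d) γ hγ q hq φ hφ
  have hfpTS : Algebra.FinitePresentation A (SymTen.TS A (MvPolynomial κ A) d) :=
    finitePresentation_TS A₀ A κ d
  refine Algebra.FinitePresentation.of_surjective hsurj ?_
  -- the kernel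
  have hTS₀n : IsNoetherianRing (SymTen.TS A₀ (MvPolynomial κ A₀) d) := by
    have : Algebra.FiniteType A₀ (SymTen.TS A₀ (MvPolynomial κ A₀) d) :=
      ⟨(Subalgebra.fg_top _).mpr (TSFinType.TS_fg d)⟩
    exact Algebra.FiniteType.isNoetherianRing A₀ _
  have hK0 : (K0 A₀ κ d φ).FG := (isNoetherianRing_iff_ideal_fg _).mp hTS₀n _
  have hK1 : (K1 A₀ κ d φ).FG := hK0.map _
  suffices h : RingHom.ker φ.toRingHom = K1 A₀ κ d φ by rw [h]; exact hK1
  refine le_antisymm ?_ (K1_le_ker A₀ κ d φ)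
  -- the universal property
  have hclaim : RingHom.ker q ≤ PolLaw.ker (tauD A₀ κ d φ).law := by
    have hspan : RingHom.ker q = Ideal.span (sgen : Set (MvPolynomial κ A)) := hsgen.symm
    rw [hspan, Ideal.span_le]
    intro f hf
    obtain ⟨f₀, rfl⟩ := hlift f hf
    have hq0 : q (iotaP A₀ A κ f₀) = 0 := by
      have hm : iotaP A₀ A κ f₀ ∈ RingHom.ker q := by
        rw [hspan]
        exact Ideal.subset_span hf
      exact hm
    exact mem_ker A₀ κ d γ q φ hφ f₀ hq0
  obtain ⟨FB, hFB⟩ := LawDescend.descend (tauD A₀ κ d φ) q hq hclaim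
  obtain ⟨g, hg, -⟩ := hγ _ FB
  obtain ⟨_, _, huniq⟩ := TSGamma.isGammaD_tau_of_flat (A := A) (B := MvPolynomial κ A) d _
    (tauD A₀ κ d φ)
  have h1 : g.comp φ = rho A₀ κ d φ := by
    have e1 : PolLaw.postcomp (g.comp φ).toLinearMap (TSGamma.tau A (MvPolynomial κ A) d).law =
        (tauD A₀ κ d φ).law := by
      ext S _ _ x
      show (g.comp φ).toLinearMap.lTensor S
        ((TSGamma.tau A (MvPolynomial κ A) d).law.toFun' S x) = _
      have h4 : φ.toLinearMap.lTensor S ((TSGamma.tau A (MvPolynomial κ A) d).law.toFun' S x) =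
          γ.law.toFun' S (q.toLinearMap.lTensor S x) :=
        congrArg (fun F : MvPolynomial κ A →ₚₗ[A] C => F.toFun' S x) hφ
      rw [AlgHom.comp_toLinearMap, LinearMap.lTensor_comp_apply, h4]
      have h2 : g.toLinearMap.lTensor S (γ.law.toFun' S (q.toLinearMap.lTensor S x)) =
          FB.law.toFun' S (q.toLinearMap.lTensor S x) := by
        rw [← hg]
        rfl
      rw [h2, lTensor_eq_map, hFB]
    have e2 : PolLaw.postcomp (rho A₀ κ d φ).toLinearMap
        (TSGamma.tau A (MvPolynomial κ A) d).law = (tauD A₀ κ d φ).law := rfl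
    rw [huniq (g.comp φ) e1, huniq (rho A₀ κ d φ) e2]
  intro t ht
  have ht' : φ t = 0 := by
    have := RingHom.mem_ker.mp ht
    simpa using this
  have h3 : rho A₀ κ d φ t = g (φ t) := (AlgHom.congr_fun h1 t).symm
  rw [ht', map_zero, Ideal.Quotient.mkₐ_eq_mk] at h3
  exact Ideal.Quotient.eq_zero_iff_mem.mp h3

end Main

end Groth.Agent.Lib.Helper59.GammaFP
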