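import Groth.Agent.Lib.Helper59.GammaGen
import Groth.Agent.Lib.Helper59.CHCore

/-!
# Finiteness and integrality of the algebra of divided powers `Γ^d_A(B)`
-/

set_option autoImplicit false

namespace Groth.Agent.Lib.Helper59.GammaFin

open scoped TensorProduct
open PolLaw Groth.Agent.Lib.Helper59.KerPoly Groth.Agent.Lib.Helper59.LawReduced
  Groth.Agent.Lib.Helper59.CHCore Groth.Agent.Lib.Helper59.GammaGen

universe u

variable {A B C : Type u} [CommRing A] [CommRing B] [Algebra A B] [CommRing C] [Algebra A C]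
  {d : ℕ}

theorem range_lTensor_le {N₁ N₂ : Type u} [AddCommGroup N₁] [Module A N₁] [AddCommGroup N₂]
    [Module A N₂] (g : N₁ →ₗ[A] C) (g' : N₂ →ₗ[A] C) (h : N₁ →ₗ[A] N₂) (hh : g' ∘ₗ h = g)
    (S : Type u) [CommRing S] [Algebra A S] :
    LinearMap.range (g.lTensor S) ≤ LinearMap.range (g'.lTensor S) := by
  rintro _ ⟨y, rfl⟩
  refine ⟨h.lTensor S y, ?_⟩
  rw [← LinearMap.comp_apply, ← LinearMap.lTensor_comp, hh]

theorem lamT_mem (N : Submodule A C) {S : Type u} [CommRing S] [Algebra A S] (lam : S →ₗ[A] A)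
    {y : S ⊗[A] C} (hy : y ∈ LinearMap.range (N.subtype.lTensor S)) : lamT lam y ∈ N := by
  obtain ⟨w, rfl⟩ := hy
  induction w using TensorProduct.induction_on with
  | zero => simp
  | tmul s n =>
    rw [LinearMap.lTensor_tmul, lamT_tmul]
    exact N.smul_mem _ n.2
  | add a b ha hb =>
    rw [map_add, map_add]
    exact N.add_mem ha hb

theorem map_comm_nat {B₁ B₂ : Type u} [CommRing B₁] [Algebra A B₁] [CommRing B₂] [Algebra A B₂]
    {S S' : Type u} [CommRing S] [Algebra A S] [CommRing S'] [Algebra A S'] (f : S →ₐ[A] S')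
    (v : B₁ →ₐ[A] B₂) (z : S ⊗[A] B₁) :
    Algebra.TensorProduct.map (AlgHom.id A S') v
        (Algebra.TensorProduct.map f (AlgHom.id A B₁) z) =
      Algebra.TensorProduct.map f (AlgHom.id A B₂)
        (Algebra.TensorProduct.map (AlgHom.id A S) v z) := by
  induction z using TensorProduct.induction_on with
  | zero => simp
  | tmul a b => rfl
  | add a b ha hb => simp only [map_add, ha, hb]

/-- points of `S ⊗ E'` are `S`-combinations of the generators -/
theorem exists_repr (E' : Subalgebra A B) (m : ℕ) (e : Fin m → B)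
    (he : Submodule.span A (Set.range e) = Subalgebra.toSubmodule E')
    (S : Type u) [CommRing S] [Algebra A S] (z : S ⊗[A] E') :
    ∃ s : Fin m → S, Algebra.TensorProduct.map (AlgHom.id A S) E'.val z =
      ∑ k, s k ⊗ₜ[A] e k := by
  induction z using TensorProduct.induction_on with
  | zero => exact ⟨0, by simp⟩
  | tmul s' ε =>
    have hε : (ε : B) ∈ Submodule.span A (Set.range e) := by
      rw [he]; exact ε.2
    obtain ⟨a, ha⟩ := (Submodule.mem_span_range_iff_exists_fun A).mp hε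
    refine ⟨fun k => a k • s', ?_⟩
    rw [Algebra.TensorProduct.map_tmul, AlgHom.id_apply]
    show s' ⊗ₜ[A] (ε : B) = _
    rw [← ha, TensorProduct.tmul_sum]
    refine Finset.sum_congr rfl fun k _ => ?_
    rw [TensorProduct.tmul_smul, TensorProduct.smul_tmul']
  | add a b ha hb =>
    obtain ⟨s₁, h₁⟩ := ha
    obtain ⟨s₂, h₂⟩ := hb
    refine ⟨s₁ + s₂, ?_⟩
    rw [map_add, h₁, h₂, ← Finset.sum_add_distrib]
    refine Finset.sum_congr rfl fun k _ => ?_
    rw [Pi.add_apply, TensorProduct.add_tmul]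

/-- the core finiteness statement -/
theorem core (γ : MulLaw A B C d) (E' : Subalgebra A B) (m : ℕ) (e : Fin m → B)
    (he : Submodule.span A (Set.range e) = Subalgebra.toSubmodule E') :
    ∃ N : Submodule A C, N.FG ∧ (1 : C) ∈ N ∧ (∀ x y, x ∈ N → y ∈ N → x * y ∈ N) ∧
      ∀ (S : Type u) [CommRing S] [Algebra A S] (z : S ⊗[A] E'),
        γ.law.toFun' S (Algebra.TensorProduct.map (AlgHom.id A S) E'.val z) ∈
          LinearMap.range (N.subtype.lTensor S) := by
  classical
  let P := MvPolynomial (Fin m) A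
  let x₀ : P ⊗[A] B := ∑ k, (MvPolynomial.X k : P) ⊗ₜ[A] e k
  have hemem : ∀ k, e k ∈ E' := by
    intro k
    have : e k ∈ Submodule.span A (Set.range e) := Submodule.subset_span ⟨k, rfl⟩
    rw [he] at this
    exact this
  let z₀ : P ⊗[A] E' := ∑ k, (MvPolynomial.X k : P) ⊗ₜ[A] (⟨e k, hemem k⟩ : E')
  have hz₀ : Algebra.TensorProduct.map (AlgHom.id A P) E'.val z₀ = x₀ := by
    simp only [z₀, x₀, map_sum, Algebra.TensorProduct.map_tmul, AlgHom.id_apply]
    rfl
  obtain ⟨T, hT⟩ := expand_left (MvPolynomial.basisMonomials (Fin m) A) (γ.law.toFun' P x₀)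
  let c : (Fin m →₀ ℕ) → C := fun l =>
    lamT ((MvPolynomial.basisMonomials (Fin m) A).coord l) (γ.law.toFun' P x₀)
  let N : Submodule A C := Submodule.span A (c '' (T : Set (Fin m →₀ ℕ)))
  have hcN : ∀ l ∈ T, c l ∈ N := fun l hl =>
    Submodule.subset_span ⟨l, Finset.mem_coe.mpr hl, rfl⟩
  -- claim 1
  have claim1 : ∀ (S : Type u) [CommRing S] [Algebra A S] (s : Fin m → S),
      γ.law.toFun' S (∑ k, s k ⊗ₜ[A] e k) ∈ LinearMap.range (N.subtype.lTensor S) := by
    intro S _ _ s
    let ψ : P →ₐ[A] S := MvPolynomial.aeval s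
    have h1 : ∑ k, s k ⊗ₜ[A] e k = Algebra.TensorProduct.map ψ (AlgHom.id A B) x₀ := by
      simp only [x₀, map_sum, Algebra.TensorProduct.map_tmul, AlgHom.id_apply]
      refine Finset.sum_congr rfl fun k _ => ?_
      show s k ⊗ₜ[A] e k = (MvPolynomial.aeval s (MvPolynomial.X k : P)) ⊗ₜ[A] e k
      rw [MvPolynomial.aeval_X]
    rw [h1, ← compat_map, hT, map_sum]
    refine Submodule.sum_mem _ fun l hl => ?_
    rw [Algebra.TensorProduct.map_tmul, AlgHom.id_apply]
    exact ⟨ψ (MvPolynomial.basisMonomials (Fin m) A l) ⊗ₜ[A] (⟨c l, hcN l hl⟩ : N), rfl⟩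
  have claim1' : ∀ (S : Type u) [CommRing S] [Algebra A S] (z : S ⊗[A] E'),
      γ.law.toFun' S (Algebra.TensorProduct.map (AlgHom.id A S) E'.val z) ∈
        LinearMap.range (N.subtype.lTensor S) := by
    intro S _ _ z
    obtain ⟨s, hs⟩ := exists_repr E' m e he S z
    rw [hs]
    exact claim1 S s
  refine ⟨N, Submodule.fg_span ((T : Set (Fin m →₀ ℕ)).toFinite.image c), ?_, ?_, claim1'⟩
  · -- `1 ∈ N`
    have h1 := claim1' A 1
    rw [map_one, (γ.mult A).1] at h1
    have h2 := lamT_mem N (LinearMap.id : A →ₗ[A] A) h1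
    rw [Algebra.TensorProduct.one_def, lamT_tmul] at h2
    simpa using h2
  · -- closed under multiplication
    have hgen : ∀ l ∈ T, ∀ l' ∈ T, c l * c l' ∈ N := by
      intro l _ l' _
      have h1 := lamT_mul ((MvPolynomial.basisMonomials (Fin m) A).coord l)
        ((MvPolynomial.basisMonomials (Fin m) A).coord l') (γ.law.toFun' P x₀)
        (γ.law.toFun' P x₀)
      show lamT _ (γ.law.toFun' P x₀) * lamT _ (γ.law.toFun' P x₀) ∈ N
      rw [← h1, compat_map, compat_map, ← (γ.mult (P ⊗[A] P)).2, ← hz₀, ← map_comm_nat,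
        ← map_comm_nat, ← map_mul]
      exact lamT_mem N _ (claim1' (P ⊗[A] P) _)
    intro x y hx hy
    have hle : N * N ≤ N := by
      rw [Submodule.span_mul_span]
      rw [Submodule.span_le]
      rintro _ ⟨_, ⟨l, hl, rfl⟩, _, ⟨l', hl', rfl⟩, rfl⟩
      exact hgen l (Finset.mem_coe.mp hl) l' (Finset.mem_coe.mp hl')
    exact hle (Submodule.mul_mem_mul hx hy)

/-- `Γ^d` of a finite algebra is finite -/
theorem finite_of_finite (γ : MulLaw A B C d) (hγ : IsGammaD γ) [Module.Finite A B] :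
    Module.Finite A C := by
  obtain ⟨m, e, he⟩ := Module.Finite.exists_fin (R := A) (M := B)
  obtain ⟨N, hfg, h1, hmul, hval⟩ := core γ (⊤ : Subalgebra A B) m e (by rw [he]; rfl)
  let C₀ : Subalgebra A C := N.toSubalgebra h1 hmul
  have hv : ValuedIn γ C₀ := by
    intro n p
    have h2 := hval (MvPolynomial (Fin n) A)
      (Algebra.TensorProduct.map (AlgHom.id A _) (Subalgebra.topEquiv (R := A) (A := B)).symm.toAlgHom p)
    have h3 : Algebra.TensorProduct.map (AlgHom.id A (MvPolynomial (Fin n) A))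
        (⊤ : Subalgebra A B).val
        (Algebra.TensorProduct.map (AlgHom.id A _)
          (Subalgebra.topEquiv (R := A) (A := B)).symm.toAlgHom p) = p := by
      rw [← AlgHom.comp_apply, ← Algebra.TensorProduct.map_comp]
      have : ((⊤ : Subalgebra A B).val).comp
          (Subalgebra.topEquiv (R := A) (A := B)).symm.toAlgHom = AlgHom.id A B := by
        ext b
        rfl
      rw [this, AlgHom.comp_id, Algebra.TensorProduct.map_id, AlgHom.id_apply]
    rw [h3] at h2
    refine range_lTensor_le N.subtype C₀.val.toLinearMap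
      ((Subalgebra.toSubmoduleEquiv C₀).toLinearMap ∘ₗ
        (LinearEquiv.ofEq N (Subalgebra.toSubmodule C₀)
          (Submodule.toSubalgebra_toSubmodule N h1 hmul).symm).toLinearMap) ?_ _ h2
    ext x
    rfl
  have htop := eq_top_of_valuedIn γ hγ C₀ hv
  have hN : N = ⊤ := by
    have h4 := congrArg Subalgebra.toSubmodule htop
    rw [Submodule.toSubalgebra_toSubmodule, Algebra.top_toSubmodule] at h4
    exact h4
  rw [hN] at hfg
  exact ⟨hfg⟩

/-- `Γ^d` of an integral algebra is integral -/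
theorem isIntegral_of_isIntegral (γ : MulLaw A B C d) (hγ : IsGammaD γ)
    [Algebra.IsIntegral A B] : Algebra.IsIntegral A C := by
  classical
  rw [← integralClosure_eq_top_iff]
  apply eq_top_of_valuedIn γ hγ
  intro n p
  obtain ⟨J, hJ⟩ := TensorProduct.exists_finset p
  let sB : Set B := ((J.image Prod.snd : Finset B) : Set B)
  let B₀ : Subalgebra A B := Algebra.adjoin A sB
  have hB₀fg : (Subalgebra.toSubmodule B₀).FG :=
    fg_adjoin_of_finite (Finset.finite_toSet _) (fun x _ => Algebra.IsIntegral.isIntegral x)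
  obtain ⟨m, e, he⟩ := Submodule.fg_iff_exists_fin_generating_family.mp hB₀fg
  obtain ⟨N, hfg, h1, hmul, hval⟩ := core γ B₀ m e he
  have hmemB₀ : ∀ i ∈ J, i.2 ∈ B₀ := fun i hi =>
    Algebra.subset_adjoin (Finset.mem_coe.mpr (Finset.mem_image_of_mem _ hi))
  let z : MvPolynomial (Fin n) A ⊗[A] B₀ :=
    ∑ i ∈ J.attach, i.1.1 ⊗ₜ[A] (⟨i.1.2, hmemB₀ i.1 i.2⟩ : B₀)
  have hz : Algebra.TensorProduct.map (AlgHom.id A (MvPolynomial (Fin n) A)) B₀.val z = p := by
    rw [hJ]
    simp only [z, map_sum, Algebra.TensorProduct.map_tmul, AlgHom.id_apply]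
    rw [← Finset.sum_attach J (fun i => i.1 ⊗ₜ[A] i.2)]
    rfl
  have h2 := hval (MvPolynomial (Fin n) A) z
  rw [hz] at h2
  -- `N` consists of integral elements
  have hle : N ≤ Subalgebra.toSubmodule (integralClosure A C) := by
    intro x hx
    have hsub : (Subalgebra.toSubmodule (N.toSubalgebra h1 hmul)).FG := by
      rw [Submodule.toSubalgebra_toSubmodule]; exact hfg
    exact IsIntegral.of_mem_of_fg (N.toSubalgebra h1 hmul) hsub x hx
  refine range_lTensor_le N.subtype (integralClosure A C).val.toLinearMap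
    ((Subalgebra.toSubmoduleEquiv (integralClosure A C)).toLinearMap ∘ₗ
      (Submodule.inclusion hle)) ?_ _ h2
  ext x
  rfl

end Groth.Agent.Lib.Helper59.GammaFin
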