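import Groth.Agent.Lib.Helper59.LawReduced
import Groth.Agent.Lib.Helper98.PolyLawRestrict

/-!
# A universal law `γ : B → C` of degree `d` cannot take its values in a proper subalgebra of `C`
-/

set_option autoImplicit false

namespace Groth.Agent.Lib.Helper59.GammaGen

open scoped TensorProduct
open PolLaw Groth.Agent.Lib.Helper59.KerPoly Groth.Agent.Lib.Helper59.LawReduced
  Groth.Agent.Lib.Helper98.PolyLawRestrict

universe u

variable {A B C : Type u} [CommRing A] [CommRing B] [Algebra A B] [CommRing C] [Algebra A C]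
  {d : ℕ}

/-- `γ` takes its values in the subalgebra `C₀` over polynomial test rings -/
def ValuedIn (γ : MulLaw A B C d) (C₀ : Subalgebra A C) : Prop :=
  ∀ (n : ℕ) (p : MvPolynomial (Fin n) A ⊗[A] B),
    γ.law.toFun' (MvPolynomial (Fin n) A) p ∈
      LinearMap.range (C₀.val.toLinearMap.lTensor (MvPolynomial (Fin n) A))

theorem postcomp_toFun' {C' : Type u} [CommRing C'] [Algebra A C'] (g : C →ₗ[A] C')
    (F : B →ₚₗ[A] C) (S : Type u) [CommSemiring S] [Algebra A S] (x : S ⊗[A] B) :
    (PolLaw.postcomp g F).toFun' S x = g.lTensor S (F.toFun' S x) := rfl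

theorem lTensor_eq_map {C₁ C₂ : Type u} [CommRing C₁] [Algebra A C₁] [CommRing C₂] [Algebra A C₂]
    (f : C₁ →ₐ[A] C₂) (S : Type u) [CommSemiring S] [Algebra A S] (y : S ⊗[A] C₁) :
    f.toLinearMap.lTensor S y = Algebra.TensorProduct.map (AlgHom.id A S) f y := by
  induction y using TensorProduct.induction_on with
  | zero => simp
  | tmul a b => rfl
  | add a b ha hb => simp only [map_add, ha, hb]

theorem map_smul' {C₁ : Type u} [CommRing C₁] [Algebra A C₁] {S S' : Type u} [CommSemiring S]
    [Algebra A S] [CommSemiring S'] [Algebra A S'] (ψ : S →ₐ[A] S') (q : S) (y : S ⊗[A] C₁) :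
    Algebra.TensorProduct.map ψ (AlgHom.id A C₁) (q • y) =
      ψ q • Algebra.TensorProduct.map ψ (AlgHom.id A C₁) y := by
  induction y using TensorProduct.induction_on with
  | zero => simp
  | tmul a b =>
    rw [TensorProduct.smul_tmul', Algebra.TensorProduct.map_tmul, Algebra.TensorProduct.map_tmul,
      TensorProduct.smul_tmul', smul_eq_mul, smul_eq_mul, map_mul]
  | add a b ha hb => simp only [smul_add, map_add, ha, hb]

theorem lmap_smul {C₁ C₂ : Type u} [CommRing C₁] [Algebra A C₁] [CommRing C₂] [Algebra A C₂]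
    (f : C₁ →ₐ[A] C₂) {S : Type u} [CommSemiring S] [Algebra A S] (q : S) (y : S ⊗[A] C₁) :
    Algebra.TensorProduct.map (AlgHom.id A S) f (q • y) =
      q • Algebra.TensorProduct.map (AlgHom.id A S) f y := by
  induction y using TensorProduct.induction_on with
  | zero => simp
  | tmul a b =>
    rw [TensorProduct.smul_tmul', Algebra.TensorProduct.map_tmul, Algebra.TensorProduct.map_tmul,
      TensorProduct.smul_tmul']
    rfl
  | add a b ha hb => simp only [smul_add, map_add, ha, hb]

/-- the main theorem -/
theorem eq_top_of_valuedIn (γ : MulLaw A B C d) (hγ : IsGammaD γ) (C₀ : Subalgebra A C)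
    (h : ValuedIn γ C₀) : C₀ = ⊤ := by
  let ι : C₀ →ₐ[A] C := C₀.val
  have hinj : ∀ (S : Type u) [CommSemiring S] [Algebra A S] [Module.Flat A S],
      Function.Injective (Algebra.TensorProduct.map (AlgHom.id A S) ι) := by
    intro S _ _ _
    have h1 : Function.Injective (ι.toLinearMap.lTensor S) :=
      Module.Flat.lTensor_preserves_injective_linearMap _ Subtype.val_injective
    intro y y' hy
    apply h1
    rw [lTensor_eq_map, lTensor_eq_map, hy]
  choose T hT using h
  have hcompat : Compat T := by
    intro n m φ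
    funext p
    simp only [Function.comp_apply]
    have h1 : Function.Injective (ι.toLinearMap.lTensor (MvPolynomial (Fin m) A)) :=
      Module.Flat.lTensor_preserves_injective_linearMap _ Subtype.val_injective
    apply h1
    rw [hT, ← LinearMap.comp_apply, LinearMap.lTensor_comp_rTensor,
      ← LinearMap.rTensor_comp_lTensor, LinearMap.comp_apply, hT]
    exact congrFun (γ.law.isCompat' φ) p
  let γ₀law : B →ₚₗ[A] C₀ := lawOf hcompat
  have hpost : PolLaw.postcomp ι.toLinearMap γ₀law = γ.law := by
    apply law_ext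
    intro n
    funext p
    rw [postcomp_toFun']
    show ι.toLinearMap.lTensor _ ((lawOf hcompat).toFun' (MvPolynomial (Fin n) A) p) = _
    rw [lawOf_toFun']
    exact hT n p
  have hpostS : ∀ (S : Type u) [CommSemiring S] [Algebra A S] (x : S ⊗[A] B),
      Algebra.TensorProduct.map (AlgHom.id A S) ι (γ₀law.toFun' S x) = γ.law.toFun' S x := by
    intro S _ _ x
    rw [← lTensor_eq_map, ← postcomp_toFun', hpost]
  -- identities over flat test algebras
  have hflat_one : ∀ (S : Type u) [CommSemiring S] [Algebra A S] [Module.Flat A S],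
      γ₀law.toFun' S 1 = 1 := by
    intro S _ _ _
    apply hinj S
    rw [hpostS, (γ.mult S).1, map_one]
  have hflat_mul : ∀ (S : Type u) [CommSemiring S] [Algebra A S] [Module.Flat A S]
      (x y : S ⊗[A] B), γ₀law.toFun' S (x * y) = γ₀law.toFun' S x * γ₀law.toFun' S y := by
    intro S _ _ _ x y
    apply hinj S
    rw [hpostS, (γ.mult S).2, map_mul, hpostS, hpostS]
  have hflat_smul : ∀ (S : Type u) [CommSemiring S] [Algebra A S] [Module.Flat A S]
      (s : S) (x : S ⊗[A] B), γ₀law.toFun' S (s • x) = s ^ d • γ₀law.toFun' S x := by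
    intro S _ _ _ s x
    apply hinj S
    rw [hpostS, γ.homog S, lmap_smul, hpostS]
  -- the law `γ₀`
  let γ₀ : MulLaw A B C₀ d :=
    { law := γ₀law
      homog := by
        intro S _ _ s x
        obtain ⟨n, ψ, p, q, hp, hq⟩ := PolynomialLaw.exists_lift' x s
        rw [rTensor_algHom_apply] at hp
        have h1 : s • x = Algebra.TensorProduct.map ψ (AlgHom.id A B) (q • p) := by
          rw [map_smul', hp, hq]
        rw [h1, ← compat_map, hflat_smul, map_smul', map_pow, hq, compat_map, hp]
      mult := by
        intro S _ _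
        refine ⟨?_, fun x y => ?_⟩
        · have h1 : (1 : S ⊗[A] B) =
              Algebra.TensorProduct.map (Algebra.ofId A S) (AlgHom.id A B) 1 := by
            rw [map_one]
          rw [h1, ← compat_map, hflat_one, map_one]
        · obtain ⟨σ, ψ, x₀, y₀, hx, hy⟩ := exists_lift_pair x y
          rw [rTensor_algHom_apply] at hx hy
          have h1 : x * y = Algebra.TensorProduct.map ψ (AlgHom.id A B) (x₀ * y₀) := by
            rw [map_mul, hx, hy]
          rw [h1, ← compat_map, hflat_mul, map_mul, compat_map, compat_map, hx, hy] }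
  obtain ⟨r, hr, _⟩ := hγ C₀ γ₀
  -- `ι ∘ r = id` by uniqueness
  obtain ⟨f, _, hfuniq⟩ := hγ C γ
  have h1 : PolLaw.postcomp (ι.comp r).toLinearMap γ.law = γ.law := by
    ext S _ _ x
    rw [postcomp_toFun']
    have h2 : (ι.comp r).toLinearMap.lTensor S (γ.law.toFun' S x) =
        ι.toLinearMap.lTensor S (r.toLinearMap.lTensor S (γ.law.toFun' S x)) := by
      rw [AlgHom.comp_toLinearMap, LinearMap.lTensor_comp, LinearMap.comp_apply]
    rw [h2, ← postcomp_toFun' r.toLinearMap, hr]
    show ι.toLinearMap.lTensor S (γ₀law.toFun' S x) = _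
    rw [← postcomp_toFun' ι.toLinearMap, hpost]
  have h3 : PolLaw.postcomp (AlgHom.id A C).toLinearMap γ.law = γ.law := by
    ext S _ _ x
    rw [postcomp_toFun']
    simp
  have h4 : ι.comp r = AlgHom.id A C := (hfuniq _ h1).trans (hfuniq _ h3).symm
  rw [eq_top_iff]
  intro c _
  have h5 : c = ι (r c) := by
    have := congrArg (fun g => g c) h4
    simpa using this.symm
  rw [h5]
  exact (r c).2

end Groth.Agent.Lib.Helper59.GammaGen

namespace Groth.Agent.Lib.Helper59.GammaGen

open scoped TensorProduct
open PolLaw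

universe u

variable {A B C : Type u} [CommRing A] [CommRing B] [Algebra A B] [CommRing C] [Algebra A C]
  {d : ℕ}

/-- `Γ^d` of a surjection is a surjection -/
theorem surjective_of_surjective {B' C' : Type u} [CommRing B'] [Algebra A B'] [CommRing C']
    [Algebra A C'] (γ : MulLaw A B C d) (γ' : MulLaw A B' C' d) (hγ' : IsGammaD γ')
    (π : B →ₐ[A] B') (hπ : Function.Surjective π) (φ : C →ₐ[A] C')
    (hφ : PolLaw.postcomp φ.toLinearMap γ.law = (γ'.precomp π).law) :
    Function.Surjective φ := by
  have hval : ValuedIn γ' φ.range := by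
    intro n p'
    obtain ⟨p, rfl⟩ := LinearMap.lTensor_surjective (MvPolynomial (Fin n) A)
      (g := π.toLinearMap) hπ p'
    have h1 : γ'.law.toFun' (MvPolynomial (Fin n) A)
        (π.toLinearMap.lTensor (MvPolynomial (Fin n) A) p) =
        (γ'.precomp π).law.toFun' (MvPolynomial (Fin n) A) p := rfl
    rw [h1, ← hφ, postcomp_toFun']
    refine ⟨φ.rangeRestrict.toLinearMap.lTensor (MvPolynomial (Fin n) A)
      (γ.law.toFun' (MvPolynomial (Fin n) A) p), ?_⟩
    rw [← LinearMap.comp_apply, ← LinearMap.lTensor_comp, ← AlgHom.comp_toLinearMap,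
      AlgHom.val_comp_rangeRestrict]
  have h2 := eq_top_of_valuedIn γ' hγ' φ.range hval
  exact AlgHom.range_eq_top φ |>.mp h2

end Groth.Agent.Lib.Helper59.GammaGen
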