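import Groth.Agent.Lib.Helper59.GeomRed

/-!
# `T^{d+1}(B) = T^d(B) ⊗ B` as algebras, and reducedness of `K ⊗ T^d(B)`
-/

set_option autoImplicit false

namespace Groth.Agent.Lib.Helper59.TSucc

open scoped TensorProduct

universe u

variable (A : Type u) [CommRing A] (B : Type u) [CommRing B] [Algebra A B]

/-- `T^d(B) ⊗ B ≃ T^{d+1}(B)`, linear version -/
noncomputable def succLin (d : ℕ) :
    (⨂[A] _ : Fin d, B) ⊗[A] B ≃ₗ[A] (⨂[A] _ : Fin (d + 1), B) :=
  TensorProduct.congr (LinearEquiv.refl A _)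
      (PiTensorProduct.subsingletonEquiv (R := A) (s := fun _ : Fin 1 => B) (0 : Fin 1)).symm ≪≫ₗ
    TensorPower.mulEquiv

theorem succLin_tprod (d : ℕ) (b : Fin d → B) (c : B) :
    succLin A B d (PiTensorProduct.tprod A b ⊗ₜ c) =
      PiTensorProduct.tprod A (Fin.append b (fun _ : Fin 1 => c)) := by
  simp only [succLin, LinearEquiv.trans_apply, TensorProduct.congr_tmul, LinearEquiv.refl_apply,
    PiTensorProduct.subsingletonEquiv_symm_apply']
  rw [← TensorPower.gMul_def, TensorPower.tprod_mul_tprod]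

theorem append_mul (d : ℕ) (x y : Fin d → B) (b₁ b₂ : B) :
    Fin.append (fun i => x i * y i) (fun _ : Fin 1 => b₁ * b₂) =
      fun i => Fin.append x (fun _ : Fin 1 => b₁) i * Fin.append y (fun _ : Fin 1 => b₂) i := by
  funext i
  refine Fin.addCases (fun j => ?_) (fun j => ?_) i
  · simp only [Fin.append_left]
  · simp only [Fin.append_right]

theorem tprod_mul' {n : ℕ} (x y : Fin n → B) :
    PiTensorProduct.tprod A x * PiTensorProduct.tprod A y =
      PiTensorProduct.tprod A (fun i => x i * y i) := by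
  rw [PiTensorProduct.tprod_mul_tprod]
  rfl

theorem succLin_mul (d : ℕ) (a₁ a₂ : ⨂[A] _ : Fin d, B) (b₁ b₂ : B) :
    succLin A B d ((a₁ * a₂) ⊗ₜ (b₁ * b₂)) =
      succLin A B d (a₁ ⊗ₜ b₁) * succLin A B d (a₂ ⊗ₜ b₂) := by
  induction a₁ using PiTensorProduct.induction_on with
  | smul_tprod r x =>
    induction a₂ using PiTensorProduct.induction_on with
    | smul_tprod s y =>
      rw [PiTensorProduct.smul_tprod_mul_smul_tprod, ← TensorProduct.smul_tmul',
        ← TensorProduct.smul_tmul', ← TensorProduct.smul_tmul', map_smul, map_smul, map_smul]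
      have e : (x * y : Fin d → B) = fun i => x i * y i := rfl
      rw [e, succLin_tprod, succLin_tprod, succLin_tprod, append_mul, ← tprod_mul',
        smul_mul_smul_comm]
    | add y z hy hz =>
      rw [mul_add, TensorProduct.add_tmul, map_add, hy, hz, TensorProduct.add_tmul, map_add,
        mul_add]
  | add x x' hx hx' =>
    rw [add_mul, TensorProduct.add_tmul, map_add, hx, hx', TensorProduct.add_tmul, map_add,
      add_mul]

theorem succLin_one (d : ℕ) : succLin A B d ((1 : ⨂[A] _ : Fin d, B) ⊗ₜ (1 : B)) = 1 := by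
  have h1 : (1 : ⨂[A] _ : Fin d, B) = PiTensorProduct.tprod A (fun _ => (1 : B)) :=
    PiTensorProduct.one_def (R := A) (A := fun _ : Fin d => B)
  have h2 : (1 : ⨂[A] _ : Fin (d + 1), B) = PiTensorProduct.tprod A (fun _ => (1 : B)) :=
    PiTensorProduct.one_def (R := A) (A := fun _ : Fin (d + 1) => B)
  rw [h1, h2, succLin_tprod]
  congr 1
  funext i
  refine Fin.addCases (fun j => ?_) (fun j => ?_) i
  · simp only [Fin.append_left]
  · simp only [Fin.append_right]

/-- `T^d(B) ⊗ B ≃ T^{d+1}(B)` as algebras -/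
noncomputable def succAlg (d : ℕ) :
    (⨂[A] _ : Fin d, B) ⊗[A] B ≃ₐ[A] (⨂[A] _ : Fin (d + 1), B) :=
  Algebra.TensorProduct.algEquivOfLinearEquivTensorProduct (succLin A B d)
    (succLin_mul A B d) (succLin_one A B d)

variable {A B}

theorem exists_algebraMap_eq_zero (t : ⨂[A] _ : Fin 0, B) :
    ∃ a : A, t = a • (1 : ⨂[A] _ : Fin 0, B) := by
  induction t using PiTensorProduct.induction_on with
  | smul_tprod r x =>
    refine ⟨r, ?_⟩
    have h1 : (1 : ⨂[A] _ : Fin 0, B) = PiTensorProduct.tprod A (fun _ => (1 : B)) :=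
      PiTensorProduct.one_def (R := A) (A := fun _ : Fin 0 => B)
    rw [h1]
    congr 2
    exact Subsingleton.elim _ _
  | add x y hx hy =>
    obtain ⟨a, rfl⟩ := hx
    obtain ⟨b, rfl⟩ := hy
    exact ⟨a + b, (add_smul _ _ _).symm⟩

theorem isReduced_tensor_zero (K : Type u) [Field K] [Algebra A K] :
    IsReduced (K ⊗[A] (⨂[A] _ : Fin 0, B)) := by
  have hsurj : ∀ x : K ⊗[A] (⨂[A] _ : Fin 0, B), ∃ k : K, x = k ⊗ₜ 1 := by
    intro x
    induction x using TensorProduct.induction_on with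
    | zero => exact ⟨0, (TensorProduct.zero_tmul _ _).symm⟩
    | tmul k t =>
      obtain ⟨a, rfl⟩ := exists_algebraMap_eq_zero t
      exact ⟨a • k, by rw [TensorProduct.tmul_smul, TensorProduct.smul_tmul']⟩
    | add x y hx hy =>
      obtain ⟨k, rfl⟩ := hx
      obtain ⟨l, rfl⟩ := hy
      exact ⟨k + l, (TensorProduct.add_tmul _ _ _).symm⟩
  refine ⟨fun x hx => ?_⟩
  obtain ⟨k, rfl⟩ := hsurj x
  by_cases hk : k = 0
  · rw [hk, TensorProduct.zero_tmul]
  · have hu : IsUnit (k ⊗ₜ[A] (1 : ⨂[A] _ : Fin 0, B)) := by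
      have : IsUnit k := isUnit_iff_ne_zero.2 hk
      exact this.map (Algebra.TensorProduct.includeLeft :
        K →ₐ[A] K ⊗[A] (⨂[A] _ : Fin 0, B))
    obtain ⟨n, hn⟩ := hx
    have h0 : IsUnit (0 : K ⊗[A] (⨂[A] _ : Fin 0, B)) := hn ▸ hu.pow n
    have h01 : (0 : K ⊗[A] (⨂[A] _ : Fin 0, B)) = 1 := isUnit_zero_iff.1 h0
    calc k ⊗ₜ[A] (1 : ⨂[A] _ : Fin 0, B) = k ⊗ₜ[A] (1 : ⨂[A] _ : Fin 0, B) * 1 := (mul_one _).symm
      _ = k ⊗ₜ[A] (1 : ⨂[A] _ : Fin 0, B) * 0 := by rw [h01]
      _ = 0 := mul_zero _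

/-- If all fibres of `B` are geometrically reduced then `K ⊗ T^d(B)` is reduced. -/
theorem isReduced_tensor_pow
    (hred : ∀ (K : Type u) [Field K] [Algebra A K], IsReduced (K ⊗[A] B)) (d : ℕ) :
    ∀ (K : Type u) [Field K] [Algebra A K], IsReduced (K ⊗[A] (⨂[A] _ : Fin d, B)) := by
  induction d with
  | zero => exact fun K _ _ => isReduced_tensor_zero K
  | succ d ih =>
    intro K _ _
    have h1 : IsReduced (K ⊗[A] (⨂[A] _ : Fin d, B)) := ih K
    -- `(K ⊗ T^d) ⊗[K] (K ⊗ B)` is reduced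
    have h2 : IsReduced ((K ⊗[A] (⨂[A] _ : Fin d, B)) ⊗[K] (K ⊗[A] B)) := by
      apply GeomRed.isReduced_tensor
      intro L _ _
      let : Algebra A L := ((algebraMap K L).comp (algebraMap A K)).toAlgebra
      have : IsScalarTower A K L := IsScalarTower.of_algebraMap_eq (fun _ => rfl)
      have h3 : IsReduced (L ⊗[A] B) := hred L
      exact isReduced_of_injective (Algebra.TensorProduct.cancelBaseChange A K L L B)
        (Algebra.TensorProduct.cancelBaseChange A K L L B).injective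
    have h3 : IsReduced ((K ⊗[A] (⨂[A] _ : Fin d, B)) ⊗[A] B) :=
      isReduced_of_injective
        (Algebra.TensorProduct.cancelBaseChange A K K (K ⊗[A] (⨂[A] _ : Fin d, B)) B).symm
        (Algebra.TensorProduct.cancelBaseChange A K K (K ⊗[A] (⨂[A] _ : Fin d, B)) B).symm.injective
    have h4 : IsReduced (K ⊗[A] ((⨂[A] _ : Fin d, B) ⊗[A] B)) :=
      isReduced_of_injective
        (Algebra.TensorProduct.assoc A A A K (⨂[A] _ : Fin d, B) B).symm
        (Algebra.TensorProduct.assoc A A A K (⨂[A] _ : Fin d, B) B).symm.injective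
    exact isReduced_of_injective
      (Algebra.TensorProduct.congr (AlgEquiv.refl (R := A) (A₁ := K)) (succAlg A B d)).symm
      (Algebra.TensorProduct.congr (AlgEquiv.refl (R := A) (A₁ := K)) (succAlg A B d)).symm.injective

end Groth.Agent.Lib.Helper59.TSucc
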