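import Groth.Agent.Lib.Helper59.TSPure
import Groth.Agent.Lib.Helper59.TSucc
import Groth.Agent.Lib.Helper59.GammaFlat

/-!
# `Γ^d_A(B)` has geometrically reduced fibres if `B` is flat with geometrically reduced fibres
-/

set_option autoImplicit false

namespace Groth.Agent.Lib.Helper59.GammaRed

open scoped TensorProduct
open PolLaw

universe u

theorem reduced_of_isGammaD {A : Type u} [CommRing A] {B : Type u} [CommRing B] [Algebra A B]
    {C : Type u} [CommRing C] [Algebra A C] {d : ℕ} (γ : PolLaw.MulLaw A B C d)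
    (hγ : PolLaw.IsGammaD γ) [Module.Flat A B]
    (hred : ∀ (K : Type u) [Field K] [Algebra A K], IsReduced (K ⊗[A] B)) :
    ∀ (K : Type u) [Field K] [Algebra A K], IsReduced (K ⊗[A] C) := by
  intro K _ _
  obtain ⟨e, -⟩ := GammaFlat.exists_algEquiv γ hγ (TSGamma.tau A B d)
    (TSGamma.isGammaD_tau_of_flat d)
  have h1 : IsReduced (K ⊗[A] (⨂[A] _ : Fin d, B)) := TSucc.isReduced_tensor_pow hred d K
  let φ : K ⊗[A] SymTen.TS A B d →ₐ[A] K ⊗[A] (⨂[A] _ : Fin d, B) :=
    Algebra.TensorProduct.map (AlgHom.id A K) (SymTen.TS A B d).val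
  have hφ : Function.Injective φ := by
    have hφ' : φ.toLinearMap = LinearMap.lTensor K (TSPure.incl B d) := by
      apply TensorProduct.ext'
      intro k t
      rfl
    have : (φ : K ⊗[A] SymTen.TS A B d → K ⊗[A] (⨂[A] _ : Fin d, B)) =
        LinearMap.lTensor K (TSPure.incl B d) := by
      funext x
      exact LinearMap.congr_fun hφ' x
    rw [this]
    exact TSPure.lTensor_incl_injective B d K
  have h2 : IsReduced (K ⊗[A] SymTen.TS A B d) := isReduced_of_injective φ hφ
  exact isReduced_of_injective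
    (Algebra.TensorProduct.congr (AlgEquiv.refl (R := A) (A₁ := K)) e)
    (Algebra.TensorProduct.congr (AlgEquiv.refl (R := A) (A₁ := K)) e).injective

end Groth.Agent.Lib.Helper59.GammaRed
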