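import Groth.Agent.Lib.Helper59.TPow

/-!
# The norm `z ↦ ∏ σ, σ z` on a tensor power, and the kernel of `T^d(P) → T^d(B)`
-/

set_option autoImplicit false

namespace Groth.Agent.Lib.Helper59.SymN

open scoped TensorProduct

universe u

variable {A : Type u} [CommRing A] {B : Type u} [CommRing B] [Algebra A B] (d : ℕ)

theorem perm_perm (σ τ : Equiv.Perm (Fin d)) (z : ⨂[A] _ : Fin d, B) :
    SymTen.perm A B d τ (SymTen.perm A B d σ z) = SymTen.perm A B d (τ * σ) z := by
  induction z using PiTensorProduct.induction_on with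
  | smul_tprod r f =>
      simp only [map_smul, SymTen.perm_tprod]
      rfl
  | add x y hx hy => simp only [map_add, hx, hy]

/-- the norm of a tensor: the product of its conjugates under the symmetric group -/
noncomputable def N (z : ⨂[A] _ : Fin d, B) : ⨂[A] _ : Fin d, B :=
  ∏ σ : Equiv.Perm (Fin d), SymTen.perm A B d σ z

theorem perm_N (τ : Equiv.Perm (Fin d)) (z : ⨂[A] _ : Fin d, B) :
    SymTen.perm A B d τ (N d z) = N d z := by
  rw [N, map_prod]
  simp only [perm_perm]
  exact Fintype.prod_equiv (Equiv.mulLeft τ) _ _ fun σ => rfl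

theorem N_mem_TS (z : ⨂[A] _ : Fin d, B) : N d z ∈ SymTen.TS A B d := by
  rw [SymTen.mem_TS_iff]
  intro σ
  rw [← SymTen.perm_apply, perm_N]

theorem N_of_mem_TS (z : ⨂[A] _ : Fin d, B) (hz : z ∈ SymTen.TS A B d) :
    N d z = z ^ d.factorial := by
  rw [N]
  have : ∀ σ : Equiv.Perm (Fin d), SymTen.perm A B d σ z = z := fun σ => by
    rw [SymTen.perm_apply]
    exact hz σ
  simp only [this]
  rw [Finset.prod_const, Finset.card_univ, Fintype.card_perm, Fintype.card_fin]

variable {B' : Type u} [CommRing B'] [Algebra A B'] {B'' : Type u} [CommRing B''] [Algebra A B'']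

theorem tmap_perm (ε : B →ₐ[A] B') (σ : Equiv.Perm (Fin d)) (z : ⨂[A] _ : Fin d, B) :
    SymTen.tmap A d ε (SymTen.perm A B d σ z) = SymTen.perm A B' d σ (SymTen.tmap A d ε z) := by
  rw [SymTen.perm_apply, SymTen.tmap_reindex, SymTen.perm_apply]

theorem tmap_N (ε : B →ₐ[A] B') (z : ⨂[A] _ : Fin d, B) :
    SymTen.tmap A d ε (N d z) = N d (SymTen.tmap A d ε z) := by
  rw [N, map_prod, N]
  simp only [tmap_perm]

theorem tmap_single (ε : B →ₐ[A] B') (j : Fin d) (b : B) :
    SymTen.tmap A d ε (PiTensorProduct.singleAlgHom (R := A) (A := fun _ : Fin d => B) j b) =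
      PiTensorProduct.singleAlgHom (R := A) (A := fun _ : Fin d => B') j (ε b) := by
  rw [PiTensorProduct.singleAlgHom_apply, PiTensorProduct.singleAlgHom_apply, SymTen.tmap_tprod]
  congr 1
  funext i
  simp only [MonoidHom.mulSingle_apply]
  exact Pi.apply_mulSingle (fun _ => ε) (fun _ => map_one ε) j b i

theorem tmap_comp (ε : B →ₐ[A] B') (ε' : B' →ₐ[A] B'') (z : ⨂[A] _ : Fin d, B) :
    SymTen.tmap A d ε' (SymTen.tmap A d ε z) = SymTen.tmap A d (ε'.comp ε) z := by
  induction z using PiTensorProduct.induction_on with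
  | smul_tprod r f => simp only [map_smul, SymTen.tmap_tprod, AlgHom.comp_apply]
  | add x y hx hy => simp only [map_add, hx, hy]

theorem tmap_id (z : ⨂[A] _ : Fin d, B) : SymTen.tmap A d (AlgHom.id A B) z = z := by
  induction z using PiTensorProduct.induction_on with
  | smul_tprod r f => simp only [map_smul, SymTen.tmap_tprod, AlgHom.id_apply]
  | add x y hx hy => simp only [map_add, hx, hy]

theorem tmap_surjective (ε : B →ₐ[A] B') (h : Function.Surjective ε) :
    Function.Surjective (SymTen.tmap A d ε) := by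
  intro y
  induction y using PiTensorProduct.induction_on with
  | smul_tprod r f =>
      refine ⟨r • PiTensorProduct.tprod A (fun i => Function.surjInv h (f i)), ?_⟩
      rw [map_smul, SymTen.tmap_tprod]
      simp only [Function.surjInv_eq h]
  | add x y hx hy =>
      obtain ⟨x', rfl⟩ := hx
      obtain ⟨y', rfl⟩ := hy
      exact ⟨x' + y', map_add _ _ _⟩

section Ker

variable {P : Type u} [CommRing P] [Algebra A P] (π : P →ₐ[A] B) (hπ : Function.Surjective π)

/-- the ideal of the tensor power generated by the kernel of `π` in each factor -/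
noncomputable def Jd : Ideal (⨂[A] _ : Fin d, P) :=
  Ideal.span {x | ∃ (j : Fin d) (a : P), π a = 0 ∧
    x = PiTensorProduct.singleAlgHom (R := A) (A := fun _ : Fin d => P) j a}

/-- the factor maps `B → T^d(P)/J` -/
noncomputable def rho (j : Fin d) : B →ₐ[A] (⨂[A] _ : Fin d, P) ⧸ Jd d π :=
  (Ideal.Quotient.liftₐ (RingHom.ker π)
    ((Ideal.Quotient.mkₐ A (Jd d π)).comp
      (PiTensorProduct.singleAlgHom (R := A) (A := fun _ : Fin d => P) j))
    (fun a ha => by
      rw [AlgHom.comp_apply, Ideal.Quotient.mkₐ_eq_mk, Ideal.Quotient.eq_zero_iff_mem]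
      exact Ideal.subset_span ⟨j, a, ha, rfl⟩)).comp
    (Ideal.quotientKerAlgEquivOfSurjective hπ).symm.toAlgHom

theorem rho_apply (j : Fin d) (p : P) :
    rho d π hπ j (π p) = Ideal.Quotient.mk (Jd d π)
      (PiTensorProduct.singleAlgHom (R := A) (A := fun _ : Fin d => P) j p) := by
  have h1 : (Ideal.quotientKerAlgEquivOfSurjective hπ).symm (π p) =
      Ideal.Quotient.mk (RingHom.ker π) p := by
    rw [AlgEquiv.symm_apply_eq]
    rfl
  rw [rho, AlgHom.comp_apply]
  show Ideal.Quotient.liftₐ _ _ _ ((Ideal.quotientKerAlgEquivOfSurjective hπ).symm (π p)) = _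
  rw [h1]
  rfl

/-- the multilinear map underlying the inverse map -/
noncomputable def mlin : MultilinearMap A (fun _ : Fin d => B) ((⨂[A] _ : Fin d, P) ⧸ Jd d π) :=
  (MultilinearMap.mkPiAlgebra A (Fin d) ((⨂[A] _ : Fin d, P) ⧸ Jd d π)).compLinearMap
    (fun j => (rho d π hπ j).toLinearMap)

theorem mlin_apply (b : Fin d → B) : mlin d π hπ b = ∏ j, rho d π hπ j (b j) := by
  simp [mlin]

theorem mlin_one : mlin d π hπ 1 = 1 := by
  rw [mlin_apply]
  simp

theorem mlin_mul (x y : Fin d → B) : mlin d π hπ (x * y) = mlin d π hπ x * mlin d π hπ y := by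
  rw [mlin_apply, mlin_apply, mlin_apply, ← Finset.prod_mul_distrib]
  simp

/-- the inverse map `T^d(B) → T^d(P)/J` -/
noncomputable def psiB : (⨂[A] _ : Fin d, B) →ₐ[A] (⨂[A] _ : Fin d, P) ⧸ Jd d π :=
  PiTensorProduct.liftAlgHom (mlin d π hπ) (mlin_one d π hπ) (mlin_mul d π hπ)

theorem psiB_tprod (b : Fin d → B) :
    psiB d π hπ (PiTensorProduct.tprod A b) = ∏ j, rho d π hπ j (b j) := by
  rw [psiB, PiTensorProduct.liftAlgHom_apply, PiTensorProduct.lift.tprod, mlin_apply]

theorem psiB_tmap (z : ⨂[A] _ : Fin d, P) :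
    psiB d π hπ (SymTen.tmap A d π z) = Ideal.Quotient.mk (Jd d π) z := by
  have h : (psiB d π hπ).comp (SymTen.tmap A d π) = Ideal.Quotient.mkₐ A (Jd d π) := by
    apply PiTensorProduct.algHom_ext
    intro j
    ext p
    rw [AlgHom.comp_apply, AlgHom.comp_apply, AlgHom.comp_apply, tmap_single,
      PiTensorProduct.singleAlgHom_apply, psiB_tprod, Ideal.Quotient.mkₐ_eq_mk]
    rw [Fintype.prod_eq_single j]
    · rw [MonoidHom.mulSingle_apply, Pi.mulSingle_eq_same, rho_apply]
    · intro k hk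
      rw [MonoidHom.mulSingle_apply, Pi.mulSingle_eq_of_ne hk, map_one]
  exact DFunLike.congr_fun h z

include hπ in
/-- the kernel of `T^d(P) → T^d(B)` is generated by the kernels of the factors -/
theorem mem_Jd_of_tmap_eq_zero (z : ⨂[A] _ : Fin d, P) (hz : SymTen.tmap A d π z = 0) :
    z ∈ Jd d π := by
  rw [← Ideal.Quotient.eq_zero_iff_mem, ← psiB_tmap d π hπ, hz, map_zero]

end Ker

end Groth.Agent.Lib.Helper59.SymN
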