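import Groth.Agent.Lib.Helper59.GRoby
import Groth.Agent.Lib.Helper59.SymN

/-!
# The canonical map `Γ^d(B) → TS^d(B)`: kernel and cokernel are killed by `d!`-th powers

We present `B` as a quotient `π : P = A[X_k] → B` of a polynomial ring, build Roby's linear form
`ff : T^d(P) → C` of the law `γ ∘ π` and study it on the symmetric tensors of `P`.
-/

set_option autoImplicit false

namespace Groth.Agent.Lib.Helper59.GammaTS

open scoped TensorProduct
open PolLaw Groth.Agent.Lib.Helper59.KerPoly Groth.Agent.Lib.Helper59.LawReduced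
  Groth.Agent.Lib.Helper59.CHCore Groth.Agent.Lib.Helper59.GammaGen
  Groth.Agent.Lib.Helper59.PolarGamma Groth.Agent.Lib.Helper59.SymN

universe u

section General

variable {A : Type u} [CommRing A] {P : Type u} [CommRing P] [Algebra A P] (d : ℕ)

/-- the coefficients of the tensor power law are symmetric tensors -/
theorem coeff_mem_TS (S : Type u) [CommRing S] [Algebra A S] (lam : S →ₗ[A] A) (z : S ⊗[A] P) :
    lamT lam ((SymTen.tpowLaw A P d).law.toFun' S z) ∈ SymTen.TS A P d := by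
  rw [SymTen.mem_TS_iff]
  intro σ
  rw [← SymTen.perm_apply, ← AlgHom.toLinearMap_apply, ← lamT_lTensor, lTensor_eq_map,
    TPow.tpow_perm]

theorem N_zero : N d (0 : ⨂[A] _ : Fin d, P) = 0 := by
  rw [N]
  exact Finset.prod_eq_zero (Finset.mem_univ 1) (map_zero _)

end General

section Main

variable {A B C : Type u} [CommRing A] [CommRing B] [Algebra A B] [CommRing C] [Algebra A C]
  {d : ℕ} (γ : MulLaw A B C d) {κ : Type u} (π : MvPolynomial κ A →ₐ[A] B)

/-- Roby's linear form of the law `γ ∘ π` -/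
noncomputable def ff : (⨂[A] _ : Fin d, MvPolynomial κ A) →ₗ[A] C :=
  GRoby.flin (MvPolynomial.basisMonomials κ A) d (γ.precomp π).law

theorem ff_spec (S : Type u) [CommSemiring S] [Algebra A S] (z : S ⊗[A] MvPolynomial κ A) :
    (ff γ π).lTensor S ((SymTen.tpowLaw A (MvPolynomial κ A) d).law.toFun' S z) =
      γ.law.toFun' S (π.toLinearMap.lTensor S z) :=
  GRoby.flin_spec _ d _ (γ.precomp π).homog S z

theorem ff_coeff (S : Type u) [CommRing S] [Algebra A S] (lam : S →ₗ[A] A)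
    (z : S ⊗[A] MvPolynomial κ A) :
    ff γ π (lamT lam ((SymTen.tpowLaw A (MvPolynomial κ A) d).law.toFun' S z)) =
      lamT lam (γ.law.toFun' S (π.toLinearMap.lTensor S z)) := by
  rw [← lamT_lTensor, ff_spec]

theorem ff_mul_coeff (S₁ : Type u) [CommRing S₁] [Algebra A S₁] (lam₁ : S₁ →ₗ[A] A)
    (z₁ : S₁ ⊗[A] MvPolynomial κ A) (S₂ : Type u) [CommRing S₂] [Algebra A S₂] (lam₂ : S₂ →ₗ[A] A)
    (z₂ : S₂ ⊗[A] MvPolynomial κ A) :
    ff γ π (lamT lam₁ ((SymTen.tpowLaw A (MvPolynomial κ A) d).law.toFun' S₁ z₁) *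
        lamT lam₂ ((SymTen.tpowLaw A (MvPolynomial κ A) d).law.toFun' S₂ z₂)) =
      ff γ π (lamT lam₁ ((SymTen.tpowLaw A (MvPolynomial κ A) d).law.toFun' S₁ z₁)) *
        ff γ π (lamT lam₂ ((SymTen.tpowLaw A (MvPolynomial κ A) d).law.toFun' S₂ z₂)) := by
  rw [← lamT_mul lam₁ lam₂, compat_map, compat_map, ← ((SymTen.tpowLaw A _ d).mult _).2, ff_coeff,
    ff_coeff, ff_coeff, ← lamT_mul lam₁ lam₂, compat_map, compat_map, ← (γ.mult _).2]
  congr 2
  rw [lTensor_eq_map, lTensor_eq_map, lTensor_eq_map, map_mul]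
  congr 1
  · induction z₁ using TensorProduct.induction_on with
    | zero => simp
    | tmul s p => simp
    | add a b ha hb => simp only [map_add, ha, hb]
  · induction z₂ using TensorProduct.induction_on with
    | zero => simp
    | tmul s p => simp
    | add a b ha hb => simp only [map_add, ha, hb]

theorem ff_mul_coeff_right (S₂ : Type u) [CommRing S₂] [Algebra A S₂] (lam₂ : S₂ →ₗ[A] A)
    (z₂ : S₂ ⊗[A] MvPolynomial κ A) (r : ⨂[A] _ : Fin d, MvPolynomial κ A)
    (hr : r ∈ SymTen.TS A (MvPolynomial κ A) d) :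
    ff γ π (r * lamT lam₂ ((SymTen.tpowLaw A (MvPolynomial κ A) d).law.toFun' S₂ z₂)) =
      ff γ π r * ff γ π (lamT lam₂ ((SymTen.tpowLaw A (MvPolynomial κ A) d).law.toFun' S₂ z₂)) := by
  set c := lamT lam₂ ((SymTen.tpowLaw A (MvPolynomial κ A) d).law.toFun' S₂ z₂) with hc
  let K : Submodule A (⨂[A] _ : Fin d, MvPolynomial κ A) :=
    { carrier := {r | ff γ π (r * c) = ff γ π r * ff γ π c}
      add_mem' := by
        intro a b ha hb
        simp only [Set.mem_ofPred_eq] at ha hb ⊢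
        rw [add_mul, map_add, map_add, add_mul, ha, hb]
      zero_mem' := by simp
      smul_mem' := by
        intro t a ha
        simp only [Set.mem_ofPred_eq] at ha ⊢
        have e1 : t • a * c = t • (a * c) := Algebra.smul_mul_assoc t a c
        rw [e1, map_smul, map_smul, smul_mul_assoc, ha] }
  have h1 : r ∈ K := by
    refine GRoby.TS_le d (MvPolynomial.basisMonomials κ A) _ ?_ r hr
    intro S₁ _ _ lam₁ z₁
    exact ff_mul_coeff γ π S₁ lam₁ z₁ S₂ lam₂ z₂
  exact h1

theorem ff_mul (r r' : ⨂[A] _ : Fin d, MvPolynomial κ A)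
    (hr : r ∈ SymTen.TS A (MvPolynomial κ A) d) (hr' : r' ∈ SymTen.TS A (MvPolynomial κ A) d) :
    ff γ π (r * r') = ff γ π r * ff γ π r' := by
  let K : Submodule A (⨂[A] _ : Fin d, MvPolynomial κ A) :=
    { carrier := {r' | ff γ π (r * r') = ff γ π r * ff γ π r'}
      add_mem' := by
        intro a b ha hb
        simp only [Set.mem_ofPred_eq] at ha hb ⊢
        rw [mul_add, map_add, map_add, mul_add, ha, hb]
      zero_mem' := by simp
      smul_mem' := by
        intro t a ha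
        simp only [Set.mem_ofPred_eq] at ha ⊢
        have e1 : r * t • a = t • (r * a) := Algebra.mul_smul_comm t r a
        rw [e1, map_smul, map_smul, mul_smul_comm, ha] }
  have h1 : r' ∈ K := by
    refine GRoby.TS_le d (MvPolynomial.basisMonomials κ A) _ ?_ r' hr'
    intro S₂ _ _ lam₂ z₂
    exact ff_mul_coeff_right γ π S₂ lam₂ z₂ r hr
  exact h1

theorem ff_pow (r : ⨂[A] _ : Fin d, MvPolynomial κ A)
    (hr : r ∈ SymTen.TS A (MvPolynomial κ A) d) (n : ℕ) :
    ff γ π (r ^ (n + 1)) = ff γ π r ^ (n + 1) := by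
  induction n with
  | zero => rw [zero_add, pow_one, pow_one]
  | succ n ih =>
      rw [pow_succ, ff_mul γ π _ _ (Subalgebra.pow_mem _ hr _) hr, ih, ← pow_succ]

/-- compatibility of `ff` with a linear map `Φ : C → T^d(B)` inducing the tensor power law -/
theorem Phi_ff (Φ : C →ₗ[A] (⨂[A] _ : Fin d, B))
    (hΦ : ∀ (S : Type u) [CommRing S] [Algebra A S] (z : S ⊗[A] B),
      Φ.lTensor S (γ.law.toFun' S z) = (SymTen.tpowLaw A B d).law.toFun' S z)
    (r : ⨂[A] _ : Fin d, MvPolynomial κ A) (hr : r ∈ SymTen.TS A (MvPolynomial κ A) d) :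
    Φ (ff γ π r) = SymTen.tmap A d π r := by
  let D : (⨂[A] _ : Fin d, MvPolynomial κ A) →ₗ[A] (⨂[A] _ : Fin d, B) :=
    Φ ∘ₗ ff γ π - (SymTen.tmap A d π).toLinearMap
  have hD : ∀ r, D r = Φ (ff γ π r) - SymTen.tmap A d π r := fun r => rfl
  have h1 : r ∈ LinearMap.ker D := by
    refine GRoby.TS_le d (MvPolynomial.basisMonomials κ A) _ ?_ r hr
    intro S _ _ lam z
    rw [LinearMap.mem_ker, hD, ff_coeff, ← lamT_lTensor, hΦ, ← AlgHom.toLinearMap_apply,
      ← lamT_lTensor, lTensor_eq_map (SymTen.tmap A d π), TPow.tpow_tmap, lTensor_eq_map π,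
      sub_self]
  rw [LinearMap.mem_ker, hD, sub_eq_zero] at h1
  exact h1

theorem ff_surj (hγ : IsGammaD γ) (hπ : Function.Surjective π) (x : C) :
    ∃ r ∈ SymTen.TS A (MvPolynomial κ A) d, ff γ π r = x := by
  have h : Submodule.map (ff γ π) (Subalgebra.toSubmodule (SymTen.TS A (MvPolynomial κ A) d)) = ⊤ := by
    refine span_coeff γ hγ _ ?_
    intro S _ _ lam z
    obtain ⟨z', rfl⟩ := LinearMap.lTensor_surjective S (g := π.toLinearMap) hπ z
    rw [← ff_coeff]
    exact Submodule.mem_map_of_mem (coeff_mem_TS d S lam z')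
  have hx : x ∈ Submodule.map (ff γ π)
      (Subalgebra.toSubmodule (SymTen.TS A (MvPolynomial κ A) d)) := by
    rw [h]
    exact Submodule.mem_top
  obtain ⟨r, hr, rfl⟩ := hx
  exact ⟨r, hr, rfl⟩

/-- `ff` only depends on the composite with `π` -/
theorem ff_tmap_eq {κ' : Type u} (ε₁ ε₂ : MvPolynomial κ' A →ₐ[A] MvPolynomial κ A)
    (h : π.comp ε₁ = π.comp ε₂) (r : ⨂[A] _ : Fin d, MvPolynomial κ' A)
    (hr : r ∈ SymTen.TS A (MvPolynomial κ' A) d) :
    ff γ π (SymTen.tmap A d ε₁ r) = ff γ π (SymTen.tmap A d ε₂ r) := by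
  let D : (⨂[A] _ : Fin d, MvPolynomial κ' A) →ₗ[A] C :=
    ff γ π ∘ₗ (SymTen.tmap A d ε₁).toLinearMap - ff γ π ∘ₗ (SymTen.tmap A d ε₂).toLinearMap
  have hD : ∀ r, D r = ff γ π (SymTen.tmap A d ε₁ r) - ff γ π (SymTen.tmap A d ε₂ r) := fun r => rfl
  have key : ∀ (ε : MvPolynomial κ' A →ₐ[A] MvPolynomial κ A) (S : Type u) [CommRing S]
      [Algebra A S] (lam : S →ₗ[A] A) (z : S ⊗[A] MvPolynomial κ' A),
      ff γ π (SymTen.tmap A d ε (lamT lam ((SymTen.tpowLaw A (MvPolynomial κ' A) d).law.toFun' S z))) =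
        lamT lam (γ.law.toFun' S ((π.comp ε).toLinearMap.lTensor S z)) := by
    intro ε S _ _ lam z
    rw [← AlgHom.toLinearMap_apply, ← lamT_lTensor, lTensor_eq_map (SymTen.tmap A d ε),
      TPow.tpow_tmap, ff_coeff, AlgHom.comp_toLinearMap, LinearMap.lTensor_comp,
      LinearMap.comp_apply, lTensor_eq_map ε]
  have h1 : r ∈ LinearMap.ker D := by
    refine GRoby.TS_le d (MvPolynomial.basisMonomials κ' A) _ ?_ r hr
    intro S _ _ lam z
    rw [LinearMap.mem_ker, hD, key, key, h, sub_self]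
  rw [LinearMap.mem_ker, hD, sub_eq_zero] at h1
  exact h1

end Main

section Extra

variable {A : Type u} [CommRing A] (κ : Type u)

/-- the inclusion `A[X_k] → A[X_k, Y]` -/
noncomputable def incl : MvPolynomial κ A →ₐ[A] MvPolynomial (Option κ) A :=
  MvPolynomial.rename some

/-- the evaluation `Y ↦ a` -/
noncomputable def ev (a : MvPolynomial κ A) : MvPolynomial (Option κ) A →ₐ[A] MvPolynomial κ A :=
  MvPolynomial.aeval (fun o => o.elim a MvPolynomial.X)

theorem ev_comp_incl (a : MvPolynomial κ A) : (ev κ a).comp (incl κ) = AlgHom.id A _ := by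
  apply MvPolynomial.algHom_ext
  intro k
  simp [ev, incl]

theorem ev_none (a : MvPolynomial κ A) : ev κ a (MvPolynomial.X none) = a := by
  simp [ev]

end Extra

section Main2

variable {A B C : Type u} [CommRing A] [CommRing B] [Algebra A B] [CommRing C] [Algebra A C]
  {d : ℕ} (γ : MulLaw A B C d) {κ : Type u} (π : MvPolynomial κ A →ₐ[A] B)

theorem ff_N_add (a : MvPolynomial κ A) (ha : π a = 0) (j : Fin d)
    (u w : ⨂[A] _ : Fin d, MvPolynomial κ A) :
    ff γ π (N d (u + w *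
        PiTensorProduct.singleAlgHom (R := A) (A := fun _ : Fin d => MvPolynomial κ A) j a)) =
      ff γ π (N d u) := by
  set U : ⨂[A] _ : Fin d, MvPolynomial (Option κ) A :=
    SymTen.tmap A d (incl κ) u + SymTen.tmap A d (incl κ) w *
      PiTensorProduct.singleAlgHom (R := A) (A := fun _ : Fin d => MvPolynomial (Option κ) A) j
        (MvPolynomial.X none) with hU
  have h1 : ∀ a' : MvPolynomial κ A, SymTen.tmap A d (ev κ a') U = u + w *
      PiTensorProduct.singleAlgHom (R := A) (A := fun _ : Fin d => MvPolynomial κ A) j a' := by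
    intro a'
    rw [hU, map_add, map_mul, tmap_comp, tmap_comp, ev_comp_incl, tmap_id, tmap_id, tmap_single,
      ev_none]
  have h2 : π.comp (ev κ a) = π.comp (ev κ 0) := by
    apply MvPolynomial.algHom_ext
    intro o
    cases o with
    | none => simp [ev, ha]
    | some k => simp [ev]
  have h3 := ff_tmap_eq γ π (ev κ a) (ev κ 0) h2 (N d U) (N_mem_TS d U)
  rw [tmap_N, tmap_N, h1, h1, map_zero, mul_zero, add_zero] at h3
  exact h3

theorem ff_N_of_mem_Jd (r : ⨂[A] _ : Fin d, MvPolynomial κ A) (hr : r ∈ Jd d π) :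
    ff γ π (N d r) = 0 := by
  have key : ∀ r ∈ Jd d π, ∀ w u : ⨂[A] _ : Fin d, MvPolynomial κ A,
      ff γ π (N d (u + w * r)) = ff γ π (N d u) := by
    intro r hr
    refine Submodule.span_induction ?_ ?_ ?_ ?_ hr
    · rintro _ ⟨j, a, ha, rfl⟩ w u
      exact ff_N_add γ π a ha j u w
    · intro w u
      rw [mul_zero, add_zero]
    · intro x y _ _ hx hy w u
      rw [mul_add, ← add_assoc, hy, hx]
    · intro t x _ hx w u
      rw [smul_eq_mul, ← mul_assoc, hx]
  have := key r hr 1 0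
  rw [zero_add, one_mul, N_zero, map_zero] at this
  exact this

/-- **kernel and cokernel of `Γ^d(B) → TS^d(B)`** -/
theorem main (hγ : IsGammaD γ) (hπ : Function.Surjective π) (φ : C →ₐ[A] SymTen.TS A B d)
    (hΦ : ∀ (S : Type u) [CommRing S] [Algebra A S] (z : S ⊗[A] B),
      ((SymTen.TS A B d).val.comp φ).toLinearMap.lTensor S (γ.law.toFun' S z) =
        (SymTen.tpowLaw A B d).law.toFun' S z) :
    (∀ x : C, φ x = 0 → x ^ d.factorial = 0) ∧
      (∀ y : SymTen.TS A B d, y ^ d.factorial ∈ φ.range) := by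
  obtain ⟨n, hn⟩ := Nat.exists_eq_succ_of_ne_zero (Nat.factorial_ne_zero d)
  refine ⟨fun x hx => ?_, fun y => ?_⟩
  · obtain ⟨r, hr, rfl⟩ := ff_surj γ π hγ hπ x
    have h1 := Phi_ff γ π _ hΦ r hr
    rw [AlgHom.toLinearMap_apply, AlgHom.comp_apply, hx] at h1
    have h2 : r ∈ Jd d π := mem_Jd_of_tmap_eq_zero d π hπ r (by rw [← h1]; rfl)
    have h3 := ff_N_of_mem_Jd γ π r h2
    rw [N_of_mem_TS d r hr, hn, ff_pow γ π r hr n] at h3
    rw [hn]
    exact h3
  · obtain ⟨y', hy'⟩ := tmap_surjective d π hπ y.1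
    refine ⟨ff γ π (N d y'), Subtype.ext ?_⟩
    have h1 := Phi_ff γ π _ hΦ (N d y') (N_mem_TS d y')
    rw [AlgHom.toLinearMap_apply, AlgHom.comp_apply] at h1
    show ((SymTen.TS A B d).val (φ (ff γ π (N d y')))) = _
    rw [h1, tmap_N, hy', N_of_mem_TS d y.1 y.2]
    rfl

end Main2

end Groth.Agent.Lib.Helper59.GammaTS
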