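import Groth.Agent.Lib.Helper59.SymLaw

/-!
# The law `TS^d(B) → Γ^d(B)` of degree `d!` inverse to `Γ^d(B) → TS^d(B)` up to `d!`-th powers
-/

set_option autoImplicit false

namespace Groth.Agent.Lib.Helper59.GammaTSLaw

open scoped TensorProduct
open PolLaw Groth.Agent.Lib.Helper59.KerPoly Groth.Agent.Lib.Helper59.LawReduced
  Groth.Agent.Lib.Helper59.CHCore Groth.Agent.Lib.Helper59.GammaGen
  Groth.Agent.Lib.Helper59.PolarGamma Groth.Agent.Lib.Helper59.SymN
  Groth.Agent.Lib.Helper59.GammaTS Groth.Agent.Lib.Helper59.SymLaw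
  Groth.Agent.Lib.Helper98.PolyLawRestrict

universe u

variable {A B C : Type u} [CommRing A] [CommRing B] [Algebra A B] [CommRing C] [Algebra A C]
  {d : ℕ} (γ : MulLaw A B C d) {κ : Type u} (π : MvPolynomial κ A →ₐ[A] B)

theorem precomp_toFun' {M N Q : Type u} [AddCommGroup M] [Module A M] [AddCommGroup N]
    [Module A N] [AddCommGroup Q] [Module A Q] (F : N →ₚₗ[A] Q) (g : M →ₗ[A] N) (S : Type u)
    [CommSemiring S] [Algebra A S] (x : S ⊗[A] M) :
    (PolLaw.precomp F g).toFun' S x = F.toFun' S (g.lTensor S x) := rfl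

/-- the values of the inclusion `TS ⊆ T^d` are invariant -/
theorem perm_valS (σ : Equiv.Perm (Fin d)) (S : Type u) [CommSemiring S] [Algebra A S]
    (y : S ⊗[A] SymTen.TS A B d) :
    Algebra.TensorProduct.map (AlgHom.id A S) (SymTen.perm A B d σ)
        (Algebra.TensorProduct.map (AlgHom.id A S) (SymTen.TS A B d).val y) =
      Algebra.TensorProduct.map (AlgHom.id A S) (SymTen.TS A B d).val y := by
  induction y using TensorProduct.induction_on with
  | zero => simp only [map_zero]
  | tmul s t =>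
      simp only [Algebra.TensorProduct.map_tmul, AlgHom.id_apply]
      congr 1
      rw [SymTen.perm_apply]
      exact t.2 σ
  | add a b ha hb => simp only [map_add, ha, hb]

/-- `ff` is multiplicative on powers of invariant tensors over a free test ring -/
theorem ffS_pow {S : Type u} [CommRing S] [Algebra A S] {J : Type*} (bS : Module.Basis J A S)
    (r : S ⊗[A] (⨂[A] _ : Fin d, MvPolynomial κ A))
    (h : ∀ σ, Algebra.TensorProduct.map (AlgHom.id A S)
      (SymTen.perm A (MvPolynomial κ A) d σ) r = r) (k : ℕ) :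
    (ff γ π).lTensor S (r ^ (k + 1)) = ((ff γ π).lTensor S r) ^ (k + 1) := by
  induction k with
  | zero => rw [zero_add, pow_one, pow_one]
  | succ k ih =>
      have h1 : (PhiP κ A d).lTensor S (r ^ (k + 1)) = r ^ (k + 1) :=
        PhiS_of_inv_free _ d bS _ (fun σ => by rw [map_pow, h σ])
      have h2 : (PhiP κ A d).lTensor S r = r := PhiS_of_inv_free _ d bS _ h
      have e := ffS_mul_Phi γ π S (r ^ (k + 1)) r
      rw [h1, h2] at e
      rw [pow_succ, e, ih, ← pow_succ]

theorem ff_Phi_surjective (hγ : IsGammaD γ) (hπ : Function.Surjective π) :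
    Function.Surjective ((ff γ π) ∘ₗ (PhiP κ A d)) := by
  intro x
  obtain ⟨r, hr, rfl⟩ := ff_surj γ π hγ hπ x
  exact ⟨r, by rw [LinearMap.comp_apply, GRoby.Phi_of_mem_TS _ d r hr]⟩

/-- **the law `TS^d(B) → Γ^d(B)` of degree `d!`** -/
theorem main (hγ : IsGammaD γ) (hπ : Function.Surjective π) (φ : C →ₐ[A] SymTen.TS A B d)
    (hΦ : ∀ (S : Type u) [CommRing S] [Algebra A S] (z : S ⊗[A] B),
      ((SymTen.TS A B d).val.comp φ).toLinearMap.lTensor S (γ.law.toFun' S z) =
        (SymTen.tpowLaw A B d).law.toFun' S z) :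
    ∃ F : MulLaw A (SymTen.TS A B d) C d.factorial,
      MulLaw.postcomp φ F = MulLaw.pow A (SymTen.TS A B d) d.factorial ∧
      MulLaw.precomp F φ = MulLaw.pow A C d.factorial := by
  obtain ⟨F, hF⟩ := exists_F γ π hπ
  have hPF := Phi_F γ π _ hΦ hπ F hF
  refine ⟨F.precomp (SymTen.TS A B d).val, ?_, ?_⟩
  · apply MulLaw.ext
    apply law_ext
    intro n
    funext y
    show φ.toLinearMap.lTensor _ (F.law.toFun' _
      ((SymTen.TS A B d).val.toLinearMap.lTensor _ y)) = y ^ d.factorial
    have hinj : Function.Injective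
        ((SymTen.TS A B d).val.toLinearMap.lTensor (MvPolynomial (Fin n) A)) :=
      Module.Flat.lTensor_preserves_injective_linearMap _ Subtype.val_injective
    apply hinj
    rw [← LinearMap.comp_apply, ← LinearMap.lTensor_comp, ← AlgHom.comp_toLinearMap, hPF,
      lTensor_eq_map, symm_of_inv d _ _ (fun σ => perm_valS σ _ y), lTensor_eq_map, map_pow]
  · apply MulLaw.ext
    apply law_ext
    intro n
    funext x
    show F.law.toFun' _ ((SymTen.TS A B d).val.toLinearMap.lTensor _
      (φ.toLinearMap.lTensor _ x)) = x ^ d.factorial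
    obtain ⟨t, rfl⟩ := LinearMap.lTensor_surjective (MvPolynomial (Fin n) A)
      (ff_Phi_surjective γ π hγ hπ) x
    rw [LinearMap.lTensor_comp, LinearMap.comp_apply]
    have e1 : (SymTen.TS A B d).val.toLinearMap.lTensor (MvPolynomial (Fin n) A)
        (φ.toLinearMap.lTensor _ ((ff γ π).lTensor _ ((PhiP κ A d).lTensor _ t))) =
        Algebra.TensorProduct.map (AlgHom.id A _) (SymTen.tmap A d π)
          ((PhiP κ A d).lTensor _ t) := by
      rw [← LinearMap.comp_apply, ← LinearMap.lTensor_comp, ← AlgHom.comp_toLinearMap,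
        Phi_ffS γ π _ hΦ]
    obtain ⟨k, hk⟩ := Nat.exists_eq_succ_of_ne_zero (Nat.factorial_ne_zero d)
    rw [e1, hF, symm_of_inv d _ _ (fun σ => perm_PhiS _ d σ _ t), hk,
      ffS_pow γ π (MvPolynomial.basisMonomials (Fin n) A) _ (fun σ => perm_PhiS _ d σ _ t)]

end Groth.Agent.Lib.Helper59.GammaTSLaw
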