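import Mathlib

/-!
# A splitting algebra of a monic separable polynomial

`exists_splitting` : for `g` monic separable of degree `n` over `A` there is an `A`-algebra `S`
with an `A`-linear retraction `S → A`, in which `g` splits with roots whose pairwise differences
are units.
-/

set_option autoImplicit false

namespace Groth.Agent.Lib.Helper59.SplitAlg

open Polynomial

universe u

theorem isUnit_eval_derivative_of_separable {R : Type u} [CommRing R] {G : R[X]}
    (hs : G.Separable) {t : R} (ht : G.IsRoot t) : IsUnit (eval t (derivative G)) := by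
  obtain ⟨a, b, hab⟩ := hs
  have h := congrArg (eval t) hab
  rw [eval_add, eval_mul, eval_mul, ht.eq_zero, mul_zero, zero_add, eval_one] at h
  exact IsUnit.of_mul_eq_one _ (by rw [mul_comm]; exact h)

theorem exists_splitting : ∀ (n : ℕ) (A : Type u) [CommRing A] (g : A[X]), g.Monic → g.Separable →
    g.natDegree = n →
    ∃ (S : Type u) (_ : CommRing S) (_ : Algebra A S) (r : S →ₗ[A] A) (ρ : Fin n → S),
      r 1 = 1 ∧ g.map (algebraMap A S) = ∏ j, (X - C (ρ j)) ∧
        ∀ j k, j ≠ k → IsUnit (ρ j - ρ k)
  | 0, A, _, g, hg, _, hn => by
    refine ⟨A, inferInstance, inferInstance, LinearMap.id, Fin.elim0, rfl, ?_, fun j => j.elim0⟩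
    have h1 : g = 1 := hg.natDegree_eq_zero.mp hn
    rw [h1]
    simp
  | n + 1, A, _, g, hg, hsep, hn => by
    classical
    have hntA : Nontrivial A := by
      by_contra h
      rw [not_nontrivial_iff_subsingleton] at h
      have h0 : g.natDegree = 0 := by
        rw [Subsingleton.elim g 0]
        simp
      omega
    let A₁ := AdjoinRoot g
    let t : A₁ := AdjoinRoot.root g
    let G : A₁[X] := g.map (AdjoinRoot.of g)
    let g₁ : A₁[X] := G /ₘ (X - C t)
    have hroot : G.IsRoot t := AdjoinRoot.isRoot_root g
    have hG : (X - C t) * g₁ = G := mul_divByMonic_eq_iff_isRoot.mpr hroot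
    have hGm : G.Monic := hg.map _
    have hg₁m : g₁.Monic := by
      refine Monic.of_mul_monic_left (monic_X_sub_C t) ?_
      rw [hG]
      exact hGm
    have hGs : G.Separable := hsep.map
    have hg₁s : g₁.Separable := by
      have : ((X - C t) * g₁).Separable := by rw [hG]; exact hGs
      exact this.of_mul_right
    -- the retraction of `A → A₁`
    let pb := AdjoinRoot.powerBasis' hg
    have hdim : 0 < pb.dim := by
      rw [AdjoinRoot.powerBasis'_dim, hn]
      omega
    let rA : A₁ →ₗ[A] A := pb.basis.coord ⟨0, hdim⟩
    have hrA : rA 1 = 1 := by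
      have h1 : (1 : A₁) = pb.basis ⟨0, hdim⟩ := by
        rw [PowerBasis.coe_basis]
        simp
      rw [h1, Module.Basis.coord_apply, Module.Basis.repr_self, Finsupp.single_eq_same]
    have hntA₁ : Nontrivial A₁ := by
      refine ⟨⟨1, 0, fun h => ?_⟩⟩
      have h2 := congrArg rA h
      rw [hrA, map_zero] at h2
      exact one_ne_zero h2
    have hg₁d : g₁.natDegree = n := by
      have h1 : G.natDegree = n + 1 := by
        rw [← hn]
        exact hg.natDegree_map _
      rw [natDegree_divByMonic _ (monic_X_sub_C t), h1, natDegree_X_sub_C]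
      rfl
    obtain ⟨S, _, _, r₁, ρ', hr₁, hsplit, hunit⟩ := exists_splitting n A₁ g₁ hg₁m hg₁s hg₁d
    let instAS : Algebra A S := ((algebraMap A₁ S).comp (algebraMap A A₁)).toAlgebra
    have hst : IsScalarTower A A₁ S := IsScalarTower.of_algebraMap_eq (fun a => rfl)
    let r : S →ₗ[A] A := rA ∘ₗ (r₁.restrictScalars A)
    let u : S := algebraMap A₁ S t
    refine ⟨S, inferInstance, instAS, r, Fin.cons u ρ', ?_, ?_, ?_⟩
    · show rA (r₁ 1) = 1
      rw [hr₁, hrA]
    · have h1 : g.map (algebraMap A S) = (G.map (algebraMap A₁ S)) := by
        rw [Polynomial.map_map]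
        rfl
      rw [h1, ← hG, Polynomial.map_mul, Polynomial.map_sub, Polynomial.map_X, Polynomial.map_C,
        hsplit, Fin.prod_univ_succ]
      simp only [Fin.cons_zero, Fin.cons_succ]
      rfl
    · have hder : eval t g₁ = eval t (derivative G) := by
        rw [← hG, derivative_mul, derivative_sub, derivative_X, derivative_C, sub_zero, one_mul,
          eval_add, eval_mul, eval_sub, eval_X, eval_C, sub_self, zero_mul, add_zero]
      have hU : IsUnit (∏ k, (u - ρ' k)) := by
        have h2 : ∏ k, (u - ρ' k) = eval u (g₁.map (algebraMap A₁ S)) := by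
          rw [hsplit, eval_prod]
          simp
        rw [h2, eval_map_algebraMap, aeval_algebraMap_apply, coe_aeval_eq_eval, hder]
        exact (isUnit_eval_derivative_of_separable hGs hroot).map _
      have hk : ∀ k, IsUnit (u - ρ' k) := fun k =>
        isUnit_of_dvd_unit (Finset.dvd_prod_of_mem (fun k => u - ρ' k) (Finset.mem_univ k)) hU
      intro j k hjk
      induction j using Fin.cases with
      | zero =>
        induction k using Fin.cases with
        | zero => exact absurd rfl hjk
        | succ k' =>
          simp only [Fin.cons_zero, Fin.cons_succ]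
          exact hk k'
      | succ j' =>
        induction k using Fin.cases with
        | zero =>
          simp only [Fin.cons_zero, Fin.cons_succ]
          have h3 : ρ' j' - u = -(u - ρ' j') := by ring
          rw [h3]
          exact (hk j').neg
        | succ k' =>
          simp only [Fin.cons_succ]
          exact hunit j' k' (fun h => hjk (by rw [h]))

end Groth.Agent.Lib.Helper59.SplitAlg
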