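import Groth.Agent.Lib.Helper59.GenSplit
import Groth.Agent.Lib.Helper59.SplitAlg

/-!
# The generic splitting cover of a finite free algebra

`hgen b : MvPolynomial (Fin d) A` is such that over any `A`-algebra `R` with a point `t` at which
`hgen` is a unit, there is an injective `R → R'` over which `R' ⊗ B` splits completely
(`exists_cover`).
-/

set_option autoImplicit false

namespace Groth.Agent.Lib.Helper59.GenCover

open scoped TensorProduct
open Polynomial Matrix Groth.Agent.Lib.Helper59.GenSplit

universe u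

variable {A : Type u} [CommRing A] {B : Type u} [CommRing B] [Algebra A B] {d : ℕ}
  (b : Module.Basis (Fin d) A B)

/-- the generic polynomial whose non-vanishing makes the generic element a separable generator -/
noncomputable def hgen : MvPolynomial (Fin d) A :=
  h1 b (MvPolynomial (Fin d) A) MvPolynomial.X * h2 b (MvPolynomial (Fin d) A) MvPolynomial.X

variable (R : Type u) [CommRing R] [Algebra A R] (t : Fin d → R)

theorem aeval_hgen : MvPolynomial.aeval t (hgen b) = h1 b R t * h2 b R t := by
  unfold hgen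
  rw [map_mul, ← h1_nat b (MvPolynomial.aeval t) MvPolynomial.X,
    ← h2_nat b (MvPolynomial.aeval t) MvPolynomial.X]
  simp only [MvPolynomial.aeval_X]

theorem separable_of_isUnit_h2 (hu : IsUnit (h2 b R t)) : (Gt b R t).Separable := by
  rcases subsingleton_or_nontrivial R with hs | hn
  · exact ⟨0, 0, Subsingleton.elim _ _⟩
  rcases Nat.eq_zero_or_pos d with hd0 | hd
  · have h1 : (Gt b R t).natDegree = 0 := by rw [Gt_natDegree, hd0]
    rw [(Gt_monic b R t).natDegree_eq_zero.mp h1]
    exact separable_one
  obtain ⟨p, q, -, -, hpq⟩ := Polynomial.exists_mul_add_mul_eq_C_resultant (m := d) (n := d - 1)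
    (Gt b R t) (derivative (Gt b R t)) (by rw [Gt_natDegree]) (by
      refine (natDegree_derivative_le _).trans ?_
      rw [Gt_natDegree]) (Or.inl (by omega))
  obtain ⟨w, hw⟩ := hu.exists_left_inv
  refine ⟨C w * p, C w * q, ?_⟩
  have : C w * p * Gt b R t + C w * q * derivative (Gt b R t) =
      C w * (Gt b R t * p + derivative (Gt b R t) * q) := by ring
  rw [this, hpq, ← C_mul]
  unfold h2 at hw
  rw [hw, C_1]

/-- the splitting cover -/
theorem exists_cover (hu : IsUnit (MvPolynomial.aeval t (hgen b))) :
    ∃ (R' : Type u) (_ : CommRing R') (_ : Algebra A R') (φ : R →ₐ[A] R'),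
      Function.Injective φ ∧
      ∃ e : Fin d → R' ⊗[A] B, (∀ j, e j * e j = e j) ∧ (∀ j k, j ≠ k → e j * e k = 0) ∧
        ∑ j, e j = 1 ∧ (∀ j (r : R'), r • e j = 0 → r = 0) ∧
        ∀ y : R' ⊗[A] B, ∃ r : Fin d → R', y = ∑ j, r j • e j := by
  rw [aeval_hgen] at hu
  have hu1 : IsUnit (h1 b R t) := isUnit_of_mul_isUnit_left hu
  have hu2 : IsUnit (h2 b R t) := isUnit_of_mul_isUnit_right hu
  rcases subsingleton_or_nontrivial R with hs | hn
  · have hsub : Subsingleton (R ⊗[A] B) := by
      refine ⟨fun x y => ?_⟩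
      rw [← one_smul R x, ← one_smul R y, Subsingleton.elim (1 : R) 0, zero_smul, zero_smul]
    refine ⟨R, inferInstance, inferInstance, AlgHom.id A R, Function.injective_id, fun _ => 0,
      fun _ => Subsingleton.elim _ _, fun _ _ _ => Subsingleton.elim _ _, Subsingleton.elim _ _,
      fun _ _ _ => Subsingleton.elim _ _, fun y => ⟨fun _ => 0, Subsingleton.elim _ _⟩⟩
  obtain ⟨S, instS, instRS, r, ρ, hr1, hsplit, hunit⟩ :=
    Groth.Agent.Lib.Helper59.SplitAlg.exists_splitting d R (Gt b R t) (Gt_monic b R t)
      (separable_of_isUnit_h2 b R t hu2) (Gt_natDegree b R t)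
  let instAS : Algebra A S := ((algebraMap R S).comp (algebraMap A R)).toAlgebra
  let φ : R →ₐ[A] S := { (algebraMap R S) with commutes' := fun a => rfl }
  have hφ : Function.Injective φ := by
    intro x y hxy
    have h1 : ∀ z : R, r (φ z) = z := by
      intro z
      show r (algebraMap R S z) = z
      rw [Algebra.algebraMap_eq_smul_one, map_smul, hr1, smul_eq_mul, mul_one]
    rw [← h1 x, ← h1 y, hxy]
  refine ⟨S, instS, instAS, φ, hφ, ?_⟩
  have hu1' : IsUnit (h1 b S (fun i => φ (t i))) := by
    rw [h1_nat]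
    exact hu1.map φ
  have hG : Gt b S (fun i => φ (t i)) = ∏ j, (X - C (ρ j)) := by
    rw [Gt_nat, ← hsplit]
  exact exists_split b S (fun i => φ (t i)) hu1' ρ hG hunit

end Groth.Agent.Lib.Helper59.GenCover
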