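import Mathlib

/-!
# Generic element of a finite free algebra and splitting idempotents

For a finite free `A`-algebra `B` with basis `b`, an `A`-algebra `R` and a point `t : Fin d → R`,
`theta b R t = ∑ t i ⊗ b i` is the corresponding element of `R ⊗ B`; `Lt` is its multiplication
matrix, `Gt` its characteristic polynomial, `h1` the determinant of the coordinates of its powers,
`h2` the resultant of `Gt` and its derivative. All are natural in `(R, t)`.
If `h1` is a unit and `Gt` splits with roots whose differences are units, then `R ⊗ B` splits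
completely (`exists_split`).
-/

set_option autoImplicit false

namespace Groth.Agent.Lib.Helper59.GenSplit

open scoped TensorProduct
open Polynomial Matrix

universe u

variable {A : Type u} [CommRing A] {B : Type u} [CommRing B] [Algebra A B] {d : ℕ}
  (b : Module.Basis (Fin d) A B)

section Pt

variable (R : Type u) [CommRing R] [Algebra A R] (t : Fin d → R)

/-- the multiplication matrix of the element with coordinates `t` -/
noncomputable def Lt : Matrix (Fin d) (Fin d) R :=
  ∑ i, t i • (Algebra.leftMulMatrix b (b i)).map (algebraMap A R)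

/-- the element of `R ⊗ B` with coordinates `t` -/
noncomputable def theta : R ⊗[A] B := ∑ i, t i ⊗ₜ[A] b i

/-- coordinates of `1` -/
noncomputable def c0 : Fin d → R := fun i => algebraMap A R (b.repr 1 i)

/-- coordinates of the powers of `theta` -/
noncomputable def Mt : Matrix (Fin d) (Fin d) R :=
  Matrix.of fun i j => ((Lt b R t) ^ (j : ℕ) *ᵥ c0 b R) i

/-- the characteristic polynomial of `theta` -/
noncomputable def Gt : R[X] := (Lt b R t).charpoly

noncomputable def h1 : R := (Mt b R t).det

noncomputable def h2 : R := Polynomial.resultant (Gt b R t) (derivative (Gt b R t)) d (d - 1)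

theorem leftMulMatrix_tmul (r : R) (x : B) :
    Algebra.leftMulMatrix (Algebra.TensorProduct.basis R b) (r ⊗ₜ[A] x) =
      r • (Algebra.leftMulMatrix b x).map (algebraMap A R) := by
  ext i j
  rw [Algebra.leftMulMatrix_eq_repr_mul, Algebra.TensorProduct.basis_apply,
    Algebra.TensorProduct.tmul_mul_tmul, mul_one, Algebra.TensorProduct.basis_repr_tmul,
    Matrix.smul_apply, Matrix.map_apply, Algebra.leftMulMatrix_eq_repr_mul]
  simp

theorem leftMulMatrix_theta :
    Algebra.leftMulMatrix (Algebra.TensorProduct.basis R b) (theta b R t) = Lt b R t := by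
  unfold theta Lt
  rw [map_sum]
  exact Finset.sum_congr rfl fun i _ => leftMulMatrix_tmul b R (t i) (b i)

theorem repr_one (i : Fin d) :
    (Algebra.TensorProduct.basis R b).repr (1 : R ⊗[A] B) i = c0 b R i := by
  rw [Algebra.TensorProduct.one_def, Algebra.TensorProduct.basis_repr_tmul]
  simp [c0]

theorem repr_theta_pow (j : ℕ) (i : Fin d) :
    (Algebra.TensorProduct.basis R b).repr (theta b R t ^ j) i = ((Lt b R t) ^ j *ᵥ c0 b R) i := by
  have h := Algebra.leftMulMatrix_mulVec_repr (Algebra.TensorProduct.basis R b)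
    (theta b R t ^ j) 1
  rw [mul_one, map_pow, leftMulMatrix_theta] at h
  rw [← h]
  congr 1
  funext i
  exact repr_one b R i

theorem aeval_theta_Gt : aeval (theta b R t) (Gt b R t) = 0 := by
  apply Algebra.leftMulMatrix_injective (Algebra.TensorProduct.basis R b)
  rw [map_zero, ← Polynomial.aeval_algHom_apply, leftMulMatrix_theta]
  exact Matrix.aeval_self_charpoly (Lt b R t)

theorem Gt_monic : (Gt b R t).Monic := Matrix.charpoly_monic _

theorem Gt_natDegree [Nontrivial R] : (Gt b R t).natDegree = d := by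
  unfold Gt
  rw [Matrix.charpoly_natDegree_eq_dim, Fintype.card_fin]

/-- if `h1` is a unit, the powers of `theta` span -/
theorem exists_repr_pow (hu : IsUnit (h1 b R t)) (y : R ⊗[A] B) :
    ∃ a : Fin d → R, y = ∑ j : Fin d, a j • theta b R t ^ (j : ℕ) := by
  classical
  have hM : Mt b R t * (Mt b R t)⁻¹ = 1 := Matrix.mul_nonsing_inv _ hu
  refine ⟨(Mt b R t)⁻¹ *ᵥ (fun i => (Algebra.TensorProduct.basis R b).repr y i), ?_⟩
  apply (Algebra.TensorProduct.basis R b).repr.injective
  ext i
  rw [map_sum, Finsupp.finsetSum_apply]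
  have h1 : ∀ j : Fin d, ((Algebra.TensorProduct.basis R b).repr
      (((Mt b R t)⁻¹ *ᵥ fun i => (Algebra.TensorProduct.basis R b).repr y i) j •
        theta b R t ^ (j : ℕ))) i =
      Mt b R t i j * ((Mt b R t)⁻¹ *ᵥ fun i => (Algebra.TensorProduct.basis R b).repr y i) j := by
    intro j
    rw [map_smul, Finsupp.smul_apply, repr_theta_pow, smul_eq_mul, mul_comm]
    rfl
  rw [Finset.sum_congr rfl fun j _ => h1 j]
  have h2 : (∑ j, Mt b R t i j *
      ((Mt b R t)⁻¹ *ᵥ fun i => (Algebra.TensorProduct.basis R b).repr y i) j) =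
      (Mt b R t *ᵥ ((Mt b R t)⁻¹ *ᵥ fun i => (Algebra.TensorProduct.basis R b).repr y i)) i := rfl
  rw [h2, Matrix.mulVec_mulVec, hM, Matrix.one_mulVec]

end Pt

section Nat

variable {R R' : Type u} [CommRing R] [Algebra A R] [CommRing R'] [Algebra A R']
  (φ : R →ₐ[A] R') (t : Fin d → R)

theorem Lt_nat : Lt b R' (fun i => φ (t i)) = (Lt b R t).map φ := by
  unfold Lt
  ext i j
  simp only [Matrix.sum_apply, Matrix.smul_apply, Matrix.map_apply, smul_eq_mul, map_sum, map_mul,
    AlgHom.commutes]

theorem c0_nat (i : Fin d) : c0 b R' i = φ (c0 b R i) := by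
  unfold c0
  rw [AlgHom.commutes]

theorem Mt_nat : Mt b R' (fun i => φ (t i)) = (Mt b R t).map φ := by
  ext i j
  unfold Mt
  rw [Matrix.of_apply, Matrix.map_apply, Matrix.of_apply, Lt_nat]
  have h : (fun i => c0 b R' i) = (fun i => φ (c0 b R i)) := funext fun i => c0_nat b φ i
  have h2 := RingHom.map_mulVec φ.toRingHom ((Lt b R t) ^ (j : ℕ)) (c0 b R) i
  rw [show c0 b R' = fun i => φ (c0 b R i) from h]
  have h3 : ((Lt b R t).map φ) ^ (j : ℕ) = ((Lt b R t) ^ (j : ℕ)).map φ :=
    (map_pow (RingHom.mapMatrix φ.toRingHom) (Lt b R t) j).symm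
  rw [h3]
  exact h2.symm

theorem h1_nat : h1 b R' (fun i => φ (t i)) = φ (h1 b R t) := by
  unfold h1
  rw [Mt_nat]
  exact (RingHom.map_det φ.toRingHom (Mt b R t)).symm

theorem Gt_nat : Gt b R' (fun i => φ (t i)) = (Gt b R t).map φ.toRingHom := by
  unfold Gt
  rw [Lt_nat, ← Matrix.charpoly_map]
  rfl

theorem h2_nat : h2 b R' (fun i => φ (t i)) = φ (h2 b R t) := by
  unfold h2
  rw [Gt_nat, Polynomial.derivative_map, Polynomial.resultant_map_map]
  rfl

end Nat

section Lagrange

theorem lagrange_sum {R : Type*} [CommRing R] {d : ℕ} (hd : 0 < d) (ρ : Fin d → R) (v : Fin d → R)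
    (hv : ∀ j, v j * ∏ k ∈ Finset.univ.erase j, (ρ j - ρ k) = 1)
    (hunit : ∀ j k, j ≠ k → IsUnit (ρ j - ρ k)) :
    ∑ j, C (v j) * ∏ k ∈ Finset.univ.erase j, (X - C (ρ k)) = 1 := by
  classical
  nontriviality R
  rw [← sub_eq_zero]
  set Q : R[X] := ∑ j, C (v j) * ∏ k ∈ Finset.univ.erase j, (X - C (ρ k)) - 1 with hQ
  have hmon : (∏ i : Fin d, (X - C (ρ i))).Monic :=
    monic_prod_of_monic _ _ fun i _ => monic_X_sub_C (ρ i)
  have hdegG : (∏ i : Fin d, (X - C (ρ i))).natDegree = d := by
    rw [natDegree_prod_of_monic _ _ fun i _ => monic_X_sub_C (ρ i)]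
    simp
  have hdeg : Q.natDegree < d := by
    have h1 : (∑ j, C (v j) * ∏ k ∈ Finset.univ.erase j, (X - C (ρ k))).natDegree ≤ d - 1 := by
      refine natDegree_sum_le_of_forall_le _ _ fun j _ => ?_
      refine (natDegree_C_mul_le _ _).trans ?_
      rw [natDegree_prod_of_monic _ _ fun i _ => monic_X_sub_C (ρ i)]
      simp
    have h2 : Q.natDegree ≤ d - 1 := by
      rw [hQ]
      refine (natDegree_sub_le _ _).trans ?_
      rw [natDegree_one]
      exact max_le h1 (Nat.zero_le _)
    omega
  have hroot : ∀ i, (X - C (ρ i)) ∣ Q := by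
    intro i
    rw [dvd_iff_isRoot, IsRoot.def, hQ, eval_sub, eval_one, eval_finsetSum,
      Finset.sum_eq_single i]
    · rw [eval_mul, eval_C, eval_prod]
      simp only [eval_sub, eval_X, eval_C]
      rw [hv i, sub_self]
    · intro j _ hji
      rw [eval_mul, eval_prod, Finset.prod_eq_zero (Finset.mem_erase.mpr ⟨hji.symm, Finset.mem_univ i⟩),
        mul_zero]
      simp
    · intro h
      exact absurd (Finset.mem_univ i) h
  have hdvd : (∏ i : Fin d, (X - C (ρ i))) ∣ Q := by
    refine Finset.prod_dvd_of_coprime ?_ fun i _ => hroot i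
    intro i _ k _ hik
    exact isCoprime_X_sub_C_of_isUnit_sub (hunit i k hik)
  by_contra hne
  exact hmon.not_dvd_of_natDegree_lt hne (by rw [hdegG]; exact hdeg) hdvd

end Lagrange

section Split

variable (R : Type u) [CommRing R] [Algebra A R] (t : Fin d → R)

set_option maxHeartbeats 800000 in
/-- complete splitting of `R ⊗ B` when the powers of `theta` span and its characteristic
polynomial splits with roots whose differences are units -/
theorem exists_split (hu : IsUnit (h1 b R t)) (ρ : Fin d → R)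
    (hρ : Gt b R t = ∏ j, (X - C (ρ j))) (hunit : ∀ j k, j ≠ k → IsUnit (ρ j - ρ k)) :
    ∃ e : Fin d → R ⊗[A] B, (∀ j, e j * e j = e j) ∧ (∀ j k, j ≠ k → e j * e k = 0) ∧
      ∑ j, e j = 1 ∧ (∀ j (r : R), r • e j = 0 → r = 0) ∧
      ∀ y : R ⊗[A] B, ∃ r : Fin d → R, y = ∑ j, r j • e j := by
  classical
  rcases Nat.eq_zero_or_pos d with hd0 | hd
  · subst hd0
    have hsub : Subsingleton (R ⊗[A] B) := by
      refine ⟨fun x y => ?_⟩
      apply (Algebra.TensorProduct.basis R b).repr.injective
      ext i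
      exact i.elim0
    refine ⟨fun j => j.elim0, fun j => j.elim0, fun j => j.elim0, Subsingleton.elim _ _,
      fun j => j.elim0, fun y => ⟨fun j => j.elim0, Subsingleton.elim _ _⟩⟩
  set θ := theta b R t with hθ
  have hG : aeval θ (∏ j, (X - C (ρ j))) = 0 := by
    rw [← hρ]
    exact aeval_theta_Gt b R t
  have huu : ∀ j, IsUnit (∏ k ∈ Finset.univ.erase j, (ρ j - ρ k)) := by
    intro j
    refine Finset.prod_induction _ IsUnit (fun a b ha hb => ha.mul hb) isUnit_one ?_
    intro k hk
    exact hunit j k (Finset.ne_of_mem_erase hk).symm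
  let v : Fin d → R := fun j => ((huu j).unit⁻¹ : Rˣ)
  have hv : ∀ j, v j * ∏ k ∈ Finset.univ.erase j, (ρ j - ρ k) = 1 := fun j =>
    (huu j).val_inv_mul
  obtain ⟨ellp, hellp⟩ : ∃ ellp : Fin d → R[X],
      ∀ j, ellp j = C (v j) * ∏ k ∈ Finset.univ.erase j, (X - C (ρ k)) := ⟨fun j => _, fun j => rfl⟩
  have hell : ∑ j, ellp j = 1 := by
    rw [Finset.sum_congr rfl fun j _ => hellp j]
    exact lagrange_sum hd ρ v hv hunit
  have hmulG : ∀ j, (X - C (ρ j)) * ellp j = C (v j) * ∏ k, (X - C (ρ k)) := by
    intro j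
    rw [hellp j, ← Finset.mul_prod_erase Finset.univ (fun k => X - C (ρ k)) (Finset.mem_univ j)]
    ring
  obtain ⟨e, he⟩ : ∃ e : Fin d → R ⊗[A] B, ∀ j, e j = aeval θ (ellp j) := ⟨fun j => _, fun j => rfl⟩
  have hsum : ∑ j, e j = 1 := by
    rw [Finset.sum_congr rfl fun j _ => he j, ← map_sum, hell, map_one]
  have horth : ∀ j k, j ≠ k → e j * e k = 0 := by
    intro j k hjk
    rw [he j, he k, ← map_mul]
    have h1 : ellp j * ellp k = (∏ i, (X - C (ρ i))) *
        (C (v j) * C (v k) * ∏ i ∈ (Finset.univ.erase j).erase k, (X - C (ρ i))) := by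
      rw [hellp j, hellp k]
      rw [← Finset.mul_prod_erase (Finset.univ.erase j) (fun i => X - C (ρ i))
        (Finset.mem_erase.mpr ⟨hjk.symm, Finset.mem_univ k⟩),
        ← Finset.mul_prod_erase Finset.univ (fun i => X - C (ρ i)) (Finset.mem_univ k)]
      ring
    rw [h1, map_mul, hG, zero_mul]
  have hidem : ∀ j, e j * e j = e j := by
    intro j
    have h1 : e j = e j * ∑ k, e k := by rw [hsum, mul_one]
    rw [Finset.mul_sum, Finset.sum_eq_single j] at h1
    · exact h1.symm
    · intro k _ hkj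
      exact horth j k hkj.symm
    · intro h
      exact absurd (Finset.mem_univ j) h
  have heval : ∀ (q : R[X]) (j : Fin d), aeval θ q * e j = (q.eval (ρ j)) • e j := by
    intro q j
    obtain ⟨s, hs⟩ := X_sub_C_dvd_sub_C_eval (a := ρ j) (p := q)
    have h1 : (q - C (q.eval (ρ j))) * ellp j = s * (C (v j) * ∏ k, (X - C (ρ k))) := by
      rw [hs, ← hmulG j]
      ring
    have h2 : aeval θ ((q - C (q.eval (ρ j))) * ellp j) = 0 := by
      rw [h1, map_mul, map_mul, hG, mul_zero, mul_zero]
    rw [map_mul, map_sub, sub_mul, sub_eq_zero, aeval_C] at h2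
    rw [he j, h2, Algebra.smul_def]
  have hspan : ∀ y : R ⊗[A] B, ∃ r : Fin d → R, y = ∑ j, r j • e j := by
    intro y
    obtain ⟨a, ha⟩ := exists_repr_pow b R t hu y
    let q : R[X] := ∑ i : Fin d, C (a i) * X ^ (i : ℕ)
    have hq : aeval θ q = y := by
      rw [ha, map_sum]
      refine Finset.sum_congr rfl fun i _ => ?_
      rw [map_mul, aeval_C, map_pow, aeval_X, Algebra.smul_def]
    refine ⟨fun j => q.eval (ρ j), ?_⟩
    have h1 : y = y * ∑ j, e j := by rw [hsum, mul_one]
    rw [Finset.mul_sum] at h1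
    rw [h1]
    refine Finset.sum_congr rfl fun j _ => ?_
    rw [← hq, heval]
  have hfaith : ∀ j (r : R), r • e j = 0 → r = 0 := by
    let Φ : (Fin d → R) →ₗ[R] R ⊗[A] B :=
      { toFun := fun r => ∑ j, r j • e j
        map_add' := fun r r' => by
          simp only [Pi.add_apply, add_smul, Finset.sum_add_distrib]
        map_smul' := fun c r => by
          simp only [Pi.smul_apply, smul_eq_mul, RingHom.id_apply, Finset.smul_sum, mul_smul] }
    have hsurj : Function.Surjective Φ := by
      intro y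
      obtain ⟨r, hr⟩ := hspan y
      exact ⟨r, hr.symm⟩
    have hfin : Module.Finite R (R ⊗[A] B) :=
      Module.Finite.of_basis (Algebra.TensorProduct.basis R b)
    have hinj : Function.Injective Φ :=
      OrzechProperty.injective_of_surjective_of_injective
        ((Algebra.TensorProduct.basis R b).equivFun.symm.toLinearMap) Φ
        (Algebra.TensorProduct.basis R b).equivFun.symm.injective hsurj
    intro j r hr
    have h1 : Φ (Pi.single j r) = 0 := by
      show ∑ k, (Pi.single j r : Fin d → R) k • e k = 0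
      rw [Finset.sum_eq_single j]
      · rw [Pi.single_eq_same, hr]
      · intro k _ hkj
        rw [Pi.single_eq_of_ne hkj, zero_smul]
      · intro h
        exact absurd (Finset.mem_univ j) h
    have h2 := hinj (h1.trans (map_zero Φ).symm)
    have h3 := congrFun h2 j
    rw [Pi.single_eq_same] at h3
    exact h3
  exact ⟨e, hidem, horth, hsum, hfaith, hspan⟩

end Split

end Groth.Agent.Lib.Helper59.GenSplit
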