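import Mathlib

/-!
# Tensor product of a reduced algebra with a geometrically reduced algebra over a field
-/

set_option autoImplicit false

namespace Groth.Agent.Lib.Helper59.GeomRed

open scoped TensorProduct

universe u

/-- If `L ⊗[K] B'` is reduced for every field `L` over the field `K`, then `R ⊗[K] B'` is
reduced for every reduced `K`-algebra `R`. -/
theorem isReduced_tensor {K : Type u} [Field K] {R : Type u} [CommRing R] [Algebra K R]
    [IsReduced R] {B' : Type u} [CommRing B'] [Algebra K B']
    (h : ∀ (L : Type u) [Field L] [Algebra K L], IsReduced (L ⊗[K] B')) :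
    IsReduced (R ⊗[K] B') := by
  classical
  refine ⟨fun x hx => ?_⟩
  let b := Module.Free.chooseBasis K B'
  let 𝔟 := Algebra.TensorProduct.basis R b
  apply 𝔟.repr.injective
  rw [map_zero]
  ext j
  rw [Finsupp.zero_apply]
  -- the coordinate lies in every prime
  have hprime : ∀ 𝔭 : Ideal R, 𝔭.IsPrime → 𝔟.repr x j ∈ 𝔭 := by
    intro 𝔭 h𝔭
    have := h𝔭
    let f : R →ₐ[K] 𝔭.ResidueField := IsScalarTower.toAlgHom K R 𝔭.ResidueField
    let g : R ⊗[K] B' →ₐ[K] 𝔭.ResidueField ⊗[K] B' :=
      Algebra.TensorProduct.map f (AlgHom.id K B')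
    have hred : IsReduced (𝔭.ResidueField ⊗[K] B') := h 𝔭.ResidueField
    have hg0 : g x = 0 := by
      apply IsReduced.eq_zero
      exact hx.map g
    have hcoord : ∀ y : R ⊗[K] B',
        (Algebra.TensorProduct.basis 𝔭.ResidueField b).repr (g y) j = f (𝔟.repr y j) := by
      intro y
      induction y using TensorProduct.induction_on with
      | zero => simp
      | tmul r b' =>
        simp only [g, 𝔟, Algebra.TensorProduct.map_tmul, AlgHom.coe_id, id_eq,
          Algebra.TensorProduct.basis_repr_tmul, Finsupp.smul_apply, Finsupp.mapRange_apply,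
          smul_eq_mul, map_mul]
        rw [f.commutes]
      | add y z hy hz =>
        rw [map_add, map_add, Finsupp.add_apply, hy, hz, map_add, Finsupp.add_apply, map_add]
    have h1 := hcoord x
    rw [hg0, map_zero, Finsupp.zero_apply] at h1
    exact Ideal.algebraMap_residueField_eq_zero.1 h1.symm
  have hnil : IsNilpotent (𝔟.repr x j) := by
    rw [← mem_nilradical, nilradical_eq_sInf, Ideal.mem_sInf]
    intro 𝔭 h𝔭
    exact hprime 𝔭 h𝔭
  exact IsReduced.eq_zero _ hnil

end Groth.Agent.Lib.Helper59.GeomRed
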