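import Groth.Agent.Lib.Helper59.HDPoly

/-!
# Hasse–Davenport: the counting side

The "logarithmic derivative" identity for the sums `A m`, in a truncated finite form, and the
resulting closed formula for the power sums `cN`.
-/

set_option autoImplicit false
set_option linter.unusedVariables false
set_option linter.unusedSectionVars false

namespace Groth.Agent.Lib.Helper59.HD

open Polynomial Finset

variable {F : Type} [Field F] [Fintype F] {R : Type} [CommRing R] [IsDomain R]
  (χ : MulChar F R) (ψ : AddChar F R)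

open Classical in
/-- monic irreducible polynomials of degree at most `N` -/
noncomputable def IrrN (N : ℕ) : Finset F[X] :=
  ((Finset.Icc 1 N).biUnion (fun m => Mon (F := F) m)).filter Irreducible

theorem mem_IrrN {N : ℕ} {P : F[X]} :
    P ∈ IrrN (F := F) N ↔ P.Monic ∧ Irreducible P ∧ P.natDegree ≤ N := by
  classical
  rw [IrrN, Finset.mem_filter, Finset.mem_biUnion]
  constructor
  · rintro ⟨⟨m, hm, hP⟩, hirr⟩
    rw [mem_Mon] at hP
    rw [Finset.mem_Icc] at hm
    exact ⟨hP.1, hirr, by omega⟩
  · rintro ⟨hmon, hirr, hle⟩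
    refine ⟨⟨P.natDegree, ?_, mem_Mon.mpr ⟨hmon, rfl⟩⟩, hirr⟩
    rw [Finset.mem_Icc]
    exact ⟨hirr.natDegree_pos, hle⟩

/-- counting `j ∈ [1, N]` with `j ≤ c` -/
theorem sum_Icc_le {c N : ℕ} (hc : c ≤ N) :
    (∑ j ∈ Finset.Icc 1 N, if j ≤ c then 1 else 0) = c := by
  rw [Finset.sum_boole]
  have : (Finset.Icc 1 N).filter (fun j => j ≤ c) = Finset.Icc 1 c := by
    ext j
    simp only [Finset.mem_filter, Finset.mem_Icc]
    omega
  rw [this, Nat.card_Icc]
  simp

open Classical in
/-- the degree of a monic polynomial, via the prime powers dividing it -/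
theorem degree_formula {N : ℕ} {f : F[X]} (hf : f.Monic) (hN : f.natDegree ≤ N) :
    f.natDegree = ∑ P ∈ IrrN (F := F) N, ∑ j ∈ Finset.Icc 1 N,
      if P ^ j ∣ f then P.natDegree else 0 := by
  classical
  set s := UniqueFactorizationMonoid.normalizedFactors f with hs
  have hf0 : f ≠ 0 := hf.ne_zero
  have hsmon : ∀ P ∈ s, P.Monic := by
    intro P hP
    have h1 := UniqueFactorizationMonoid.normalize_normalized_factor P hP
    have h2 : P ≠ 0 := (UniqueFactorizationMonoid.irreducible_of_normalized_factor P hP).ne_zero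
    rw [← h1]
    exact monic_normalize h2
  have hsirr : ∀ P ∈ s, Irreducible P :=
    fun P hP => UniqueFactorizationMonoid.irreducible_of_normalized_factor P hP
  have hdeg : f.natDegree = (s.map natDegree).sum := by
    rw [← natDegree_multiset_prod_of_monic s hsmon]
    exact (natDegree_eq_of_degree_eq
      (degree_eq_degree_of_associated (UniqueFactorizationMonoid.prod_normalizedFactors hf0))).symm
  have hsdeg : ∀ P ∈ s, P.natDegree ≤ N := by
    intro P hP
    refine le_trans ?_ hN
    exact natDegree_le_of_dvd (UniqueFactorizationMonoid.dvd_of_mem_normalizedFactors hP) hf0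
  have hsub : s.toFinset ⊆ IrrN (F := F) N := by
    intro P hP
    rw [Multiset.mem_toFinset] at hP
    exact mem_IrrN.mpr ⟨hsmon P hP, hsirr P hP, hsdeg P hP⟩
  have hcount : ∀ P ∈ IrrN (F := F) N, ∀ j : ℕ, P ^ j ∣ f ↔ j ≤ s.count P := by
    intro P hP j
    rw [mem_IrrN] at hP
    rw [pow_dvd_iff_le_emultiplicity,
      UniqueFactorizationMonoid.emultiplicity_eq_count_normalizedFactors hP.2.1 hf0,
      hP.1.normalize_eq_self]
    exact Nat.cast_le
  have hcle : ∀ P ∈ IrrN (F := F) N, s.count P ≤ N := by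
    intro P hP
    have h1 : P ^ (s.count P) ∣ f := (hcount P hP _).mpr le_rfl
    have h2 := natDegree_le_of_dvd h1 hf0
    rw [mem_IrrN] at hP
    rw [natDegree_pow] at h2
    have h3 : 1 ≤ P.natDegree := hP.2.1.natDegree_pos
    calc s.count P = s.count P * 1 := (mul_one _).symm
      _ ≤ s.count P * P.natDegree := Nat.mul_le_mul_left _ h3
      _ ≤ f.natDegree := h2
      _ ≤ N := hN
  rw [hdeg, Finset.sum_multiset_map_count]
  rw [Finset.sum_subset hsub]
  · refine Finset.sum_congr rfl (fun P hP => ?_)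
    have : ∀ j ∈ Finset.Icc 1 N, (if P ^ j ∣ f then P.natDegree else 0) =
        (if j ≤ s.count P then 1 else 0) * P.natDegree := by
      intro j _
      by_cases h : j ≤ s.count P
      · rw [if_pos ((hcount P hP j).mpr h), if_pos h, one_mul]
      · rw [if_neg (fun h' => h ((hcount P hP j).mp h')), if_neg h, zero_mul]
    rw [Finset.sum_congr rfl this, ← Finset.sum_mul, sum_Icc_le (hcle P hP), smul_eq_mul]
  · intro P _ hPs
    rw [Multiset.mem_toFinset] at hPs
    rw [Multiset.count_eq_zero_of_notMem hPs, zero_smul]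

open Classical in
/-- the sum of `lam` over the multiples of a monic polynomial -/
theorem sum_dvd {u : F[X]} (hu : u.Monic) (n : ℕ) :
    (∑ f ∈ Mon (F := F) n, if u ∣ f then lam χ ψ f else 0) =
      if u.natDegree ≤ n then lam χ ψ u * A χ ψ (n - u.natDegree) else 0 := by
  classical
  by_cases hle : u.natDegree ≤ n
  · rw [if_pos hle, A, Finset.mul_sum, ← Finset.sum_filter]
    symm
    refine Finset.sum_bij (fun g _ => u * g) ?_ ?_ ?_ ?_
    · intro g hg
      rw [mem_Mon] at hg
      rw [Finset.mem_filter, mem_Mon]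
      refine ⟨⟨hu.mul hg.1, ?_⟩, dvd_mul_right u g⟩
      rw [hu.natDegree_mul hg.1, hg.2]
      omega
    · intro g _ g' _ h
      exact mul_left_cancel₀ hu.ne_zero h
    · intro f hf
      rw [Finset.mem_filter, mem_Mon] at hf
      obtain ⟨⟨hfm, hfn⟩, g, rfl⟩ := hf
      have hg : g.Monic := hu.of_mul_monic_left hfm
      refine ⟨g, ?_, rfl⟩
      rw [mem_Mon]
      refine ⟨hg, ?_⟩
      rw [hu.natDegree_mul hg] at hfn
      omega
    · intro g hg
      rw [mem_Mon] at hg
      exact (lam_mul χ ψ hu hg.1).symm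
  · rw [if_neg hle]
    refine Finset.sum_eq_zero (fun f hf => ?_)
    rw [mem_Mon] at hf
    rw [if_neg]
    intro hdvd
    apply hle
    rw [← hf.2]
    exact natDegree_le_of_dvd hdvd hf.1.ne_zero

/-- the truncated power sums -/
noncomputable def cN (N k : ℕ) : R :=
  ∑ P ∈ IrrN (F := F) N, ∑ j ∈ Finset.Icc 1 N,
    if j * P.natDegree = k then (P.natDegree : R) * lam χ ψ P ^ j else 0

/-- the truncated logarithmic-derivative identity -/
theorem key_identity {n N : ℕ} (hn : n ≤ N) :
    (n : R) * A χ ψ n = ∑ k ∈ Finset.Icc 1 n, cN χ ψ N k * A χ ψ (n - k) := by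
  classical
  have h1 : (n : R) * A χ ψ n = ∑ P ∈ IrrN (F := F) N, ∑ j ∈ Finset.Icc 1 N,
      (P.natDegree : R) * ∑ f ∈ Mon (F := F) n, (if P ^ j ∣ f then lam χ ψ f else 0) := by
    rw [A, Finset.mul_sum]
    have : ∀ f ∈ Mon (F := F) n, (n : R) * lam χ ψ f =
        ∑ P ∈ IrrN (F := F) N, ∑ j ∈ Finset.Icc 1 N,
          (P.natDegree : R) * (if P ^ j ∣ f then lam χ ψ f else 0) := by
      intro f hf
      rw [mem_Mon] at hf
      have hd := degree_formula (N := N) hf.1 (by rw [hf.2]; exact hn)
      rw [hf.2] at hd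
      have hd' : (n : R) = ∑ P ∈ IrrN (F := F) N, ∑ j ∈ Finset.Icc 1 N,
          if P ^ j ∣ f then (P.natDegree : R) else 0 := by
        conv_lhs => rw [hd]
        push_cast
        rfl
      rw [hd', Finset.sum_mul]
      refine Finset.sum_congr rfl (fun P _ => ?_)
      rw [Finset.sum_mul]
      refine Finset.sum_congr rfl (fun j _ => ?_)
      split_ifs <;> simp
    rw [Finset.sum_congr rfl this, Finset.sum_comm]
    refine Finset.sum_congr rfl (fun P _ => ?_)
    rw [Finset.sum_comm]
    refine Finset.sum_congr rfl (fun j _ => ?_)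
    rw [Finset.mul_sum]
  have h2 : (∑ k ∈ Finset.Icc 1 n, cN χ ψ N k * A χ ψ (n - k)) =
      ∑ P ∈ IrrN (F := F) N, ∑ j ∈ Finset.Icc 1 N,
        if j * P.natDegree ≤ n then (P.natDegree : R) * lam χ ψ P ^ j * A χ ψ (n - j * P.natDegree)
        else 0 := by
    have : ∀ k ∈ Finset.Icc 1 n, cN χ ψ N k * A χ ψ (n - k) =
        ∑ P ∈ IrrN (F := F) N, ∑ j ∈ Finset.Icc 1 N,
          if j * P.natDegree = k then (P.natDegree : R) * lam χ ψ P ^ j * A χ ψ (n - k) else 0 := by
      intro k _
      rw [cN, Finset.sum_mul]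
      refine Finset.sum_congr rfl (fun P _ => ?_)
      rw [Finset.sum_mul]
      refine Finset.sum_congr rfl (fun j _ => ?_)
      split_ifs <;> simp
    rw [Finset.sum_congr rfl this, Finset.sum_comm]
    refine Finset.sum_congr rfl (fun P hP => ?_)
    rw [Finset.sum_comm]
    refine Finset.sum_congr rfl (fun j hj => ?_)
    rw [mem_IrrN] at hP
    rw [Finset.mem_Icc] at hj
    have hpos : 1 ≤ j * P.natDegree := Nat.mul_pos (by omega) hP.2.1.natDegree_pos
    by_cases hle : j * P.natDegree ≤ n
    · rw [if_pos hle, Finset.sum_eq_single (j * P.natDegree)]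
      · rw [if_pos rfl]
      · intro k _ hk
        rw [if_neg (fun h => hk h.symm)]
      · intro hnot
        exfalso
        apply hnot
        rw [Finset.mem_Icc]
        exact ⟨hpos, hle⟩
    · rw [if_neg hle]
      refine Finset.sum_eq_zero (fun k hk => ?_)
      rw [Finset.mem_Icc] at hk
      rw [if_neg]
      omega
  rw [h1, h2]
  refine Finset.sum_congr rfl (fun P hP => ?_)
  refine Finset.sum_congr rfl (fun j hj => ?_)
  rw [mem_IrrN] at hP
  rw [sum_dvd χ ψ (hP.1.pow j), natDegree_pow, lam_pow χ ψ hP.1]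
  split_ifs
  · ring
  · simp

/-- the closed formula for the truncated power sums -/
theorem cN_eq (hψ : ψ ≠ 1) {N : ℕ} :
    ∀ n : ℕ, 1 ≤ n → n ≤ N → cN χ ψ N n = -(-(A χ ψ 1)) ^ n := by
  intro n
  induction n with
  | zero => intro h; omega
  | succ m ih =>
    intro _ hN
    rcases Nat.eq_zero_or_pos m with rfl | hm
    · have := key_identity χ ψ (n := 1) (N := N) hN
      rw [Finset.Icc_self, Finset.sum_singleton, Nat.sub_self, A_zero, mul_one, Nat.cast_one,
        one_mul] at this
      rw [zero_add, ← this]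
      ring
    · have hk := key_identity χ ψ (n := m + 1) (N := N) hN
      rw [A_eq_zero χ ψ hψ (by omega : 2 ≤ m + 1), mul_zero] at hk
      have hsplit : (∑ k ∈ Finset.Icc 1 (m + 1), cN χ ψ N k * A χ ψ (m + 1 - k)) =
          cN χ ψ N m * A χ ψ 1 + cN χ ψ N (m + 1) := by
        rw [← Finset.sum_subset (s₁ := {m, m + 1})]
        · rw [Finset.sum_pair (by omega)]
          rw [Nat.sub_self, A_zero, mul_one, Nat.add_sub_cancel_left]
        · intro k hk'
          rw [Finset.mem_insert, Finset.mem_singleton] at hk'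
          rw [Finset.mem_Icc]
          omega
        · intro k hk1 hk2
          rw [Finset.mem_insert, Finset.mem_singleton] at hk2
          rw [Finset.mem_Icc] at hk1
          rw [A_eq_zero χ ψ hψ (by omega : 2 ≤ m + 1 - k), mul_zero]
      rw [hsplit, ih hm (by omega)] at hk
      have : cN χ ψ N (m + 1) = -(-(-(A χ ψ 1)) ^ m * A χ ψ 1) := by
        rw [eq_neg_iff_add_eq_zero, add_comm]
        exact hk.symm
      rw [this, pow_succ]
      ring

end Groth.Agent.Lib.Helper59.HD
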