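import Groth.Agent.Lib.Helper59.HDCount

/-!
# Hasse–Davenport: the field side

The Gauss sum of the extension `F'/F` is a sum over the monic irreducible polynomials over `F` of
degree dividing `[F' : F]`; with the closed formula of `HDCount` this gives the Hasse–Davenport
lifting relation.
-/

set_option autoImplicit false
set_option linter.unusedVariables false
set_option linter.unusedSectionVars false

namespace Groth.Agent.Lib.Helper59.HD

open Polynomial Finset IntermediateField

variable {F F' : Type} [Field F] [Fintype F] [Field F'] [Fintype F'] [Algebra F F']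
  {R : Type} [CommRing R] [IsDomain R] (χ : MulChar F R) (ψ : AddChar F R)

theorem deg_mul (x : F') :
    (minpoly F x).natDegree * Module.finrank F⟮x⟯ F' = Module.finrank F F' := by
  have hx : IsIntegral F x := IsIntegral.of_finite F x
  rw [← adjoin.finrank hx]
  exact Module.finrank_mul_finrank F F⟮x⟯ F'

/-- norm and trace of an element in terms of its minimal polynomial -/
theorem norm_trace_eq (x : F') :
    χ (Algebra.norm F x) * ψ (Algebra.trace F F' x) =
      lam χ ψ (minpoly F x) ^ Module.finrank F⟮x⟯ F' := by
  have hx : IsIntegral F x := IsIntegral.of_finite F x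
  have hnorm : Algebra.norm F x =
      ((-1) ^ (minpoly F x).natDegree * (minpoly F x).coeff 0) ^ Module.finrank F⟮x⟯ F' := by
    rw [Algebra.norm_eq_norm_adjoin F x]
    congr 1
    have := Algebra.PowerBasis.norm_gen_eq_coeff_zero_minpoly (adjoin.powerBasis hx)
    rw [adjoin.powerBasis_gen, adjoin.powerBasis_dim, minpoly_gen] at this
    exact this
  have htr := trace_eq_finrank_mul_minpoly_nextCoeff F x
  rw [hnorm, htr, lam, map_pow, ← nsmul_eq_mul, AddChar.map_nsmul_eq_pow, mul_pow]

open Classical in
theorem card_minpoly_eq {P : F[X]} (hmon : P.Monic) (hirr : Irreducible P)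
    (hd : P.natDegree ∣ Module.finrank F F') :
    (Finset.univ.filter (fun x : F' => minpoly F x = P)).card = P.natDegree := by
  classical
  have hsep : P.Separable := PerfectField.separable_of_irreducible hirr
  have hsplit : Splits (P.map (algebraMap F F')) := by
    have h1 : P ∣ X ^ (Nat.card F) ^ (Module.finrank F F') - X :=
      hirr.natDegree_dvd_iff_dvd_X_pow_card_pow_sub_X.mp hd
    have h2 := Polynomial.map_dvd (algebraMap F F') h1
    rw [Polynomial.map_sub, Polynomial.map_pow, Polynomial.map_X] at h2
    have hcard : Nat.card F ^ Module.finrank F F' = Fintype.card F' := by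
      rw [Nat.card_eq_fintype_card, Module.card_eq_pow_finrank (K := F) (V := F')]
    rw [hcard] at h2
    have h3 : Splits (X ^ Fintype.card F' - X : F'[X]) := by
      rw [splits_iff_card_roots, FiniteField.roots_X_pow_card_sub_X,
        FiniteField.X_pow_card_sub_X_natDegree_eq _ Fintype.one_lt_card]
      simp
    exact h3.of_dvd (FiniteField.X_pow_card_sub_X_ne_zero _ Fintype.one_lt_card) h2
  have : (Finset.univ.filter (fun x : F' => minpoly F x = P)) = (P.aroots F').toFinset := by
    ext x
    rw [Finset.mem_filter, Multiset.mem_toFinset, mem_aroots]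
    constructor
    · rintro ⟨_, rfl⟩
      exact ⟨minpoly.ne_zero (IsIntegral.of_finite F x), minpoly.aeval F x⟩
    · rintro ⟨_, h⟩
      exact ⟨Finset.mem_univ _, (minpoly.eq_of_irreducible_of_monic hirr h hmon).symm⟩
  rw [this, Multiset.toFinset_card_of_nodup (nodup_roots hsep.map),
    ← hsplit.natDegree_eq_card_roots, natDegree_map]

/-- the Gauss sum of the extension as a power sum over irreducible polynomials -/
theorem gauss_sum_ext :
    (∑ x : F', χ (Algebra.norm F x) * ψ (Algebra.trace F F' x)) =
      cN χ ψ (Module.finrank F F') (Module.finrank F F') := by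
  classical
  have hnpos : 0 < Module.finrank F F' := Module.finrank_pos
  have hmaps : ∀ x ∈ (Finset.univ : Finset F'),
      minpoly F x ∈ IrrN (F := F) (Module.finrank F F') := by
    intro x _
    have hx : IsIntegral F x := IsIntegral.of_finite F x
    rw [mem_IrrN]
    refine ⟨minpoly.monic hx, minpoly.irreducible hx, ?_⟩
    exact Nat.le_of_dvd hnpos ⟨_, (deg_mul x).symm⟩
  rw [← Finset.sum_fiberwise_of_maps_to hmaps, cN]
  refine Finset.sum_congr rfl (fun P hP => ?_)
  rw [mem_IrrN] at hP
  obtain ⟨hmon, hirr, hle⟩ := hP
  have hinner : ∀ x ∈ Finset.univ.filter (fun x : F' => minpoly F x = P),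
      χ (Algebra.norm F x) * ψ (Algebra.trace F F' x) =
        lam χ ψ P ^ (Module.finrank F F' / P.natDegree) := by
    intro x hx
    rw [Finset.mem_filter] at hx
    rw [norm_trace_eq, hx.2]
    congr 1
    have := deg_mul (F := F) x
    rw [hx.2] at this
    rw [← this]
    exact (Nat.mul_div_cancel_left _ hirr.natDegree_pos).symm
  rw [Finset.sum_congr rfl hinner, Finset.sum_const, nsmul_eq_mul]
  by_cases hd : P.natDegree ∣ Module.finrank F F'
  · rw [card_minpoly_eq hmon hirr hd]
    rw [Finset.sum_eq_single (Module.finrank F F' / P.natDegree)]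
    · rw [if_pos (Nat.div_mul_cancel hd)]
    · intro j _ hj
      rw [if_neg]
      intro h
      apply hj
      rw [← h, Nat.mul_div_cancel _ hirr.natDegree_pos]
    · intro hnot
      exfalso
      apply hnot
      rw [Finset.mem_Icc]
      exact ⟨Nat.div_pos hle hirr.natDegree_pos, Nat.div_le_self _ _⟩
  · have : Finset.univ.filter (fun x : F' => minpoly F x = P) = ∅ := by
      rw [Finset.filter_eq_empty_iff]
      intro x _ hx
      apply hd
      have := deg_mul (F := F) x
      rw [hx] at this
      exact ⟨_, this.symm⟩
    rw [this, Finset.card_empty, Nat.cast_zero, zero_mul]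
    symm
    refine Finset.sum_eq_zero (fun j _ => ?_)
    rw [if_neg]
    intro h
    exact hd ⟨j, by rw [← h, mul_comm]⟩

/-- the Hasse–Davenport lifting relation -/
theorem main (hψ : ψ ≠ 1) :
    -(∑ x : F', χ (Algebra.norm F x) * ψ (Algebra.trace F F' x)) =
      (-(∑ x : F, χ x * ψ x)) ^ Module.finrank F F' := by
  rw [gauss_sum_ext, cN_eq χ ψ hψ _ Module.finrank_pos le_rfl, A_one, neg_neg]

end Groth.Agent.Lib.Helper59.HD
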