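import Mathlib

/-!
# Hasse–Davenport: the polynomial side

For a multiplicative character `χ` and an additive character `ψ` of a finite field `F`, the function
`lam f = χ((-1)^deg f · f(0)) ψ(-nextCoeff f)` is multiplicative on monic polynomials.  Its sums
`A m` over monic polynomials of degree `m` vanish for `m ≥ 2`.
-/

set_option autoImplicit false
set_option linter.unusedVariables false
set_option linter.unusedSectionVars false

namespace Groth.Agent.Lib.Helper59.HD

open Polynomial Finset

variable {F : Type} [Field F] [Fintype F] {R : Type} [CommRing R] [IsDomain R]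
  (χ : MulChar F R) (ψ : AddChar F R)

/-- the multiplicative function on monic polynomials -/
noncomputable def lam (f : F[X]) : R := χ ((-1) ^ f.natDegree * f.coeff 0) * ψ (-f.nextCoeff)

theorem lam_one : lam χ ψ (1 : F[X]) = 1 := by
  have h : nextCoeff (1 : F[X]) = 0 := by
    have := nextCoeff_C_eq_zero (1 : F)
    rwa [C_1] at this
  simp [lam, h]

theorem lam_mul {f g : F[X]} (hf : f.Monic) (hg : g.Monic) :
    lam χ ψ (f * g) = lam χ ψ f * lam χ ψ g := by
  unfold lam
  rw [hf.natDegree_mul hg, mul_coeff_zero, hf.nextCoeff_mul hg, neg_add, AddChar.map_add_eq_mul,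
    pow_add]
  have : (-1 : F) ^ f.natDegree * (-1) ^ g.natDegree * (f.coeff 0 * g.coeff 0) =
      ((-1) ^ f.natDegree * f.coeff 0) * ((-1) ^ g.natDegree * g.coeff 0) := by ring
  rw [this, map_mul]
  ring

theorem lam_pow {f : F[X]} (hf : f.Monic) (j : ℕ) : lam χ ψ (f ^ j) = lam χ ψ f ^ j := by
  induction j with
  | zero => simp [lam_one]
  | succ j ih => rw [pow_succ, lam_mul χ ψ (hf.pow j) hf, ih, pow_succ]

theorem lam_X_sub_C (a : F) : lam χ ψ (X - C a) = χ a * ψ a := by
  unfold lam
  rw [natDegree_X_sub_C, nextCoeff_X_sub_C]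
  simp

theorem finite_monic (m : ℕ) : {f : F[X] | f.Monic ∧ f.natDegree = m}.Finite := by
  have hfin : Finite (degreeLT F (m + 1)) := Finite.of_equiv _ (degreeLTEquiv F (m + 1)).symm.toEquiv
  have h2 : (degreeLT F (m + 1) : Set F[X]).Finite := Set.toFinite _
  refine h2.subset ?_
  rintro f ⟨hf, hm⟩
  rw [SetLike.mem_coe, mem_degreeLT]
  calc f.degree ≤ (f.natDegree : WithBot ℕ) := degree_le_natDegree
    _ = (m : WithBot ℕ) := by rw [hm]
    _ < ((m + 1 : ℕ) : WithBot ℕ) := by exact_mod_cast Nat.lt_succ_self m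

/-- monic polynomials of degree `m` -/
noncomputable def Mon (m : ℕ) : Finset F[X] := (finite_monic (F := F) m).toFinset

theorem mem_Mon {m : ℕ} {f : F[X]} : f ∈ Mon m ↔ f.Monic ∧ f.natDegree = m := by
  rw [Mon, Set.Finite.mem_toFinset]; rfl

/-- the sum of `lam` over the monic polynomials of degree `m` -/
noncomputable def A (m : ℕ) : R := ∑ f ∈ Mon (F := F) m, lam χ ψ f

theorem A_zero : A χ ψ 0 = 1 := by
  have : Mon (F := F) 0 = {1} := by
    ext f
    rw [mem_Mon, Finset.mem_singleton]
    constructor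
    · rintro ⟨hf, h0⟩
      exact eq_one_of_monic_natDegree_zero hf h0
    · rintro rfl
      exact ⟨monic_one, natDegree_one⟩
  rw [A, this, Finset.sum_singleton, lam_one]

theorem A_one : A χ ψ 1 = ∑ a : F, χ a * ψ a := by
  classical
  have : Mon (F := F) 1 = (Finset.univ : Finset F).image (fun a => X - C a) := by
    ext f
    rw [mem_Mon, Finset.mem_image]
    constructor
    · rintro ⟨hf, h1⟩
      refine ⟨-f.coeff 0, Finset.mem_univ _, ?_⟩
      have := hf.eq_X_add_C h1
      rw [map_neg, sub_neg_eq_add]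
      exact this.symm
    · rintro ⟨a, _, rfl⟩
      exact ⟨monic_X_sub_C a, natDegree_X_sub_C a⟩
  rw [A, this, Finset.sum_image]
  · exact Finset.sum_congr rfl (fun a _ => lam_X_sub_C χ ψ a)
  · intro a _ b _ hab
    have := sub_right_injective hab
    exact C_injective this

theorem A_eq_zero (hψ : ψ ≠ 1) {m : ℕ} (hm : 2 ≤ m) : A χ ψ m = 0 := by
  obtain ⟨t, ht⟩ : ∃ t : F, ψ (-t) ≠ 1 := by
    by_contra hcon
    rw [not_exists] at hcon
    apply hψ
    ext a
    have := hcon (-a)
    rw [neg_neg, not_not] at this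
    simpa using this
  have hdeg : ∀ f : F[X], f.Monic → f.natDegree = m → ∀ s : F,
      (C s * X ^ (m - 1)).degree < f.degree := by
    intro f hf hfm s
    calc (C s * X ^ (m - 1)).degree ≤ ((m - 1 : ℕ) : WithBot ℕ) := degree_C_mul_X_pow_le _ _
      _ < (m : WithBot ℕ) := by exact_mod_cast (by omega : m - 1 < m)
      _ = f.degree := by rw [degree_eq_natDegree hf.ne_zero, hfm]
  have hmem : ∀ (s : F) (f : F[X]), f ∈ Mon (F := F) m → f + C s * X ^ (m - 1) ∈ Mon (F := F) m := by
    intro s f hf
    rw [mem_Mon] at hf ⊢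
    refine ⟨hf.1.add_of_left (hdeg f hf.1 hf.2 s), ?_⟩
    rw [natDegree_add_eq_left_of_degree_lt (hdeg f hf.1 hf.2 s), hf.2]
  have hlam : ∀ f ∈ Mon (F := F) m, lam χ ψ (f + C t * X ^ (m - 1)) = lam χ ψ f * ψ (-t) := by
    intro f hf
    have hf' := mem_Mon.mp hf
    have hg' := mem_Mon.mp (hmem t f hf)
    unfold lam
    rw [hg'.2, hf'.2, coeff_add, coeff_C_mul_X_pow, if_neg (by omega), add_zero,
      nextCoeff_of_natDegree_pos (by rw [hg'.2]; omega),
      nextCoeff_of_natDegree_pos (by rw [hf'.2]; omega), hg'.2, hf'.2, coeff_add,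
      coeff_C_mul_X_pow, if_pos rfl, neg_add, AddChar.map_add_eq_mul]
    ring
  have hsum : A χ ψ m = A χ ψ m * ψ (-t) := by
    unfold A
    rw [Finset.sum_mul]
    rw [← Finset.sum_congr rfl hlam]
    symm
    refine Finset.sum_nbij' (fun f => f + C t * X ^ (m - 1)) (fun f => f + C (-t) * X ^ (m - 1))
      (fun f hf => hmem t f hf) (fun f hf => hmem (-t) f hf) ?_ ?_ ?_
    · intro f _
      simp
    · intro f _
      simp
    · intro f _
      rfl
  have h3 : A χ ψ m * (1 - ψ (-t)) = 0 := by
    rw [mul_sub, mul_one, ← hsum, sub_self]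
  rcases mul_eq_zero.mp h3 with h | h
  · exact h
  · exact absurd (sub_eq_zero.mp h).symm ht

end Groth.Agent.Lib.Helper59.HD
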