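import Mathlib
import Groth.Agent.Lib.Helper59.FibreCount

/-!
# Connected components of a prime spectrum and orthogonal idempotents

The connected component of a point of `Spec R` is cut out by the idempotents it contains; hence
a bound on the number of pairwise orthogonal nonzero idempotents bounds the number of connected
components.
-/

set_option autoImplicit false

namespace Groth.Agent.Lib.Helper59.SpecComp

open PrimeSpectrum

variable {R : Type*} [CommRing R]

/-- the ideal generated by the idempotents contained in the prime `x` -/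
def idemIdeal (x : PrimeSpectrum R) : Ideal R :=
  Ideal.span {e | IsIdempotentElem e ∧ e ∈ x.asIdeal}

theorem idemIdeal_le (x : PrimeSpectrum R) : idemIdeal x ≤ x.asIdeal :=
  Ideal.span_le.mpr fun _ he => he.2

theorem mem_idemIdeal (x : PrimeSpectrum R) {e : R} (he : IsIdempotentElem e)
    (hx : e ∈ x.asIdeal) : e ∈ idemIdeal x :=
  Ideal.subset_span ⟨he, hx⟩

theorem exists_idem_of_mem (x : PrimeSpectrum R) {y : R} (hy : y ∈ idemIdeal x) :
    ∃ e, IsIdempotentElem e ∧ e ∈ x.asIdeal ∧ y * e = y := by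
  unfold idemIdeal at hy
  induction hy using Submodule.span_induction with
  | mem y hy => exact ⟨y, hy.1, hy.2, hy.1⟩
  | zero => exact ⟨0, IsIdempotentElem.zero, x.asIdeal.zero_mem, by simp⟩
  | add y₁ y₂ _ _ h₁ h₂ =>
    obtain ⟨e₁, he₁, hx₁, hm₁⟩ := h₁
    obtain ⟨e₂, he₂, hx₂, hm₂⟩ := h₂
    refine ⟨e₁ + e₂ - e₁ * e₂, ?_, ?_, ?_⟩
    · have h1 : e₁ * e₁ = e₁ := he₁
      have h2 : e₂ * e₂ = e₂ := he₂
      show (e₁ + e₂ - e₁ * e₂) * (e₁ + e₂ - e₁ * e₂) = e₁ + e₂ - e₁ * e₂
      linear_combination (1 - 2 * e₂ + e₂ * e₂) * h1 + (1 - e₁) * h2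
    · exact x.asIdeal.sub_mem (x.asIdeal.add_mem hx₁ hx₂) (x.asIdeal.mul_mem_right _ hx₁)
    · have h1 : e₁ * e₁ = e₁ := he₁
      have h2 : e₂ * e₂ = e₂ := he₂
      linear_combination (1 - e₂) * hm₁ + (1 - e₁) * hm₂ 
  | smul r y _ h =>
    obtain ⟨e, he, hx, hm⟩ := h
    refine ⟨e, he, hx, ?_⟩
    rw [smul_eq_mul, mul_assoc, hm]

/-- the quotient by the idempotents of `x` has connected spectrum -/
theorem preconnected_quot (x : PrimeSpectrum R) :
    PreconnectedSpace (PrimeSpectrum (R ⧸ idemIdeal x)) := by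
  rw [preconnectedSpace_iff_clopen]
  intro s hs
  obtain ⟨eb, heb, rfl⟩ := PrimeSpectrum.isClopen_iff.mp hs
  obtain ⟨e, rfl⟩ := Ideal.Quotient.mk_surjective eb
  have hmem : e * e - e ∈ idemIdeal x := by
    rw [← Ideal.Quotient.eq, map_mul]
    exact heb
  obtain ⟨e', he', he'x, hmul⟩ := exists_idem_of_mem x hmem
  have h1 : e' * e' = e' := he'
  let f := e * (1 - e')
  have hf : IsIdempotentElem f := by
    show e * (1 - e') * (e * (1 - e')) = e * (1 - e')
    linear_combination (e * e) * h1 - hmul
  have hfe : Ideal.Quotient.mk (idemIdeal x) f = Ideal.Quotient.mk (idemIdeal x) e := by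
    rw [Ideal.Quotient.eq]
    have : f - e = -e * e' := by show e * (1 - e') - e = -e * e'; ring
    rw [this]
    exact Ideal.mul_mem_left _ _ (mem_idemIdeal x he' he'x)
  have hprod : f * (1 - f) ∈ x.asIdeal := by
    have : f * (1 - f) = 0 := by
      have h2 : f * f = f := hf
      linear_combination -h2
    rw [this]
    exact x.asIdeal.zero_mem
  rcases x.isPrime.mem_or_mem hprod with hfx | hfx
  · left
    have : Ideal.Quotient.mk (idemIdeal x) e = 0 := by
      rw [← hfe]
      exact Ideal.Quotient.eq_zero_iff_mem.mpr (mem_idemIdeal x hf hfx)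
    rw [this, PrimeSpectrum.basicOpen_zero]
    rfl
  · right
    have : Ideal.Quotient.mk (idemIdeal x) e = 1 := by
      rw [← hfe]
      have h3 : Ideal.Quotient.mk (idemIdeal x) (1 - f) = 0 :=
        Ideal.Quotient.eq_zero_iff_mem.mpr (mem_idemIdeal x hf.one_sub hfx)
      rw [map_sub, map_one, sub_eq_zero] at h3
      exact h3.symm
    rw [this, PrimeSpectrum.basicOpen_one]
    rfl

/-- points in different connected components are separated by an idempotent -/
theorem exists_idem_sep (x y : PrimeSpectrum R) (h : y ∉ connectedComponent x) :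
    ∃ e, IsIdempotentElem e ∧ e ∈ x.asIdeal ∧ e ∉ y.asIdeal := by
  by_contra hcon
  apply h
  have hle : idemIdeal x ≤ y.asIdeal := by
    refine Ideal.span_le.mpr fun e he => ?_
    by_contra hey
    exact hcon ⟨e, he.1, he.2, hey⟩
  have := preconnected_quot x
  have hpre : IsPreconnected (Set.range
      (PrimeSpectrum.comap (Ideal.Quotient.mk (idemIdeal x)))) :=
    isPreconnected_range (PrimeSpectrum.continuous_comap _)
  rw [range_comap_of_surjective _ _ Ideal.Quotient.mk_surjective,
    Ideal.mk_ker] at hpre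
  refine hpre.subset_connectedComponent ?_ ?_
  · rw [PrimeSpectrum.mem_zeroLocus]
    exact idemIdeal_le x
  · rw [PrimeSpectrum.mem_zeroLocus]
    exact hle

/-- a bound on the number of pairwise orthogonal nonzero idempotents bounds the number of
connected components of the spectrum -/
theorem card_components_le (d : ℕ)
    (h : ∀ eb : Fin (d + 1) → R, (∀ i, IsIdempotentElem (eb i)) →
      (∀ i j, i ≠ j → eb i * eb j = 0) → ∃ i, eb i = 0) :
    Finite (ConnectedComponents (PrimeSpectrum R)) ∧
      Nat.card (ConnectedComponents (PrimeSpectrum R)) ≤ d := by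
  classical
  apply Groth.Agent.Lib.Helper59.FibreCount.finite_card_le_of_no_inj
  intro c hc
  have hx : ∀ i, ∃ x : PrimeSpectrum R, (x : ConnectedComponents (PrimeSpectrum R)) = c i :=
    fun i => ConnectedComponents.surjective_coe (c i)
  choose x hx using hx
  have hsep : ∀ i j, i ≠ j →
      ∃ e, IsIdempotentElem e ∧ e ∈ (x i).asIdeal ∧ e ∉ (x j).asIdeal := by
    intro i j hij
    apply exists_idem_sep
    intro hmem
    have h1 := ConnectedComponents.coe_eq_coe'.mpr hmem
    rw [hx, hx] at h1
    exact hij (hc h1).symm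
  choose! ε hε using hsep
  let g : Fin (d + 1) → Fin (d + 1) → R := fun i j => ε j i * (1 - ε i j)
  let f : Fin (d + 1) → R := fun i => ∏ j ∈ Finset.univ.erase i, g i j
  have hg_idem : ∀ i j, i ≠ j → IsIdempotentElem (g i j) := fun i j hij =>
    (hε j i hij.symm).1.mul (hε i j hij).1.one_sub
  have hf_idem : ∀ i, IsIdempotentElem (f i) := by
    intro i
    refine Finset.prod_induction _ IsIdempotentElem (fun a b ha hb => ha.mul hb)
      IsIdempotentElem.one fun j hj => ?_
    exact hg_idem i j (Finset.ne_of_mem_erase hj).symm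
  have hf_not : ∀ i, f i ∉ (x i).asIdeal := by
    intro i hfi
    rw [Ideal.IsPrime.prod_mem_iff] at hfi
    obtain ⟨j, hj, hmem⟩ := hfi
    have hij : i ≠ j := (Finset.ne_of_mem_erase hj).symm
    rcases (x i).isPrime.mem_or_mem hmem with h1 | h1
    · exact (hε j i hij.symm).2.2 h1
    · apply (x i).isPrime.ne_top
      rw [Ideal.eq_top_iff_one]
      have := (x i).asIdeal.add_mem h1 (hε i j hij).2.1
      rwa [sub_add_cancel] at this
  have hf_orth : ∀ i j, i ≠ j → f i * f j = 0 := by
    intro i j hij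
    have h1 : g i j ∣ f i :=
      Finset.dvd_prod_of_mem _ (Finset.mem_erase.mpr ⟨hij.symm, Finset.mem_univ _⟩)
    have h2 : g j i ∣ f j :=
      Finset.dvd_prod_of_mem _ (Finset.mem_erase.mpr ⟨hij, Finset.mem_univ _⟩)
    have h3 : g i j * g j i = 0 := by
      have h4 : ε i j * ε i j = ε i j := (hε i j hij).1
      show ε j i * (1 - ε i j) * (ε i j * (1 - ε j i)) = 0
      linear_combination (-(ε j i) * (1 - ε j i)) * h4
    have h5 := mul_dvd_mul h1 h2
    rw [h3, zero_dvd_iff] at h5
    exact h5
  obtain ⟨i, hi⟩ := h f hf_idem hf_orth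
  apply hf_not i
  rw [hi]
  exact (x i).asIdeal.zero_mem

end Groth.Agent.Lib.Helper59.SpecComp
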