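import Groth.Agent.Lib.Helper59.CHCons
import Groth.Agent.Lib.Helper59.SpecComp

/-!
# Idempotents modulo the kernel of a multiplicative law over a connected base

For `e : B` idempotent modulo `ker F`, the polynomial `F (1 - e + X e)` is a power `X ^ m` when
`Spec A` is connected; `m` is additive on orthogonal idempotents, positive when `e ∉ ker F`, and
`m(1) = d`. Hence at most `d` pairwise orthogonal nonzero idempotents in `B / ker F`.
-/

set_option autoImplicit false

namespace Groth.Agent.Lib.Helper59.IdemCount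

open scoped TensorProduct
open PolLaw Polynomial Groth.Agent.Lib.Helper59.KerPoly Groth.Agent.Lib.Helper59.CHCore

universe u

section Law

variable {A : Type u} [CommRing A] {B C : Type u} [CommRing B] [Algebra A B] [CommRing C]
  [Algebra A C]

/-- the law is invariant under adding elements of the extended kernel -/
theorem toFun'_add_mul_of_mem (F : B →ₚₗ[A] C) {S : Type u} [CommSemiring S] [Algebra A S]
    {y : S ⊗[A] B}
    (hy : y ∈ (PolLaw.ker F).map (Algebra.TensorProduct.includeRight : B →ₐ[A] S ⊗[A] B)) :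
    ∀ x w : S ⊗[A] B, F.toFun' S (x + w * y) = F.toFun' S x := by
  unfold Ideal.map at hy
  induction hy using Submodule.span_induction with
  | mem y hy =>
    obtain ⟨b, hb, rfl⟩ := hy
    intro x w
    exact hb S x w
  | zero => intro x w; simp
  | add y₁ y₂ _ _ h₁ h₂ => intro x w; rw [mul_add, ← add_assoc, h₂, h₁]
  | smul r y _ h => intro x w; rw [smul_eq_mul, ← mul_assoc]; exact h x (w * r)

theorem tmul_mem {S : Type u} [CommRing S] [Algebra A S] (I : Ideal B) (s : S) {k : B}
    (hk : k ∈ I) :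
    s ⊗ₜ[A] k ∈ I.map (Algebra.TensorProduct.includeRight : B →ₐ[A] S ⊗[A] B) := by
  have : s ⊗ₜ[A] k = (s ⊗ₜ[A] (1 : B)) * ((1 : S) ⊗ₜ[A] k) := by
    rw [Algebra.TensorProduct.tmul_mul_tmul, mul_one, one_mul]
  rw [this]
  exact Ideal.mul_mem_left _ _ (Ideal.mem_map_of_mem _ hk)

theorem val_eq_of_sub_mem (F : B →ₚₗ[A] A) {S : Type u} [CommRing S] [Algebra A S]
    {x x' : S ⊗[A] B}
    (h : x' - x ∈ (PolLaw.ker F).map
      (Algebra.TensorProduct.includeRight : B →ₐ[A] S ⊗[A] B)) :
    val F S x' = val F S x := by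
  have h1 := toFun'_add_mul_of_mem F h x 1
  rw [one_mul, add_sub_cancel] at h1
  unfold val
  rw [h1]

end Law

section Idem

variable {A : Type u} [CommRing A] {B : Type u} [CommRing B] [Algebra A B] {d : ℕ}

/-- the element `1 ⊗ (1 - e) + t ⊗ e` -/
noncomputable def uu (S : Type u) [CommRing S] [Algebra A S] (t : S) (e : B) : S ⊗[A] B :=
  (1 : S) ⊗ₜ[A] (1 - e) + t ⊗ₜ[A] e

/-- the polynomial `F (1 - e + X e)` -/
noncomputable def PP (F : MulLaw A B A d) (e : B) : A[X] := val F.law A[X] (uu A[X] X e)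

theorem val_uu (F : MulLaw A B A d) (S : Type u) [CommRing S] [Algebra A S] (t : S) (e : B) :
    val F.law S (uu S t e) = aeval t (PP F e) := by
  unfold PP
  rw [← val_map F.law (aeval t : A[X] →ₐ[A] S)]
  congr 1
  unfold uu
  rw [map_add, Algebra.TensorProduct.map_tmul, Algebra.TensorProduct.map_tmul, map_one, aeval_X,
    AlgHom.coe_id, id_eq, id_eq]

theorem uu_mul_self (S : Type u) [CommRing S] [Algebra A S] (t s : S) (e : B) :
    uu (A := A) S t e * uu S s e = uu S (t * s) e +
      ((1 : S) ⊗ₜ[A] ((1 - e) * (1 - e) - (1 - e)) + s ⊗ₜ[A] ((1 - e) * e) +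
        t ⊗ₜ[A] (e * (1 - e)) + (t * s) ⊗ₜ[A] (e * e - e)) := by
  unfold uu
  generalize (1 - e) = c
  simp only [add_mul, mul_add, Algebra.TensorProduct.tmul_mul_tmul, one_mul, mul_one,
    TensorProduct.tmul_sub]
  abel

theorem aeval_mul (F : MulLaw A B A d) {e : B} (he : e * e - e ∈ PolLaw.ker F.law)
    (S : Type u) [CommRing S] [Algebra A S] (t s : S) :
    aeval t (PP F e) * aeval s (PP F e) = aeval (t * s) (PP F e) := by
  rw [← val_uu, ← val_uu, ← val_uu, ← val_mul F.law F.mult]
  apply val_eq_of_sub_mem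
  rw [uu_mul_self, add_sub_cancel_left]
  have h1 : (1 - e) * (1 - e) - (1 - e) ∈ PolLaw.ker F.law := by
    have : (1 - e) * (1 - e) - (1 - e) = e * e - e := by ring
    rw [this]; exact he
  have h2 : (1 - e) * e ∈ PolLaw.ker F.law := by
    have : (1 - e) * e = -(e * e - e) := by ring
    rw [this]; exact neg_mem he
  have h3 : e * (1 - e) ∈ PolLaw.ker F.law := by
    have : e * (1 - e) = -(e * e - e) := by ring
    rw [this]; exact neg_mem he
  exact Ideal.add_mem _ (Ideal.add_mem _ (Ideal.add_mem _ (tmul_mem _ _ h1) (tmul_mem _ _ h2))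
    (tmul_mem _ _ h3)) (tmul_mem _ _ he)

theorem uu_mul_add (S : Type u) [CommRing S] [Algebra A S] (t : S) (e e' : B) :
    uu (A := A) S t e * uu S t e' = uu S t (e + e') +
      ((1 : S) ⊗ₜ[A] (e * e') - t ⊗ₜ[A] (e * e') - t ⊗ₜ[A] (e * e') +
        (t * t) ⊗ₜ[A] (e * e')) := by
  have h1 : (1 - e) * (1 - e') = (1 - (e + e')) + e * e' := by ring
  have h2 : (1 - e) * e' = e' - e * e' := by ring
  have h3 : e * (1 - e') = e - e * e' := by ring
  unfold uu
  simp only [add_mul, mul_add, Algebra.TensorProduct.tmul_mul_tmul, one_mul, mul_one]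
  rw [h1, h2, h3]
  simp only [TensorProduct.tmul_add, TensorProduct.tmul_sub]
  abel

theorem PP_add (F : MulLaw A B A d) {e e' : B} (h : e * e' ∈ PolLaw.ker F.law) :
    PP F e * PP F e' = PP F (e + e') := by
  unfold PP
  rw [← val_mul F.law F.mult]
  apply val_eq_of_sub_mem
  rw [uu_mul_add, add_sub_cancel_left]
  exact Ideal.add_mem _ (Ideal.sub_mem _ (Ideal.sub_mem _ (tmul_mem _ _ h) (tmul_mem _ _ h))
    (tmul_mem _ _ h)) (tmul_mem _ _ h)

theorem PP_zero (F : MulLaw A B A d) : PP F 0 = 1 := by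
  unfold PP uu
  rw [sub_zero, TensorProduct.tmul_zero, add_zero, ← Algebra.TensorProduct.one_def,
    val_one F.law F.mult]

theorem PP_one (F : MulLaw A B A d) : PP F 1 = X ^ d := by
  unfold PP uu
  have : ((1 : A[X]) ⊗ₜ[A] ((1 : B) - 1) + (X : A[X]) ⊗ₜ[A] (1 : B)) =
      (X : A[X]) • (1 : A[X] ⊗[A] B) := by
    rw [sub_self, TensorProduct.tmul_zero, zero_add, Algebra.TensorProduct.one_def,
      TensorProduct.smul_tmul', smul_eq_mul, mul_one]
  rw [this, val_smul F.law F.homog, val_one F.law F.mult, mul_one]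

theorem eval_one_PP (F : MulLaw A B A d) (e : B) : (PP F e).eval 1 = 1 := by
  have h := val_uu F A (1 : A) e
  have h2 : uu (A := A) A (1 : A) e = 1 := by
    unfold uu
    rw [← TensorProduct.tmul_add, sub_add_cancel, Algebra.TensorProduct.one_def]
  rw [h2, val_one F.law F.mult] at h
  rw [← Polynomial.coe_aeval_eq_eval]
  exact h.symm

/-- coefficients of `aeval (C X * X) P` in `A[X][X]` -/
theorem coeff_aeval_CX_mul_X (P : A[X]) (l : ℕ) :
    (aeval (C X * X : A[X][X]) P).coeff l = C (P.coeff l) * X ^ l := by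
  induction P using Polynomial.induction_on' with
  | add p q hp hq => rw [map_add, coeff_add, hp, hq, coeff_add, map_add, add_mul]
  | monomial n a =>
    rw [aeval_monomial, mul_pow, ← map_pow, ← mul_assoc, coeff_monomial]
    have : (algebraMap A A[X][X]) a * C (X ^ n) = C (C a * X ^ n) := by
      rw [map_mul]; rfl
    rw [this, coeff_C_mul_X_pow]
    split_ifs with h1 h2 h2
    · rw [h1]
    · exact absurd h1.symm h2
    · exact absurd h2.symm h1
    · rw [map_zero, zero_mul]

theorem aeval_CX (P : A[X]) : aeval (C X : A[X][X]) P = C P := by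
  have := Polynomial.aeval_algHom_apply (Polynomial.CAlgHom : A[X] →ₐ[A] A[X][X]) (X : A[X]) P
  rw [aeval_X_left_apply] at this
  exact this

theorem coeff_aeval_X (P : A[X]) (l : ℕ) :
    (aeval (X : A[X][X]) P).coeff l = C (P.coeff l) := by
  induction P using Polynomial.induction_on' with
  | add p q hp hq => rw [map_add, coeff_add, hp, hq, coeff_add, map_add]
  | monomial n a =>
    rw [aeval_monomial, coeff_monomial]
    have : (algebraMap A A[X][X]) a = C (C a) := rfl
    rw [this, coeff_C_mul_X_pow]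
    split_ifs with h1 h2 h2
    · rfl
    · exact absurd h1.symm h2
    · exact absurd h2.symm h1
    · rw [map_zero]

/-- the coefficients of `PP F e` are orthogonal idempotents -/
theorem coeff_mul_coeff (F : MulLaw A B A d) {e : B} (he : e * e - e ∈ PolLaw.ker F.law)
    (k l : ℕ) : (PP F e).coeff k * (PP F e).coeff l = if k = l then (PP F e).coeff l else 0 := by
  have h := aeval_mul F he A[X][X] (C X) X
  have h1 := congrArg (fun q => q.coeff l) h
  rw [aeval_CX, coeff_C_mul, coeff_aeval_X, coeff_aeval_CX_mul_X] at h1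
  have h2 := congrArg (fun q => q.coeff k) h1
  rw [coeff_mul_C, coeff_C_mul, coeff_X_pow] at h2
  rw [h2]
  split_ifs <;> simp

theorem idem_eq_zero_or_one [ConnectedSpace (PrimeSpectrum A)] {a : A}
    (ha : IsIdempotentElem a) : a = 0 ∨ a = 1 := by
  have hnil : ∀ b : A, IsIdempotentElem b →
      (PrimeSpectrum.basicOpen b : Set (PrimeSpectrum A)) = ∅ → b = 0 := by
    intro b hb h
    have h1 : PrimeSpectrum.basicOpen b = ⊥ := by
      ext1; exact h
    rw [PrimeSpectrum.basicOpen_eq_bot_iff] at h1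
    obtain ⟨n, hn⟩ := h1
    rw [← hb.pow_succ_eq n, pow_succ, hn, zero_mul]
  have hclopen : IsClopen (PrimeSpectrum.basicOpen a : Set (PrimeSpectrum A)) :=
    PrimeSpectrum.isClopen_iff.mpr ⟨a, ha, rfl⟩
  rcases isClopen_iff.mp hclopen with h | h
  · left; exact hnil a ha h
  · right
    have h2 : (PrimeSpectrum.basicOpen (1 - a) : Set (PrimeSpectrum A)) = ∅ := by
      have h3 : PrimeSpectrum.basicOpen (a * (1 - a)) = ⊥ := by
        have : a * (1 - a) = 0 := by
          have h4 : a * a = a := ha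
          linear_combination -h4
        rw [this, PrimeSpectrum.basicOpen_zero]
      rw [PrimeSpectrum.basicOpen_mul] at h3
      have h5 : ((PrimeSpectrum.basicOpen a ⊓ PrimeSpectrum.basicOpen (1 - a) :
          TopologicalSpace.Opens (PrimeSpectrum A)) : Set (PrimeSpectrum A)) =
          ((⊥ : TopologicalSpace.Opens (PrimeSpectrum A)) : Set (PrimeSpectrum A)) := by rw [h3]
      rw [TopologicalSpace.Opens.coe_inf, TopologicalSpace.Opens.coe_bot] at h5
      rw [h, Set.univ_inter] at h5
      exact h5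
    have := hnil (1 - a) ha.one_sub h2
    rw [sub_eq_zero] at this
    exact this.symm

/-- over a connected base, `PP F e` is a power of `X` -/
theorem exists_pow [ConnectedSpace (PrimeSpectrum A)] (F : MulLaw A B A d) {e : B}
    (he : e * e - e ∈ PolLaw.ker F.law) : ∃ m : ℕ, PP F e = X ^ m := by
  have hnt : Nontrivial A := PrimeSpectrum.nonempty_iff_nontrivial.mp inferInstance
  have hmul := coeff_mul_coeff F he
  have h01 : ∀ k, (PP F e).coeff k = 0 ∨ (PP F e).coeff k = 1 := fun k =>
    idem_eq_zero_or_one (by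
      show (PP F e).coeff k * (PP F e).coeff k = (PP F e).coeff k
      rw [hmul k k, if_pos rfl])
  have hex : ∃ m, (PP F e).coeff m = 1 := by
    by_contra hcon
    have hall : ∀ k, (PP F e).coeff k = 0 := fun k =>
      (h01 k).resolve_right fun h => hcon ⟨k, h⟩
    have h0 : PP F e = 0 := Polynomial.ext fun k => by rw [hall k, coeff_zero]
    have h1 := eval_one_PP F e
    rw [h0, eval_zero] at h1
    exact zero_ne_one h1
  obtain ⟨m, hm⟩ := hex
  refine ⟨m, Polynomial.ext fun k => ?_⟩
  rw [coeff_X_pow]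
  split_ifs with hk
  · rw [hk, hm]
  · have := hmul k m
    rw [if_neg hk, hm, mul_one] at this
    exact this

/-- if `PP F e = 1` then `e` lies in the kernel -/
theorem mem_ker_of_PP_eq_one (F : MulLaw A B A d) {e : B} (he : e * e - e ∈ PolLaw.ker F.law)
    (h : PP F e = 1) : e ∈ PolLaw.ker F.law := by
  have h0 : val F.law A ((1 : A) ⊗ₜ[A] (1 - e)) = 1 := by
    have h1 := val_uu F A (0 : A) e
    rw [h, map_one] at h1
    unfold uu at h1
    rw [TensorProduct.zero_tmul, add_zero] at h1
    exact h1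
  have h3 : e * (1 - e) ∈ PolLaw.ker F.law := by
    have : e * (1 - e) = -(e * e - e) := by ring
    rw [this]; exact neg_mem he
  intro S _ _ x w
  have hS : F.law.toFun' S ((1 : S) ⊗ₜ[A] (1 - e)) = 1 := by
    have h1 := val_map F.law (Algebra.ofId A S) ((1 : A) ⊗ₜ[A] (1 - e))
    rw [h0, map_one, Algebra.TensorProduct.map_tmul, map_one, AlgHom.coe_id, id_eq] at h1
    have h2 : val F.law S ((1 : S) ⊗ₜ[A] (1 - e)) = val F.law S 1 := by
      rw [h1, val_one F.law F.mult]
    rw [toFun'_eq_of_val_eq F.law h2, (F.mult S).1]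
  calc F.law.toFun' S (x + w * (1 ⊗ₜ[A] e))
      = F.law.toFun' S (x + w * (1 ⊗ₜ[A] e)) * F.law.toFun' S ((1 : S) ⊗ₜ[A] (1 - e)) := by
        rw [hS, mul_one]
    _ = F.law.toFun' S ((x + w * (1 ⊗ₜ[A] e)) * ((1 : S) ⊗ₜ[A] (1 - e))) :=
        ((F.mult S).2 _ _).symm
    _ = F.law.toFun' S (x * ((1 : S) ⊗ₜ[A] (1 - e)) + w * ((1 : S) ⊗ₜ[A] (e * (1 - e)))) := by
        rw [add_mul, mul_assoc, Algebra.TensorProduct.tmul_mul_tmul, mul_one]
    _ = F.law.toFun' S (x * ((1 : S) ⊗ₜ[A] (1 - e))) := h3 S _ _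
    _ = F.law.toFun' S x * F.law.toFun' S ((1 : S) ⊗ₜ[A] (1 - e)) := (F.mult S).2 _ _
    _ = F.law.toFun' S x := by rw [hS, mul_one]

/-- at most `d` pairwise orthogonal idempotents outside the kernel (all modulo the kernel) -/
theorem count [ConnectedSpace (PrimeSpectrum A)] (F : MulLaw A B A d) (n : ℕ) (e : Fin n → B)
    (hidem : ∀ i, e i * e i - e i ∈ PolLaw.ker F.law)
    (horth : ∀ i j, i ≠ j → e i * e j ∈ PolLaw.ker F.law)
    (hne : ∀ i, e i ∉ PolLaw.ker F.law) : n ≤ d := by
  classical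
  have hnt : Nontrivial A := PrimeSpectrum.nonempty_iff_nontrivial.mp inferInstance
  have key : ∀ s : Finset (Fin n), (∑ i ∈ s, e i) * (∑ i ∈ s, e i) - ∑ i ∈ s, e i ∈
      PolLaw.ker F.law ∧ ∃ m, s.card ≤ m ∧ PP F (∑ i ∈ s, e i) = X ^ m := by
    intro s
    induction s using Finset.induction_on with
    | empty =>
      refine ⟨by simp, 0, le_rfl, ?_⟩
      rw [Finset.sum_empty, PP_zero, pow_zero]
    | insert j s hj ih =>
      obtain ⟨hI, m, hm, hP⟩ := ih
      have horthsum : e j * ∑ i ∈ s, e i ∈ PolLaw.ker F.law := by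
        rw [Finset.mul_sum]
        exact Ideal.sum_mem _ fun i hi => horth j i (by rintro rfl; exact hj hi)
      obtain ⟨mj, hPj⟩ := exists_pow F (hidem j)
      have hmj : 1 ≤ mj := by
        by_contra hlt
        have h0 : mj = 0 := by omega
        rw [h0, pow_zero] at hPj
        exact hne j (mem_ker_of_PP_eq_one F (hidem j) hPj)
      rw [Finset.sum_insert hj]
      refine ⟨?_, mj + m, ?_, ?_⟩
      · have : (e j + ∑ i ∈ s, e i) * (e j + ∑ i ∈ s, e i) - (e j + ∑ i ∈ s, e i) =
            (e j * e j - e j) + ((∑ i ∈ s, e i) * (∑ i ∈ s, e i) - ∑ i ∈ s, e i) +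
              2 * (e j * ∑ i ∈ s, e i) := by ring
        rw [this]
        exact Ideal.add_mem _ (Ideal.add_mem _ (hidem j) hI) (Ideal.mul_mem_left _ _ horthsum)
      · rw [Finset.card_insert_of_notMem hj]; omega
      · rw [← PP_add F horthsum, hPj, hP, pow_add]
  obtain ⟨hI, m, hm, hP⟩ := key Finset.univ
  rw [Finset.card_univ, Fintype.card_fin] at hm
  have hE : (∑ i, e i) * (1 - ∑ i, e i) ∈ PolLaw.ker F.law := by
    have : (∑ i, e i) * (1 - ∑ i, e i) = -((∑ i, e i) * (∑ i, e i) - ∑ i, e i) := by ring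
    rw [this]; exact neg_mem hI
  have h1 := PP_add F hE
  rw [add_sub_cancel, PP_one, hP] at h1
  have h2 := congrArg (fun q => q.coeff d) h1
  rw [coeff_X_pow_mul', coeff_X_pow, if_pos rfl] at h2
  by_contra hlt
  rw [if_neg (by omega)] at h2
  exact zero_ne_one h2

/-- in `B / ker F`, among `d + 1` pairwise orthogonal idempotents one vanishes -/
theorem exists_eq_zero [ConnectedSpace (PrimeSpectrum A)] (F : MulLaw A B A d)
    (eb : Fin (d + 1) → PolLaw.image F.law) (hidem : ∀ i, IsIdempotentElem (eb i))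
    (horth : ∀ i j, i ≠ j → eb i * eb j = 0) : ∃ i, eb i = 0 := by
  by_contra hcon
  have hne : ∀ i, eb i ≠ 0 := fun i h => hcon ⟨i, h⟩
  have hsurj : ∀ i, ∃ b : B, Ideal.Quotient.mk (PolLaw.ker F.law) b = eb i :=
    fun i => Ideal.Quotient.mk_surjective (eb i)
  choose e he using hsurj
  have h := count F (d + 1) e ?_ ?_ ?_
  · omega
  · intro i
    rw [← Ideal.Quotient.eq, map_mul, he]
    exact hidem i
  · intro i j hij
    rw [← Ideal.Quotient.eq_zero_iff_mem, map_mul, he, he]
    exact horth i j hij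
  · intro i hi
    apply hne i
    rw [← he i]
    exact Ideal.Quotient.eq_zero_iff_mem.mpr hi

theorem card_components_le [ConnectedSpace (PrimeSpectrum A)] (F : MulLaw A B A d) :
    Finite (ConnectedComponents (PrimeSpectrum (PolLaw.image F.law))) ∧
      Nat.card (ConnectedComponents (PrimeSpectrum (PolLaw.image F.law))) ≤ d :=
  Groth.Agent.Lib.Helper59.SpecComp.card_components_le d (exists_eq_zero F)

end Idem

end Groth.Agent.Lib.Helper59.IdemCount
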