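import Groth.Agent.Lib.Helper59.CHRel4

/-!
# The kernel of a multiplicative law on a finite type algebra has the radical of a finitely
generated ideal
-/

set_option autoImplicit false

namespace Groth.Agent.Lib.Helper59.KerFG

open scoped TensorProduct
open PolLaw Polynomial Groth.Agent.Lib.Helper59.KerPoly Groth.Agent.Lib.Helper59.CHCore
  Groth.Agent.Lib.Helper59.CHThm Groth.Agent.Lib.Helper59.CHRel Groth.Agent.Lib.Helper59.CHCons

universe u

section

variable {A : Type u} [CommRing A] {B : Type u} [CommRing B] [Algebra A B] {d : ℕ}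

theorem lamT_mem_of_mem_map {S₁ : Type u} [CommRing S₁] [Algebra A S₁] (I : Ideal B)
    (lam : S₁ →ₗ[A] A) (c : S₁ ⊗[A] B)
    (hc : c ∈ I.map (Algebra.TensorProduct.includeRight : B →ₐ[A] S₁ ⊗[A] B)) :
    lamT lam c ∈ I := by
  have h1 : c ∈ (I.map (Algebra.TensorProduct.includeRight : B →ₐ[A] S₁ ⊗[A] B)).restrictScalars A :=
    hc
  rw [Ideal.map_includeRight_eq] at h1
  obtain ⟨y, rfl⟩ := h1
  have h2 : ∀ y : S₁ ⊗[A] (I.restrictScalars A),
      lamT lam (LinearMap.lTensor S₁ (Submodule.subtype (I.restrictScalars A)) y) ∈ I := by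
    intro y
    induction y using TensorProduct.induction_on with
    | zero => simp
    | tmul s i =>
        rw [LinearMap.lTensor_tmul, lamT_tmul]
        exact I.smul_of_tower_mem _ i.2
    | add x y hx hy =>
        rw [map_add, map_add]
        exact I.add_mem hx hy
  exact h2 y

/-- the specialisation identity used in the proof of `relCH` -/
theorem aeval_chiRelB_map (F : MulLaw A B A d) {S₁ A' : Type u} [CommRing S₁] [Algebra A S₁]
    [CommRing A'] [Algebra A A'] (ev : S₁ →ₐ[A] A') (u : S₁ ⊗[A] B) :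
    Polynomial.aeval (Algebra.TensorProduct.map ev (AlgHom.id A B) u)
        (chiRelB F A' (Algebra.TensorProduct.map ev (AlgHom.id A B) u)) =
      Algebra.TensorProduct.map ev (AlgHom.id A B) (Polynomial.aeval u (chiRelB F S₁ u)) := by
  rw [chiRelB_map, Polynomial.aeval_def, Polynomial.eval₂_map, Polynomial.aeval_def,
    ← AlgHom.coe_toRingHom (Algebra.TensorProduct.map ev (AlgHom.id A B)), Polynomial.hom_eval₂]
  congr 1

theorem chiRelB_one_tmul (F : MulLaw A B A d) (b : B) :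
    chiRelB F A ((1 : A) ⊗ₜ[A] b) = chi F b := by
  unfold chiRelB chi zuB
  rw [Algebra.TensorProduct.map_tmul, map_one, AlgHom.coe_id, id_eq]

end

section Main

variable {A : Type u} [CommRing A] {B : Type u} [CommRing B] [Algebra A B] {d : ℕ}

/-- a finitely generated ideal inside `ker F` modulo which `B` is a finite `A`-module -/
theorem exists_fg_finite (F : MulLaw A B A d) [Algebra.FiniteType A B] :
    ∃ J₁ : Ideal B, J₁.FG ∧ J₁ ≤ PolLaw.ker F.law ∧ Module.Finite A (B ⧸ J₁) := by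
  classical
  obtain ⟨s, hs⟩ := (Algebra.FiniteType.out : (⊤ : Subalgebra A B).FG)
  have hp : ∀ b : B, ∃ p : A[X], p.Monic ∧ Polynomial.aeval b p ∈ PolLaw.ker F.law := fun b => by
    obtain ⟨p, hp, _, hmem⟩ := exists_monic F b
    exact ⟨p, hp, hmem⟩
  choose p hpm hpk using hp
  let J₁ : Ideal B := Ideal.span ((s.image fun b => Polynomial.aeval b (p b) : Finset B) : Set B)
  refine ⟨J₁, ⟨_, rfl⟩, ?_, ?_⟩
  · rw [Ideal.span_le]
    intro x hx
    rw [Finset.mem_coe, Finset.mem_image] at hx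
    obtain ⟨b, _, rfl⟩ := hx
    exact hpk b
  · have hft : Algebra.FiniteType A (B ⧸ J₁) :=
      Algebra.FiniteType.of_surjective (Ideal.Quotient.mkₐ A J₁) (Ideal.Quotient.mkₐ_surjective A J₁)
    have hint : Algebra.IsIntegral A (B ⧸ J₁) := by
      rw [← integralClosure_eq_top_iff, eq_top_iff]
      have h1 : (⊤ : Subalgebra A (B ⧸ J₁)) = Algebra.adjoin A ((Ideal.Quotient.mkₐ A J₁) '' (s : Set B)) := by
        rw [← AlgHom.map_adjoin, hs, Algebra.map_top]
        exact ((AlgHom.range_eq_top _).mpr (Ideal.Quotient.mkₐ_surjective A J₁)).symm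
      rw [h1]
      apply Algebra.adjoin_le
      rintro _ ⟨b, hb, rfl⟩
      refine ⟨p b, hpm b, ?_⟩
      have h2 : Polynomial.eval₂ (algebraMap A (B ⧸ J₁)) (Ideal.Quotient.mkₐ A J₁ b) (p b) =
          Ideal.Quotient.mkₐ A J₁ (Polynomial.aeval b (p b)) := by
        rw [← Polynomial.aeval_def, Polynomial.aeval_algHom_apply]
      rw [h2]
      exact Ideal.Quotient.eq_zero_iff_mem.mpr
        (Ideal.subset_span (Finset.mem_coe.mpr (Finset.mem_image_of_mem _ hb)))
    exact Algebra.IsIntegral.finite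

/-- the main step: modulo `J₁` with finite quotient, finitely many coefficients of the generic
Cayley–Hamilton element cut out the support -/
theorem exists_fg_of_finite_quot (F : MulLaw A B A d) (J₁ : Ideal B)
    (hJ₁ : J₁ ≤ PolLaw.ker F.law) [Module.Finite A (B ⧸ J₁)] :
    ∃ J₂ : Ideal B, J₂.FG ∧ J₂ ≤ PolLaw.ker F.law ∧ PolLaw.ker F.law ≤ (J₁ ⊔ J₂).radical := by
  classical
  obtain ⟨n, mb, hmb⟩ := Module.Finite.exists_fin (R := A) (M := B ⧸ J₁)
  have hm : ∀ l : Fin n, ∃ m : B, Ideal.Quotient.mk J₁ m = mb l :=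
    fun l => Ideal.Quotient.mk_surjective (mb l)
  choose m hm using hm
  let S₁ := MvPolynomial (Fin n) A
  let u : S₁ ⊗[A] B := ∑ l : Fin n, (MvPolynomial.X l : S₁) ⊗ₜ[A] m l
  let c : S₁ ⊗[A] B := Polynomial.aeval u (chiRelB F S₁ u)
  have hc : c ∈ (PolLaw.ker F.law).map (Algebra.TensorProduct.includeRight : B →ₐ[A] S₁ ⊗[A] B) :=
    relCH F S₁ u
  obtain ⟨T, hT⟩ := expand_left (MvPolynomial.basisMonomials (Fin n) A) c
  let cδ : (Fin n →₀ ℕ) → B := fun δ => lamT ((MvPolynomial.basisMonomials (Fin n) A).coord δ) c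
  have hcδ : ∀ δ, cδ δ ∈ PolLaw.ker F.law := fun δ => lamT_mem_of_mem_map _ _ c hc
  let J₂ : Ideal B := Ideal.span ((T.image cδ : Finset B) : Set B)
  refine ⟨J₂, ⟨_, rfl⟩, ?_, ?_⟩
  · rw [Ideal.span_le]
    intro x hx
    rw [Finset.mem_coe, Finset.mem_image] at hx
    obtain ⟨δ, _, rfl⟩ := hx
    exact hcδ δ
  · intro b hb
    -- write `b` modulo `J₁` as a combination of the `m l`
    have hspan : Ideal.Quotient.mk J₁ b ∈ Submodule.span A (Set.range mb) := by
      rw [hmb]; exact Submodule.mem_top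
    obtain ⟨a, ha⟩ := (Submodule.mem_span_range_iff_exists_fun A).mp hspan
    let b' : B := ∑ l : Fin n, a l • m l
    have hbb' : b - b' ∈ J₁ := by
      rw [← Ideal.Quotient.eq]
      rw [← ha]
      show _ = Ideal.Quotient.mk J₁ (∑ l : Fin n, a l • m l)
      rw [map_sum]
      refine Finset.sum_congr rfl fun l _ => ?_
      rw [← hm l]
      rfl
    have hb' : b' ∈ PolLaw.ker F.law := by
      have : b' = b - (b - b') := by ring
      rw [this]
      exact (PolLaw.ker F.law).sub_mem hb (hJ₁ hbb')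
    -- specialise the generic element
    let ev : S₁ →ₐ[A] A := MvPolynomial.aeval a
    have hu : Algebra.TensorProduct.map ev (AlgHom.id A B) u = (1 : A) ⊗ₜ[A] b' := by
      show Algebra.TensorProduct.map ev (AlgHom.id A B)
        (∑ l : Fin n, (MvPolynomial.X l : S₁) ⊗ₜ[A] m l) = (1 : A) ⊗ₜ[A] (∑ l : Fin n, a l • m l)
      rw [map_sum, TensorProduct.tmul_sum]
      refine Finset.sum_congr rfl fun l _ => ?_
      rw [Algebra.TensorProduct.map_tmul, AlgHom.coe_id, id_eq, TensorProduct.tmul_smul,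
        TensorProduct.smul_tmul', smul_eq_mul, mul_one]
      show (MvPolynomial.aeval a (MvPolynomial.X l : S₁)) ⊗ₜ[A] m l = _
      rw [MvPolynomial.aeval_X]
    have h1 := aeval_chiRelB_map F ev u
    rw [hu, chiRelB_one_tmul, chi_of_mem_ker F hb'] at h1
    -- the right-hand side lies in `1 ⊗ J₂`
    have h2 : Algebra.TensorProduct.map ev (AlgHom.id A B) c =
        (1 : A) ⊗ₜ[A] (∑ δ ∈ T, ev (MvPolynomial.basisMonomials (Fin n) A δ) • cδ δ) := by
      conv_lhs => rw [hT]
      rw [map_sum, TensorProduct.tmul_sum]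
      refine Finset.sum_congr rfl fun δ _ => ?_
      rw [Algebra.TensorProduct.map_tmul, AlgHom.coe_id, id_eq, TensorProduct.tmul_smul,
        TensorProduct.smul_tmul', smul_eq_mul, mul_one]
    have h3 : (1 : A) ⊗ₜ[A] ((-b') ^ d) =
        (1 : A) ⊗ₜ[A] (∑ δ ∈ T, ev (MvPolynomial.basisMonomials (Fin n) A δ) • cδ δ) := by
      rw [← h2]
      show _ = Algebra.TensorProduct.map ev (AlgHom.id A B) (Polynomial.aeval u (chiRelB F S₁ u))
      rw [← h1, map_pow, map_neg, Polynomial.aeval_X, ← TensorProduct.tmul_neg,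
        Algebra.TensorProduct.tmul_pow, one_pow]
    have h4 : (-b') ^ d = ∑ δ ∈ T, ev (MvPolynomial.basisMonomials (Fin n) A δ) • cδ δ := by
      have := congrArg (TensorProduct.lid A B) h3
      simpa using this
    have h5 : (-b') ^ d ∈ J₂ := by
      rw [h4]
      refine Ideal.sum_mem _ fun δ hδ => ?_
      refine Submodule.smul_of_tower_mem _ _ (Ideal.subset_span ?_)
      exact Finset.mem_coe.mpr (Finset.mem_image_of_mem _ hδ)
    have h6 : b' ∈ (J₁ ⊔ J₂).radical := by
      refine ⟨d, ?_⟩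
      rw [neg_pow] at h5
      have h7 := Ideal.mul_mem_left _ ((-1 : B) ^ d) h5
      rw [← mul_assoc, ← mul_pow, neg_one_mul, neg_neg, one_pow, one_mul] at h7
      exact (le_sup_right : J₂ ≤ J₁ ⊔ J₂) h7
    have h8 : b - b' ∈ (J₁ ⊔ J₂).radical :=
      Ideal.le_radical ((le_sup_left : J₁ ≤ J₁ ⊔ J₂) hbb')
    have : b = b' + (b - b') := by ring
    rw [this]
    exact Ideal.add_mem _ h6 h8

theorem exists_fg (F : MulLaw A B A d) [Algebra.FiniteType A B] :
    ∃ J : Ideal B, J.FG ∧ J ≤ PolLaw.ker F.law ∧ J.radical = (PolLaw.ker F.law).radical := by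
  obtain ⟨J₁, hfg₁, hle₁, hfin⟩ := exists_fg_finite F
  obtain ⟨J₂, hfg₂, hle₂, hrad⟩ := exists_fg_of_finite_quot F J₁ hle₁
  refine ⟨J₁ ⊔ J₂, Submodule.FG.sup hfg₁ hfg₂, sup_le hle₁ hle₂, ?_⟩
  apply le_antisymm
  · exact Ideal.radical_mono (sup_le hle₁ hle₂)
  · calc (PolLaw.ker F.law).radical ≤ ((J₁ ⊔ J₂).radical).radical := Ideal.radical_mono hrad
      _ = (J₁ ⊔ J₂).radical := Ideal.radical_idem _

end Main

end Groth.Agent.Lib.Helper59.KerFG
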