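import Groth.Prelude.Def_PolLaw2
import Groth.Agent.Lib.Helper59.KerPoly
import Mathlib

/-!
# Kernels of laws on a finite algebra: generic elements

For `B` generated as an `A`-module by `b : Fin m → B`, the generic elements
`xg = ∑ X (inl k) ⊗ b k`, `wg = ∑ X (inr k) ⊗ b k` over `MvPolynomial (Fin m ⊕ Fin m) A` specialise
to every pair of elements of `S ⊗ B` (`exists_spec`), so `c ∈ ker F` iff
`F (xg + wg * (1 ⊗ c)) = F xg` (`mem_ker_of_generic`).  `kerBC_localization`: the kernel commutes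
with localisation of the base.
-/

set_option autoImplicit false

namespace Groth.Agent.Lib.Helper59.KerFinite

open scoped TensorProduct
open PolLaw Polynomial Groth.Agent.Lib.Helper59.KerPoly

universe u

section Generic

variable {A : Type u} [CommRing A] {B : Type u} [CommRing B] [Algebra A B]
  {m : ℕ} (b : Fin m → B)

/-- the generic polynomial ring -/
abbrev R0 (A : Type u) [CommRing A] (m : ℕ) : Type u := MvPolynomial (Fin m ⊕ Fin m) A

/-- generic first element -/
noncomputable def xg : R0 A m ⊗[A] B := ∑ k : Fin m, (MvPolynomial.X (Sum.inl k) : R0 A m) ⊗ₜ[A] b k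

/-- generic second element -/
noncomputable def wg : R0 A m ⊗[A] B := ∑ k : Fin m, (MvPolynomial.X (Sum.inr k) : R0 A m) ⊗ₜ[A] b k

variable (hb : Submodule.span A (Set.range b) = ⊤)

include hb in
theorem exists_coeffs {S : Type u} [CommSemiring S] [Algebra A S] (x : S ⊗[A] B) :
    ∃ s : Fin m → S, x = ∑ k : Fin m, s k ⊗ₜ[A] b k := by
  induction x using TensorProduct.induction_on with
  | zero => exact ⟨fun _ => 0, by simp⟩
  | tmul s c =>
      have hc : c ∈ Submodule.span A (Set.range b) := by rw [hb]; trivial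
      obtain ⟨a, ha⟩ := (Submodule.mem_span_range_iff_exists_fun A).mp hc
      refine ⟨fun k => a k • s, ?_⟩
      rw [← ha, TensorProduct.tmul_sum]
      refine Finset.sum_congr rfl fun k _ => ?_
      rw [TensorProduct.smul_tmul]
  | add x y hx hy =>
      obtain ⟨s₁, h₁⟩ := hx
      obtain ⟨s₂, h₂⟩ := hy
      refine ⟨fun k => s₁ k + s₂ k, ?_⟩
      rw [h₁, h₂, ← Finset.sum_add_distrib]
      refine Finset.sum_congr rfl fun k _ => ?_
      rw [TensorProduct.add_tmul]

include hb in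
theorem exists_spec {S : Type u} [CommSemiring S] [Algebra A S] (x w : S ⊗[A] B) :
    ∃ ψ : R0 A m →ₐ[A] S, Algebra.TensorProduct.map ψ (AlgHom.id A B) (xg b) = x ∧
      Algebra.TensorProduct.map ψ (AlgHom.id A B) (wg b) = w := by
  obtain ⟨s, hs⟩ := exists_coeffs b hb x
  obtain ⟨s', hs'⟩ := exists_coeffs b hb w
  refine ⟨MvPolynomial.aeval (Sum.elim s s'), ?_, ?_⟩
  · rw [xg, map_sum, hs]
    refine Finset.sum_congr rfl fun k _ => ?_
    rw [Algebra.TensorProduct.map_tmul, MvPolynomial.aeval_X, AlgHom.id_apply]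
    rfl
  · rw [wg, map_sum, hs']
    refine Finset.sum_congr rfl fun k _ => ?_
    rw [Algebra.TensorProduct.map_tmul, MvPolynomial.aeval_X, AlgHom.id_apply]
    rfl

include hb in
theorem mem_ker_of_generic (F : B →ₚₗ[A] A) (c : B)
    (h : val F (R0 A m) (xg b + wg b * ((1 : R0 A m) ⊗ₜ[A] c)) = val F (R0 A m) (xg b)) :
    c ∈ PolLaw.ker F := by
  intro S _ _ x w
  obtain ⟨ψ, hx, hw⟩ := exists_spec b hb x w
  apply toFun'_eq_of_val_eq
  have e1 : Algebra.TensorProduct.map ψ (AlgHom.id A B) (xg b + wg b * ((1 : R0 A m) ⊗ₜ[A] c)) =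
      x + w * ((1 : S) ⊗ₜ[A] c) := by
    rw [map_add, map_mul, hx, hw, Algebra.TensorProduct.map_tmul, map_one, AlgHom.id_apply]
  rw [← e1, val_map, h, ← val_map, hx]

end Generic


section GenericBC

variable {A : Type u} [CommRing A] {B : Type u} [CommRing B] [Algebra A B]
  {m : ℕ} (b : Fin m → B)

/-- generic first element over the base `A''` -/
noncomputable def xgA (A'' : Type u) [CommRing A''] [Algebra A A''] : R0 A'' m ⊗[A] B :=
  ∑ k : Fin m, (MvPolynomial.X (Sum.inl k) : R0 A'' m) ⊗ₜ[A] b k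

/-- generic second element over the base `A''` -/
noncomputable def wgA (A'' : Type u) [CommRing A''] [Algebra A A''] : R0 A'' m ⊗[A] B :=
  ∑ k : Fin m, (MvPolynomial.X (Sum.inr k) : R0 A'' m) ⊗ₜ[A] b k

/-- the image of `v : A'' ⊗ B` over the generic ring -/
noncomputable def imgA (A'' : Type u) [CommRing A''] [Algebra A A''] (v : A'' ⊗[A] B) :
    R0 A'' m ⊗[A] B :=
  Algebra.TensorProduct.map (IsScalarTower.toAlgHom A A'' (R0 A'' m)) (AlgHom.id A B) v

/-- the obstruction polynomial -/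
noncomputable def Delta (F : B →ₚₗ[A] A) (A'' : Type u) [CommRing A''] [Algebra A A'']
    (v : A'' ⊗[A] B) : R0 A'' m :=
  val F (R0 A'' m) (xgA b A'' + wgA b A'' * imgA A'' v) - val F (R0 A'' m) (xgA b A'')

variable (hb : Submodule.span A (Set.range b) = ⊤)

include hb in
theorem mem_kerBC_of_Delta (F : B →ₚₗ[A] A) (A'' : Type u) [CommRing A''] [Algebra A A'']
    (v : A'' ⊗[A] B) (h : Delta b F A'' v = 0) : v ∈ PolLaw.kerBC F A'' := by
  intro R _ _ _ _ x w
  obtain ⟨s, hs⟩ := exists_coeffs b hb x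
  obtain ⟨s', hs'⟩ := exists_coeffs b hb w
  let ψ : R0 A'' m →ₐ[A''] R := MvPolynomial.aeval (Sum.elim s s')
  let ψA : R0 A'' m →ₐ[A] R := ψ.restrictScalars A
  have hx : Algebra.TensorProduct.map ψA (AlgHom.id A B) (xgA b A'') = x := by
    rw [xgA, map_sum, hs]
    refine Finset.sum_congr rfl fun k _ => ?_
    rw [Algebra.TensorProduct.map_tmul, AlgHom.id_apply]
    congr 1
    show MvPolynomial.aeval (Sum.elim s s') (MvPolynomial.X (Sum.inl k)) = _
    rw [MvPolynomial.aeval_X]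
    rfl
  have hw : Algebra.TensorProduct.map ψA (AlgHom.id A B) (wgA b A'') = w := by
    rw [wgA, map_sum, hs']
    refine Finset.sum_congr rfl fun k _ => ?_
    rw [Algebra.TensorProduct.map_tmul, AlgHom.id_apply]
    congr 1
    show MvPolynomial.aeval (Sum.elim s s') (MvPolynomial.X (Sum.inr k)) = _
    rw [MvPolynomial.aeval_X]
    rfl
  have hcomp : ψA.comp (IsScalarTower.toAlgHom A A'' (R0 A'' m)) = IsScalarTower.toAlgHom A A'' R := by
    refine AlgHom.ext fun a => ?_
    show ψ (algebraMap A'' (R0 A'' m) a) = algebraMap A'' R a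
    rw [AlgHom.commutes]
  have hv : Algebra.TensorProduct.map ψA (AlgHom.id A B) (imgA A'' v) =
      Algebra.TensorProduct.map (IsScalarTower.toAlgHom A A'' R) (AlgHom.id A B) v := by
    rw [imgA, KerPoly.map_map, hcomp]
  apply toFun'_eq_of_val_eq
  have e1 : Algebra.TensorProduct.map ψA (AlgHom.id A B) (xgA b A'' + wgA b A'' * imgA A'' v) =
      x + w * Algebra.TensorProduct.map (IsScalarTower.toAlgHom A A'' R) (AlgHom.id A B) v := by
    rw [map_add, map_mul, hx, hw, hv]
  rw [← e1, val_map, sub_eq_zero.mp h, ← val_map, hx]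

theorem Delta_eq_zero_of_mem (F : B →ₚₗ[A] A) (A'' : Type u) [CommRing A''] [Algebra A A'']
    (v : A'' ⊗[A] B) (hv : v ∈ PolLaw.kerBC F A'') : Delta b F A'' v = 0 := by
  rw [Delta, sub_eq_zero]
  unfold val
  rw [imgA, hv (R0 A'' m)]

theorem Delta_map (F : B →ₚₗ[A] A) {A₁ A₂ : Type u} [CommRing A₁] [Algebra A A₁] [CommRing A₂]
    [Algebra A A₂] (θ : A₁ →ₐ[A] A₂) (v : A₁ ⊗[A] B) :
    Delta b F A₂ (Algebra.TensorProduct.map θ (AlgHom.id A B) v) =
      MvPolynomial.map (θ : A₁ →+* A₂) (Delta b F A₁ v) := by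
  let Θ : R0 A₁ m →ₐ[A] R0 A₂ m := MvPolynomial.mapAlgHom θ
  have hΘ : ∀ p, Θ p = MvPolynomial.map (θ : A₁ →+* A₂) p := fun p => rfl
  have hx : Algebra.TensorProduct.map Θ (AlgHom.id A B) (xgA b A₁) = xgA b A₂ := by
    rw [xgA, xgA, map_sum]
    refine Finset.sum_congr rfl fun k _ => ?_
    rw [Algebra.TensorProduct.map_tmul, AlgHom.id_apply, hΘ, MvPolynomial.map_X]
  have hw : Algebra.TensorProduct.map Θ (AlgHom.id A B) (wgA b A₁) = wgA b A₂ := by
    rw [wgA, wgA, map_sum]
    refine Finset.sum_congr rfl fun k _ => ?_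
    rw [Algebra.TensorProduct.map_tmul, AlgHom.id_apply, hΘ, MvPolynomial.map_X]
  have hcomp : Θ.comp (IsScalarTower.toAlgHom A A₁ (R0 A₁ m)) =
      (IsScalarTower.toAlgHom A A₂ (R0 A₂ m)).comp θ := by
    refine AlgHom.ext fun a => ?_
    show MvPolynomial.map (θ : A₁ →+* A₂) (MvPolynomial.C a) = MvPolynomial.C (θ a)
    rw [MvPolynomial.map_C]
    rfl
  have hv : Algebra.TensorProduct.map Θ (AlgHom.id A B) (imgA A₁ v) =
      imgA A₂ (Algebra.TensorProduct.map θ (AlgHom.id A B) v) := by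
    rw [imgA, imgA, KerPoly.map_map, KerPoly.map_map, hcomp]
  rw [Delta, Delta, ← hΘ, map_sub, ← val_map, ← val_map, map_add, map_mul, hx, hw, hv]

end GenericBC

section Localization

variable {A : Type u} [CommRing A] {B : Type u} [CommRing B] [Algebra A B]
  (M : Submonoid A) (A' : Type u) [CommRing A'] [Algebra A A'] [IsLocalization M A']

include M in
theorem exists_smul_eq_of_map_eq_zero {σ : Type*} (q : MvPolynomial σ A)
    (h : MvPolynomial.map (algebraMap A A') q = 0) : ∃ t ∈ M, t • q = 0 := by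
  classical
  have h1 : ∀ μ : σ →₀ ℕ, ∃ t : M, (t : A) * q.coeff μ = 0 := by
    intro μ
    have h1 : algebraMap A A' (q.coeff μ) = 0 := by
      rw [← MvPolynomial.coeff_map, h, MvPolynomial.coeff_zero]
    exact (IsLocalization.map_eq_zero_iff M A' _).mp h1
  choose t ht using h1
  refine ⟨∏ μ ∈ q.support, (t μ : A), Submonoid.prod_mem _ (fun μ _ => (t μ).2), ?_⟩
  ext μ
  rw [MvPolynomial.coeff_smul, MvPolynomial.coeff_zero, smul_eq_mul]
  by_cases hμ : μ ∈ q.support
  · rw [← Finset.mul_prod_erase _ _ hμ, mul_comm (t μ : A), mul_assoc, ht μ, mul_zero]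
  · rw [MvPolynomial.notMem_support_iff.mp hμ, mul_zero]

include M in
theorem exists_clear (u : A' ⊗[A] B) :
    ∃ (s : M) (c : B), ((algebraMap A A' s) ⊗ₜ[A] (1 : B)) * u = (1 : A') ⊗ₜ[A] c := by
  induction u using TensorProduct.induction_on with
  | zero => exact ⟨1, 0, by simp⟩
  | tmul a' b₁ =>
      obtain ⟨a, s, rfl⟩ := IsLocalization.exists_mk'_eq M a'
      refine ⟨s, a • b₁, ?_⟩
      rw [Algebra.TensorProduct.tmul_mul_tmul, one_mul, mul_comm, IsLocalization.mk'_spec,
        Algebra.algebraMap_eq_smul_one, TensorProduct.smul_tmul]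
  | add x y hx hy =>
      obtain ⟨s₁, c₁, h₁⟩ := hx
      obtain ⟨s₂, c₂, h₂⟩ := hy
      refine ⟨s₁ * s₂, (s₂ : A) • c₁ + (s₁ : A) • c₂, ?_⟩
      have e : ∀ (t : A) (c : B), ((algebraMap A A' t) ⊗ₜ[A] (1 : B)) * ((1 : A') ⊗ₜ[A] c) =
          (1 : A') ⊗ₜ[A] (t • c) := by
        intro t c
        rw [Algebra.TensorProduct.tmul_mul_tmul, one_mul, mul_one, Algebra.algebraMap_eq_smul_one,
          TensorProduct.smul_tmul]
      have e12 : ((algebraMap A A' ((s₁ * s₂ : M) : A)) ⊗ₜ[A] (1 : B) : A' ⊗[A] B) =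
          ((algebraMap A A' s₂) ⊗ₜ[A] (1 : B)) * ((algebraMap A A' s₁) ⊗ₜ[A] (1 : B)) := by
        rw [Algebra.TensorProduct.tmul_mul_tmul, mul_one, ← map_mul, Submonoid.coe_mul, mul_comm]
      rw [mul_add, TensorProduct.tmul_add, ← e, ← e, ← h₁, ← h₂, e12]
      ring

include M in
theorem exists_smul_mem_ker [Module.Finite A B] (F : B →ₚₗ[A] A) (c : B)
    (hc : (1 : A') ⊗ₜ[A] c ∈ PolLaw.kerBC F A') : ∃ t ∈ M, t • c ∈ PolLaw.ker F := by
  classical
  obtain ⟨m, b, hb⟩ := Module.Finite.exists_fin (R := A) (M := B)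
  let Q₀ := Polynomial (R0 A m)
  let ι : R0 A m →ₐ[A] Q₀ := Polynomial.CAlgHom
  let V : Q₀ ⊗[A] B := (Polynomial.X : Q₀) ⊗ₜ[A] (1 : B)
  set x' : Q₀ ⊗[A] B := Algebra.TensorProduct.map ι (AlgHom.id A B) (xg b) with hx'
  set w' : Q₀ ⊗[A] B := Algebra.TensorProduct.map ι (AlgHom.id A B) (wg b) with hw'
  set e₀ : Q₀ ⊗[A] B := x' + V * w' * ((1 : Q₀) ⊗ₜ[A] c) with he₀
  set H : Q₀ := val F Q₀ e₀ with hH
  -- evaluation at scalars
  have hρ : ∀ a : A, val F (R0 A m) (xg b + wg b * ((1 : R0 A m) ⊗ₜ[A] (a • c))) =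
      H.eval (MvPolynomial.C a) := by
    intro a
    let ρ : Q₀ →ₐ[A] R0 A m := (Polynomial.aeval (MvPolynomial.C a : R0 A m)).restrictScalars A
    have hρι : ρ.comp ι = AlgHom.id A _ := by
      refine AlgHom.ext fun r => ?_
      show Polynomial.aeval (MvPolynomial.C a : R0 A m) (Polynomial.C r) = r
      rw [Polynomial.aeval_C]
      rfl
    have hρV : Algebra.TensorProduct.map ρ (AlgHom.id A B) V =
        (MvPolynomial.C a : R0 A m) ⊗ₜ[A] (1 : B) := by
      show Algebra.TensorProduct.map ρ (AlgHom.id A B) ((Polynomial.X : Q₀) ⊗ₜ[A] (1 : B)) = _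
      rw [Algebra.TensorProduct.map_tmul, AlgHom.id_apply]
      congr 1
      show Polynomial.aeval (MvPolynomial.C a : R0 A m) (Polynomial.X : Q₀) = _
      rw [Polynomial.aeval_X]
    have e1 : Algebra.TensorProduct.map ρ (AlgHom.id A B) e₀ =
        xg b + wg b * ((1 : R0 A m) ⊗ₜ[A] (a • c)) := by
      rw [he₀, map_add, map_mul, map_mul, hx', hw', KerPoly.map_map, KerPoly.map_map, hρι, hρV,
        Algebra.TensorProduct.map_id, AlgHom.id_apply, AlgHom.id_apply,
        Algebra.TensorProduct.map_tmul, map_one, AlgHom.id_apply]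
      have e2 : ((MvPolynomial.C a : R0 A m) ⊗ₜ[A] (1 : B)) * ((1 : R0 A m) ⊗ₜ[A] c) =
          (1 : R0 A m) ⊗ₜ[A] (a • c) := by
        rw [Algebra.TensorProduct.tmul_mul_tmul, one_mul, mul_one, ← MvPolynomial.algebraMap_eq,
          Algebra.algebraMap_eq_smul_one, TensorProduct.smul_tmul]
      rw [← e2]
      ring
    rw [← e1, val_map, ← hH]
    show Polynomial.aeval (MvPolynomial.C a : R0 A m) H = _
    rw [Polynomial.coe_aeval_eq_eval]
  have h0 : val F (R0 A m) (xg b) = H.coeff 0 := by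
    have := hρ 0
    rw [zero_smul, TensorProduct.tmul_zero, mul_zero, add_zero, map_zero,
      ← Polynomial.coeff_zero_eq_eval_zero] at this
    exact this
  -- over the localisation
  let lam : R0 A m →ₐ[A] R0 A' m := MvPolynomial.mapAlgHom (Algebra.ofId A A')
  let Q₀' := Polynomial (R0 A' m)
  let Lam : Q₀ →ₐ[A] Q₀' := Polynomial.mapAlgHom lam
  have hk := hc Q₀' (Algebra.TensorProduct.map Lam (AlgHom.id A B) x')
    (Algebra.TensorProduct.map Lam (AlgHom.id A B) (V * w'))
  rw [Algebra.TensorProduct.map_tmul, map_one, AlgHom.id_apply] at hk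
  have e3 : Algebra.TensorProduct.map Lam (AlgHom.id A B) e₀ =
      Algebra.TensorProduct.map Lam (AlgHom.id A B) x' +
        Algebra.TensorProduct.map Lam (AlgHom.id A B) (V * w') * ((1 : Q₀') ⊗ₜ[A] c) := by
    rw [he₀, map_add, map_mul, Algebra.TensorProduct.map_tmul, map_one, AlgHom.id_apply]
  rw [← e3] at hk
  have hΛ : Lam H = Lam (Polynomial.C (H.coeff 0)) := by
    have a1 : Lam H = val F Q₀' (Algebra.TensorProduct.map Lam (AlgHom.id A B) e₀) := by
      rw [hH, val_map]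
    have a2 : val F Q₀ x' = Polynomial.C (H.coeff 0) := by
      rw [hx', val_map, h0]
      rfl
    have a3 : val F Q₀' (Algebra.TensorProduct.map Lam (AlgHom.id A B) e₀) =
        val F Q₀' (Algebra.TensorProduct.map Lam (AlgHom.id A B) x') := by
      unfold val
      rw [hk]
    rw [a1, a3, val_map, a2]
  have hcoeff : ∀ k : ℕ, 0 < k → MvPolynomial.map (algebraMap A A') (H.coeff k) = 0 := by
    intro k hk0
    have h1 : (Lam H).coeff k = (Lam (Polynomial.C (H.coeff 0))).coeff k := by rw [hΛ]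
    have e4 : ∀ p : Q₀, (Lam p).coeff k = lam (p.coeff k) := by
      intro p
      show (Polynomial.map (lam : R0 A m →+* R0 A' m) p).coeff k = _
      rw [Polynomial.coeff_map]
      rfl
    rw [e4, e4, Polynomial.coeff_C, if_neg (Nat.pos_iff_ne_zero.mp hk0), map_zero] at h1
    exact h1
  have hex : ∀ k : ℕ, ∃ t ∈ M, 0 < k → t • H.coeff k = 0 := by
    intro k
    by_cases hk0 : 0 < k
    · obtain ⟨t, ht, h⟩ := exists_smul_eq_of_map_eq_zero M A' (H.coeff k) (hcoeff k hk0)
      exact ⟨t, ht, fun _ => h⟩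
    · exact ⟨1, M.one_mem, fun h => absurd h hk0⟩
  choose tk htk htk0 using hex
  let t : A := ∏ k ∈ Finset.range (H.natDegree + 1), tk k
  have htM : t ∈ M := Submonoid.prod_mem _ (fun k _ => htk k)
  have htk' : ∀ k : ℕ, 0 < k → t • H.coeff k = 0 := by
    intro k hk0
    by_cases hkd : k ∈ Finset.range (H.natDegree + 1)
    · show (∏ k ∈ Finset.range (H.natDegree + 1), tk k) • H.coeff k = 0
      rw [← Finset.mul_prod_erase _ _ hkd, mul_comm, mul_smul, htk0 k hk0, smul_zero]
    · rw [Finset.mem_range, not_lt] at hkd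
      rw [Polynomial.coeff_eq_zero_of_natDegree_lt (by omega), smul_zero]
  refine ⟨t, htM, ?_⟩
  apply mem_ker_of_generic b hb F
  rw [hρ t, h0, Polynomial.eval_eq_sum_range, Finset.sum_range_succ', pow_zero, mul_one]
  have : ∑ k ∈ Finset.range H.natDegree, H.coeff (k + 1) * (MvPolynomial.C t : R0 A m) ^ (k + 1) = 0 := by
    refine Finset.sum_eq_zero fun k _ => ?_
    have h2 := htk' (k + 1) (Nat.succ_pos k)
    rw [MvPolynomial.smul_eq_C_mul] at h2
    rw [pow_succ, ← mul_assoc, mul_comm (H.coeff (k + 1)), mul_assoc, mul_comm (H.coeff (k+1)), h2,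
      mul_zero]
  rw [this, zero_add]

include M in
theorem kerBC_localization [Module.Finite A B] (F : B →ₚₗ[A] A) :
    (PolLaw.ker F).map (Algebra.TensorProduct.includeRight : B →ₐ[A] A' ⊗[A] B) =
      PolLaw.kerBC F A' := by
  apply le_antisymm (map_ker_le_kerBC F A')
  intro u hu
  obtain ⟨s, c, hsc⟩ := exists_clear M A' u
  have hc : (1 : A') ⊗ₜ[A] c ∈ PolLaw.kerBC F A' := by
    rw [← hsc]
    exact Ideal.mul_mem_left _ _ hu
  obtain ⟨t, ht, htc⟩ := exists_smul_mem_ker M A' F c hc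
  have h1 : (1 : A') ⊗ₜ[A] (t • c) ∈
      (PolLaw.ker F).map (Algebra.TensorProduct.includeRight : B →ₐ[A] A' ⊗[A] B) :=
    Ideal.mem_map_of_mem _ htc
  have e1 : ((algebraMap A A' (t * s)) ⊗ₜ[A] (1 : B)) * u = (1 : A') ⊗ₜ[A] (t • c) := by
    have : ((algebraMap A A' (t * s)) ⊗ₜ[A] (1 : B) : A' ⊗[A] B) =
        ((algebraMap A A' t) ⊗ₜ[A] (1 : B)) * ((algebraMap A A' s) ⊗ₜ[A] (1 : B)) := by
      rw [Algebra.TensorProduct.tmul_mul_tmul, mul_one, ← map_mul]
    rw [this, mul_assoc, hsc, Algebra.TensorProduct.tmul_mul_tmul, one_mul, mul_one,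
      Algebra.algebraMap_eq_smul_one, TensorProduct.smul_tmul]
  let ts : M := ⟨t, ht⟩ * s
  have e2 : u = ((IsLocalization.mk' A' (1 : A) ts) ⊗ₜ[A] (1 : B)) *
      ((1 : A') ⊗ₜ[A] (t • c)) := by
    rw [← e1, ← mul_assoc, Algebra.TensorProduct.tmul_mul_tmul, mul_one]
    have : IsLocalization.mk' A' (1 : A) ts * algebraMap A A' (t * s) = 1 := by
      have h := IsLocalization.mk'_spec A' (1 : A) ts
      rw [map_one] at h
      exact h
    rw [this]
    exact (one_mul u).symm
  rw [e2]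
  exact Ideal.mul_mem_left _ _ h1

end Localization

section DirectLimit

variable {A : Type u} [CommRing A] {B : Type u} [CommRing B] [Algebra A B]

theorem map_kerBC_le_kerBC (F : B →ₚₗ[A] A) {A₁ A₂ : Type u} [CommRing A₁] [Algebra A A₁]
    [CommRing A₂] [Algebra A A₂] (θ : A₁ →ₐ[A] A₂) :
    (PolLaw.kerBC F A₁).map (Algebra.TensorProduct.map θ (AlgHom.id A B)) ≤ PolLaw.kerBC F A₂ := by
  rw [Ideal.map_le_iff_le_comap]
  intro v hv
  rw [Ideal.mem_comap]
  intro R _ _ _ _ x w
  let θR : A₁ →ₐ[A] R := (IsScalarTower.toAlgHom A A₂ R).comp θ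
  let alg1 : Algebra A₁ R := θR.toRingHom.toAlgebra
  have : IsScalarTower A A₁ R := IsScalarTower.of_algebraMap_eq (fun a => by
    show algebraMap A R a = θR (algebraMap A A₁ a)
    rw [AlgHom.commutes])
  have hθ : IsScalarTower.toAlgHom A A₁ R = θR := by
    ext
    rfl
  have h := hv R x w
  rw [hθ] at h
  rw [KerPoly.map_map]
  exact h

theorem kerBC_directLimit [Module.Finite A B] {A' : Type u} [CommRing A'] [Algebra A A']
    {ι : Type u} [Preorder ι] [IsDirected ι (fun i j => i ≤ j)] [Nonempty ι]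
    (Ai : ι → Type u) [∀ i, CommRing (Ai i)] [∀ i, Algebra A (Ai i)]
    (t : ∀ i j : ι, i ≤ j → (Ai i →ₐ[A] Ai j)) (φ : ∀ i : ι, Ai i →ₐ[A] A')
    (hcomp : ∀ (i j : ι) (h : i ≤ j), (φ j).comp (t i j h) = φ i)
    (hsurj : ∀ a : A', ∃ (i : ι) (x : Ai i), φ i x = a)
    (hzero : ∀ (i : ι) (x : Ai i), φ i x = 0 → ∃ (j : ι) (h : i ≤ j), t i j h x = 0)
    (htrans : ∀ (i j k : ι) (hij : i ≤ j) (hjk : j ≤ k),
      (t j k hjk).comp (t i j hij) = t i k (hij.trans hjk))
    (F : B →ₚₗ[A] A) :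
    PolLaw.kerBC F A' =
      ⨆ i : ι, (PolLaw.kerBC F (Ai i)).map (Algebra.TensorProduct.map (φ i) (AlgHom.id A B)) := by
  classical
  apply le_antisymm
  · intro u hu
    obtain ⟨m, b, hb⟩ := Module.Finite.exists_fin (R := A) (M := B)
    obtain ⟨a', ha'⟩ := exists_coeffs b hb u
    -- lift the coefficients to a common stage
    choose ik yk hyk using fun k => hsurj (a' k)
    obtain ⟨i, hi⟩ := Finite.exists_le ik
    let y : Fin m → Ai i := fun k => t (ik k) i (hi k) (yk k)
    have hy : ∀ k, φ i (y k) = a' k := by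
      intro k
      show φ i (t (ik k) i (hi k) (yk k)) = a' k
      rw [← AlgHom.comp_apply, hcomp, hyk]
    let ui : Ai i ⊗[A] B := ∑ k : Fin m, y k ⊗ₜ[A] b k
    have hui : Algebra.TensorProduct.map (φ i) (AlgHom.id A B) ui = u := by
      rw [ha', map_sum]
      refine Finset.sum_congr rfl fun k _ => ?_
      rw [Algebra.TensorProduct.map_tmul, hy, AlgHom.id_apply]
    -- the obstruction dies at a finite stage
    have hΔ' : MvPolynomial.map (φ i : Ai i →+* A') (Delta b F (Ai i) ui) = 0 := by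
      rw [← Delta_map, hui]
      exact Delta_eq_zero_of_mem b F A' u hu
    have hc : ∀ μ : (Fin m ⊕ Fin m) →₀ ℕ, ∃ (j : ι) (h : i ≤ j),
        t i j h ((Delta b F (Ai i) ui).coeff μ) = 0 := by
      intro μ
      apply hzero
      have := congrArg (MvPolynomial.coeff μ) hΔ'
      rw [MvPolynomial.coeff_map, MvPolynomial.coeff_zero] at this
      exact this
    choose jμ hjμ hjμ0 using hc
    obtain ⟨j, hj⟩ := Finset.exists_le ((Delta b F (Ai i) ui).support.image jμ)
    obtain ⟨j', hjj', hij'⟩ := exists_ge_ge j i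
    have hΔj : Delta b F (Ai j') (Algebra.TensorProduct.map (t i j' hij') (AlgHom.id A B) ui) = 0 := by
      rw [Delta_map]
      ext μ
      rw [MvPolynomial.coeff_map, MvPolynomial.coeff_zero]
      by_cases hμ : μ ∈ (Delta b F (Ai i) ui).support
      · have h1 : jμ μ ≤ j' := (hj _ (Finset.mem_image_of_mem _ hμ)).trans hjj'
        have h2 := htrans i (jμ μ) j' (hjμ μ) h1
        show (t i j' hij') ((Delta b F (Ai i) ui).coeff μ) = 0
        rw [← h2, AlgHom.comp_apply, hjμ0, map_zero]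
      · rw [MvPolynomial.notMem_support_iff.mp hμ]
        exact map_zero _
    have hmem := mem_kerBC_of_Delta b hb F (Ai j') _ hΔj
    refine Ideal.mem_iSup_of_mem j' ?_
    have : u = Algebra.TensorProduct.map (φ j') (AlgHom.id A B)
        (Algebra.TensorProduct.map (t i j' hij') (AlgHom.id A B) ui) := by
      rw [KerPoly.map_map, hcomp, hui]
    rw [this]
    exact Ideal.mem_map_of_mem _ hmem
  · exact iSup_le fun i => map_kerBC_le_kerBC F (φ i)

end DirectLimit

end Groth.Agent.Lib.Helper59.KerFinite
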