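import Groth.Agent.Lib.Helper59.SplitAlg
import Groth.Agent.Lib.Helper59.KerFinite
import Groth.Agent.Lib.Helper59.LawReduced

/-!
# The kernel of a law commutes with monogenic étale base change
-/

set_option autoImplicit false

namespace Groth.Agent.Lib.Helper59.KerSplit

open scoped TensorProduct
open PolLaw Polynomial Groth.Agent.Lib.Helper59.KerPoly Groth.Agent.Lib.Helper59.LawReduced
  Groth.Agent.Lib.Helper59.KerFinite Groth.Agent.Lib.Helper59.SplitAlg

universe u

variable {A : Type u} [CommRing A] {B : Type u} [CommRing B] [Algebra A B]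

/-- descent of the kernel along an algebra with a linear retraction -/
theorem mem_ker_of_retraction (F : B →ₚₗ[A] A) (S : Type u) [CommRing S] [Algebra A S]
    (r : S →ₗ[A] A) (hr : r 1 = 1) (b : B) (hb : (1 : S) ⊗ₜ[A] b ∈ kerBC F S) :
    b ∈ PolLaw.ker F := by
  intro T _ _ x w
  let ιT : T →ₐ[A] S ⊗[A] T := Algebra.TensorProduct.includeRight
  have h := hb (S ⊗[A] T) (Algebra.TensorProduct.map ιT (AlgHom.id A B) x)
    (Algebra.TensorProduct.map ιT (AlgHom.id A B) w)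
  have e1 : Algebra.TensorProduct.map (IsScalarTower.toAlgHom A S (S ⊗[A] T)) (AlgHom.id A B)
      ((1 : S) ⊗ₜ[A] b) = Algebra.TensorProduct.map ιT (AlgHom.id A B) ((1 : T) ⊗ₜ[A] b) := by
    rw [Algebra.TensorProduct.map_tmul, Algebra.TensorProduct.map_tmul, map_one, map_one]
  rw [e1, ← map_mul, ← map_add, ← compat_map, ← compat_map] at h
  let ret : S ⊗[A] T →ₗ[A] T := (TensorProduct.lid A T).toLinearMap ∘ₗ r.rTensor T
  have hret : ∀ u : T ⊗[A] A,
      ret.rTensor A (Algebra.TensorProduct.map ιT (AlgHom.id A A) u) = u := by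
    intro u
    induction u using TensorProduct.induction_on with
    | zero => simp
    | tmul t a =>
      rw [Algebra.TensorProduct.map_tmul, LinearMap.rTensor_tmul]
      show (TensorProduct.lid A T) (r.rTensor T ((1 : S) ⊗ₜ[A] t)) ⊗ₜ[A] a = _
      rw [LinearMap.rTensor_tmul, TensorProduct.lid_tmul, hr, one_smul]
    | add a b ha hb => rw [map_add, map_add, ha, hb]
  have h2 := congrArg (ret.rTensor A) h
  rw [hret, hret] at h2
  exact h2

/-- inverting a Vandermonde system inside an ideal -/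
theorem one_tmul_mem_of_vandermonde {S : Type u} [CommRing S] [Algebra A S]
    (I : Ideal (S ⊗[A] B)) {n : ℕ} (ρ : Fin n → S) (hρ : ∀ j k, j ≠ k → IsUnit (ρ j - ρ k))
    (c : Fin n → B) (h : ∀ j, ∑ i : Fin n, (ρ j ^ (i : ℕ)) ⊗ₜ[A] c i ∈ I) (i : Fin n) :
    (1 : S) ⊗ₜ[A] c i ∈ I := by
  classical
  let V : Matrix (Fin n) (Fin n) S := Matrix.vandermonde ρ
  have hdet : IsUnit V.det := by
    rw [Matrix.det_vandermonde]
    refine Finset.prod_induction _ IsUnit (fun _ _ => IsUnit.mul) isUnit_one fun i _ => ?_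
    refine Finset.prod_induction _ IsUnit (fun _ _ => IsUnit.mul) isUnit_one fun j hj => ?_
    exact hρ j i (ne_of_gt (Finset.mem_Ioi.mp hj))
  have hWV : V⁻¹ * V = 1 := Matrix.nonsing_inv_mul V hdet
  have key : (1 : S) ⊗ₜ[A] c i =
      ∑ j, ((V⁻¹ i j) ⊗ₜ[A] (1 : B)) * ∑ l : Fin n, (ρ j ^ (l : ℕ)) ⊗ₜ[A] c l := by
    have h1 : ∀ j, ((V⁻¹ i j) ⊗ₜ[A] (1 : B)) * ∑ l : Fin n, (ρ j ^ (l : ℕ)) ⊗ₜ[A] c l =
        ∑ l : Fin n, (V⁻¹ i j * V j l) ⊗ₜ[A] c l := by
      intro j
      rw [Finset.mul_sum]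
      refine Finset.sum_congr rfl fun l _ => ?_
      rw [Algebra.TensorProduct.tmul_mul_tmul, one_mul]
      rfl
    simp only [h1]
    rw [Finset.sum_comm]
    have h2 : ∀ l : Fin n, ∑ j, (V⁻¹ i j * V j l) ⊗ₜ[A] c l =
        ((1 : Matrix (Fin n) (Fin n) S) i l) ⊗ₜ[A] c l := by
      intro l
      rw [← TensorProduct.sum_tmul, ← Matrix.mul_apply, hWV]
    simp only [h2, Matrix.one_apply]
    rw [Finset.sum_eq_single i]
    · rw [if_pos rfl]
    · intro l _ hl
      rw [if_neg (Ne.symm hl), TensorProduct.zero_tmul]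
    · intro hi
      exact absurd (Finset.mem_univ i) hi
  rw [key]
  exact Ideal.sum_mem _ fun j _ => Ideal.mul_mem_left _ _ (h j)

/-- the kernel commutes with the base change to `A[X]/(g)`, `g` monic separable -/
theorem kerBC_adjoinRoot_le (F : B →ₚₗ[A] A) (g : A[X]) (hg : g.Monic) (hsep : g.Separable) :
    kerBC F (AdjoinRoot g) ≤
      (PolLaw.ker F).map (Algebra.TensorProduct.includeRight : B →ₐ[A] AdjoinRoot g ⊗[A] B) := by
  classical
  intro y hy
  let pb := AdjoinRoot.powerBasis' hg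
  obtain ⟨S, _, _, r, ρ, hr, hsplit, hunit⟩ :=
    exists_splitting pb.dim A g hg hsep (AdjoinRoot.powerBasis'_dim hg).symm
  obtain ⟨c, hc⟩ := TensorProduct.eq_repr_basis_left pb.basis y
  rw [Finsupp.sum_fintype _ _ (fun i => TensorProduct.tmul_zero _ _)] at hc
  have hbasis : ∀ i, pb.basis i = AdjoinRoot.root g ^ (i : ℕ) := by
    intro i
    rw [PowerBasis.coe_basis, AdjoinRoot.powerBasis'_gen]
  have hroot : ∀ j, eval₂ (Algebra.ofId A S : A →+* S) (ρ j) g = 0 := by
    intro j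
    have h1 : eval (ρ j) (g.map (algebraMap A S)) = 0 := by
      rw [hsplit, eval_prod]
      exact Finset.prod_eq_zero (Finset.mem_univ j) (by simp)
    rw [eval_map] at h1
    exact h1
  let θ : ∀ j, AdjoinRoot g →ₐ[A] S := fun j =>
    AdjoinRoot.liftAlgHom g (Algebra.ofId A S) (ρ j) (hroot j)
  have h3 : ∀ j, ∑ i : Fin pb.dim, (ρ j ^ (i : ℕ)) ⊗ₜ[A] c i ∈ kerBC F S := by
    intro j
    have h := map_kerBC_le_kerBC F (θ j) (Ideal.mem_map_of_mem _ hy)
    rw [← hc, map_sum] at h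
    convert h using 1
    refine Finset.sum_congr rfl fun i _ => ?_
    rw [Algebra.TensorProduct.map_tmul, hbasis, map_pow, AdjoinRoot.liftAlgHom_root,
      AlgHom.id_apply]
  have h4 : ∀ i, (1 : S) ⊗ₜ[A] c i ∈ kerBC F S :=
    one_tmul_mem_of_vandermonde (kerBC F S) ρ hunit c h3
  have h5 : ∀ i, c i ∈ PolLaw.ker F := fun i => mem_ker_of_retraction F S r hr (c i) (h4 i)
  rw [← hc]
  refine Ideal.sum_mem _ fun i _ => ?_
  have h6 : pb.basis i ⊗ₜ[A] c i = (pb.basis i ⊗ₜ[A] (1 : B)) *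
      (Algebra.TensorProduct.includeRight : B →ₐ[A] AdjoinRoot g ⊗[A] B) (c i) := by
    rw [Algebra.TensorProduct.includeRight_apply, Algebra.TensorProduct.tmul_mul_tmul, mul_one,
      one_mul]
  rw [h6]
  exact Ideal.mul_mem_left _ _ (Ideal.mem_map_of_mem _ (h5 i))

end Groth.Agent.Lib.Helper59.KerSplit
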