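import Groth.Agent.Lib.Helper59.GammaGen
import Groth.Agent.Lib.Helper59.CHCore

/-!
# Multiplicative laws from compatible families on polynomial rings, and descent of a
multiplicative law along a surjective algebra map whose kernel lies in the kernel of the law
-/

set_option autoImplicit false

namespace Groth.Agent.Lib.Helper59.LawDescend

open scoped TensorProduct
open PolLaw Groth.Agent.Lib.Helper59.KerPoly Groth.Agent.Lib.Helper59.LawReduced
  Groth.Agent.Lib.Helper59.GammaGen Groth.Agent.Lib.Helper98.PolyLawRestrict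

universe u

section Lift

variable {A : Type u} [CommRing A]

theorem exists_lift_pair_fin {M : Type u} [AddCommGroup M] [Module A M] {S : Type u}
    [CommSemiring S] [Algebra A S] (x w : S ⊗[A] M) :
    ∃ (n : ℕ) (ψ : MvPolynomial (Fin n) A →ₐ[A] S) (x₀ w₀ : MvPolynomial (Fin n) A ⊗[A] M),
      ψ.toLinearMap.rTensor M x₀ = x ∧ ψ.toLinearMap.rTensor M w₀ = w := by
  obtain ⟨n₁, ψ₁, p₁, h₁⟩ := PolynomialLaw.exists_lift x
  obtain ⟨n₂, ψ₂, p₂, h₂⟩ := PolynomialLaw.exists_lift w
  let ψ : MvPolynomial (Fin (n₁ + n₂)) A →ₐ[A] S :=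
    MvPolynomial.aeval (Fin.addCases (fun i => ψ₁ (MvPolynomial.X i))
      (fun i => ψ₂ (MvPolynomial.X i)))
  let ρ₁ : MvPolynomial (Fin n₁) A →ₐ[A] MvPolynomial (Fin (n₁ + n₂)) A :=
    MvPolynomial.rename (Fin.castAdd n₂)
  let ρ₂ : MvPolynomial (Fin n₂) A →ₐ[A] MvPolynomial (Fin (n₁ + n₂)) A :=
    MvPolynomial.rename (Fin.natAdd n₁)
  have e₁ : ψ.comp ρ₁ = ψ₁ := by
    apply MvPolynomial.algHom_ext
    intro i
    simp [ψ, ρ₁]
  have e₂ : ψ.comp ρ₂ = ψ₂ := by
    apply MvPolynomial.algHom_ext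
    intro i
    simp [ψ, ρ₂]
  refine ⟨_, ψ, ρ₁.toLinearMap.rTensor M p₁, ρ₂.toLinearMap.rTensor M p₂, ?_, ?_⟩
  · rw [← LinearMap.comp_apply, ← LinearMap.rTensor_comp, ← AlgHom.comp_toLinearMap, e₁, h₁]
  · rw [← LinearMap.comp_apply, ← LinearMap.rTensor_comp, ← AlgHom.comp_toLinearMap, e₂, h₂]

end Lift

section LawOf

variable {A : Type u} [CommRing A] {M N : Type u} [CommRing M] [Algebra A M] [CommRing N]
  [Algebra A N]
  {T : ∀ n : ℕ, MvPolynomial (Fin n) A ⊗[A] M → MvPolynomial (Fin n) A ⊗[A] N}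

theorem lawOf_apply (hT : Compat T) {S : Type u} [CommSemiring S] [Algebra A S] {n : ℕ}
    (ψ : MvPolynomial (Fin n) A →ₐ[A] S) (p : MvPolynomial (Fin n) A ⊗[A] M) :
    (lawOf hT).toFun' S (Algebra.TensorProduct.map ψ (AlgHom.id A M) p) =
      Algebra.TensorProduct.map ψ (AlgHom.id A N) (T n p) := by
  rw [← rTensor_algHom_apply, ← rTensor_algHom_apply]
  exact toFunT_apply hT ψ p

theorem lawOf_mult (hT : Compat T) (h1 : ∀ n, T n 1 = 1)
    (hmul : ∀ n p q, T n (p * q) = T n p * T n q) : IsMult (lawOf hT) := by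
  intro S _ _
  refine ⟨?_, fun x y => ?_⟩
  · have e : (1 : S ⊗[A] M) = Algebra.TensorProduct.map
        (MvPolynomial.aeval (R := A) (fun i : Fin 0 => (i.elim0 : S))) (AlgHom.id A M) 1 := by
      rw [map_one]
    rw [e, lawOf_apply, h1, map_one]
  · obtain ⟨n, ψ, x₀, y₀, hx, hy⟩ := exists_lift_pair_fin x y
    rw [rTensor_algHom_apply] at hx hy
    have e : x * y = Algebra.TensorProduct.map ψ (AlgHom.id A M) (x₀ * y₀) := by
      rw [map_mul, hx, hy]
    rw [e, lawOf_apply, hmul, map_mul, ← lawOf_apply hT, ← lawOf_apply hT, hx, hy]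

theorem lawOf_homog (hT : Compat T) (k : ℕ)
    (h : ∀ n (s : MvPolynomial (Fin n) A) p, T n (s • p) = s ^ k • T n p) :
    IsHomog (lawOf hT) k := by
  intro S _ _ s x
  obtain ⟨n, ψ, p, q, hp, hq⟩ := PolynomialLaw.exists_lift' x s
  rw [rTensor_algHom_apply] at hp
  have e : s • x = Algebra.TensorProduct.map ψ (AlgHom.id A M) (q • p) := by
    rw [map_smul', hp, hq]
  rw [e, lawOf_apply, h, map_smul', map_pow, hq, ← lawOf_apply hT, hp]

/-- the multiplicative law attached to a compatible multiplicative family -/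
noncomputable def mulLawOf (hT : Compat T) (k : ℕ) (h1 : ∀ n, T n 1 = 1)
    (hmul : ∀ n p q, T n (p * q) = T n p * T n q)
    (h : ∀ n (s : MvPolynomial (Fin n) A) p, T n (s • p) = s ^ k • T n p) : MulLaw A M N k where
  law := lawOf hT
  homog := lawOf_homog hT k h
  mult := lawOf_mult hT h1 hmul

end LawOf

section Descend

variable {A : Type u} [CommRing A] {T T' C : Type u} [CommRing T] [Algebra A T] [CommRing T']
  [Algebra A T'] [CommRing C] [Algebra A C]

/-- a law is constant on the cosets of the extension of its kernel -/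
theorem factors_of_mem_map_ker (G : T →ₚₗ[A] C) (S : Type u) [CommSemiring S] [Algebra A S]
    (y : S ⊗[A] T)
    (hy : y ∈ (PolLaw.ker G).map (Algebra.TensorProduct.includeRight : T →ₐ[A] S ⊗[A] T))
    (x : S ⊗[A] T) : G.toFun' S (x + y) = G.toFun' S x := by
  have key : ∀ y ∈ (PolLaw.ker G).map (Algebra.TensorProduct.includeRight : T →ₐ[A] S ⊗[A] T),
      ∀ w x : S ⊗[A] T, G.toFun' S (x + w * y) = G.toFun' S x := by
    intro y hy
    refine Submodule.span_induction ?_ ?_ ?_ ?_ hy
    · rintro _ ⟨b, hb, rfl⟩ w x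
      exact hb S x w
    · intro w x
      rw [mul_zero, add_zero]
    · intro a b _ _ ha hb w x
      rw [mul_add, ← add_assoc, hb, ha]
    · intro t a _ ha w x
      rw [smul_eq_mul, ← mul_assoc, ha]
  have := key y hy 1 x
  rwa [one_mul] at this

/-- descent of a multiplicative law along a surjection whose kernel lies in the kernel of the law -/
theorem descend {k : ℕ} (G : MulLaw A T C k) (q : T →ₐ[A] T') (hq : Function.Surjective q)
    (hker : RingHom.ker q ≤ PolLaw.ker G.law) :
    ∃ F : MulLaw A T' C k, ∀ (S : Type u) [CommSemiring S] [Algebra A S] (z : S ⊗[A] T),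
      F.law.toFun' S (Algebra.TensorProduct.map (AlgHom.id A S) q z) = G.law.toFun' S z := by
  classical
  have wd : ∀ (S : Type u) [CommRing S] [Algebra A S] (z z' : S ⊗[A] T),
      Algebra.TensorProduct.map (AlgHom.id A S) q z =
        Algebra.TensorProduct.map (AlgHom.id A S) q z' →
      G.law.toFun' S z = G.law.toFun' S z' := by
    intro S _ _ z z' h
    have h1 : z' - z ∈ RingHom.ker (Algebra.TensorProduct.map (AlgHom.id A S) q) := by
      rw [RingHom.mem_ker, map_sub, h, sub_self]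
    rw [Algebra.TensorProduct.lTensor_ker _ hq] at h1
    have h2 := factors_of_mem_map_ker G.law S (z' - z) (Ideal.map_mono hker h1) z
    rw [add_sub_cancel] at h2
    exact h2.symm
  have surj : ∀ (S : Type u) [CommSemiring S] [Algebra A S],
      Function.Surjective (Algebra.TensorProduct.map (AlgHom.id A S) q) := by
    intro S _ _ z
    obtain ⟨z', hz'⟩ := LinearMap.lTensor_surjective S (g := q.toLinearMap) hq z
    exact ⟨z', by rw [← lTensor_eq_map, hz']⟩
  let Tn : ∀ n : ℕ, MvPolynomial (Fin n) A ⊗[A] T' → MvPolynomial (Fin n) A ⊗[A] C :=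
    fun n z => G.law.toFun' _ (Function.surjInv (surj (MvPolynomial (Fin n) A)) z)
  have hTn : ∀ (n : ℕ) (z : MvPolynomial (Fin n) A ⊗[A] T),
      Tn n (Algebra.TensorProduct.map (AlgHom.id A _) q z) = G.law.toFun' _ z := fun n z =>
    wd _ _ _ (Function.surjInv_eq (surj (MvPolynomial (Fin n) A)) _)
  have hcompat : Compat Tn := by
    intro n m φ
    funext z
    simp only [Function.comp_apply]
    obtain ⟨z', rfl⟩ := surj _ z
    rw [hTn, compat_apply, rTensor_algHom_apply, CHCore.map_map_comm, hTn]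
  have h1 : ∀ n, Tn n 1 = 1 := by
    intro n
    have := hTn n 1
    rw [map_one] at this
    rw [this, (G.mult _).1]
  have hmul : ∀ n p p', Tn n (p * p') = Tn n p * Tn n p' := by
    intro n p p'
    obtain ⟨z, rfl⟩ := surj _ p
    obtain ⟨z', rfl⟩ := surj _ p'
    rw [← map_mul, hTn, hTn, hTn, (G.mult _).2]
  have hhom : ∀ n (s : MvPolynomial (Fin n) A) p, Tn n (s • p) = s ^ k • Tn n p := by
    intro n s p
    obtain ⟨z, rfl⟩ := surj _ p
    rw [← lmap_smul, hTn, hTn, G.homog]
  refine ⟨mulLawOf hcompat k h1 hmul hhom, ?_⟩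
  intro S _ _ z
  obtain ⟨n, ψ, p, rfl⟩ := PolynomialLaw.exists_lift z
  rw [rTensor_algHom_apply, ← CHCore.map_map_comm]
  show (lawOf hcompat).toFun' S _ = _
  rw [lawOf_apply, hTn, compat_map]

end Descend

end Groth.Agent.Lib.Helper59.LawDescend
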