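import Mathlib

/-!
# McCoy's theorem for square matrices

A square matrix over a commutative ring acts injectively if and only if its determinant is a
nonzerodivisor.
-/

set_option autoImplicit false

namespace Groth.Agent.Lib.Helper59.McCoy

open Matrix

variable {S : Type*} [CommRing S]

/-- elements of a prime minimal over `I` are nilpotent modulo `I` after localising -/
theorem exists_mul_pow_mem {I q : Ideal S} (hq : q ∈ I.minimalPrimes) {x : S} (hx : x ∈ q) :
    ∃ s, s ∉ q ∧ ∃ N : ℕ, s * x ^ N ∈ I := by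
  have hqp : q.IsPrime := hq.1.1
  have h1 := IsLocalization.AtPrime.radical_map_of_mem_minimalPrimes
    (A := Localization.AtPrime q) q I hq
  have h2 : algebraMap S (Localization.AtPrime q) x ∈
      (I.map (algebraMap S (Localization.AtPrime q))).radical := by
    rw [h1]
    exact Ideal.mem_map_of_mem _ hx
  obtain ⟨n, hn⟩ := h2
  rw [IsLocalization.mem_map_algebraMap_iff (M := q.primeCompl)] at hn
  obtain ⟨⟨a, b⟩, hn⟩ := hn
  rw [← map_pow, ← map_mul, IsLocalization.eq_iff_exists q.primeCompl] at hn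
  obtain ⟨t, ht⟩ := hn
  refine ⟨t.1 * b.1, ?_, n, ?_⟩
  · exact (t * b).2
  · have : t.1 * b.1 * x ^ n = t.1 * a.1 := by
      simp only at ht
      rw [← ht]
      ring
    rw [this]
    exact I.mul_mem_left _ a.2

/-- McCoy: an injective square matrix has a nonzerodivisor determinant -/
theorem det_mem_nonZeroDivisors_of_injective {n : Type*} [Fintype n] [DecidableEq n]
    (M : Matrix n n S) (hM : Function.Injective M.mulVec) : M.det ∈ nonZeroDivisors S := by
  classical
  rw [mem_nonZeroDivisors_iff_right]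
  intro a ha
  by_contra ha0
  -- the annihilator of `a`
  let I : Ideal S := (Ideal.span {a}).annihilator
  have hI : ∀ x, x ∈ I ↔ x * a = 0 := by
    intro x
    show x ∈ (Ideal.span {a}).annihilator ↔ _
    rw [Submodule.mem_annihilator_span_singleton, smul_eq_mul]
  have hItop : I ≠ ⊤ := by
    intro h
    have : (1 : S) ∈ I := h ▸ Submodule.mem_top
    rw [hI, one_mul] at this
    exact ha0 this
  obtain ⟨q, hq⟩ := Ideal.nonempty_minimalPrimes hItop
  have hqp : q.IsPrime := hq.1.1
  have hIq : I ≤ q := hq.1.2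
  have hdet : M.det ∈ q := hIq ((hI _).mpr (by rw [mul_comm]; exact ha))
  -- singular modulo q
  let π : S →+* S ⧸ q := Ideal.Quotient.mk q
  have hdet' : (M.map π).det = 0 := by
    rw [← RingHom.mapMatrix_apply, ← RingHom.map_det]
    exact Ideal.Quotient.eq_zero_iff_mem.mpr hdet
  obtain ⟨vbar, hv0, hv⟩ := Matrix.exists_mulVec_eq_zero_iff.mpr hdet'
  have hsurj : ∀ i, ∃ s : S, π s = vbar i := fun i => Ideal.Quotient.mk_surjective (vbar i)
  choose v hvv using hsurj
  have hvbar : vbar = π ∘ v := funext fun i => (hvv i).symm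
  obtain ⟨i0, hi0⟩ : ∃ i0, v i0 ∉ q := by
    by_contra hcon
    apply hv0
    ext i
    rw [← hvv i]
    by_contra hne
    exact hcon ⟨i, fun hmem => hne (Ideal.Quotient.eq_zero_iff_mem.mpr hmem)⟩
  have hw : ∀ i, (M.mulVec v) i ∈ q := by
    intro i
    rw [← Ideal.Quotient.eq_zero_iff_mem]
    have := RingHom.map_mulVec π M v i
    show π _ = 0
    rw [this, ← hvbar, hv]
    rfl
  -- the ideal of elements killed by `a` after localising at `q`
  let Z : Ideal S :=
    { carrier := {x | ∃ t, t ∉ q ∧ t * a * x = 0}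
      zero_mem' := ⟨1, hqp.one_notMem, by simp⟩
      add_mem' := by
        rintro x y ⟨t, ht, hx⟩ ⟨t', ht', hy⟩
        refine ⟨t * t', fun h => (hqp.mem_or_mem h).elim ht ht', ?_⟩
        have e1 : t * t' * a * (x + y) = t' * (t * a * x) + t * (t' * a * y) := by ring
        rw [e1, hx, hy, mul_zero, mul_zero, add_zero]
      smul_mem' := by
        rintro c x ⟨t, ht, hx⟩
        refine ⟨t, ht, ?_⟩
        have e1 : t * a * (c • x) = c * (t * a * x) := by rw [smul_eq_mul]; ring
        rw [e1, hx, mul_zero] }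
  have hZ : ∀ x, x ∈ Z ↔ ∃ t, t ∉ q ∧ t * a * x = 0 := fun x => Iff.rfl
  have h1Z : (1 : S) ∉ Z := by
    rintro ⟨t, ht, h⟩
    rw [mul_one] at h
    exact ht (hIq ((hI t).mpr h))
  let J : Ideal S := Ideal.span (Set.range (M.mulVec v))
  have hJZ : J ≤ Z.radical := by
    rw [Ideal.span_le]
    rintro _ ⟨i, rfl⟩
    obtain ⟨s, hs, N, hN⟩ := exists_mul_pow_mem hq (hw i)
    refine ⟨N, s, hs, ?_⟩
    rw [hI] at hN
    rw [← hN]
    ring
  have hJfg : J.FG := ⟨(Finset.univ.image (M.mulVec v)), by simp [J]⟩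
  have hex : ∃ k, J ^ k ≤ Z := Ideal.exists_pow_le_of_le_radical_of_fg hJZ hJfg
  have hk0 : Nat.find hex ≠ 0 := by
    intro h0
    have := Nat.find_spec hex
    rw [h0, pow_zero, Ideal.one_eq_top] at this
    exact h1Z (this Submodule.mem_top)
  obtain ⟨k, hk⟩ := Nat.exists_eq_succ_of_ne_zero hk0
  have hk1 : ¬ J ^ k ≤ Z := by
    have := Nat.find_min hex (m := k) (by omega)
    exact this
  obtain ⟨m, hmJ, hmZ⟩ := SetLike.not_le_iff_exists.mp hk1
  have hmw : ∀ i, m * (M.mulVec v) i ∈ Z := by
    intro i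
    have h1 : m * (M.mulVec v) i ∈ J ^ (k + 1) := by
      rw [pow_succ]
      exact Ideal.mul_mem_mul hmJ (Ideal.subset_span ⟨i, rfl⟩)
    have := Nat.find_spec hex
    rw [hk] at this
    exact this h1
  choose t ht htm using fun i => (hZ _).mp (hmw i)
  let T : S := ∏ i, t i
  have hT : T ∉ q := by
    intro h
    obtain ⟨i, -, hi⟩ := (hqp.prod_mem_iff).mp h
    exact ht i hi
  have hkill : M.mulVec ((T * a * m) • v) = 0 := by
    rw [Matrix.mulVec_smul]
    ext i
    rw [Pi.smul_apply, smul_eq_mul, Pi.zero_apply]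
    have hdiv : t i ∣ T := Finset.dvd_prod_of_mem t (Finset.mem_univ i)
    obtain ⟨c, hc⟩ := hdiv
    have e1 : T * a * m * (M.mulVec v) i = c * (t i * a * (m * (M.mulVec v) i)) := by
      rw [hc]; ring
    rw [e1, htm i, mul_zero]
  have hzero : (T * a * m) • v = 0 := hM (by rw [hkill, Matrix.mulVec_zero])
  have hzero' : T * a * m * v i0 = 0 := by
    have := congrFun hzero i0
    simpa using this
  apply hmZ
  refine ⟨T * v i0, fun h => (hqp.mem_or_mem h).elim hT hi0, ?_⟩
  rw [← hzero']
  ring

/-- conversely a matrix with nonzerodivisor determinant acts injectively -/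
theorem injective_of_det_mem_nonZeroDivisors {n : Type*} [Fintype n] [DecidableEq n]
    (M : Matrix n n S) (hM : M.det ∈ nonZeroDivisors S) : Function.Injective M.mulVec := by
  intro u v huv
  have h0 : M.mulVec (u - v) = 0 := by rw [Matrix.mulVec_sub, huv, sub_self]
  have h1 : M.det • (u - v) = 0 := by
    have := congrArg (M.adjugate.mulVec) h0
    rw [Matrix.mulVec_mulVec, Matrix.adjugate_mul, Matrix.mulVec_zero, Matrix.smul_mulVec,
      Matrix.one_mulVec] at this
    exact this
  have h2 : u - v = 0 := by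
    ext i
    have := congrFun h1 i
    rw [Pi.smul_apply, smul_eq_mul, Pi.zero_apply, mul_comm] at this
    exact (mem_nonZeroDivisors_iff_right.mp hM) _ this
  exact sub_eq_zero.mp h2

end Groth.Agent.Lib.Helper59.McCoy
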