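import Groth.Agent.Lib.Helper59.CHCons
import Groth.Agent.Lib.Helper59.LawReduced

/-!
# Minimal primes over the kernel of a multiplicative law over a domain
-/

set_option autoImplicit false

namespace Groth.Agent.Lib.Helper59.MinPrime

open scoped TensorProduct
open PolLaw Polynomial Groth.Agent.Lib.Helper59.KerPoly Groth.Agent.Lib.Helper59.CHCore
  Groth.Agent.Lib.Helper59.CHCons Groth.Agent.Lib.Helper59.LawReduced

universe u

variable {A : Type u} [CommRing A] {B : Type u} [CommRing B] [Algebra A B] {d : ℕ}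

/-- `B / ker F` has no `A`-torsion when `A` is a domain -/
theorem mem_ker_of_algebraMap_mul_mem [IsDomain A] (F : MulLaw A B A d) {a : A} (ha : a ≠ 0)
    {s : B} (h : algebraMap A B a * s ∈ PolLaw.ker F.law) : s ∈ PolLaw.ker F.law := by
  intro S _ _ x w
  obtain ⟨σ, ψ, x₀, w₀, hx, hw⟩ := exists_lift_pair x w
  rw [rTensor_algHom_apply] at hx hw
  have key : F.law.toFun' (MvPolynomial σ A) (x₀ + w₀ * ((1 : MvPolynomial σ A) ⊗ₜ[A] s)) =
      F.law.toFun' (MvPolynomial σ A) x₀ := by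
    have h1 := h (MvPolynomial σ A) ((algebraMap A (MvPolynomial σ A) a) • x₀) w₀
    have h2 : (algebraMap A (MvPolynomial σ A) a) • x₀ +
        w₀ * ((1 : MvPolynomial σ A) ⊗ₜ[A] (algebraMap A B a * s)) =
        (algebraMap A (MvPolynomial σ A) a) • (x₀ + w₀ * ((1 : MvPolynomial σ A) ⊗ₜ[A] s)) := by
      rw [smul_add, ← Algebra.smul_def, TensorProduct.tmul_smul, mul_smul_comm, algebraMap_smul,
        algebraMap_smul]
    rw [h2, F.homog, F.homog] at h1
    apply (TensorProduct.rid A (MvPolynomial σ A)).injective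
    have h3 := congrArg (TensorProduct.rid A (MvPolynomial σ A)) h1
    rw [rid_smul, rid_smul] at h3
    refine mul_left_cancel₀ (pow_ne_zero d ?_) h3
    rw [MvPolynomial.algebraMap_eq]
    exact (map_ne_zero_iff _ (MvPolynomial.C_injective σ A)).mpr ha
  have h1 : Algebra.TensorProduct.map ψ (AlgHom.id A B)
      (x₀ + w₀ * ((1 : MvPolynomial σ A) ⊗ₜ[A] s)) = x + w * ((1 : S) ⊗ₜ[A] s) := by
    rw [map_add, map_mul, hx, hw, Algebra.TensorProduct.map_tmul, map_one, AlgHom.id_apply]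
  rw [← h1, ← compat_map, key, compat_map, hx]

theorem comap_eq_bot [IsDomain A] (F : MulLaw A B A d) {P : Ideal B}
    (hP : P ∈ (PolLaw.ker F.law).minimalPrimes) : P.comap (algebraMap A B) = ⊥ := by
  rw [eq_bot_iff]
  intro a ha
  rw [Ideal.mem_comap] at ha
  rw [Ideal.mem_bot]
  by_contra hne
  obtain ⟨y, hy, hxy⟩ := Ideal.exists_mul_mem_of_mem_minimalPrimes hP ha
  exact hy (mem_ker_of_algebraMap_mul_mem F hne hxy)

theorem isIntegral_quot (F : MulLaw A B A d) {P : Ideal B} (hP : PolLaw.ker F.law ≤ P) :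
    Algebra.IsIntegral A (B ⧸ P) := by
  constructor
  intro x
  obtain ⟨b, rfl⟩ := Ideal.Quotient.mk_surjective x
  obtain ⟨p, hp, _, hmem⟩ := exists_monic F b
  refine ⟨p, hp, ?_⟩
  rw [← Polynomial.aeval_def]
  have h1 := Polynomial.aeval_algHom_apply (Ideal.Quotient.mkₐ A P) b p
  rw [Ideal.Quotient.mkₐ_eq_mk] at h1
  rw [h1]
  exact Ideal.Quotient.eq_zero_iff_mem.mpr (hP hmem)

theorem main [IsDomain A] (F : MulLaw A B A d) {P : Ideal B}
    (hP : P ∈ (PolLaw.ker F.law).minimalPrimes) :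
    P.comap (algebraMap A B) = ⊥ ∧
      ∀ q : Ideal A, q.IsPrime →
        ∃ Q : Ideal B, Q.IsPrime ∧ P ≤ Q ∧ Q.comap (algebraMap A B) = q := by
  have h0 := comap_eq_bot F hP
  refine ⟨h0, fun q hq => ?_⟩
  have hint : Algebra.IsIntegral A (B ⧸ P) := isIntegral_quot F hP.1.2
  have hker : (⊥ : Ideal (B ⧸ P)).comap (algebraMap A (B ⧸ P)) ≤ q := by
    intro a ha
    rw [Ideal.mem_comap, Ideal.mem_bot] at ha
    have h1 : algebraMap A (B ⧸ P) a = Ideal.Quotient.mk P (algebraMap A B a) := rfl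
    rw [h1, Ideal.Quotient.eq_zero_iff_mem] at ha
    have h2 : a ∈ P.comap (algebraMap A B) := ha
    rw [h0, Ideal.mem_bot] at h2
    rw [h2]
    exact q.zero_mem
  obtain ⟨Qb, _, hQb, hcomap⟩ := Ideal.exists_ideal_over_prime_of_isIntegral q
    (⊥ : Ideal (B ⧸ P)) hker
  refine ⟨Qb.comap (Ideal.Quotient.mk P), Ideal.comap_isPrime _ _, ?_, ?_⟩
  · intro b hb
    rw [Ideal.mem_comap, Ideal.Quotient.eq_zero_iff_mem.mpr hb]
    exact Qb.zero_mem
  · rw [← hcomap, Ideal.comap_comap]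
    rfl

end Groth.Agent.Lib.Helper59.MinPrime
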