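import Groth.Agent.Lib.Helper59.PolarGamma
import Groth.Prelude.Def_W4c5normfunctorschNorm
import Mathlib.RingTheory.Norm.Basic

/-!
# The norm map out of the divided power algebra commutes with base change

Helper lemmas about `PolLaw.bcAlong` and the comparison of norms of
`P ⊗[R] R'` and `P ⊗[Q] Q'` for a pushout `Q' = Q ⊗[R] R'`.
-/

set_option autoImplicit false

namespace Groth.Agent.Lib.Helper59.NormBC

open scoped TensorProduct
open PolLaw Groth.Agent.Lib.Helper59.KerPoly Groth.Agent.Lib.Helper59.LawReduced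
  Groth.Agent.Lib.Helper59.CHCore Groth.Agent.Lib.Helper59.GammaGen
  Groth.Agent.Lib.Helper59.Polar Groth.Agent.Lib.Helper59.PolarGamma

universe u

section bc

variable {R : Type u} [CommRing R] {Q : Type u} [CommRing Q] [Algebra R Q]
  {X : Type u} [AddCommGroup X] [Module R X]
  {Y : Type u} [AddCommGroup Y] [Module R Y] [Module Q Y] [IsScalarTower R Q Y]

theorem bcAlong_tmul (g : X →ₗ[R] Y) (P : Type u) [CommRing P] [Algebra R P] [Algebra Q P]
    [IsScalarTower R Q P] (p : P) (x : X) :
    PolLaw.bcAlong g P (p ⊗ₜ[R] x) = p ⊗ₜ[Q] g x := by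
  unfold PolLaw.bcAlong
  simp

theorem lTensor_bcAlong {Y₂ : Type u} [AddCommGroup Y₂] [Module R Y₂] [Module Q Y₂]
    [IsScalarTower R Q Y₂] (g : X →ₗ[R] Y) (h : Y →ₗ[Q] Y₂)
    (P : Type u) [CommRing P] [Algebra R P] [Algebra Q P]
    [IsScalarTower R Q P] (w : P ⊗[R] X) :
    h.lTensor P (PolLaw.bcAlong g P w) = PolLaw.bcAlong ((h.restrictScalars R) ∘ₗ g) P w := by
  induction w using TensorProduct.induction_on with
  | zero => simp
  | tmul p x => rw [bcAlong_tmul, bcAlong_tmul, LinearMap.lTensor_tmul]; rfl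
  | add a b ha hb => rw [map_add, map_add, map_add, ha, hb]

end bc

section pushout

variable {R R' Q Q' : Type u} [CommRing R] [CommRing R'] [Algebra R R']
    [CommRing Q] [Algebra R Q] [CommRing Q'] [Algebra R Q'] [Algebra Q Q'] [Algebra R' Q']
    [IsScalarTower R Q Q'] [IsScalarTower R R' Q'] [Algebra.IsPushout R R' Q Q']

/-- The `P`-algebra isomorphism `P ⊗[R] R' ≃ P ⊗[Q] Q'` for a pushout `Q' = Q ⊗[R] R'`. -/
noncomputable def eP (P : Type u) [CommRing P] [Algebra R P] [Algebra Q P]
    [IsScalarTower R Q P] : P ⊗[R] R' ≃ₐ[P] P ⊗[Q] Q' :=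
  haveI : Algebra.IsPushout R Q R' Q' := Algebra.IsPushout.symm inferInstance
  (Algebra.TensorProduct.cancelBaseChange R Q P P R').symm.trans
    (Algebra.TensorProduct.congr (AlgEquiv.refl : P ≃ₐ[P] P) (Algebra.IsPushout.equiv R Q R' Q'))

theorem eP_apply (P : Type u) [CommRing P] [Algebra R P] [Algebra Q P]
    [IsScalarTower R Q P] (w : P ⊗[R] R') :
    eP (Q := Q) (Q' := Q') P w =
      PolLaw.bcAlong (IsScalarTower.toAlgHom R R' Q').toLinearMap P w := by
  have : Algebra.IsPushout R Q R' Q' := Algebra.IsPushout.symm inferInstance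
  induction w using TensorProduct.induction_on with
  | zero => simp
  | tmul p x =>
      rw [bcAlong_tmul]
      simp [eP, Algebra.IsPushout.equiv_tmul]
  | add a b ha hb => rw [map_add, map_add, ha, hb]

theorem norm_bcAlong (P : Type u) [CommRing P] [Algebra R P] [Algebra Q P]
    [IsScalarTower R Q P] (w : P ⊗[R] R') :
    Algebra.norm P (PolLaw.bcAlong (Q := Q) (IsScalarTower.toAlgHom R R' Q').toLinearMap P w) =
      Algebra.norm P w := by
  rw [← eP_apply (Q := Q) (Q' := Q') P w]
  exact Algebra.norm_eq_of_algEquiv _ _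

end pushout

section main

variable {R : Type u} [CommRing R] {Q : Type u} [CommRing Q] [Algebra R Q]

theorem rid_bcAlong {C : Type u} [AddCommGroup C] [Module R C] (g : C →ₗ[R] Q)
    (S : Type u) [CommRing S] [Algebra R S] (y : S ⊗[R] C) :
    TensorProduct.rid Q (Q ⊗[R] S) (PolLaw.bcAlong g (Q ⊗[R] S)
      ((Algebra.TensorProduct.includeRight : S →ₐ[R] Q ⊗[R] S).toLinearMap.rTensor C y)) =
      TensorProduct.comm R S Q (g.lTensor S y) := by
  induction y using TensorProduct.induction_on with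
  | zero => simp
  | tmul s c =>
      rw [LinearMap.rTensor_tmul, bcAlong_tmul, TensorProduct.rid_tmul, LinearMap.lTensor_tmul,
        TensorProduct.comm_tmul, AlgHom.toLinearMap_apply,
        Algebra.TensorProduct.includeRight_apply, TensorProduct.smul_tmul', smul_eq_mul, mul_one]
  | add a b ha hb => simp only [map_add, ha, hb]

theorem norm_includeRight {R' : Type u} [CommRing R'] [Algebra R R'] [Module.Free R R']
    [Module.Finite R R'] (S : Type u) [CommRing S] [Algebra R S] (z : S ⊗[R] R') :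
    Algebra.norm (Q ⊗[R] S) ((Algebra.TensorProduct.includeRight :
        S →ₐ[R] Q ⊗[R] S).toLinearMap.rTensor R' z) =
      (1 : Q) ⊗ₜ[R] Algebra.norm S z := by
  rw [rTensor_algHom_apply, ← detAct_self, detAct_map, detAct_self,
    Algebra.TensorProduct.includeRight_apply]

end main

section thm

theorem main {R R' Q Q' : Type u} [CommRing R] [CommRing R'] [Algebra R R']
    [CommRing Q] [Algebra R Q] [CommRing Q'] [Algebra R Q'] [Algebra Q Q'] [Algebra R' Q']
    [IsScalarTower R Q Q'] [IsScalarTower R R' Q'] [Algebra.IsPushout R R' Q Q']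
    [Module.Free R R'] [Module.Finite R R'] [Module.Free Q Q'] [Module.Finite Q Q']
    (d : ℕ) (hd : Module.finrank R R' = d) (hd' : Module.finrank Q Q' = d)
    {C : Type u} [CommRing C] [Algebra R C] (γ : PolLaw.MulLaw R R' C d) (hγ : PolLaw.IsGammaD γ)
    (π : C →ₐ[R] R) (hπ : PolLaw.MulLaw.postcomp π γ = PolLaw.normLaw R R' d hd)
    {C' : Type u} [CommRing C'] [Algebra R C'] [Algebra Q C'] [IsScalarTower R Q C']
    (γ' : PolLaw.MulLaw Q Q' C' d)
    (π' : C' →ₐ[Q] Q) (hπ' : PolLaw.MulLaw.postcomp π' γ' = PolLaw.normLaw Q Q' d hd')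
    (θ : C →ₐ[R] C')
    (hθ : ∀ (P : Type u) [CommRing P] [Algebra R P] [Algebra Q P] [IsScalarTower R Q P]
      (z : P ⊗[R] R'),
      γ'.law.toFun' P (PolLaw.bcAlong (IsScalarTower.toAlgHom R R' Q').toLinearMap P z) =
        PolLaw.bcAlong θ.toLinearMap P (γ.law.toFun' P z)) :
    ∀ c : C, π' (θ c) = algebraMap R Q (π c) := by
  classical
  let g₁ : C →ₗ[R] Q := (π'.toLinearMap.restrictScalars R) ∘ₗ θ.toLinearMap
  let g₂ : C →ₗ[R] Q := (Algebra.linearMap R Q) ∘ₗ π.toLinearMap
  have hK : LinearMap.eqLocus g₁ g₂ = ⊤ := by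
    apply span_coeff γ hγ
    intro S _ _ lam z
    rw [LinearMap.mem_eqLocus, ← lamT_lTensor lam g₁, ← lamT_lTensor lam g₂]
    congr 1
    apply (TensorProduct.comm R S Q).injective
    set y := γ.law.toFun' S z with hy
    let j : S →ₐ[R] Q ⊗[R] S := Algebra.TensorProduct.includeRight
    -- the `g₂` side
    have h2 : TensorProduct.comm R S Q (g₂.lTensor S y) = (1 : Q) ⊗ₜ[R] Algebra.norm S z := by
      have e1 : π.toLinearMap.lTensor S y = Algebra.norm S z ⊗ₜ[R] (1 : R) := by
        have := congrArg (fun F => F.law.toFun' S z) hπ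
        beta_reduce at this
        rw [PolLaw.normLaw_apply] at this
        exact this
      have e2 : g₂.lTensor S y = (Algebra.linearMap R Q).lTensor S (π.toLinearMap.lTensor S y) :=
        LinearMap.lTensor_comp_apply _ _ _ _
      rw [e2, e1, LinearMap.lTensor_tmul, TensorProduct.comm_tmul, Algebra.linearMap_apply,
        map_one]
    -- the `g₁` side
    have h1 : TensorProduct.comm R S Q (g₁.lTensor S y) = (1 : Q) ⊗ₜ[R] Algebra.norm S z := by
      rw [← rid_bcAlong, ← norm_includeRight (Q := Q) S z]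
      have e3 : PolLaw.bcAlong g₁ (Q ⊗[R] S) (j.toLinearMap.rTensor C y) =
          π'.toLinearMap.lTensor (Q ⊗[R] S)
            (PolLaw.bcAlong θ.toLinearMap (Q ⊗[R] S) (j.toLinearMap.rTensor C y)) :=
        (lTensor_bcAlong θ.toLinearMap π'.toLinearMap (Q ⊗[R] S) _).symm
      have e4 : j.toLinearMap.rTensor C y =
          γ.law.toFun' (Q ⊗[R] S) (j.toLinearMap.rTensor R' z) := by
        rw [hy, rTensor_algHom_apply, rTensor_algHom_apply, compat_map]
      have e5 : π'.toLinearMap.lTensor (Q ⊗[R] S) (γ'.law.toFun' (Q ⊗[R] S)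
          (PolLaw.bcAlong (Q := Q) (IsScalarTower.toAlgHom R R' Q').toLinearMap (Q ⊗[R] S)
            (j.toLinearMap.rTensor R' z))) =
          Algebra.norm (Q ⊗[R] S) (j.toLinearMap.rTensor R' z) ⊗ₜ[Q] (1 : Q) := by
        have := congrArg (fun F => F.law.toFun' (Q ⊗[R] S)
          (PolLaw.bcAlong (Q := Q) (IsScalarTower.toAlgHom R R' Q').toLinearMap (Q ⊗[R] S)
            (j.toLinearMap.rTensor R' z))) hπ'
        beta_reduce at this
        rw [PolLaw.normLaw_apply, norm_bcAlong] at this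
        exact this
      rw [e3, e4, ← hθ, e5, TensorProduct.rid_tmul, one_smul]
    rw [h1, h2]
  intro c
  have hc : c ∈ LinearMap.eqLocus g₁ g₂ := hK ▸ Submodule.mem_top
  exact hc

end thm

end Groth.Agent.Lib.Helper59.NormBC
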