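import Mathlib
import Groth.Agent.Lib.Helper59.McCoy
import Groth.Agent.Lib.Helper59.DetNormal

/-!
# The norm of `L ⊗ R` over `K ⊗ R` on the integral closure
-/

set_option autoImplicit false

universe u

open scoped TensorProduct

namespace Groth.Agent.Lib.Helper59.NormTensor

section Basis

variable (k K L R : Type u) [Field k] [Field K] [Algebra k K] [Field L] [Algebra K L]
  [Algebra k L] [IsScalarTower k K L] [CommRing R] [Algebra k R]

/-- the algebra structure of `L ⊗ R` over `K ⊗ R` -/
@[reducible] noncomputable def algKL : Algebra (K ⊗[k] R) (L ⊗[k] R) :=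
  (Algebra.TensorProduct.map (IsScalarTower.toAlgHom k K L) (AlgHom.id k R)).toRingHom.toAlgebra

attribute [local instance] algKL

variable {k K L R}

theorem smul_tmul_def (x : K) (r : R) (l : L) (r' : R) :
    (x ⊗ₜ[k] r : K ⊗[k] R) • (l ⊗ₜ[k] r' : L ⊗[k] R) = (x • l) ⊗ₜ[k] (r * r') := by
  rw [Algebra.smul_def]
  show (Algebra.TensorProduct.map (IsScalarTower.toAlgHom k K L) (AlgHom.id k R)) (x ⊗ₜ[k] r) *
    (l ⊗ₜ[k] r') = _
  rw [Algebra.TensorProduct.map_tmul, Algebra.TensorProduct.tmul_mul_tmul,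
    IsScalarTower.coe_toAlgHom', AlgHom.id_apply, Algebra.smul_def]

variable {ι : Type} [Fintype ι] [DecidableEq ι] (b : Module.Basis ι K L)

/-- coordinates -/
noncomputable def Psi0 : L ⊗[k] R →ₗ[k] (ι → K ⊗[k] R) :=
  LinearMap.pi fun i => TensorProduct.map ((b.coord i).restrictScalars k) LinearMap.id

theorem Psi0_tmul (l : L) (r : R) (i : ι) : Psi0 (k := k) (R := R) b (l ⊗ₜ r) i = b.repr l i ⊗ₜ r := by
  simp [Psi0]

theorem Psi0_smul (s : K ⊗[k] R) (y : L ⊗[k] R) : Psi0 b (s • y) = s • Psi0 b y := by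
  induction s using TensorProduct.induction_on with
  | zero => simp
  | add s1 s2 h1 h2 => rw [add_smul, map_add, h1, h2, add_smul]
  | tmul x r =>
    induction y using TensorProduct.induction_on with
    | zero => simp
    | add y1 y2 h1 h2 => rw [smul_add, map_add, h1, h2, map_add, smul_add]
    | tmul l r' =>
      ext i
      rw [smul_tmul_def, Pi.smul_apply, Psi0_tmul, Psi0_tmul, smul_eq_mul,
        Algebra.TensorProduct.tmul_mul_tmul, map_smul, Finsupp.smul_apply, smul_eq_mul]

/-- coordinates as a linear map over `K ⊗ R` -/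
noncomputable def Psi : L ⊗[k] R →ₗ[K ⊗[k] R] (ι → K ⊗[k] R) :=
  { toFun := Psi0 b
    map_add' := map_add _
    map_smul' := Psi0_smul b }

/-- the candidate basis -/
noncomputable def Phi : (ι → K ⊗[k] R) →ₗ[K ⊗[k] R] L ⊗[k] R :=
  Fintype.linearCombination (K ⊗[k] R) fun i => (b i ⊗ₜ[k] (1 : R) : L ⊗[k] R)

theorem Phi_Psi (y : L ⊗[k] R) : Phi b (Psi b y) = y := by
  induction y using TensorProduct.induction_on with
  | zero => simp
  | add y1 y2 h1 h2 => rw [map_add, map_add, h1, h2]
  | tmul l r =>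
    rw [Phi, Fintype.linearCombination_apply]
    have : ∀ i, (Psi b (l ⊗ₜ[k] r)) i • (b i ⊗ₜ[k] (1 : R) : L ⊗[k] R) =
        (b.repr l i • b i) ⊗ₜ[k] r := by
      intro i
      show Psi0 b (l ⊗ₜ[k] r) i • _ = _
      rw [Psi0_tmul, smul_tmul_def, mul_one]
    rw [Finset.sum_congr rfl fun i _ => this i, ← TensorProduct.sum_tmul, b.sum_repr]

theorem Psi_Phi (f : ι → K ⊗[k] R) : Psi b (Phi b f) = f := by
  have : (Psi (k := k) (R := R) b).comp (Phi (k := k) (R := R) b) = LinearMap.id := by
    refine LinearMap.pi_ext' fun i => ?_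
    refine LinearMap.ext_ring ?_
    ext j
    simp only [LinearMap.comp_apply, LinearMap.coe_single, LinearMap.id_apply]
    rw [Phi, Fintype.linearCombination_apply_single, one_smul]
    show Psi0 b (b i ⊗ₜ[k] (1 : R)) j = _
    rw [Psi0_tmul, b.repr_self, Finsupp.single_apply, Pi.single_apply]
    split_ifs with h1 h2 h2
    · rfl
    · exact absurd h1.symm h2
    · exact absurd h2.symm h1
    · rw [TensorProduct.zero_tmul]
  exact LinearMap.congr_fun this f

/-- the linear equivalence with the standard free module -/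
noncomputable def eqv : L ⊗[k] R ≃ₗ[K ⊗[k] R] (ι → K ⊗[k] R) :=
  LinearEquiv.ofLinearMap (Psi b) (Phi b) (LinearMap.ext (Psi_Phi b)) (LinearMap.ext (Phi_Psi b))

/-- the basis `b i ⊗ 1` -/
noncomputable def bS : Module.Basis ι (K ⊗[k] R) (L ⊗[k] R) := Module.Basis.ofEquivFun (eqv b)

theorem bS_repr_tmul (l : L) (r : R) (i : ι) :
    (bS (k := k) (R := R) b).repr (l ⊗ₜ r) i = b.repr l i ⊗ₜ r := by
  rw [bS, Module.Basis.ofEquivFun_repr_apply]
  exact Psi0_tmul b l r i

theorem bS_apply (i : ι) : bS (k := k) (R := R) b i = b i ⊗ₜ 1 := by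
  rw [bS, Module.Basis.coe_ofEquivFun]
  show Phi b _ = _
  rw [Phi, Fintype.linearCombination_apply_single, one_smul]

end Basis

section Generic

theorem isFractionRing_of_tower (R S T : Type*) [CommRing R] [IsDomain R] [CommRing S] [IsDomain S]
    [CommRing T] [Algebra R S] [Algebra S T] [Algebra R T] [IsScalarTower R S T]
    (M : Submonoid R) [IsLocalization M S] [IsFractionRing S T]
    (hinj : Function.Injective (algebraMap R S)) : IsFractionRing R T := by
  have h := IsLocalization.localization_localization_isLocalization_of_has_all_units M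
    (nonZeroDivisors S) T (fun x hx => hx.mem_nonZeroDivisors)
  have heq : (nonZeroDivisors S).comap (algebraMap R S) = nonZeroDivisors R := by
    ext x
    rw [Submonoid.mem_comap, mem_nonZeroDivisors_iff_ne_zero, mem_nonZeroDivisors_iff_ne_zero,
      ne_eq, ne_eq, map_eq_zero_iff _ hinj]
  rw [heq] at h
  exact h

variable {A K L : Type u} [CommRing A] [IsDomain A] [IsIntegrallyClosed A] [Field K] [Algebra A K]
  [IsFractionRing A K] [Field L] [Algebra K L] [FiniteDimensional K L] [Algebra A L]
  [IsScalarTower A K L]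

variable {ι : Type} [Fintype ι] [DecidableEq ι] (b : Module.Basis ι K L) {m : ℕ} (l : Fin m → L)

/-- the generic multiplication matrix `∑ T_j · (matrix of l_j)` -/
noncomputable def genMat : Matrix ι ι (MvPolynomial (Fin m) K) :=
  ∑ j, (MvPolynomial.X j : MvPolynomial (Fin m) K) •
    (Algebra.leftMulMatrix b (l j)).map (MvPolynomial.C (σ := Fin m))

attribute [local instance] MvPolynomial.algebraMvPolynomial

/-- the polynomial ring over `A` -/
abbrev PA (A : Type u) [CommRing A] (m : ℕ) := MvPolynomial (Fin m) A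

/-- the field of rational functions over `K` -/
abbrev FF (K : Type u) [Field K] (m : ℕ) := FractionRing (MvPolynomial (Fin m) K)

/-- `K → K(T)` -/
noncomputable def iota (K : Type u) [Field K] (m : ℕ) : K →+* FF K m :=
  (algebraMap (PA K m) (FF K m)).comp MvPolynomial.C

/-- coordinates in `K(T)^n` -/
noncomputable def hat (x : L) : ι → FF K m := fun i => iota K m (b.repr x i)

theorem algebraMap_C (a : A) :
    algebraMap (PA A m) (FF K m) (MvPolynomial.C a) = iota K m (algebraMap A K a) := by
  rw [IsScalarTower.algebraMap_apply (PA A m) (PA K m) (FF K m), MvPolynomial.algebraMap_def,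
    MvPolynomial.map_C]
  rfl

theorem algebraMap_X (j : Fin m) :
    algebraMap (PA A m) (FF K m) (MvPolynomial.X j) =
      algebraMap (PA K m) (FF K m) (MvPolynomial.X j) := by
  rw [IsScalarTower.algebraMap_apply (PA A m) (PA K m) (FF K m), MvPolynomial.algebraMap_def,
    MvPolynomial.map_X]

theorem hat_sum {r : ℕ} (g : Fin r → L) (c : Fin r → A) :
    hat (m := m) b (∑ t, c t • g t) = ∑ t, (MvPolynomial.C (c t) : PA A m) • hat (m := m) b (g t) := by
  ext i
  rw [Finset.sum_apply]
  simp only [hat, Pi.smul_apply]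
  rw [map_sum, Finsupp.coe_finsetSum, Finset.sum_apply, map_sum]
  refine Finset.sum_congr rfl fun t _ => ?_
  rw [← IsScalarTower.algebraMap_smul K (c t) (g t), map_smul, Finsupp.smul_apply, smul_eq_mul,
    map_mul, Algebra.smul_def, algebraMap_C]

theorem genMat_mulVec (x : L) :
    ((genMat b l).map (algebraMap (PA K m) (FF K m))).mulVec (hat b x) =
      ∑ j, (MvPolynomial.X j : PA A m) • hat (m := m) b (l j * x) := by
  have h1 : (genMat b l).map (algebraMap (PA K m) (FF K m)) =
      ∑ j, algebraMap (PA K m) (FF K m) (MvPolynomial.X j) •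
        (Algebra.leftMulMatrix b (l j)).map (iota K m) := by
    rw [genMat, ← RingHom.mapMatrix_apply, map_sum]
    refine Finset.sum_congr rfl fun j _ => ?_
    ext i i'
    simp [iota]
  rw [h1, Matrix.sum_mulVec]
  refine Finset.sum_congr rfl fun j _ => ?_
  rw [Matrix.smul_mulVec]
  have h2 : ((Algebra.leftMulMatrix b (l j)).map (iota K m)).mulVec (hat b x) =
      hat (m := m) b (l j * x) := by
    ext i
    have := RingHom.map_mulVec (iota K m) (Algebra.leftMulMatrix b (l j)) (b.repr x) i
    rw [Algebra.leftMulMatrix_mulVec_repr] at this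
    exact this.symm
  rw [h2]
  ext i
  rw [Pi.smul_apply, Pi.smul_apply, Algebra.smul_def (MvPolynomial.X j : PA A m), algebraMap_X,
    smul_eq_mul]

theorem genDet_mem (hl : ∀ j, IsIntegral A (l j)) :
    ∃ D₀ : MvPolynomial (Fin m) A, MvPolynomial.map (algebraMap A K) D₀ = (genMat b l).det := by
  classical
  have hinj : Function.Injective (algebraMap (PA A m) (PA K m)) := by
    rw [MvPolynomial.algebraMap_def]
    exact MvPolynomial.map_injective _ (IsFractionRing.injective A K)
  have hfr : IsFractionRing (PA A m) (FF K m) :=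
    isFractionRing_of_tower (PA A m) (PA K m) (FF K m)
      ((nonZeroDivisors A).map (MvPolynomial.C (σ := Fin m))) hinj
  have hic : IsIntegrallyClosed (PA A m) := DetNormal.isIntegrallyClosed_mvPolynomial m
  -- the lattice
  let C : Subalgebra A L := Algebra.adjoin A (Set.range l)
  have hCfg : (Subalgebra.toSubmodule C).FG :=
    fg_adjoin_of_finite (Set.finite_range l) (by rintro _ ⟨j, rfl⟩; exact hl j)
  let Λ : Submodule A L := Subalgebra.toSubmodule C * Submodule.span A (Set.range b)
  have hΛfg : Λ.FG := hCfg.mul (Submodule.fg_span (Set.finite_range b))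
  obtain ⟨r, g, hg⟩ := Submodule.fg_iff_exists_fin_generating_family.mp hΛfg
  have hbΛ : ∀ i, b i ∈ Λ := by
    intro i
    have := Submodule.mul_mem_mul (show (1 : L) ∈ Subalgebra.toSubmodule C from one_mem C)
      (Submodule.subset_span (s := Set.range b) ⟨i, rfl⟩ : b i ∈ Submodule.span A (Set.range b))
    rwa [one_mul] at this
  have hlΛ : ∀ j x, x ∈ Λ → l j * x ∈ Λ := by
    intro j x hx
    have hlC : l j ∈ Subalgebra.toSubmodule C := Algebra.subset_adjoin ⟨j, rfl⟩
    have := Submodule.mul_mem_mul hlC hx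
    rwa [← mul_assoc, (Subalgebra.isIdempotentElem_toSubmodule C).eq] at this
  -- images
  have hhat : ∀ x ∈ Λ, hat (m := m) b x ∈
      Submodule.span (PA A m) (Set.range fun t => hat (m := m) b (g t)) := by
    intro x hx
    rw [← hg, Submodule.mem_span_range_iff_exists_fun] at hx
    obtain ⟨c, rfl⟩ := hx
    rw [hat_sum]
    exact Submodule.sum_mem _ fun t _ => Submodule.smul_mem _ _ (Submodule.subset_span ⟨t, rfl⟩)
  have hspan : Submodule.span (FF K m) (Set.range fun t => hat (m := m) b (g t)) = ⊤ := by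
    rw [eq_top_iff, ← (Pi.basisFun (FF K m) ι).span_eq, Submodule.span_le]
    rintro _ ⟨i, rfl⟩
    have h1 := Submodule.span_subset_span (PA A m) (FF K m) _ (hhat (b i) (hbΛ i))
    have h2 : hat (m := m) b (b i) = Pi.basisFun (FF K m) ι i := by
      ext i'
      rw [Pi.basisFun_apply, hat, b.repr_self, Finsupp.single_apply, Pi.single_apply]
      split_ifs with h3 h4 h4
      · exact map_one _
      · exact absurd h3.symm h4
      · exact absurd h4.symm h3
      · exact map_zero _
    rw [← h2]
    exact h1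
  have hstab : ∀ t, Matrix.toLin' ((genMat b l).map (algebraMap (PA K m) (FF K m)))
      (hat (m := m) b (g t)) ∈
      Submodule.span (PA A m) (Set.range fun t => hat (m := m) b (g t)) := by
    intro t
    rw [Matrix.toLin'_apply, genMat_mulVec (A := A)]
    refine Submodule.sum_mem _ fun j _ => Submodule.smul_mem _ _ (hhat _ (hlΛ j _ ?_))
    rw [← hg]
    exact Submodule.subset_span ⟨t, rfl⟩
  have hint := DetNormal.isIntegral_det_of_lattice (R := PA A m)
    (Matrix.toLin' ((genMat b l).map (algebraMap (PA K m) (FF K m)))) r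
    (fun t => hat (m := m) b (g t)) hspan hstab
  rw [LinearMap.det_toLin', ← RingHom.mapMatrix_apply, ← RingHom.map_det] at hint
  obtain ⟨D₀, hD₀⟩ := IsIntegrallyClosed.isIntegral_iff.mp hint
  refine ⟨D₀, ?_⟩
  rw [IsScalarTower.algebraMap_apply (PA A m) (PA K m) (FF K m)] at hD₀
  have := IsFractionRing.injective (PA K m) (FF K m) hD₀
  rw [MvPolynomial.algebraMap_def] at this
  exact this

end Generic

section Regular

variable {S T : Type*} [CommRing S] [CommRing T] [Algebra S T] {ι : Type*} [Fintype ι]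
  [DecidableEq ι] (b : Module.Basis ι S T)

theorem mulVec_injective_iff (x : T) :
    Function.Injective (Algebra.leftMulMatrix b x).mulVec ↔ x ∈ nonZeroDivisors T := by
  rw [mem_nonZeroDivisors_iff_left]
  constructor
  · intro h y hy
    have h1 : (Algebra.leftMulMatrix b x).mulVec (b.repr y) =
        (Algebra.leftMulMatrix b x).mulVec 0 := by
      rw [Algebra.leftMulMatrix_mulVec_repr, hy, Matrix.mulVec_zero, map_zero]
      rfl
    have h2 := h h1
    have h3 : b.repr y = 0 := by
      ext i
      exact congrFun h2 i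
    exact b.repr.map_eq_zero_iff.mp h3
  · intro h u u' huu'
    have h0 : (Algebra.leftMulMatrix b x).mulVec (u - u') = 0 := by
      rw [Matrix.mulVec_sub, huu', sub_self]
    let y : T := b.equivFun.symm (u - u')
    have hy : (b.repr y : ι → S) = u - u' := by
      have := b.equivFun.apply_symm_apply (u - u')
      exact this
    rw [← hy, Algebra.leftMulMatrix_mulVec_repr] at h0
    have h3 : b.repr (x * y) = 0 := by
      ext i
      exact congrFun h0 i
    have h4 : y = 0 := h y (b.repr.map_eq_zero_iff.mp h3)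
    have h5 : u - u' = 0 := by rw [← hy, h4, map_zero]; rfl
    exact sub_eq_zero.mp h5

include b in
theorem mem_nonZeroDivisors_iff_norm (x : T) :
    x ∈ nonZeroDivisors T ↔ Algebra.norm S x ∈ nonZeroDivisors S := by
  classical
  rw [Algebra.norm_eq_matrix_det b, ← mulVec_injective_iff b]
  exact ⟨McCoy.det_mem_nonZeroDivisors_of_injective _,
    McCoy.injective_of_det_mem_nonZeroDivisors _⟩

end Regular

theorem exists_fin_repr {k M N : Type*} [CommSemiring k] [AddCommMonoid M] [AddCommMonoid N]
    [Module k M] [Module k N] (β : M ⊗[k] N) :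
    ∃ (m : ℕ) (x : Fin m → M) (y : Fin m → N), β = ∑ j, x j ⊗ₜ[k] y j := by
  induction β using TensorProduct.induction_on with
  | zero => exact ⟨0, Fin.elim0, Fin.elim0, by simp⟩
  | tmul a c => exact ⟨1, fun _ => a, fun _ => c, by simp⟩
  | add β1 β2 h1 h2 =>
    obtain ⟨m1, x1, y1, rfl⟩ := h1
    obtain ⟨m2, x2, y2, rfl⟩ := h2
    refine ⟨m1 + m2, Fin.append x1 x2, Fin.append y1 y2, ?_⟩
    rw [Fin.sum_univ_add]
    simp

section Main

variable {k A K L R : Type u} [Field k]
    [CommRing A] [IsDomain A] [IsIntegrallyClosed A] [Algebra k A]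
    [Field K] [Algebra A K] [IsFractionRing A K] [Algebra k K] [IsScalarTower k A K]
    [Field L] [Algebra K L] [FiniteDimensional K L] [Algebra A L] [IsScalarTower A K L]
    [Algebra k L] [IsScalarTower k K L] [IsScalarTower k A L]
    [CommRing R] [Algebra k R]

attribute [local instance] algKL

variable {ι : Type} [Fintype ι] [DecidableEq ι] (b : Module.Basis ι K L)

theorem leftMulMatrix_bS_tmul (l : L) (r : R) :
    Algebra.leftMulMatrix (bS (k := k) (R := R) b) (l ⊗ₜ r) =
      (Algebra.leftMulMatrix b l).map (fun x => x ⊗ₜ[k] r) := by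
  ext i i'
  rw [Algebra.leftMulMatrix_eq_repr_mul, bS_apply, Algebra.TensorProduct.tmul_mul_tmul, mul_one,
    bS_repr_tmul, Matrix.map_apply, Algebra.leftMulMatrix_eq_repr_mul]

variable {m : ℕ}

/-- evaluation `K[T] → K ⊗ R` -/
noncomputable def ev (r : Fin m → R) : MvPolynomial (Fin m) K →+* K ⊗[k] R :=
  MvPolynomial.eval₂Hom (Algebra.TensorProduct.includeLeftRingHom) (fun j => 1 ⊗ₜ r j)

/-- evaluation `A[T] → A ⊗ R` -/
noncomputable def evA (r : Fin m → R) : MvPolynomial (Fin m) A →+* A ⊗[k] R :=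
  MvPolynomial.eval₂Hom (Algebra.TensorProduct.includeLeftRingHom) (fun j => 1 ⊗ₜ r j)

theorem ev_map (r : Fin m → R) (D : MvPolynomial (Fin m) A) :
    ev (k := k) r (MvPolynomial.map (algebraMap A K) D) =
      Algebra.TensorProduct.map (IsScalarTower.toAlgHom k A K) (AlgHom.id k R) (evA r D) := by
  have : (ev (k := k) (K := K) r).comp (MvPolynomial.map (algebraMap A K)) =
      ((Algebra.TensorProduct.map (IsScalarTower.toAlgHom k A K) (AlgHom.id k R)).toRingHom).comp
        (evA r) := by
    refine MvPolynomial.ringHom_ext ?_ ?_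
    · intro a
      simp [ev, evA]
    · intro j
      simp [ev, evA]
  exact RingHom.congr_fun this D

theorem norm_eq_ev (l : Fin m → L) (r : Fin m → R) :
    Algebra.norm (K ⊗[k] R) (∑ j, l j ⊗ₜ[k] r j : L ⊗[k] R) = ev r (genMat b l).det := by
  rw [Algebra.norm_eq_matrix_det (bS b), map_sum, RingHom.map_det]
  congr 1
  rw [genMat, map_sum]
  refine Finset.sum_congr rfl fun j _ => ?_
  rw [leftMulMatrix_bS_tmul]
  ext i i'
  simp [ev]

variable (k A L R) in
/-- the inclusion of `B ⊗ R` into `L ⊗ R` -/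
noncomputable abbrev phi : ↥(integralClosure A L) ⊗[k] R →ₐ[k] L ⊗[k] R :=
  Algebra.TensorProduct.map ((integralClosure A L).val.restrictScalars k) (AlgHom.id k R)

theorem norm_mem_range (β : ↥(integralClosure A L) ⊗[k] R) :
    Algebra.norm (K ⊗[k] R) (phi k A L R β) ∈
      Set.range (Algebra.TensorProduct.map (IsScalarTower.toAlgHom k A K) (AlgHom.id k R)) := by
  classical
  let b := Module.finBasis K L
  obtain ⟨m, x, y, rfl⟩ := exists_fin_repr β
  have h1 : phi k A L R (∑ j, x j ⊗ₜ[k] y j) = ∑ j, ((x j : L) ⊗ₜ[k] y j : L ⊗[k] R) := by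
    rw [map_sum]
    refine Finset.sum_congr rfl fun j _ => ?_
    simp
  rw [h1, norm_eq_ev b]
  obtain ⟨D₀, hD₀⟩ := genDet_mem (A := A) b (fun j => (x j : L)) (fun j => (x j).2)
  rw [← hD₀, ev_map]
  exact ⟨_, rfl⟩

theorem phi_injective : Function.Injective (phi k A L R) := by
  have h := Module.Flat.rTensor_preserves_injective_linearMap (M := R)
    ((integralClosure A L).val.restrictScalars k).toLinearMap Subtype.val_injective
  intro x y hxy
  exact h hxy

include K in
omit [IsIntegrallyClosed A] [FiniteDimensional K L] in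
theorem algebraMap_ne_zero {a : A} (ha : a ≠ 0) : algebraMap A L a ≠ 0 := by
  rw [IsScalarTower.algebraMap_apply A K L]
  intro h
  have h1 := (map_eq_zero_iff _ (algebraMap K L).injective).mp h
  exact ha ((map_eq_zero_iff _ (IsFractionRing.injective A K)).mp h1)

include K in
theorem clear_denoms (y : L ⊗[k] R) :
    ∃ a : A, a ≠ 0 ∧ ∃ y' : ↥(integralClosure A L) ⊗[k] R,
      phi k A L R y' = (algebraMap A L a ⊗ₜ[k] (1 : R)) * y := by
  induction y using TensorProduct.induction_on with
  | zero => exact ⟨1, one_ne_zero, 0, by simp⟩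
  | tmul l r =>
    have halg : IsAlgebraic A l :=
      (IsFractionRing.isAlgebraic_iff A K L).mpr (Algebra.IsAlgebraic.isAlgebraic l)
    obtain ⟨a, ha, hint⟩ := halg.exists_integral_multiple
    refine ⟨a, ha, (⟨a • l, hint⟩ : ↥(integralClosure A L)) ⊗ₜ[k] r, ?_⟩
    rw [Algebra.TensorProduct.map_tmul, Algebra.TensorProduct.tmul_mul_tmul, one_mul]
    show (a • l) ⊗ₜ[k] r = _
    rw [Algebra.smul_def]
  | add y1 y2 h1 h2 =>
    obtain ⟨a1, ha1, y1', hy1⟩ := h1
    obtain ⟨a2, ha2, y2', hy2⟩ := h2
    refine ⟨a1 * a2, mul_ne_zero ha1 ha2,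
      (algebraMap A ↥(integralClosure A L) a2 ⊗ₜ[k] (1 : R)) * y1' +
        (algebraMap A ↥(integralClosure A L) a1 ⊗ₜ[k] (1 : R)) * y2', ?_⟩
    have e : ∀ a : A, phi k A L R (algebraMap A ↥(integralClosure A L) a ⊗ₜ[k] (1 : R)) =
        algebraMap A L a ⊗ₜ[k] (1 : R) := by
      intro a
      rw [Algebra.TensorProduct.map_tmul]
      rfl
    have e2 : (algebraMap A L (a1 * a2) ⊗ₜ[k] (1 : R) : L ⊗[k] R) =
        (algebraMap A L a1 ⊗ₜ[k] (1 : R)) * (algebraMap A L a2 ⊗ₜ[k] (1 : R)) := by
      rw [Algebra.TensorProduct.tmul_mul_tmul, map_mul, mul_one]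
    rw [map_add, map_mul, map_mul, e, e, hy1, hy2, e2]
    ring

include K in
theorem phi_mem_nonZeroDivisors_iff (β : ↥(integralClosure A L) ⊗[k] R) :
    phi k A L R β ∈ nonZeroDivisors (L ⊗[k] R) ↔
      β ∈ nonZeroDivisors (↥(integralClosure A L) ⊗[k] R) := by
  rw [mem_nonZeroDivisors_iff_left, mem_nonZeroDivisors_iff_left]
  constructor
  · intro h y' hy'
    have h1 : phi k A L R β * phi k A L R y' = 0 := by rw [← map_mul, hy', map_zero]
    have h2 := h _ h1
    exact phi_injective (by rw [h2, map_zero])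
  · intro h y hy
    obtain ⟨a, ha, y', hy'⟩ := clear_denoms (k := k) (A := A) (K := K) y
    have h1 : phi k A L R (β * y') = 0 := by
      rw [map_mul, hy', mul_left_comm, hy, mul_zero]
    have h2 : β * y' = 0 := phi_injective (by rw [h1, map_zero])
    have h3 : y' = 0 := h _ h2
    rw [h3, map_zero] at hy'
    have hne := algebraMap_ne_zero (K := K) (L := L) ha
    have h4 : ((algebraMap A L a)⁻¹ ⊗ₜ[k] (1 : R) : L ⊗[k] R) *
        ((algebraMap A L a ⊗ₜ[k] (1 : R)) * y) = y := by
      rw [← mul_assoc, Algebra.TensorProduct.tmul_mul_tmul, inv_mul_cancel₀ hne, mul_one,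
        ← Algebra.TensorProduct.one_def, one_mul]
    rw [← h4, ← hy', mul_zero]

/-- the statement of S17376 -/
theorem main :
    letI : Algebra (K ⊗[k] R) (L ⊗[k] R) :=
      (Algebra.TensorProduct.map (IsScalarTower.toAlgHom k K L) (AlgHom.id k R)).toRingHom.toAlgebra
    Module.Free (K ⊗[k] R) (L ⊗[k] R) ∧ Module.Finite (K ⊗[k] R) (L ⊗[k] R) ∧
      ∀ b : (integralClosure A L) ⊗[k] R,
        Algebra.norm (K ⊗[k] R)
            (Algebra.TensorProduct.map ((integralClosure A L).val.restrictScalars k) (AlgHom.id k R) b) ∈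
          Set.range (Algebra.TensorProduct.map (IsScalarTower.toAlgHom k A K) (AlgHom.id k R)) ∧
        (IsRegular b ↔ IsRegular (Algebra.norm (K ⊗[k] R)
            (Algebra.TensorProduct.map ((integralClosure A L).val.restrictScalars k) (AlgHom.id k R) b))) := by
  classical
  let b := Module.finBasis K L
  refine ⟨Module.Free.of_basis (bS (k := k) (R := R) b),
    Module.Finite.of_basis (bS (k := k) (R := R) b), fun β => ⟨norm_mem_range β, ?_⟩⟩
  rw [isRegular_iff_mem_nonZeroDivisors, isRegular_iff_mem_nonZeroDivisors,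
    ← mem_nonZeroDivisors_iff_norm (bS (k := k) (R := R) b)]
  exact (phi_mem_nonZeroDivisors_iff (K := K) β).symm

end Main

end Groth.Agent.Lib.Helper59.NormTensor
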