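import Groth.Agent.Lib.Helper59.NormBC
import Groth.Agent.Lib.Helper59.RingFamLaw

/-!
# Base change of universal normic pairs

Restriction (`resLaw`) and extension (`extLaw`) of polynomial laws along `R → Q`, and the proof
that the norm module (given by its universal property) commutes with base change (`main`).
-/

set_option autoImplicit false

namespace Groth.Agent.Lib.Helper59.NormicBC

open scoped TensorProduct
open PolLaw TensorProduct Groth.Agent.Lib.Helper59.NormBC

universe u

theorem postcomp_toFun' {R : Type u} [CommRing R] {M N E : Type u} [AddCommGroup M] [Module R M]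
    [AddCommGroup N] [Module R N] [AddCommGroup E] [Module R E] (g : N →ₗ[R] E) (F : M →ₚₗ[R] N)
    (S : Type u) [CommSemiring S] [Algebra R S] (z : S ⊗[R] M) :
    (PolLaw.postcomp g F).toFun' S z = g.lTensor S (F.toFun' S z) := by
  rw [PolLaw.postcomp, PolynomialLaw.comp_toFun']
  rfl

theorem precomp_toFun' {R : Type u} [CommRing R] {M N E : Type u} [AddCommGroup M] [Module R M]
    [AddCommGroup N] [Module R N] [AddCommGroup E] [Module R E] (F : N →ₚₗ[R] E) (g : M →ₗ[R] N)
    (S : Type u) [CommSemiring S] [Algebra R S] (x : S ⊗[R] M) :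
    (PolLaw.precomp F g).toFun' S x = F.toFun' S (g.lTensor S x) := rfl

section Kappa

variable {R : Type u} [CommRing R] (Q : Type u) [CommRing Q] [Algebra R Q]
  (S : Type u) [CommSemiring S] [Algebra R S]
  (Y : Type u) [AddCommGroup Y] [Module R Y] [Module Q Y] [IsScalarTower R Q Y]

/-- `(Q ⊗[R] S) ⊗[Q] Y ≃ S ⊗[R] Y`, `(q ⊗ s) ⊗ y ↦ s ⊗ q • y` -/
noncomputable def kappa : (Q ⊗[R] S) ⊗[Q] Y ≃ₗ[R] S ⊗[R] Y :=
  ((TensorProduct.comm Q (Q ⊗[R] S) Y).restrictScalars R).trans
    (((AlgebraTensorModule.cancelBaseChange R Q Q Y S).restrictScalars R).trans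
      (TensorProduct.comm R Y S))

theorem kappa_tmul (q : Q) (s : S) (y : Y) :
    kappa Q S Y ((q ⊗ₜ[R] s) ⊗ₜ[Q] y) = s ⊗ₜ[R] (q • y) := by
  simp [kappa]

theorem kappa_symm_tmul (s : S) (y : Y) :
    (kappa Q S Y).symm (s ⊗ₜ[R] y) = ((1 : Q) ⊗ₜ[R] s) ⊗ₜ[Q] y := by
  rw [LinearEquiv.symm_apply_eq, kappa_tmul, one_smul]

theorem kappa_smul (n : S) (z : (Q ⊗[R] S) ⊗[Q] Y) :
    kappa Q S Y (((1 : Q) ⊗ₜ[R] n) • z) = n • kappa Q S Y z := by
  induction z using TensorProduct.induction_on with
  | zero => simp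
  | tmul t y =>
    induction t using TensorProduct.induction_on with
    | zero => simp
    | tmul q s =>
      rw [TensorProduct.smul_tmul', smul_eq_mul, Algebra.TensorProduct.tmul_mul_tmul, one_mul,
        kappa_tmul, kappa_tmul, TensorProduct.smul_tmul', smul_eq_mul]
    | add a b ha hb =>
      rw [TensorProduct.add_tmul, smul_add, map_add, ha, hb, map_add, smul_add]
  | add a b ha hb => rw [smul_add, map_add, ha, hb, map_add, smul_add]

variable {S} {S' : Type u} [CommSemiring S'] [Algebra R S']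

theorem kappa_nat (φ : S →ₐ[R] S') (z : (Q ⊗[R] S) ⊗[Q] Y) :
    kappa Q S' Y ((Algebra.TensorProduct.map (AlgHom.id Q Q) φ).toLinearMap.rTensor Y z) =
      φ.toLinearMap.rTensor Y (kappa Q S Y z) := by
  induction z using TensorProduct.induction_on with
  | zero => simp
  | tmul t y =>
    induction t using TensorProduct.induction_on with
    | zero => simp
    | tmul q s =>
      rw [LinearMap.rTensor_tmul, AlgHom.toLinearMap_apply, Algebra.TensorProduct.map_tmul,
        kappa_tmul, kappa_tmul, LinearMap.rTensor_tmul]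
      rfl
    | add a b ha hb =>
      rw [TensorProduct.add_tmul, map_add, map_add, ha, hb, map_add, map_add]
  | add a b ha hb => rw [map_add, map_add, ha, hb, map_add, map_add]

theorem kappa_symm_nat (φ : S →ₐ[R] S') (w : S ⊗[R] Y) :
    (kappa Q S' Y).symm (φ.toLinearMap.rTensor Y w) =
      (Algebra.TensorProduct.map (AlgHom.id Q Q) φ).toLinearMap.rTensor Y
        ((kappa Q S Y).symm w) := by
  rw [LinearEquiv.symm_apply_eq, kappa_nat, LinearEquiv.apply_symm_apply]

variable {Y} {Y₂ : Type u} [AddCommGroup Y₂] [Module R Y₂] [Module Q Y₂] [IsScalarTower R Q Y₂]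

theorem kappa_lTensor (v : Y →ₗ[Q] Y₂) (z : (Q ⊗[R] S) ⊗[Q] Y) :
    kappa Q S Y₂ (v.lTensor (Q ⊗[R] S) z) = (v.restrictScalars R).lTensor S (kappa Q S Y z) := by
  induction z using TensorProduct.induction_on with
  | zero => simp
  | tmul t y =>
    induction t using TensorProduct.induction_on with
    | zero => simp
    | tmul q s =>
      rw [LinearMap.lTensor_tmul, kappa_tmul, kappa_tmul, LinearMap.lTensor_tmul,
        LinearMap.restrictScalars_apply, map_smul]
    | add a b ha hb =>
      rw [TensorProduct.add_tmul, map_add, map_add, ha, hb, map_add, map_add]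
  | add a b ha hb => rw [map_add, map_add, ha, hb, map_add, map_add]

end Kappa

section ResLaw

variable {R : Type u} [CommRing R] {Q : Type u} [CommRing Q] [Algebra R Q]
  {X Y₁ Y₂ : Type u} [AddCommGroup X] [Module R X]
  [AddCommGroup Y₁] [Module R Y₁] [Module Q Y₁] [IsScalarTower R Q Y₁]
  [AddCommGroup Y₂] [Module R Y₂] [Module Q Y₂] [IsScalarTower R Q Y₂]

/-- restriction of a `Q`-law along `R → Q`, precomposed with an `R`-linear map -/
noncomputable def resLaw (Λ : Y₁ →ₚₗ[Q] Y₂) (g : X →ₗ[R] Y₁) : X →ₚₗ[R] Y₂ where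
  toFun' S _ _ := fun x =>
    kappa Q S Y₂ (Λ.toFun' (Q ⊗[R] S) ((kappa Q S Y₁).symm (g.lTensor S x)))
  isCompat' {S} _ _ {S'} _ _ φ := by
    funext x
    simp only [Function.comp_apply]
    have h1 := congrFun (Λ.isCompat' (Algebra.TensorProduct.map (AlgHom.id Q Q) φ))
      ((kappa Q S Y₁).symm (g.lTensor S x))
    simp only [Function.comp_apply] at h1
    rw [← kappa_nat, h1, ← kappa_symm_nat]
    congr 3
    rw [← LinearMap.comp_apply, ← LinearMap.comp_apply, LinearMap.rTensor_comp_lTensor,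
      LinearMap.lTensor_comp_rTensor]

theorem resLaw_toFun' (Λ : Y₁ →ₚₗ[Q] Y₂) (g : X →ₗ[R] Y₁) (S : Type u) [CommSemiring S]
    [Algebra R S] (x : S ⊗[R] X) :
    (resLaw Λ g).toFun' S x =
      kappa Q S Y₂ (Λ.toFun' (Q ⊗[R] S) ((kappa Q S Y₁).symm (g.lTensor S x))) := rfl

end ResLaw

section ExtLaw

variable {R : Type u} [CommRing R] (Q : Type u) [CommRing Q] [Algebra R Q]
  {X Z : Type u} [AddCommGroup X] [Module R X] [AddCommGroup Z] [Module R Z]

section Mixed

variable (T : Type u) [CommSemiring T] [Algebra R T] [Algebra Q T] [IsScalarTower R Q T]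

/-- `T ⊗[Q] (Q ⊗[R] X) ≃ T ⊗[R] X` -/
noncomputable def cancM (X : Type u) [AddCommGroup X] [Module R X] :
    T ⊗[Q] (Q ⊗[R] X) ≃ₗ[T] T ⊗[R] X :=
  AlgebraTensorModule.cancelBaseChange R Q T T X

theorem cancM_tmul (t : T) (q : Q) (x : X) :
    cancM Q T X (t ⊗ₜ[Q] (q ⊗ₜ[R] x)) = (q • t) ⊗ₜ[R] x := by
  simp [cancM]

theorem cancM_symm_tmul (t : T) (x : X) :
    (cancM Q T X).symm (t ⊗ₜ[R] x) = t ⊗ₜ[Q] ((1 : Q) ⊗ₜ[R] x) := by
  simp [cancM]

/-- the mixed-form function of the extended law -/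
noncomputable def extFun (Φ : X →ₚₗ[R] Z) (y : T ⊗[Q] (Q ⊗[R] X)) : T ⊗[Q] (Q ⊗[R] Z) :=
  (cancM Q T Z).symm (Φ.toFun' T (cancM Q T X y))

end Mixed

section Nat

variable {T T' : Type u} [CommSemiring T] [Algebra R T] [Algebra Q T] [IsScalarTower R Q T]
  [CommSemiring T'] [Algebra R T'] [Algebra Q T'] [IsScalarTower R Q T']

theorem cancM_nat (ψ : T →ₐ[Q] T') (y : T ⊗[Q] (Q ⊗[R] X)) :
    cancM Q T' X (ψ.toLinearMap.rTensor (Q ⊗[R] X) y) =
      (ψ.restrictScalars R).toLinearMap.rTensor X (cancM Q T X y) := by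
  induction y using TensorProduct.induction_on with
  | zero => simp
  | tmul t z =>
    induction z using TensorProduct.induction_on with
    | zero => simp
    | tmul q x =>
      rw [LinearMap.rTensor_tmul, cancM_tmul, cancM_tmul, LinearMap.rTensor_tmul]
      simp
    | add a b ha hb =>
      rw [TensorProduct.tmul_add, map_add, map_add, ha, hb, map_add, map_add]
  | add a b ha hb => rw [map_add, map_add, ha, hb, map_add, map_add]

theorem cancM_symm_nat (ψ : T →ₐ[Q] T') (w : T ⊗[R] X) :
    (cancM Q T' X).symm ((ψ.restrictScalars R).toLinearMap.rTensor X w) =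
      ψ.toLinearMap.rTensor (Q ⊗[R] X) ((cancM Q T X).symm w) := by
  rw [LinearEquiv.symm_apply_eq, cancM_nat, LinearEquiv.apply_symm_apply]

theorem extFun_nat (Φ : X →ₚₗ[R] Z) (ψ : T →ₐ[Q] T') (y : T ⊗[Q] (Q ⊗[R] X)) :
    ψ.toLinearMap.rTensor (Q ⊗[R] Z) (extFun Q T Φ y) =
      extFun Q T' Φ (ψ.toLinearMap.rTensor (Q ⊗[R] X) y) := by
  unfold extFun
  rw [← cancM_symm_nat, cancM_nat]
  congr 1
  have h := congrFun (Φ.isCompat' (ψ.restrictScalars R)) (cancM Q T X y)
  simp only [Function.comp_apply] at h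
  exact h

end Nat

/-- extension of an `R`-law to a `Q`-law `Q ⊗ X → Q ⊗ Z` -/
noncomputable def extLaw (Φ : X →ₚₗ[R] Z) : (Q ⊗[R] X) →ₚₗ[Q] (Q ⊗[R] Z) where
  toFun' T _ _ :=
    let _ : Algebra R T := Algebra.compHom T (algebraMap R Q)
    have : IsScalarTower R Q T := IsScalarTower.of_algebraMap_eq (fun _ => rfl)
    extFun Q T Φ
  isCompat' {T} _ _ {T'} _ _ ψ := by
    let _ : Algebra R T := Algebra.compHom T (algebraMap R Q)
    have : IsScalarTower R Q T := IsScalarTower.of_algebraMap_eq (fun _ => rfl)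
    let _ : Algebra R T' := Algebra.compHom T' (algebraMap R Q)
    have : IsScalarTower R Q T' := IsScalarTower.of_algebraMap_eq (fun _ => rfl)
    funext y
    exact extFun_nat Q Φ ψ y

theorem extLaw_toFun' (Φ : X →ₚₗ[R] Z) (T : Type u) [CommSemiring T] [iR : Algebra R T]
    [Algebra Q T] [iT : IsScalarTower R Q T] (y : T ⊗[Q] (Q ⊗[R] X)) :
    (extLaw Q Φ).toFun' T y = extFun Q T Φ y := by
  have h : iR = Algebra.compHom T (algebraMap R Q) := by
    refine Algebra.algebra_ext _ _ fun a => ?_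
    exact IsScalarTower.algebraMap_apply R Q T a
  subst h
  rfl

end ExtLaw

section Main

variable {R R' Q Q' : Type u} [CommRing R] [CommRing R'] [Algebra R R']
    [CommRing Q] [Algebra R Q] [CommRing Q'] [Algebra R Q'] [Algebra Q Q'] [Algebra R' Q']
    [IsScalarTower R Q Q'] [IsScalarTower R R' Q'] [Algebra.IsPushout R R' Q Q']
    {M' : Type u} [AddCommGroup M'] [Module R M'] [Module R' M'] [IsScalarTower R R' M']
    {M'' : Type u} [AddCommGroup M''] [Module R M''] [Module R' M''] [Module Q M'']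
    [Module Q' M''] [IsScalarTower R R' M''] [IsScalarTower R Q M''] [IsScalarTower R' Q' M'']
    [IsScalarTower Q Q' M'']
    (f : M' →ₗ[R'] M'')

/-- the action is compatible with `bcAlong` -/
theorem act_bc (P : Type u) [CommRing P] [Algebra R P] [Algebra Q P] [IsScalarTower R Q P]
    (x : P ⊗[R] R') (m : P ⊗[R] M') :
    PolLaw.actEnd M'' P (PolLaw.bcAlong (Q := Q) (IsScalarTower.toAlgHom R R' Q').toLinearMap P x)
        (PolLaw.bcAlong (f.restrictScalars R) P m) =
      PolLaw.bcAlong (f.restrictScalars R) P (PolLaw.actEnd M' P x m) := by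
  induction x using TensorProduct.induction_on with
  | zero => simp
  | tmul p r' =>
    induction m using TensorProduct.induction_on with
    | zero => simp
    | tmul p' m₀ =>
      rw [bcAlong_tmul, bcAlong_tmul, actEnd_tmul_tmul, actEnd_tmul_tmul, bcAlong_tmul]
      congr 1
      simp
    | add a b ha hb => simp only [map_add, ha, hb]
  | add a b ha hb => simp only [map_add, LinearMap.add_apply, ha, hb]

/-- the action is compatible with `kappa` -/
theorem act_kappa (P : Type u) [CommRing P] [Algebra R P] (x : P ⊗[R] R') (m : P ⊗[R] M') :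
    (kappa Q P M'').symm ((f.restrictScalars R).lTensor P (PolLaw.actEnd M' P x m)) =
      PolLaw.actEnd M'' (Q ⊗[R] P)
        ((kappa Q P Q').symm ((IsScalarTower.toAlgHom R R' Q').toLinearMap.lTensor P x))
        ((kappa Q P M'').symm ((f.restrictScalars R).lTensor P m)) := by
  induction x using TensorProduct.induction_on with
  | zero => simp
  | tmul p r' =>
    induction m using TensorProduct.induction_on with
    | zero => simp
    | tmul p' m₀ =>
      rw [actEnd_tmul_tmul, LinearMap.lTensor_tmul, LinearMap.lTensor_tmul, LinearMap.lTensor_tmul,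
        kappa_symm_tmul, kappa_symm_tmul, kappa_symm_tmul, actEnd_tmul_tmul,
        Algebra.TensorProduct.tmul_mul_tmul, one_mul]
      congr 1
      simp
    | add a b ha hb => simp only [map_add, ha, hb]
  | add a b ha hb => simp only [map_add, LinearMap.add_apply, ha, hb]

theorem rho_eq (P : Type u) [CommRing P] [Algebra R P] (x : P ⊗[R] R') :
    (kappa Q P Q').symm ((IsScalarTower.toAlgHom R R' Q').toLinearMap.lTensor P x) =
      PolLaw.bcAlong (Q := Q) (IsScalarTower.toAlgHom R R' Q').toLinearMap (Q ⊗[R] P)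
        ((Algebra.TensorProduct.includeRight : P →ₐ[R] Q ⊗[R] P).toLinearMap.rTensor R' x) := by
  induction x using TensorProduct.induction_on with
  | zero => simp
  | tmul p r' =>
    rw [LinearMap.lTensor_tmul, kappa_symm_tmul, LinearMap.rTensor_tmul, bcAlong_tmul]
    rfl
  | add a b ha hb => simp only [map_add, ha, hb]

variable {N'' : Type u} [AddCommGroup N''] [Module R N''] [Module Q N''] [IsScalarTower R Q N'']

/-- the restriction of a normic law is normic -/
theorem resLaw_normic [Module.Free R R'] [Module.Finite R R'] (ν'' : M'' →ₚₗ[Q] N'')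
    (hν'' : PolLaw.IsNormic Q' ν'') :
    PolLaw.IsNormic R' (resLaw ν'' (f.restrictScalars R)) := by
  intro P _ _ x m
  rw [resLaw_toFun', resLaw_toFun', act_kappa (Q := Q) (Q' := Q') f P x m, hν'' (Q ⊗[R] P),
    rho_eq (Q := Q) (Q' := Q') P x, norm_bcAlong (Q := Q) (Q' := Q'), norm_includeRight, kappa_smul]

end Main

section BC

variable {R : Type u} [CommRing R] {Q : Type u} [CommRing Q] [Algebra R Q]
  {X : Type u} [AddCommGroup X] [Module R X]
  {Y : Type u} [AddCommGroup Y] [Module R Y] [Module Q Y] [IsScalarTower R Q Y]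
  (P : Type u) [CommRing P] [Algebra R P] [Algebra Q P] [IsScalarTower R Q P]

theorem bcAlong_lTensor {X₀ : Type u} [AddCommGroup X₀] [Module R X₀] (u : X₀ →ₗ[R] X)
    (g : X →ₗ[R] Y) (w : P ⊗[R] X₀) :
    PolLaw.bcAlong (Q := Q) g P (u.lTensor P w) = PolLaw.bcAlong (Q := Q) (g ∘ₗ u) P w := by
  induction w using TensorProduct.induction_on with
  | zero => simp
  | tmul p x => rw [LinearMap.lTensor_tmul, bcAlong_tmul, bcAlong_tmul]; rfl
  | add a b ha hb => simp only [map_add, ha, hb]

/-- the multiplication map `Q ⊗[R] P → P` -/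
noncomputable def mult : Q ⊗[R] P →ₐ[Q] P :=
  Algebra.TensorProduct.lift (Algebra.ofId Q P) (AlgHom.id R P) (fun _ _ => Commute.all _ _)

theorem mult_tmul (q : Q) (p : P) : mult (R := R) (Q := Q) P (q ⊗ₜ[R] p) = q • p := by
  simp [mult, Algebra.smul_def]

theorem pi_kappa (z : (Q ⊗[R] P) ⊗[Q] Y) :
    PolLaw.bcAlong (Q := Q) (LinearMap.id : Y →ₗ[R] Y) P (kappa Q P Y z) =
      (mult (R := R) (Q := Q) P).toLinearMap.rTensor Y z := by
  induction z using TensorProduct.induction_on with
  | zero => simp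
  | tmul t y =>
    induction t using TensorProduct.induction_on with
    | zero => simp
    | tmul q p =>
      rw [kappa_tmul, bcAlong_tmul, LinearMap.rTensor_tmul, AlgHom.toLinearMap_apply, mult_tmul,
        LinearMap.id_apply, TensorProduct.smul_tmul]
    | add a b ha hb =>
      rw [TensorProduct.add_tmul, map_add, map_add, ha, hb, map_add]
  | add a b ha hb => rw [map_add, map_add, ha, hb, map_add]

theorem mult_kappa_symm (g : X →ₗ[R] Y) (m : P ⊗[R] X) :
    (mult (R := R) (Q := Q) P).toLinearMap.rTensor Y ((kappa Q P Y).symm (g.lTensor P m)) =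
      PolLaw.bcAlong (Q := Q) g P m := by
  induction m using TensorProduct.induction_on with
  | zero => simp
  | tmul p x =>
    rw [LinearMap.lTensor_tmul, kappa_symm_tmul, LinearMap.rTensor_tmul, AlgHom.toLinearMap_apply,
      mult_tmul, one_smul, bcAlong_tmul]
  | add a b ha hb => simp only [map_add, ha, hb]

variable {Y₂ : Type u} [AddCommGroup Y₂] [Module R Y₂] [Module Q Y₂] [IsScalarTower R Q Y₂]
  {N : Type u} [AddCommGroup N] [Module R N]

/-- Step B: compatibility of the comparison map with the laws -/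
theorem compat_of_postcomp (g : X →ₗ[R] Y) (ν : X →ₚₗ[R] N) (ν'' : Y →ₚₗ[Q] Y₂) (u : N →ₗ[R] Y₂)
    (hu : PolLaw.postcomp u ν = resLaw ν'' g) (m : P ⊗[R] X) :
    ν''.toFun' P (PolLaw.bcAlong (Q := Q) g P m) =
      PolLaw.bcAlong (Q := Q) u P (ν.toFun' P m) := by
  have h1 : u.lTensor P (ν.toFun' P m) = (resLaw ν'' g).toFun' P m := by
    rw [← postcomp_toFun', hu]
  have h2 : PolLaw.bcAlong (Q := Q) u P (ν.toFun' P m) =
      PolLaw.bcAlong (Q := Q) (LinearMap.id : Y₂ →ₗ[R] Y₂) P (u.lTensor P (ν.toFun' P m)) := by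
    rw [bcAlong_lTensor]
    rfl
  rw [h2, h1, resLaw_toFun', pi_kappa (Q := Q)]
  have h3 := congrFun (ν''.isCompat' (mult (R := R) (Q := Q) P))
    ((kappa Q P Y).symm (g.lTensor P m))
  simp only [Function.comp_apply] at h3
  rw [h3, mult_kappa_symm]

end BC

section StepC

variable {R : Type u} [CommRing R] {Q : Type u} [CommRing Q] [Algebra R Q]
  {X : Type u} [AddCommGroup X] [Module R X]
  (P : Type u) [CommRing P] [Algebra R P] [Algebra Q P] [IsScalarTower R Q P]

theorem cancM_symm_eq (w : P ⊗[R] X) :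
    (cancM Q P X).symm w = PolLaw.bcAlong (Q := Q) (TensorProduct.mk R Q X 1) P w := by
  induction w using TensorProduct.induction_on with
  | zero => simp
  | tmul p x => rw [cancM_symm_tmul, bcAlong_tmul]; rfl
  | add a b ha hb => simp only [map_add, ha, hb]

theorem cancM_bc (m : P ⊗[R] X) :
    cancM Q P X (PolLaw.bcAlong (Q := Q) (TensorProduct.mk R Q X 1) P m) = m := by
  rw [← cancM_symm_eq, LinearEquiv.apply_symm_apply]

variable {Y : Type u} [AddCommGroup Y] [Module R Y] [Module Q Y] [IsScalarTower R Q Y]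
  (g : X →ₗ[R] Y) (hg : IsBaseChange Q g)
  {N : Type u} [AddCommGroup N] [Module R N] (ν : X →ₚₗ[R] N)

/-- the extension of `ν` to `Q`, transported to `Y ≃ Q ⊗ X` -/
noncomputable def lam : Y →ₚₗ[Q] Q ⊗[R] N :=
  PolLaw.precomp (extLaw Q ν) hg.equiv.symm.toLinearMap

theorem equiv_symm_bc (m : P ⊗[R] X) :
    hg.equiv.symm.toLinearMap.lTensor P (PolLaw.bcAlong (Q := Q) g P m) =
      PolLaw.bcAlong (Q := Q) (TensorProduct.mk R Q X 1) P m := by
  have hcomp : (hg.equiv.symm.toLinearMap.restrictScalars R) ∘ₗ g = TensorProduct.mk R Q X 1 :=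
    LinearMap.ext fun x => hg.equiv_symm_apply x
  rw [lTensor_bcAlong, hcomp]

theorem lam_bc (m : P ⊗[R] X) :
    (lam g hg ν).toFun' P (PolLaw.bcAlong (Q := Q) g P m) =
      PolLaw.bcAlong (Q := Q) (TensorProduct.mk R Q N 1) P (ν.toFun' P m) := by
  unfold lam
  rw [precomp_toFun', extLaw_toFun', equiv_symm_bc]
  unfold extFun
  rw [cancM_bc, cancM_symm_eq]

include hg in
theorem exists_bc (y : P ⊗[Q] Y) : ∃ m : P ⊗[R] X, PolLaw.bcAlong (Q := Q) g P m = y := by
  refine ⟨cancM Q P X (hg.equiv.symm.toLinearMap.lTensor P y), ?_⟩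
  have hinj : Function.Injective (hg.equiv.symm.toLinearMap.lTensor P) :=
    (LinearEquiv.lTensor P hg.equiv.symm).injective
  apply hinj
  rw [equiv_symm_bc, ← cancM_symm_eq, LinearEquiv.symm_apply_apply]

end StepC

section Final

variable {R R' Q Q' : Type u} [CommRing R] [CommRing R'] [Algebra R R']
    [CommRing Q] [Algebra R Q] [CommRing Q'] [Algebra R Q'] [Algebra Q Q'] [Algebra R' Q']
    [IsScalarTower R Q Q'] [IsScalarTower R R' Q'] [Algebra.IsPushout R R' Q Q']
    {M' : Type u} [AddCommGroup M'] [Module R M'] [Module R' M'] [IsScalarTower R R' M']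
    {M'' : Type u} [AddCommGroup M''] [Module R M''] [Module R' M''] [Module Q M'']
    [Module Q' M''] [IsScalarTower R R' M''] [IsScalarTower R Q M''] [IsScalarTower R' Q' M'']
    [IsScalarTower Q Q' M'']
    (f : M' →ₗ[R'] M'')

theorem isBaseChange_restrict (hf : IsBaseChange Q' f) :
    IsBaseChange Q (f.restrictScalars R) := by
  have hp : Algebra.IsPushout R Q R' Q' := Algebra.IsPushout.symm inferInstance
  let e : Q ⊗[R] M' ≃ₗ[Q] M'' :=
    (Algebra.IsPushout.cancelBaseChange R Q R' Q' M').symm ≪≫ₗ (hf.equiv.restrictScalars Q)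
  refine IsBaseChange.of_equiv e (fun x => ?_)
  show hf.equiv ((Algebra.IsPushout.cancelBaseChange R Q R' Q' M').symm (1 ⊗ₜ x)) = f x
  rw [Algebra.IsPushout.cancelBaseChange_symm_tmul, map_one, hf.equiv_tmul, one_smul]

variable {N : Type u} [AddCommGroup N] [Module R N]

theorem lam_normic (ν : M' →ₚₗ[R] N) (hν : PolLaw.IsNormic R' ν)
    (hfR : IsBaseChange Q (f.restrictScalars R)) :
    PolLaw.IsNormic Q' (lam (f.restrictScalars R) hfR ν) := by
  intro P _ _ x'' y
  let _ : Algebra R P := Algebra.compHom P (algebraMap R Q)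
  have : IsScalarTower R Q P := IsScalarTower.of_algebraMap_eq (fun _ => rfl)
  obtain ⟨m, rfl⟩ := exists_bc P (f.restrictScalars R) hfR y
  obtain ⟨x, rfl⟩ : ∃ x : P ⊗[R] R',
      PolLaw.bcAlong (Q := Q) (IsScalarTower.toAlgHom R R' Q').toLinearMap P x = x'' :=
    ⟨(eP (Q := Q) (Q' := Q') P).symm x'', by rw [← eP_apply, AlgEquiv.apply_symm_apply]⟩
  rw [act_bc, lam_bc, lam_bc, hν P, norm_bcAlong (Q := Q) (Q' := Q'), ← cancM_symm_eq,
    ← cancM_symm_eq, map_smul]

theorem postcomp_normic {E : Type u} [AddCommGroup E] [Module R E] (φ : N →ₗ[R] E)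
    (ν : M' →ₚₗ[R] N) (hν : PolLaw.IsNormic R' ν) : PolLaw.IsNormic R' (PolLaw.postcomp φ ν) := by
  intro P _ _ x m
  rw [postcomp_toFun', postcomp_toFun', hν P]
  generalize ν.toFun' P m = z
  generalize Algebra.norm P x = a
  induction z using TensorProduct.induction_on with
  | zero => simp
  | tmul p n => rw [TensorProduct.smul_tmul', LinearMap.lTensor_tmul, LinearMap.lTensor_tmul,
      TensorProduct.smul_tmul']
  | add z₁ z₂ h₁ h₂ => rw [smul_add, map_add, h₁, h₂, map_add, smul_add]

theorem kappa_symm_eq_bc {X Y : Type u} [AddCommGroup X] [Module R X] [AddCommGroup Y] [Module R Y]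
    [Module Q Y] [IsScalarTower R Q Y] (g : X →ₗ[R] Y) (S : Type u) [CommRing S] [Algebra R S]
    (m : S ⊗[R] X) :
    (kappa Q S Y).symm (g.lTensor S m) =
      PolLaw.bcAlong (Q := Q) g (Q ⊗[R] S)
        ((Algebra.TensorProduct.includeRight : S →ₐ[R] Q ⊗[R] S).toLinearMap.rTensor X m) := by
  induction m using TensorProduct.induction_on with
  | zero => simp
  | tmul p x =>
    rw [LinearMap.lTensor_tmul, kappa_symm_tmul, LinearMap.rTensor_tmul, bcAlong_tmul]
    rfl
  | add a b ha hb => simp only [map_add, ha, hb]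

theorem kappa_bc_mk (S : Type u) [CommRing S] [Algebra R S] (w : S ⊗[R] N) :
    kappa Q S (Q ⊗[R] N) (PolLaw.bcAlong (Q := Q) (TensorProduct.mk R Q N 1) (Q ⊗[R] S)
      ((Algebra.TensorProduct.includeRight : S →ₐ[R] Q ⊗[R] S).toLinearMap.rTensor N w)) =
      (TensorProduct.mk R Q N 1).lTensor S w := by
  induction w using TensorProduct.induction_on with
  | zero => simp
  | tmul s n =>
    rw [LinearMap.rTensor_tmul, bcAlong_tmul, LinearMap.lTensor_tmul, AlgHom.toLinearMap_apply,
      Algebra.TensorProduct.includeRight_apply, kappa_tmul, one_smul]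
  | add a b ha hb => simp only [map_add, ha, hb]

set_option maxHeartbeats 800000 in
theorem main [Module.Free R R'] [Module.Finite R R'] (hf : IsBaseChange Q' f)
    (ν : M' →ₚₗ[R] N) (hν : PolLaw.IsUnivNormic R' ν)
    {N'' : Type u} [AddCommGroup N''] [Module R N''] [Module Q N''] [IsScalarTower R Q N'']
    (ν'' : M'' →ₚₗ[Q] N'') (hν'' : PolLaw.IsUnivNormic Q' ν'') :
    ∃ u : N →ₗ[R] N'',
      (∀ (P : Type u) [CommRing P] [Algebra R P] [Algebra Q P] [IsScalarTower R Q P]
          (m : P ⊗[R] M'),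
          ν''.toFun' P (PolLaw.bcAlong (f.restrictScalars R) P m) =
            PolLaw.bcAlong u P (ν.toFun' P m)) ∧
      IsBaseChange Q u := by
  have hfR := isBaseChange_restrict (R := R) (Q := Q) f hf
  obtain ⟨u, hu, -⟩ := hν.2 N'' (resLaw ν'' (f.restrictScalars R)) (resLaw_normic f ν'' hν''.1)
  have hu' : PolLaw.postcomp u ν = resLaw ν'' (f.restrictScalars R) := hu
  have hB : ∀ (P : Type u) [CommRing P] [Algebra R P] [Algebra Q P] [IsScalarTower R Q P]
      (m : P ⊗[R] M'),
      ν''.toFun' P (PolLaw.bcAlong (f.restrictScalars R) P m) =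
        PolLaw.bcAlong u P (ν.toFun' P m) :=
    fun P _ _ _ _ m => compat_of_postcomp P (f.restrictScalars R) ν ν'' u hu' m
  refine ⟨u, hB, ?_⟩
  obtain ⟨v, hv, -⟩ := hν''.2 (Q ⊗[R] N) (lam (f.restrictScalars R) hfR ν)
    (lam_normic f ν hν.1 hfR)
  have hv' : PolLaw.postcomp v ν'' = lam (f.restrictScalars R) hfR ν := hv
  let ut : Q ⊗[R] N →ₗ[Q] N'' := u.liftBaseChange Q
  have hut : ∀ (q : Q) (n : N), ut (q ⊗ₜ n) = q • u n := fun q n => by
    simp [ut]
  have h1 : ut ∘ₗ v = LinearMap.id := by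
    obtain ⟨φ, -, huniq⟩ := hν''.2 N'' ν'' hν''.1
    have e1 : ut ∘ₗ v = φ := by
      apply huniq
      apply Groth.Agent.Lib.Helper59.RingFamLaw.ext_of_rings
      intro T _ _ y
      let _ : Algebra R T := Algebra.compHom T (algebraMap R Q)
      have : IsScalarTower R Q T := IsScalarTower.of_algebraMap_eq (fun _ => rfl)
      obtain ⟨m, rfl⟩ := exists_bc T (f.restrictScalars R) hfR y
      have hcomp : (ut.restrictScalars R) ∘ₗ (TensorProduct.mk R Q N 1) = u :=
        LinearMap.ext fun n => by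
          rw [LinearMap.comp_apply, LinearMap.restrictScalars_apply, TensorProduct.mk_apply, hut,
            one_smul]
      rw [postcomp_toFun', LinearMap.lTensor_comp, LinearMap.comp_apply, ← postcomp_toFun' v, hv',
        lam_bc, lTensor_bcAlong, hB T m, hcomp]
    have e2 : LinearMap.id = φ := by
      apply huniq
      apply PolynomialLaw.ext
      funext T _ _ y
      rw [postcomp_toFun']
      simp
    rw [e1, e2]
  have key : (v.restrictScalars R) ∘ₗ u = TensorProduct.mk R Q N 1 := by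
    obtain ⟨φ, -, huniq⟩ := hν.2 (Q ⊗[R] N) (PolLaw.postcomp (TensorProduct.mk R Q N 1) ν)
      (postcomp_normic _ ν hν.1)
    have e1 : (v.restrictScalars R) ∘ₗ u = φ := by
      apply huniq
      apply Groth.Agent.Lib.Helper59.RingFamLaw.ext_of_rings
      intro S _ _ m
      rw [postcomp_toFun', postcomp_toFun', LinearMap.lTensor_comp, LinearMap.comp_apply,
        ← postcomp_toFun' u, hu', resLaw_toFun', ← kappa_lTensor, ← postcomp_toFun' v, hv',
        kappa_symm_eq_bc, lam_bc]
      have h3 := congrFun (ν.isCompat'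
        (Algebra.TensorProduct.includeRight : S →ₐ[R] Q ⊗[R] S)) m
      simp only [Function.comp_apply] at h3
      rw [← h3, kappa_bc_mk]
    have e2 : TensorProduct.mk R Q N 1 = φ := huniq _ rfl
    rw [e1, e2]
  have h2 : v ∘ₗ ut = LinearMap.id := by
    apply TensorProduct.AlgebraTensorModule.ext
    intro q n
    rw [LinearMap.comp_apply, hut, map_smul, LinearMap.id_apply]
    have h4 := LinearMap.congr_fun key n
    rw [LinearMap.comp_apply, LinearMap.restrictScalars_apply] at h4
    rw [h4, TensorProduct.mk_apply, TensorProduct.smul_tmul', smul_eq_mul, mul_one]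
  refine IsBaseChange.of_equiv (LinearEquiv.ofLinear ut v h1 h2) (fun n => ?_)
  show ut (1 ⊗ₜ n) = u n
  rw [hut, one_smul]

end Final

end Groth.Agent.Lib.Helper59.NormicBC
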