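import Mathlib

/-!
# An open map of prime spectra satisfies going down
-/

set_option autoImplicit false

namespace Groth.Agent.Lib.Helper59.OpenGoingDown

variable {R S : Type*} [CommRing R] [CommRing S] [Algebra R S]

theorem hasGoingDown_of_isOpenMap
    (h : IsOpenMap (PrimeSpectrum.comap (algebraMap R S))) : Algebra.HasGoingDown R S := by
  refine ⟨fun {p} hp Q hQ hlt => ?_⟩
  let M : Submonoid S := Q.primeCompl ⊔ (p.primeCompl.map (algebraMap R S : R →* S))
  have hdisj : Disjoint ((p.map (algebraMap R S) : Ideal S) : Set S) (M : Set S) := by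
    rw [Set.disjoint_left]
    intro x hxI hxM
    obtain ⟨g, hg, z, hz, rfl⟩ := Submonoid.mem_sup.mp hxM
    obtain ⟨r, hr, rfl⟩ := Submonoid.mem_map.mp hz
    have hopen : IsOpen (PrimeSpectrum.comap (algebraMap R S) ''
        (PrimeSpectrum.basicOpen g : Set (PrimeSpectrum S))) :=
      h _ (PrimeSpectrum.basicOpen g).isOpen
    have hq : PrimeSpectrum.comap (algebraMap R S) ⟨Q, hQ⟩ ∈
        PrimeSpectrum.comap (algebraMap R S) ''
          (PrimeSpectrum.basicOpen g : Set (PrimeSpectrum S)) :=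
      ⟨⟨Q, hQ⟩, hg, rfl⟩
    have hspec : (⟨p, hp⟩ : PrimeSpectrum R) ⤳
        PrimeSpectrum.comap (algebraMap R S) ⟨Q, hQ⟩ :=
      (PrimeSpectrum.le_iff_specializes _ _).mp hlt.le
    obtain ⟨Q₁, hQ₁g, hQ₁p⟩ := hspec.mem_open hopen hq
    have hp1 : p = Q₁.asIdeal.comap (algebraMap R S) := by
      have := congrArg PrimeSpectrum.asIdeal hQ₁p
      exact this.symm
    have hle : p.map (algebraMap R S) ≤ Q₁.asIdeal := by
      rw [Ideal.map_le_iff_le_comap, ← hp1]
    rcases Q₁.isPrime.mem_or_mem (hle hxI) with h1 | h1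
    · exact hQ₁g h1
    · apply hr
      rw [hp1]
      exact h1
  obtain ⟨P, hPp, hIP, hPM⟩ := Ideal.exists_le_prime_disjoint (p.map (algebraMap R S)) M hdisj
  refine ⟨P, ?_, hPp, ⟨?_⟩⟩
  · intro x hx
    by_contra hxQ
    have : x ∈ M := Submonoid.mem_sup_left (show x ∈ Q.primeCompl from hxQ)
    exact Set.disjoint_left.mp hPM hx this
  · apply le_antisymm
    · exact Ideal.map_le_iff_le_comap.mp hIP
    · intro r hr
      by_contra hrp
      have : algebraMap R S r ∈ M :=
        Submonoid.mem_sup_right (Submonoid.mem_map.mpr ⟨r, hrp, rfl⟩)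
      exact Set.disjoint_left.mp hPM hr this

theorem generalizingMap_of_isOpenMap
    (h : IsOpenMap (PrimeSpectrum.comap (algebraMap R S))) :
    GeneralizingMap (PrimeSpectrum.comap (algebraMap R S)) :=
  Algebra.HasGoingDown.iff_generalizingMap_primeSpectrumComap.mp (hasGoingDown_of_isOpenMap h)

end Groth.Agent.Lib.Helper59.OpenGoingDown
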