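import Groth.Agent.Lib.Helper59.GammaFin

/-!
# Polarization of a polynomial law

For a polynomial law `F : B → C` over `A`, a finite index type `ι` and a test ring `S`, the full
polarization `polS F ι S : (ι → S ⊗ B) → S ⊗ C` is the coefficient of `∏ X i` in
`F (∑ X i • z i)`, computed over `MvPolynomial ι S`.  It is `S`-multilinear (`polM`), natural in
`S` (`polS_map`), and for `F` homogeneous of degree `card ι` its diagonal is `(card ι)! • F`
(`polS_diag`).
-/

set_option autoImplicit false

namespace Groth.Agent.Lib.Helper59.Polar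

open scoped TensorProduct
open PolLaw Groth.Agent.Lib.Helper59.KerPoly Groth.Agent.Lib.Helper59.LawReduced
  Groth.Agent.Lib.Helper59.CHCore Groth.Agent.Lib.Helper59.GammaGen

universe u

section Coeff

variable {S : Type u} [CommRing S]

/-- the exponent `(1, …, 1)` -/
noncomputable def one (ι : Type) [Fintype ι] : ι →₀ ℕ := ∑ i : ι, Finsupp.single i 1

theorem one_apply {ι : Type} [Fintype ι] [DecidableEq ι] (i : ι) : one ι i = 1 := by
  rw [one, Finsupp.finsetSum_apply]
  simp [Finsupp.single_apply]

/-- monomial substitutions -/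
theorem aeval_monomial_subst {ι ι' : Type} (f : ι' → ι) (r : ι' → S) (α : ι' →₀ ℕ) :
    MvPolynomial.aeval (fun o => MvPolynomial.C (r o) * (MvPolynomial.X (f o) : MvPolynomial ι S))
        (MvPolynomial.monomial α (1 : S)) =
      MvPolynomial.monomial (α.mapDomain f) (α.prod fun o k => r o ^ k) := by
  rw [MvPolynomial.aeval_monomial, map_one, one_mul]
  have h1 : (α.prod fun o k =>
      (MvPolynomial.C (r o) * (MvPolynomial.X (f o) : MvPolynomial ι S)) ^ k) =
      (α.prod fun o k => (MvPolynomial.C (r o ^ k) : MvPolynomial ι S)) *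
        (α.prod fun o k => (MvPolynomial.X (f o) : MvPolynomial ι S) ^ k) := by
    rw [← Finsupp.prod_mul]
    refine Finsupp.prod_congr fun o _ => ?_
    rw [mul_pow, map_pow]
  have h2 : (α.prod fun o k => (MvPolynomial.X (f o) : MvPolynomial ι S) ^ k) =
      MvPolynomial.monomial (α.mapDomain f) 1 := by
    rw [← MvPolynomial.rename_monomial, MvPolynomial.monomial_eq, map_one, one_mul,
      map_finsuppProd]
    refine Finsupp.prod_congr fun o _ => ?_
    rw [map_pow, MvPolynomial.rename_X]
  have h3 : (α.prod fun o k => (MvPolynomial.C (r o ^ k) : MvPolynomial ι S)) =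
      MvPolynomial.C (α.prod fun o k => r o ^ k) := by
    rw [map_finsuppProd]
  rw [h1, h2, h3, MvPolynomial.C_mul_monomial, mul_one]

theorem coeff_subst {ι ι' : Type} [DecidableEq ι] (f : ι' → ι) (r : ι' → S) (α : ι' →₀ ℕ)
    (β : ι →₀ ℕ) :
    MvPolynomial.coeff β (MvPolynomial.aeval
        (fun o => MvPolynomial.C (r o) * (MvPolynomial.X (f o) : MvPolynomial ι S))
        (MvPolynomial.monomial α (1 : S))) =
      if α.mapDomain f = β then (α.prod fun o k => r o ^ k) else 0 := by
  classical
  rw [aeval_monomial_subst, MvPolynomial.coeff_monomial]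

theorem monomial_eq_smul {ι : Type} (α : ι →₀ ℕ) (a : S) :
    (MvPolynomial.monomial α a : MvPolynomial ι S) = a • MvPolynomial.monomial α 1 := by
  rw [MvPolynomial.smul_monomial, smul_eq_mul, mul_one]

/-- scaling the variables: the coefficient of `∏ X i` is multiplied by the product of the scalars -/
theorem coeff_one_scale {ι : Type} [Fintype ι] [DecidableEq ι] (r : ι → S)
    (p : MvPolynomial ι S) :
    MvPolynomial.coeff (one ι) (MvPolynomial.aeval
        (fun j => MvPolynomial.C (r j) * (MvPolynomial.X j : MvPolynomial ι S)) p) =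
      (∏ j, r j) * MvPolynomial.coeff (one ι) p := by
  induction p using MvPolynomial.induction_on' with
  | monomial α a =>
    rw [monomial_eq_smul, map_smul, MvPolynomial.coeff_smul, MvPolynomial.coeff_smul,
      coeff_subst (fun j => j) r α (one ι), MvPolynomial.coeff_monomial]
    have h0 : α.mapDomain (fun j => j) = α := Finsupp.mapDomain_id
    rw [h0]
    by_cases h : α = one ι
    · rw [if_pos h, if_pos h, h, Finsupp.prod_fintype _ _ (fun j => pow_zero _)]
      simp only [one_apply, pow_one, smul_eq_mul, mul_one]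
      exact mul_comm _ _
    · rw [if_neg h, if_neg h]
      simp
  | add p q hp hq => rw [map_add, MvPolynomial.coeff_add, hp, hq, MvPolynomial.coeff_add, mul_add]

/-- the variable map for splitting the slot `i` -/
def fOpt {ι : Type} (i : ι) : Option ι → ι := fun o => o.elim i (fun j => j)

theorem mapDomain_fOpt_apply {ι : Type} [Fintype ι] [DecidableEq ι] (i : ι) (α : Option ι →₀ ℕ) :
    (α.mapDomain (fOpt i)) i = α none + α (some i) := by
  rw [Finsupp.mapDomain, Finsupp.sum_fintype _ _ (fun o => Finsupp.single_zero _),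
    Fintype.sum_option, Finsupp.add_apply, Finsupp.finsetSum_apply]
  simp [fOpt, Finsupp.single_apply]

/-- splitting the slot `i`: the functional identity behind additivity of the polarization -/
theorem coeff_one_split {ι : Type} [Fintype ι] [DecidableEq ι] (i : ι)
    (p : MvPolynomial (Option ι) S) :
    MvPolynomial.coeff (one ι) (MvPolynomial.aeval
        (fun o => MvPolynomial.C ((fun _ => (1 : S)) o) *
          (MvPolynomial.X (fOpt i o) : MvPolynomial ι S)) p) =
      MvPolynomial.coeff (one ι) (MvPolynomial.aeval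
        (fun o => MvPolynomial.C ((fun o : Option ι => o.elim (0 : S) (fun _ => 1)) o) *
          (MvPolynomial.X (fOpt i o) : MvPolynomial ι S)) p) +
      MvPolynomial.coeff (one ι) (MvPolynomial.aeval
        (fun o => MvPolynomial.C ((fun o : Option ι => o.elim (1 : S)
          (fun j => if j = i then 0 else 1)) o) *
          (MvPolynomial.X (fOpt i o) : MvPolynomial ι S)) p) := by
  induction p using MvPolynomial.induction_on' with
  | monomial α a =>
    rw [monomial_eq_smul, map_smul, map_smul, map_smul, MvPolynomial.coeff_smul,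
      MvPolynomial.coeff_smul, MvPolynomial.coeff_smul, coeff_subst, coeff_subst, coeff_subst,
      ← smul_add]
    congr 1
    by_cases h : α.mapDomain (fOpt i) = one ι
    · rw [if_pos h, if_pos h, if_pos h]
      have h1 : α none + α (some i) = 1 := by
        rw [← mapDomain_fOpt_apply, h, one_apply]
      rw [Finsupp.prod_fintype _ _ (fun j => pow_zero _),
        Finsupp.prod_fintype _ _ (fun j => pow_zero _),
        Finsupp.prod_fintype _ _ (fun j => pow_zero _), Fintype.prod_option, Fintype.prod_option,
        Fintype.prod_option]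
      have h2 : ∏ j : ι, (if j = i then (0 : S) else 1) ^ α (some j) = 0 ^ α (some i) := by
        rw [Finset.prod_eq_single i]
        · rw [if_pos rfl]
        · intro j _ hj
          rw [if_neg hj, one_pow]
        · intro hi
          exact absurd (Finset.mem_univ i) hi
      simp only [Option.elim_none, Option.elim_some, one_pow, Finset.prod_const_one, mul_one,
        one_mul, h2]
      rcases Nat.add_eq_one_iff.mp h1 with ⟨h3, h4⟩ | ⟨h3, h4⟩
      · rw [h3, h4]; simp
      · rw [h3, h4]; simp
    · rw [if_neg h, if_neg h, if_neg h, add_zero]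
  | add p q hp hq =>
    rw [map_add, map_add, map_add, MvPolynomial.coeff_add, MvPolynomial.coeff_add,
      MvPolynomial.coeff_add, hp, hq]
    abel

theorem sum_single_eq_one_iff {ι : Type} [Fintype ι] [DecidableEq ι] (c : ι → ι) :
    (∑ k : ι, Finsupp.single (c k) 1 : ι →₀ ℕ) = one ι ↔ Function.Bijective c := by
  constructor
  · intro h
    have hs : Function.Surjective c := by
      by_contra hns
      rw [Function.Surjective] at hns
      simp only [not_forall, not_exists] at hns
      obtain ⟨j, hj⟩ := hns
      have h1 := DFunLike.congr_fun h j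
      rw [one_apply, Finsupp.finsetSum_apply] at h1
      have h2 : ∑ k : ι, (Finsupp.single (c k) 1 : ι →₀ ℕ) j = 0 := by
        refine Finset.sum_eq_zero fun k _ => ?_
        rw [Finsupp.single_apply, if_neg (hj k)]
      rw [h2] at h1
      exact absurd h1 (by norm_num)
    exact ⟨Finite.injective_iff_surjective.mpr hs, hs⟩
  · intro h
    rw [one]
    exact Fintype.sum_bijective c h _ _ (fun _ => rfl)

theorem coeff_one_prod_X {ι : Type} [Fintype ι] [DecidableEq ι] (c : ι → ι) :
    MvPolynomial.coeff (one ι) (∏ k : ι, (MvPolynomial.X (c k) : MvPolynomial ι S)) =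
      if Function.Bijective c then 1 else 0 := by
  classical
  have h1 : ∏ k : ι, (MvPolynomial.X (c k) : MvPolynomial ι S) =
      MvPolynomial.monomial (∑ k : ι, Finsupp.single (c k) 1) 1 := by
    rw [MvPolynomial.monomial_sum_one]
    rfl
  rw [h1, MvPolynomial.coeff_monomial]
  by_cases h : Function.Bijective c
  · rw [if_pos h, if_pos ((sum_single_eq_one_iff c).mpr h)]
  · rw [if_neg h, if_neg (fun h' => h ((sum_single_eq_one_iff c).mp h'))]

theorem sum_bijective_eq {ι : Type} [Fintype ι] [DecidableEq ι] {M : Type*} [AddCommMonoid M]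
    (h : (ι → ι) → M) :
    (∑ c : ι → ι, if Function.Bijective c then h c else 0) = ∑ σ : Equiv.Perm ι, h σ := by
  classical
  rw [← Finset.sum_filter]
  symm
  refine Finset.sum_bij (fun σ _ => (σ : ι → ι)) ?_ ?_ ?_ ?_
  · intro σ _
    exact Finset.mem_filter.mpr ⟨Finset.mem_univ _, σ.bijective⟩
  · intro σ _ τ _ hστ
    exact DFunLike.coe_injective hστ
  · intro c hc
    exact ⟨Equiv.ofBijective c (Finset.mem_filter.mp hc).2, Finset.mem_univ _, rfl⟩
  · intro σ _
    rfl

theorem coeff_one_sum_pow {ι : Type} [Fintype ι] [DecidableEq ι] :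
    MvPolynomial.coeff (one ι)
        ((∑ i : ι, (MvPolynomial.X i : MvPolynomial ι S)) ^ Fintype.card ι) =
      ((Fintype.card ι).factorial : S) := by
  classical
  have h1 : (∑ i : ι, (MvPolynomial.X i : MvPolynomial ι S)) ^ Fintype.card ι =
      ∑ c : ι → ι, ∏ k : ι, (MvPolynomial.X (c k) : MvPolynomial ι S) := by
    rw [← Finset.card_univ, ← Finset.prod_const, Finset.prod_univ_sum]
    rfl
  rw [h1, MvPolynomial.coeff_sum]
  simp only [coeff_one_prod_X]
  rw [sum_bijective_eq (fun _ => (1 : S)), Finset.sum_const, Finset.card_univ, Fintype.card_perm,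
    nsmul_eq_mul, mul_one]

end Coeff

section Pol

variable {A : Type u} [CommRing A] {B C : Type u} [CommRing B] [Algebra A B] [CommRing C]
  [Algebra A C]

/-- the substitution `X o ↦ r o * X (f o)` -/
noncomputable def gsub {S : Type u} [CommRing S] {ι ι' : Type} (f : ι' → ι) (r : ι' → S) :
    ι' → MvPolynomial ι S :=
  fun o => MvPolynomial.C (r o) * (MvPolynomial.X (f o) : MvPolynomial ι S)

/-- kill the new variable -/
def r0 {S : Type u} [CommRing S] {ι : Type} : Option ι → S := fun o => o.elim 0 (fun _ => 1)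

/-- kill the old variable `i` -/
def r1 {S : Type u} [CommRing S] {ι : Type} [DecidableEq ι] (i : ι) : Option ι → S :=
  fun o => o.elim 1 (fun j => if j = i then 0 else 1)

theorem coeff_one_split' {S : Type u} [CommRing S] {ι : Type} [Fintype ι] [DecidableEq ι] (i : ι)
    (p : MvPolynomial (Option ι) S) :
    MvPolynomial.coeff (one ι) (MvPolynomial.aeval (gsub (fOpt i) (fun _ => (1 : S))) p) =
      MvPolynomial.coeff (one ι) (MvPolynomial.aeval (gsub (fOpt i) (r0 (S := S))) p) +
      MvPolynomial.coeff (one ι) (MvPolynomial.aeval (gsub (fOpt i) (r1 (S := S) i)) p) :=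
  coeff_one_split i p

variable (A) in
/-- constants -/
noncomputable def cS (ι : Type) (S : Type u) [CommRing S] [Algebra A S] :
    S →ₐ[A] MvPolynomial ι S :=
  IsScalarTower.toAlgHom A S (MvPolynomial ι S)

theorem cS_apply (ι : Type) (S : Type u) [CommRing S] [Algebra A S] (s : S) :
    cS A ι S s = MvPolynomial.C s := rfl

variable (A) in
/-- extension of scalars from `S` to `S[X]` -/
noncomputable def inc (M : Type u) [CommRing M] [Algebra A M] (ι : Type) (S : Type u) [CommRing S]
    [Algebra A S] : S ⊗[A] M →ₐ[A] MvPolynomial ι S ⊗[A] M :=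
  Algebra.TensorProduct.map (cS A ι S) (AlgHom.id A M)

theorem inc_tmul (M : Type u) [CommRing M] [Algebra A M] (ι : Type) (S : Type u) [CommRing S]
    [Algebra A S] (s : S) (m : M) :
    inc A M ι S (s ⊗ₜ[A] m) = (MvPolynomial.C s : MvPolynomial ι S) ⊗ₜ[A] m := rfl

theorem inc_smul (M : Type u) [CommRing M] [Algebra A M] (ι : Type) (S : Type u) [CommRing S]
    [Algebra A S] (s : S) (y : S ⊗[A] M) :
    inc A M ι S (s • y) = (MvPolynomial.C s : MvPolynomial ι S) • inc A M ι S y :=
  map_smul' (cS A ι S) s y

variable (A) in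
/-- substitution as an `A`-algebra map -/
noncomputable def sub {S : Type u} [CommRing S] [Algebra A S] {ι ι' : Type}
    (g : ι' → MvPolynomial ι S) : MvPolynomial ι' S →ₐ[A] MvPolynomial ι S :=
  (MvPolynomial.aeval g).restrictScalars A

theorem sub_apply {S : Type u} [CommRing S] [Algebra A S] {ι ι' : Type}
    (g : ι' → MvPolynomial ι S) (p : MvPolynomial ι' S) : sub A g p = MvPolynomial.aeval g p := rfl

theorem sub_inc (M : Type u) [CommRing M] [Algebra A M] {S : Type u} [CommRing S] [Algebra A S]
    {ι ι' : Type} (g : ι' → MvPolynomial ι S) (y : S ⊗[A] M) :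
    Algebra.TensorProduct.map (sub A g) (AlgHom.id A M) (inc A M ι' S y) = inc A M ι S y := by
  induction y using TensorProduct.induction_on with
  | zero => simp
  | tmul s m =>
    rw [inc_tmul, inc_tmul, Algebra.TensorProduct.map_tmul, sub_apply, MvPolynomial.aeval_C]
    rfl
  | add a b ha hb => simp only [map_add, ha, hb]

variable (A) in
/-- the generic combination `∑ X i • z i` -/
noncomputable def W (ι : Type) [Fintype ι] (S : Type u) [CommRing S] [Algebra A S]
    (z : ι → S ⊗[A] B) : MvPolynomial ι S ⊗[A] B :=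
  ∑ i, (MvPolynomial.X i : MvPolynomial ι S) • inc A B ι S (z i)

theorem sub_W {S : Type u} [CommRing S] [Algebra A S] {ι ι' : Type} [Fintype ι'] (f : ι' → ι)
    (r : ι' → S) (z' : ι' → S ⊗[A] B) :
    Algebra.TensorProduct.map (sub A (gsub f r)) (AlgHom.id A B) (W A ι' S z') =
      ∑ o, (MvPolynomial.X (f o) : MvPolynomial ι S) • inc A B ι S (r o • z' o) := by
  rw [W, map_sum]
  refine Finset.sum_congr rfl fun o _ => ?_
  rw [map_smul', sub_inc, sub_apply, MvPolynomial.aeval_X, gsub, inc_smul, mul_comm, mul_smul]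

variable (A) in
/-- coefficient functional, `A`-linear -/
noncomputable def coefL (ι : Type) (S : Type u) [CommRing S] [Algebra A S] (α : ι →₀ ℕ) :
    MvPolynomial ι S →ₗ[A] S :=
  (MvPolynomial.lcoeff S α).restrictScalars A

theorem coefL_apply (ι : Type) (S : Type u) [CommRing S] [Algebra A S] (α : ι →₀ ℕ)
    (p : MvPolynomial ι S) : coefL A ι S α p = MvPolynomial.coeff α p := rfl

/-- the full polarization of `F` over `S` -/
noncomputable def polS (F : B →ₚₗ[A] C) (ι : Type) [Fintype ι] (S : Type u) [CommRing S]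
    [Algebra A S] (z : ι → S ⊗[A] B) : S ⊗[A] C :=
  (coefL A ι S (one ι)).rTensor C (F.toFun' (MvPolynomial ι S) (W A ι S z))

/-- transport of the polarization along a substitution -/
theorem polS_subst (F : B →ₚₗ[A] C) {ι ι' : Type} [Fintype ι] [Fintype ι'] {S : Type u}
    [CommRing S] [Algebra A S] (f : ι' → ι) (r : ι' → S) (z' : ι' → S ⊗[A] B)
    (z : ι → S ⊗[A] B)
    (hz : W A ι S z = ∑ o, (MvPolynomial.X (f o) : MvPolynomial ι S) • inc A B ι S (r o • z' o)) :
    polS F ι S z =
      ((coefL A ι S (one ι)) ∘ₗ (sub A (gsub f r)).toLinearMap).rTensor C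
        (F.toFun' (MvPolynomial ι' S) (W A ι' S z')) := by
  rw [polS, hz, ← sub_W, ← compat_map, LinearMap.rTensor_comp, LinearMap.comp_apply,
    rTensor_algHom_apply]

theorem mulLeft_rTensor {S : Type u} [CommRing S] [Algebra A S] (s : S) (y : S ⊗[A] C) :
    (LinearMap.mulLeft A s).rTensor C y = s • y := by
  induction y using TensorProduct.induction_on with
  | zero => simp
  | tmul t c => rw [LinearMap.rTensor_tmul, LinearMap.mulLeft_apply, TensorProduct.smul_tmul',
      smul_eq_mul]
  | add a b ha hb => rw [map_add, ha, hb, smul_add]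

/-- scaling the arguments -/
theorem polS_smul (F : B →ₚₗ[A] C) {ι : Type} [Fintype ι] [DecidableEq ι] {S : Type u}
    [CommRing S] [Algebra A S] (r : ι → S) (z : ι → S ⊗[A] B) :
    polS F ι S (fun j => r j • z j) = (∏ j, r j) • polS F ι S z := by
  have h1 := polS_subst F (fun j : ι => j) r z (fun j => r j • z j) rfl
  have h2 : (coefL A ι S (one ι)) ∘ₗ (sub A (gsub (fun j : ι => j) r)).toLinearMap =
      (LinearMap.mulLeft A (∏ j, r j)) ∘ₗ (coefL A ι S (one ι)) := by
    apply LinearMap.ext
    intro p
    exact coeff_one_scale r p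
  rw [h1, h2, LinearMap.rTensor_comp, LinearMap.comp_apply, mulLeft_rTensor]
  rfl

theorem polS_update_smul (F : B →ₚₗ[A] C) {ι : Type} [Fintype ι] [DecidableEq ι] {S : Type u}
    [CommRing S] [Algebra A S] (m : ι → S ⊗[A] B) (i : ι) (s : S) (x : S ⊗[A] B) :
    polS F ι S (Function.update m i (s • x)) = s • polS F ι S (Function.update m i x) := by
  have h1 : Function.update m i (s • x) =
      fun j => (Function.update (fun _ => (1 : S)) i s) j • (Function.update m i x) j := by
    funext j
    by_cases hj : j = i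
    · subst hj
      simp
    · simp [Function.update_of_ne hj]
  rw [h1, polS_smul, Finset.prod_update_of_mem (Finset.mem_univ i)]
  simp

/-- the slots `v, z` indexed by `Option ι` -/
def zOpt {S : Type u} [CommRing S] [Algebra A S] {ι : Type} (v : S ⊗[A] B) (z : ι → S ⊗[A] B) :
    Option ι → S ⊗[A] B := fun o => o.elim v z

theorem W_split_add {ι : Type} [Fintype ι] [DecidableEq ι] {S : Type u} [CommRing S]
    [Algebra A S] (z : ι → S ⊗[A] B) (i : ι) (v : S ⊗[A] B) :
    W A ι S (Function.update z i (z i + v)) =
      ∑ o, (MvPolynomial.X (fOpt i o) : MvPolynomial ι S) •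
        inc A B ι S ((fun _ => (1 : S)) o • zOpt v z o) := by
  rw [Fintype.sum_option, W]
  simp only [fOpt, zOpt, Option.elim_none, Option.elim_some, one_smul]
  have hv : (MvPolynomial.X i : MvPolynomial ι S) • inc A B ι S v =
      ∑ j, if j = i then (MvPolynomial.X j : MvPolynomial ι S) • inc A B ι S v else 0 := by
    rw [Finset.sum_ite_eq', if_pos (Finset.mem_univ i)]
  rw [hv, ← Finset.sum_add_distrib]
  refine Finset.sum_congr rfl fun j _ => ?_
  by_cases hj : j = i
  · subst hj
    rw [Function.update_self, if_pos rfl, map_add, smul_add, add_comm]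
  · rw [Function.update_of_ne hj, if_neg hj, zero_add]

theorem W_split_zero {ι : Type} [Fintype ι] [DecidableEq ι] {S : Type u} [CommRing S]
    [Algebra A S] (z : ι → S ⊗[A] B) (i : ι) (v : S ⊗[A] B) :
    W A ι S z =
      ∑ o, (MvPolynomial.X (fOpt i o) : MvPolynomial ι S) •
        inc A B ι S ((r0 (S := S)) o • zOpt v z o) := by
  rw [Fintype.sum_option, W]
  simp only [fOpt, zOpt, r0, Option.elim_none, Option.elim_some, one_smul, zero_smul, map_zero,
    smul_zero, zero_add]

theorem W_split_one {ι : Type} [Fintype ι] [DecidableEq ι] {S : Type u} [CommRing S]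
    [Algebra A S] (z : ι → S ⊗[A] B) (i : ι) (v : S ⊗[A] B) :
    W A ι S (Function.update z i v) =
      ∑ o, (MvPolynomial.X (fOpt i o) : MvPolynomial ι S) •
        inc A B ι S ((r1 (S := S) i) o • zOpt v z o) := by
  rw [Fintype.sum_option, W]
  simp only [fOpt, zOpt, r1, Option.elim_none, Option.elim_some, one_smul]
  have hv : (MvPolynomial.X i : MvPolynomial ι S) • inc A B ι S v =
      ∑ j, if j = i then (MvPolynomial.X j : MvPolynomial ι S) • inc A B ι S v else 0 := by
    rw [Finset.sum_ite_eq', if_pos (Finset.mem_univ i)]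
  rw [hv, ← Finset.sum_add_distrib]
  refine Finset.sum_congr rfl fun j _ => ?_
  by_cases hj : j = i
  · subst hj
    rw [Function.update_self, if_pos rfl, if_pos rfl, zero_smul, map_zero, smul_zero, add_zero]
  · rw [Function.update_of_ne hj, if_neg hj, if_neg hj, one_smul, zero_add]

/-- additivity in the slot `i` -/
theorem polS_split (F : B →ₚₗ[A] C) {ι : Type} [Fintype ι] [DecidableEq ι] {S : Type u}
    [CommRing S] [Algebra A S] (z : ι → S ⊗[A] B) (i : ι) (v : S ⊗[A] B) :
    polS F ι S (Function.update z i (z i + v)) =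
      polS F ι S z + polS F ι S (Function.update z i v) := by
  rw [polS_subst F (fOpt i) (fun _ => (1 : S)) (zOpt v z) _ (W_split_add z i v),
    polS_subst F (fOpt i) (r0 (S := S)) (zOpt v z) _ (W_split_zero z i v),
    polS_subst F (fOpt i) (r1 (S := S) i) (zOpt v z) _ (W_split_one z i v),
    ← LinearMap.add_apply, ← LinearMap.rTensor_add]
  congr 2
  apply LinearMap.ext
  intro p
  exact coeff_one_split' i p

theorem polS_update_add (F : B →ₚₗ[A] C) {ι : Type} [Fintype ι] [DecidableEq ι] {S : Type u}
    [CommRing S] [Algebra A S] (m : ι → S ⊗[A] B) (i : ι) (x y : S ⊗[A] B) :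
    polS F ι S (Function.update m i (x + y)) =
      polS F ι S (Function.update m i x) + polS F ι S (Function.update m i y) := by
  have h := polS_split F (Function.update m i x) i y
  rw [Function.update_self, Function.update_idem, Function.update_idem] at h
  exact h

/-- the polarization as an `S`-multilinear map -/
noncomputable def polM (F : B →ₚₗ[A] C) (ι : Type) [Fintype ι] (S : Type u) [CommRing S]
    [Algebra A S] : MultilinearMap S (fun _ : ι => S ⊗[A] B) (S ⊗[A] C) where
  toFun := polS F ι S
  map_update_add' := by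
    intro _ m i x y
    convert polS_update_add F m i x y
  map_update_smul' := by
    intro _ m i s x
    convert polS_update_smul F m i s x

theorem polM_apply (F : B →ₚₗ[A] C) (ι : Type) [Fintype ι] (S : Type u) [CommRing S]
    [Algebra A S] (z : ι → S ⊗[A] B) : polM F ι S z = polS F ι S z := rfl

theorem coef_smul_inc {ι : Type} {S : Type u} [CommRing S] [Algebra A S] (α : ι →₀ ℕ)
    (q : MvPolynomial ι S) (y : S ⊗[A] C) :
    (coefL A ι S α).rTensor C (q • inc A C ι S y) = MvPolynomial.coeff α q • y := by
  induction y using TensorProduct.induction_on with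
  | zero => simp
  | tmul t c =>
    rw [inc_tmul, TensorProduct.smul_tmul', LinearMap.rTensor_tmul, coefL_apply, smul_eq_mul,
      mul_comm, MvPolynomial.coeff_C_mul, TensorProduct.smul_tmul', smul_eq_mul, mul_comm]
  | add a b ha hb => rw [map_add, smul_add, map_add, ha, hb, smul_add]

/-- Euler's identity: the diagonal of the polarization of a homogeneous law -/
theorem polS_diag (F : B →ₚₗ[A] C) {ι : Type} [Fintype ι] [DecidableEq ι] {d : ℕ}
    (hd : Fintype.card ι = d) (hF : IsHomog F d) {S : Type u} [CommRing S] [Algebra A S]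
    (z : S ⊗[A] B) :
    polS F ι S (fun _ => z) = d.factorial • F.toFun' S z := by
  have h1 : W A ι S (fun _ => z) =
      (∑ i : ι, (MvPolynomial.X i : MvPolynomial ι S)) • inc A B ι S z := by
    rw [W, Finset.sum_smul]
  have h2 : F.toFun' (MvPolynomial ι S) (inc A B ι S z) = inc A C ι S (F.toFun' S z) :=
    (compat_map F (cS A ι S) z).symm
  rw [polS, h1, hF, h2, coef_smul_inc, ← hd, coeff_one_sum_pow, Nat.cast_smul_eq_nsmul]

theorem coefL_map {ι : Type} {S S' : Type u} [CommRing S] [Algebra A S] [CommRing S']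
    [Algebra A S'] (f : S →ₐ[A] S') (α : ι →₀ ℕ) (y : MvPolynomial ι S ⊗[A] C) :
    Algebra.TensorProduct.map f (AlgHom.id A C) ((coefL A ι S α).rTensor C y) =
      (coefL A ι S' α).rTensor C
        (Algebra.TensorProduct.map (MvPolynomial.mapAlgHom f) (AlgHom.id A C) y) := by
  induction y using TensorProduct.induction_on with
  | zero => simp
  | tmul p c =>
    rw [LinearMap.rTensor_tmul, Algebra.TensorProduct.map_tmul, Algebra.TensorProduct.map_tmul,
      LinearMap.rTensor_tmul, coefL_apply, coefL_apply, MvPolynomial.mapAlgHom_apply,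
      MvPolynomial.coeff_map]
    rfl
  | add a b ha hb => simp only [map_add, ha, hb]

theorem map_inc (M : Type u) [CommRing M] [Algebra A M] {ι : Type} {S S' : Type u} [CommRing S]
    [Algebra A S] [CommRing S'] [Algebra A S'] (f : S →ₐ[A] S') (y : S ⊗[A] M) :
    Algebra.TensorProduct.map (MvPolynomial.mapAlgHom (σ := ι) f) (AlgHom.id A M)
        (inc A M ι S y) =
      inc A M ι S' (Algebra.TensorProduct.map f (AlgHom.id A M) y) := by
  induction y using TensorProduct.induction_on with
  | zero => simp
  | tmul s m =>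
    rw [inc_tmul, Algebra.TensorProduct.map_tmul, Algebra.TensorProduct.map_tmul, inc_tmul,
      MvPolynomial.mapAlgHom_apply, MvPolynomial.map_C]
    rfl
  | add a b ha hb => simp only [map_add, ha, hb]

/-- naturality of the polarization in the test ring -/
theorem polS_map (F : B →ₚₗ[A] C) {ι : Type} [Fintype ι] {S S' : Type u} [CommRing S]
    [Algebra A S] [CommRing S'] [Algebra A S'] (f : S →ₐ[A] S') (z : ι → S ⊗[A] B) :
    Algebra.TensorProduct.map f (AlgHom.id A C) (polS F ι S z) =
      polS F ι S' (fun i => Algebra.TensorProduct.map f (AlgHom.id A B) (z i)) := by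
  rw [polS, coefL_map, compat_map, polS]
  congr 2
  rw [W, W, map_sum]
  refine Finset.sum_congr rfl fun i _ => ?_
  rw [map_smul', map_inc, MvPolynomial.mapAlgHom_apply, MvPolynomial.map_X]

/-- the polarization over the base ring, as an `A`-multilinear map `B^ι → C` -/
noncomputable def pol (F : B →ₚₗ[A] C) (ι : Type) [Fintype ι] :
    MultilinearMap A (fun _ : ι => B) C :=
  (TensorProduct.lid A C).toLinearMap.compMultilinearMap
    ((polM F ι A).compLinearMap (fun _ => TensorProduct.mk A A B 1))

theorem pol_apply (F : B →ₚₗ[A] C) (ι : Type) [Fintype ι] (b : ι → B) :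
    pol F ι b = TensorProduct.lid A C (polS F ι A (fun i => (1 : A) ⊗ₜ[A] b i)) := rfl

theorem map_ofId_eq {S : Type u} [CommRing S] [Algebra A S] (y : A ⊗[A] C) :
    Algebra.TensorProduct.map (Algebra.ofId A S) (AlgHom.id A C) y =
      (1 : S) ⊗ₜ[A] TensorProduct.lid A C y := by
  induction y using TensorProduct.induction_on with
  | zero => simp
  | tmul a c =>
    rw [Algebra.TensorProduct.map_tmul, TensorProduct.lid_tmul, AlgHom.id_apply,
      Algebra.ofId_apply, Algebra.algebraMap_eq_smul_one, TensorProduct.smul_tmul]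
  | add a b ha hb => rw [map_add, ha, hb, map_add, TensorProduct.tmul_add]

/-- the polarization over `S` at constant arguments -/
theorem polS_one_tmul (F : B →ₚₗ[A] C) {ι : Type} [Fintype ι] {S : Type u} [CommRing S]
    [Algebra A S] (b : ι → B) :
    polS F ι S (fun i => (1 : S) ⊗ₜ[A] b i) = (1 : S) ⊗ₜ[A] pol F ι b := by
  have h := polS_map F (Algebra.ofId A S) (fun i => (1 : A) ⊗ₜ[A] b i)
  rw [map_ofId_eq] at h
  rw [pol_apply, h]
  congr 1
  funext i
  rw [Algebra.TensorProduct.map_tmul, map_one, AlgHom.id_apply]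

/-- multilinear expansion of the diagonal -/
theorem polS_diag_sum (F : B →ₚₗ[A] C) {ι : Type} [Fintype ι] [DecidableEq ι] {S : Type u}
    [CommRing S] [Algebra A S] (n : ℕ) (s : Fin n → S) (b : Fin n → B) :
    polS F ι S (fun _ => ∑ j, s j ⊗ₜ[A] b j) =
      ∑ c : ι → Fin n, (∏ i, s (c i)) ⊗ₜ[A] pol F ι (fun i => b (c i)) := by
  have h1 : (fun _ : ι => ∑ j, s j ⊗ₜ[A] b j) =
      fun _ : ι => ∑ j, s j • ((1 : S) ⊗ₜ[A] b j) := by
    funext _
    refine Finset.sum_congr rfl fun j _ => ?_
    rw [TensorProduct.smul_tmul', smul_eq_mul, mul_one]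
  rw [h1, ← polM_apply, MultilinearMap.map_sum]
  refine Finset.sum_congr rfl fun c _ => ?_
  rw [MultilinearMap.map_smul_univ, polM_apply, polS_one_tmul, TensorProduct.smul_tmul',
    smul_eq_mul, mul_one]

end Pol

end Groth.Agent.Lib.Helper59.Polar
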