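import Groth.Agent.Lib.Helper59.Polar

/-!
# Polarization and the universal law `γ : B → Γ^d(B)`

* `span_coeff` : `Γ^d(B)` is spanned by the coefficients `(λ ⊗ id)(γ_S z)`.
* `map_pol` : the image of a polarization under a linear map, from the values on the generic
  element.
-/

set_option autoImplicit false

namespace Groth.Agent.Lib.Helper59.PolarGamma

open scoped TensorProduct
open PolLaw Groth.Agent.Lib.Helper59.KerPoly Groth.Agent.Lib.Helper59.LawReduced
  Groth.Agent.Lib.Helper59.CHCore Groth.Agent.Lib.Helper59.GammaGen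
  Groth.Agent.Lib.Helper59.Polar

universe u

variable {A : Type u} [CommRing A] {B C : Type u} [CommRing B] [Algebra A B] [CommRing C]
  [Algebra A C]

theorem lamT_lTensor {D : Type u} [AddCommGroup D] [Module A D] {S : Type u} [CommRing S]
    [Algebra A S] (lam : S →ₗ[A] A) (f : C →ₗ[A] D) (y : S ⊗[A] C) :
    lamT lam (f.lTensor S y) = f (lamT lam y) := by
  induction y using TensorProduct.induction_on with
  | zero => simp
  | tmul s c => rw [LinearMap.lTensor_tmul, lamT_tmul, lamT_tmul, map_smul]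
  | add a b ha hb => rw [map_add, map_add, ha, hb, map_add, map_add]

theorem lid_lTensor {D : Type u} [AddCommGroup D] [Module A D] (f : C →ₗ[A] D) (y : A ⊗[A] C) :
    TensorProduct.lid A D (f.lTensor A y) = f (TensorProduct.lid A C y) := by
  induction y using TensorProduct.induction_on with
  | zero => simp
  | tmul s c => rw [LinearMap.lTensor_tmul, TensorProduct.lid_tmul, TensorProduct.lid_tmul,
      map_smul]
  | add a b ha hb => rw [map_add, map_add, ha, hb, map_add, map_add]

theorem exists_fin_repr {S : Type u} [CommRing S] [Algebra A S] (z : S ⊗[A] B) :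
    ∃ (n : ℕ) (s : Fin n → S) (b : Fin n → B), z = ∑ j, s j ⊗ₜ[A] b j := by
  classical
  obtain ⟨J, hJ⟩ := TensorProduct.exists_finset z
  refine ⟨J.card, fun j => (J.equivFin.symm j).1.1, fun j => (J.equivFin.symm j).1.2, ?_⟩
  rw [hJ, ← Finset.sum_coe_sort J (fun i => i.1 ⊗ₜ[A] i.2)]
  exact (Equiv.sum_comp J.equivFin.symm (fun i : J => i.1.1 ⊗ₜ[A] i.1.2)).symm

/-- the image of a polarization under a linear map -/
theorem map_pol (F : B →ₚₗ[A] C) {ι : Type} [Fintype ι] [DecidableEq ι] {D : Type u}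
    [AddCommGroup D] [Module A D] (f : C →ₗ[A] D) (b : ι → B) (t : (ι → ι) → D)
    (h : f.lTensor (MvPolynomial ι A) (F.toFun' (MvPolynomial ι A)
        (∑ j, (MvPolynomial.X j : MvPolynomial ι A) ⊗ₜ[A] b j)) =
      ∑ c : ι → ι, (∏ i, (MvPolynomial.X (c i) : MvPolynomial ι A)) ⊗ₜ[A] t c) :
    f (pol F ι b) = ∑ σ : Equiv.Perm ι, t σ := by
  have hW : W A ι A (fun i => (1 : A) ⊗ₜ[A] b i) =
      ∑ j, (MvPolynomial.X j : MvPolynomial ι A) ⊗ₜ[A] b j := by
    rw [W]
    refine Finset.sum_congr rfl fun j _ => ?_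
    rw [inc_tmul, TensorProduct.smul_tmul', smul_eq_mul, map_one, mul_one]
  rw [pol_apply, polS, hW, ← lid_lTensor, ← LinearMap.comp_apply (f.lTensor A),
    LinearMap.lTensor_comp_rTensor, ← LinearMap.rTensor_comp_lTensor, LinearMap.comp_apply, h,
    map_sum, map_sum]
  simp only [LinearMap.rTensor_tmul, TensorProduct.lid_tmul, coefL_apply, coeff_one_prod_X,
    ite_smul, one_smul, zero_smul]
  exact sum_bijective_eq t

/-- `Γ^d(B)` is spanned by the coefficients of the universal law -/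
theorem span_coeff {d : ℕ} (γ : MulLaw A B C d) (hγ : IsGammaD γ) (K : Submodule A C)
    (hK : ∀ (S : Type u) [CommRing S] [Algebra A S] (lam : S →ₗ[A] A) (z : S ⊗[A] B),
      lamT lam (γ.law.toFun' S z) ∈ K) : K = ⊤ := by
  classical
  let G : Set C := {c | ∃ (S : Type u) (_ : CommRing S) (_ : Algebra A S) (lam : S →ₗ[A] A)
    (z : S ⊗[A] B), c = lamT lam (γ.law.toFun' S z)}
  let N : Submodule A C := Submodule.span A G
  have hNK : N ≤ K := by
    rw [Submodule.span_le]
    rintro _ ⟨S, _, _, lam, z, rfl⟩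
    exact hK S lam z
  have h1 : (1 : C) ∈ N := by
    refine Submodule.subset_span ⟨A, inferInstance, inferInstance, LinearMap.id, 1, ?_⟩
    rw [(γ.mult A).1, Algebra.TensorProduct.one_def, lamT_tmul]
    simp
  have hgen : ∀ x ∈ G, ∀ y ∈ G, x * y ∈ N := by
    rintro _ ⟨S₁, _, _, lam₁, z₁, rfl⟩ _ ⟨S₂, _, _, lam₂, z₂, rfl⟩
    refine Submodule.subset_span ⟨S₁ ⊗[A] S₂, inferInstance, inferInstance, lam2 lam₁ lam₂,
      Algebra.TensorProduct.map (Algebra.TensorProduct.includeLeft : S₁ →ₐ[A] S₁ ⊗[A] S₂)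
          (AlgHom.id A B) z₁ *
        Algebra.TensorProduct.map (Algebra.TensorProduct.includeRight : S₂ →ₐ[A] S₁ ⊗[A] S₂)
          (AlgHom.id A B) z₂, ?_⟩
    rw [(γ.mult _).2, ← compat_map, ← compat_map]
    exact (lamT_mul lam₁ lam₂ _ _).symm
  have hmul : ∀ x y, x ∈ N → y ∈ N → x * y ∈ N := by
    intro x y hx hy
    have hle : N * N ≤ N := by
      rw [Submodule.span_mul_span, Submodule.span_le]
      rintro _ ⟨x, hx, y, hy, rfl⟩
      exact hgen x hx y hy
    exact hle (Submodule.mul_mem_mul hx hy)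
  let C₀ : Subalgebra A C := N.toSubalgebra h1 hmul
  have hv : ValuedIn γ C₀ := by
    intro n p
    obtain ⟨T, hT⟩ := expand_left (MvPolynomial.basisMonomials (Fin n) A)
      (γ.law.toFun' (MvPolynomial (Fin n) A) p)
    rw [hT]
    refine Submodule.sum_mem _ fun l _ => ?_
    have hmem : lamT ((MvPolynomial.basisMonomials (Fin n) A).coord l)
        (γ.law.toFun' (MvPolynomial (Fin n) A) p) ∈ C₀ :=
      Submodule.subset_span ⟨MvPolynomial (Fin n) A, inferInstance, inferInstance, _, p, rfl⟩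
    exact ⟨(MvPolynomial.basisMonomials (Fin n) A l) ⊗ₜ[A] (⟨_, hmem⟩ : C₀), rfl⟩
  have htop := eq_top_of_valuedIn γ hγ C₀ hv
  have hN : N = ⊤ := by
    have h4 := congrArg Subalgebra.toSubmodule htop
    rw [Submodule.toSubalgebra_toSubmodule, Algebra.top_toSubmodule] at h4
    exact h4
  rw [eq_top_iff, ← hN]
  exact hNK

end Groth.Agent.Lib.Helper59.PolarGamma
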