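import Groth.Agent.Lib.Helper59.Polar

/-!
# The kernel of a homogeneous law and its polarization (characteristic zero)

* `polS_eq_zero_of_mem_kerBC` : elements of the kernel of the base-changed law kill the
  polarization.
* `mem_ker_of_polS_eq_zero` : when `d!` is invertible the converse holds.
* `kerBC_le_map_ker` : for `B` finite and `A'` flat, `kerBC F A' ≤ (ker F) · (A' ⊗ B)`.
-/

set_option autoImplicit false

namespace Groth.Agent.Lib.Helper59.PolarKer

open scoped TensorProduct
open PolLaw Groth.Agent.Lib.Helper59.KerPoly Groth.Agent.Lib.Helper59.LawReduced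
  Groth.Agent.Lib.Helper59.CHCore Groth.Agent.Lib.Helper59.GammaGen
  Groth.Agent.Lib.Helper59.Polar

universe u

variable {A : Type u} [CommRing A] {B C : Type u} [CommRing B] [Algebra A B] [CommRing C]
  [Algebra A C]

theorem W_update_add {ι : Type} [Fintype ι] [DecidableEq ι] {S : Type u} [CommRing S]
    [Algebra A S] (z : ι → S ⊗[A] B) (i : ι) (v : S ⊗[A] B) :
    W A ι S (Function.update z i (z i + v)) =
      W A ι S z + (MvPolynomial.X i : MvPolynomial ι S) • inc A B ι S v := by
  rw [W, W]
  have hv : (MvPolynomial.X i : MvPolynomial ι S) • inc A B ι S v =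
      ∑ j, if j = i then (MvPolynomial.X j : MvPolynomial ι S) • inc A B ι S v else 0 := by
    rw [Finset.sum_ite_eq', if_pos (Finset.mem_univ i)]
  rw [hv, ← Finset.sum_add_distrib]
  refine Finset.sum_congr rfl fun j _ => ?_
  by_cases hj : j = i
  · subst hj
    rw [Function.update_self, if_pos rfl, map_add, smul_add]
  · rw [Function.update_of_ne hj, if_neg hj, add_zero]

theorem polS_update_zero (F : B →ₚₗ[A] C) {ι : Type} [Fintype ι] [DecidableEq ι] {S : Type u}
    [CommRing S] [Algebra A S] (z : ι → S ⊗[A] B) (i : ι) :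
    polS F ι S (Function.update z i 0) = 0 := by
  have h := polS_update_smul F z i (0 : S) (0 : S ⊗[A] B)
  rw [zero_smul, zero_smul] at h
  exact h

/-- elements of the kernel of the base-changed law kill the polarization -/
theorem polS_eq_zero_of_mem_kerBC (F : B →ₚₗ[A] C) {A' : Type u} [CommRing A'] [Algebra A A']
    {y : A' ⊗[A] B} (hy : y ∈ kerBC F A') {ι : Type} [Fintype ι] [DecidableEq ι]
    (z : ι → A' ⊗[A] B) (i : ι) (w : A' ⊗[A] B) :
    polS F ι A' (Function.update z i (w * y)) = 0 := by
  have h1 : Function.update z i (w * y) =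
      Function.update (Function.update z i 0) i ((Function.update z i 0) i + w * y) := by
    rw [Function.update_self, zero_add, Function.update_idem]
  have h2 : (MvPolynomial.X i : MvPolynomial ι A') • inc A B ι A' (w * y) =
      ((MvPolynomial.X i : MvPolynomial ι A') • inc A B ι A' w) *
        Algebra.TensorProduct.map (IsScalarTower.toAlgHom A A' (MvPolynomial ι A'))
          (AlgHom.id A B) y := by
    rw [map_mul, smul_mul_assoc]
    rfl
  rw [← polS_update_zero F z i]
  conv_lhs => rw [h1, polS, W_update_add, h2, hy (MvPolynomial ι A')]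
  rfl

/-- when `d!` is invertible, an element killing the polarization lies in the kernel -/
theorem mem_ker_of_polS_eq_zero (F : B →ₚₗ[A] C) {d : ℕ} (hF : IsHomog F d)
    (hunit : IsUnit ((d.factorial : ℕ) : A)) (b : B)
    (hb : ∀ (S : Type u) [CommRing S] [Algebra A S] (z : Fin d → S ⊗[A] B) (i : Fin d)
      (w : S ⊗[A] B), polS F (Fin d) S (Function.update z i (w * ((1 : S) ⊗ₜ[A] b))) = 0) :
    b ∈ PolLaw.ker F := by
  classical
  intro S _ _ x w
  obtain ⟨σ, ψ, x₀, w₀, hx, hw⟩ := exists_lift_pair x w
  rw [rTensor_algHom_apply] at hx hw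
  have key : F.toFun' (MvPolynomial σ A) (x₀ + w₀ * ((1 : MvPolynomial σ A) ⊗ₜ[A] b)) =
      F.toFun' (MvPolynomial σ A) x₀ := by
    have e1 := polS_diag F (Fintype.card_fin d) hF
      (x₀ + w₀ * ((1 : MvPolynomial σ A) ⊗ₜ[A] b))
    have e2 := polS_diag F (Fintype.card_fin d) hF x₀
    have e3 : polS F (Fin d) (MvPolynomial σ A)
        (fun _ => x₀ + w₀ * ((1 : MvPolynomial σ A) ⊗ₜ[A] b)) =
        polS F (Fin d) (MvPolynomial σ A) (fun _ => x₀) := by
      rw [← polM_apply, ← polM_apply]
      have h0 : (fun _ : Fin d => x₀ + w₀ * ((1 : MvPolynomial σ A) ⊗ₜ[A] b)) =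
          (fun _ => x₀) + (fun _ => w₀ * ((1 : MvPolynomial σ A) ⊗ₜ[A] b)) := rfl
      rw [h0, MultilinearMap.map_add_univ, Finset.sum_eq_single Finset.univ]
      · rw [Finset.piecewise_univ]
      · intro s _ hs
        obtain ⟨i, hi⟩ : ∃ i, i ∉ s := by
          by_contra h
          apply hs
          rw [Finset.eq_univ_iff_forall]
          intro i
          by_contra hi
          exact h ⟨i, hi⟩
        have h1 : s.piecewise (fun _ : Fin d => x₀)
            (fun _ => w₀ * ((1 : MvPolynomial σ A) ⊗ₜ[A] b)) =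
            Function.update (s.piecewise (fun _ : Fin d => x₀)
              (fun _ => w₀ * ((1 : MvPolynomial σ A) ⊗ₜ[A] b))) i
              (w₀ * ((1 : MvPolynomial σ A) ⊗ₜ[A] b)) := by
          rw [eq_comm, Function.update_eq_self_iff, Finset.piecewise_eq_of_notMem _ _ _ hi]
        rw [h1, polM_apply, hb]
      · intro h
        exact absurd (Finset.mem_univ _) h
    have e4 : d.factorial • F.toFun' (MvPolynomial σ A)
        (x₀ + w₀ * ((1 : MvPolynomial σ A) ⊗ₜ[A] b)) =
        d.factorial • F.toFun' (MvPolynomial σ A) x₀ := by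
      rw [← e1, ← e2, e3]
    rw [← Nat.cast_smul_eq_nsmul A, ← Nat.cast_smul_eq_nsmul A] at e4
    exact hunit.smul_left_cancel.mp e4
  have h1 : x + w * ((1 : S) ⊗ₜ[A] b) = Algebra.TensorProduct.map ψ (AlgHom.id A B)
      (x₀ + w₀ * ((1 : MvPolynomial σ A) ⊗ₜ[A] b)) := by
    rw [map_add, map_mul, hx, hw, Algebra.TensorProduct.map_tmul, map_one, AlgHom.id_apply]
  rw [h1, ← compat_map, key, compat_map, hx]

section Finite

variable (F : B →ₚₗ[A] C) {d m : ℕ} (e : Fin m → B)

/-- the linear conditions cutting out the kernel -/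
noncomputable def Lfun (i : Fin d) (c : Fin d → Fin m) : B →ₗ[A] C :=
  ((pol F (Fin d)).toLinearMap (fun j => e (c j)) i) ∘ₗ LinearMap.mulLeft A (e (c i))

theorem Lfun_apply (i : Fin d) (c : Fin d → Fin m) (b : B) :
    Lfun F e i c b = pol F (Fin d) (Function.update (fun j => e (c j)) i (e (c i) * b)) := rfl

/-- all the conditions together -/
noncomputable def Lmap : B →ₗ[A] (Fin d × (Fin d → Fin m) → C) :=
  LinearMap.pi (fun j => Lfun F e j.1 j.2)

theorem exists_repr_span (he : Submodule.span A (Set.range e) = ⊤) (S : Type u) [CommRing S]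
    [Algebra A S] (z : S ⊗[A] B) :
    ∃ s : Fin m → S, z = ∑ l, s l • ((1 : S) ⊗ₜ[A] e l) := by
  induction z using TensorProduct.induction_on with
  | zero => exact ⟨0, by simp⟩
  | tmul s' b =>
    have hb : b ∈ Submodule.span A (Set.range e) := by rw [he]; exact Submodule.mem_top
    obtain ⟨a, ha⟩ := (Submodule.mem_span_range_iff_exists_fun A).mp hb
    refine ⟨fun l => a l • s', ?_⟩
    rw [← ha, TensorProduct.tmul_sum]
    refine Finset.sum_congr rfl fun l _ => ?_
    rw [TensorProduct.tmul_smul, TensorProduct.smul_tmul', TensorProduct.smul_tmul', smul_eq_mul,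
      mul_one]
  | add x y hx hy =>
    obtain ⟨s₁, h₁⟩ := hx
    obtain ⟨s₂, h₂⟩ := hy
    refine ⟨s₁ + s₂, ?_⟩
    rw [h₁, h₂, ← Finset.sum_add_distrib]
    refine Finset.sum_congr rfl fun l _ => ?_
    rw [Pi.add_apply, add_smul]

theorem update_one_tmul {S : Type u} [CommRing S] [Algebra A S] (g : Fin d → B) (i : Fin d)
    (x : B) :
    Function.update (fun j => (1 : S) ⊗ₜ[A] g j) i ((1 : S) ⊗ₜ[A] x) =
      fun j => (1 : S) ⊗ₜ[A] (Function.update g i x) j := by
  funext j
  by_cases hj : j = i
  · subst hj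
    rw [Function.update_self, Function.update_self]
  · rw [Function.update_of_ne hj, Function.update_of_ne hj]

/-- the common kernel of the conditions lies in the kernel of the law (`d!` invertible) -/
theorem mem_ker_of_Lmap_eq_zero {F : B →ₚₗ[A] C} (hF : IsHomog F d)
    (hunit : IsUnit ((d.factorial : ℕ) : A)) (he : Submodule.span A (Set.range e) = ⊤) (b : B)
    (hb : Lmap F e (d := d) b = 0) : b ∈ PolLaw.ker F := by
  classical
  apply mem_ker_of_polS_eq_zero F hF hunit
  intro S _ _ z i w
  have hrep := exists_repr_span e he S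
  choose sf hsf using hrep
  let coef : Fin d → Fin m → S := fun j => if j = i then sf w else sf (z j)
  let β : Fin d → Fin m → B := fun j l => if j = i then e l * b else e l
  have hZ : Function.update z i (w * ((1 : S) ⊗ₜ[A] b)) =
      fun j => ∑ l, coef j l • ((1 : S) ⊗ₜ[A] β j l) := by
    funext j
    by_cases hj : j = i
    · subst hj
      rw [Function.update_self]
      simp only [coef, β, if_pos rfl]
      conv_lhs => rw [hsf w]
      rw [Finset.sum_mul]
      refine Finset.sum_congr rfl fun l _ => ?_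
      rw [smul_mul_assoc, Algebra.TensorProduct.tmul_mul_tmul, one_mul]
    · rw [Function.update_of_ne hj]
      simp only [coef, β, if_neg hj]
      exact hsf (z j)
  rw [hZ, ← polM_apply, MultilinearMap.map_sum]
  refine Finset.sum_eq_zero fun c _ => ?_
  rw [MultilinearMap.map_smul_univ, polM_apply, polS_one_tmul]
  have h1 : pol F (Fin d) (fun j => β j (c j)) = Lfun F e i c b := by
    rw [Lfun_apply]
    congr 1
    funext j
    by_cases hj : j = i
    · subst hj
      simp only [β, if_pos rfl, Function.update_self]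
    · simp only [β, if_neg hj, Function.update_of_ne hj]
  have h2 : Lfun F e i c b = 0 := congrFun hb (i, c)
  rw [h1, h2, TensorProduct.tmul_zero, smul_zero]

/-- the base change of a condition is the polarization over `A'` -/
theorem lTensor_Lfun_eq (A' : Type u) [CommRing A'] [Algebra A A'] (i : Fin d)
    (c : Fin d → Fin m) (y : A' ⊗[A] B) :
    (Lfun F e i c).lTensor A' y =
      polS F (Fin d) A' (Function.update (fun j => (1 : A') ⊗ₜ[A] e (c j)) i
        (((1 : A') ⊗ₜ[A] e (c i)) * y)) := by
  induction y using TensorProduct.induction_on with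
  | zero => rw [map_zero, mul_zero, polS_update_zero]
  | tmul a' b =>
    have h1 : ((1 : A') ⊗ₜ[A] e (c i)) * (a' ⊗ₜ[A] b) = a' • ((1 : A') ⊗ₜ[A] (e (c i) * b)) := by
      rw [Algebra.TensorProduct.tmul_mul_tmul, one_mul, TensorProduct.smul_tmul', smul_eq_mul,
        mul_one]
    rw [h1, polS_update_smul, update_one_tmul, polS_one_tmul, TensorProduct.smul_tmul',
      smul_eq_mul, mul_one, LinearMap.lTensor_tmul, Lfun_apply]
  | add x y hx hy => rw [map_add, hx, hy, mul_add, polS_update_add]

end Finite

/-- for `B` finite, `A'` flat and `d!` invertible the kernel commutes with base change -/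
theorem kerBC_le_map_ker (F : B →ₚₗ[A] C) {d : ℕ} (hF : IsHomog F d)
    (hunit : IsUnit ((d.factorial : ℕ) : A)) [Module.Finite A B] (A' : Type u) [CommRing A']
    [Algebra A A'] [Module.Flat A A'] :
    kerBC F A' ≤ (PolLaw.ker F).map (Algebra.TensorProduct.includeRight : B →ₐ[A] A' ⊗[A] B) := by
  classical
  intro y hy
  obtain ⟨m, e, he⟩ := Module.Finite.exists_fin (R := A) (M := B)
  have hpi : ∀ (u : A' ⊗[A] (Fin d × (Fin d → Fin m) → C)) (j : Fin d × (Fin d → Fin m)),
      TensorProduct.piRight A A A' (fun _ : Fin d × (Fin d → Fin m) => C) u j =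
        (LinearMap.proj j : (Fin d × (Fin d → Fin m) → C) →ₗ[A] C).lTensor A' u := by
    intro u j
    induction u using TensorProduct.induction_on with
    | zero => simp
    | tmul a' f => rfl
    | add x y hx hy => rw [map_add, Pi.add_apply, hx, hy, map_add]
  have h0 : (Lmap F e (d := d)).lTensor A' y = 0 := by
    apply (TensorProduct.piRight A A A' (fun _ : Fin d × (Fin d → Fin m) => C)).injective
    rw [map_zero]
    funext j
    rw [hpi, ← LinearMap.comp_apply, ← LinearMap.lTensor_comp, Lmap, LinearMap.proj_pi,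
      lTensor_Lfun_eq, polS_eq_zero_of_mem_kerBC F hy]
    rfl
  have hex := Module.Flat.lTensor_exact A' (LinearMap.exact_subtype_ker_map (Lmap F e (d := d)))
  obtain ⟨u, hu⟩ := (hex y).mp h0
  rw [← hu]
  clear hu h0 hy
  induction u using TensorProduct.induction_on with
  | zero => simp
  | tmul a' k =>
    have h1 : (LinearMap.ker (Lmap F e (d := d))).subtype.lTensor A' (a' ⊗ₜ[A] k) =
        (a' ⊗ₜ[A] (1 : B)) * (Algebra.TensorProduct.includeRight : B →ₐ[A] A' ⊗[A] B) k.1 := by
      rw [LinearMap.lTensor_tmul, Algebra.TensorProduct.includeRight_apply,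
        Algebra.TensorProduct.tmul_mul_tmul, mul_one, one_mul]
      rfl
    rw [h1]
    exact Ideal.mul_mem_left _ _ (Ideal.mem_map_of_mem _
      (mem_ker_of_Lmap_eq_zero e hF hunit he k.1 k.2))
  | add x y hx hy =>
    rw [map_add]
    exact Ideal.add_mem _ hx hy

end Groth.Agent.Lib.Helper59.PolarKer
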