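import Groth.Agent.Lib.Helper59.IdemCount

/-!
# Decomposition of a multiplicative law on a product over a connected base
-/

set_option autoImplicit false

namespace Groth.Agent.Lib.Helper59.ProdDecomp

open scoped TensorProduct
open PolLaw Polynomial Groth.Agent.Lib.Helper59.KerPoly Groth.Agent.Lib.Helper59.CHCore
  Groth.Agent.Lib.Helper59.IdemCount

universe u

section General

variable {A : Type u} [CommRing A] {B : Type u} [CommRing B] [Algebra A B] {d : ℕ}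

/-- value of the law on `1 ⊗ (1 - e) + s ⊗ e` over a test semiring -/
theorem toFun'_uuS (F : MulLaw A B A d) (S : Type u) [CommSemiring S] [Algebra A S] (s : S)
    (e : B) :
    F.law.toFun' S ((1 : S) ⊗ₜ[A] (1 - e) + s ⊗ₜ[A] e) = (aeval s (PP F e)) ⊗ₜ[A] (1 : A) := by
  apply (TensorProduct.rid A S).injective
  rw [TensorProduct.rid_tmul, one_smul]
  have h := val_map F.law (aeval s : A[X] →ₐ[A] S) (uu A[X] X e)
  unfold uu at h
  rw [map_add, Algebra.TensorProduct.map_tmul, Algebra.TensorProduct.map_tmul, map_one, aeval_X,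
    AlgHom.coe_id, id_eq, id_eq] at h
  exact h

end General

section Prod

variable {A : Type u} [CommRing A] {B₁ B₂ : Type u} [CommRing B₁] [Algebra A B₁] [CommRing B₂]
  [Algebra A B₂] {d : ℕ}

/-- `S ⊗ (B₁ × B₂) ≃ (S ⊗ B₁) × (S ⊗ B₂)` -/
noncomputable abbrev Psi (S : Type u) [CommSemiring S] [Algebra A S] :
    S ⊗[A] (B₁ × B₂) ≃ₐ[A] (S ⊗[A] B₁) × (S ⊗[A] B₂) :=
  Algebra.TensorProduct.prodRight A A S B₁ B₂

theorem Psi_apply (S : Type u) [CommSemiring S] [Algebra A S] (x : S ⊗[A] (B₁ × B₂)) :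
    Psi S x = ((LinearMap.fst A B₁ B₂).lTensor S x, (LinearMap.snd A B₁ B₂).lTensor S x) := by
  induction x using TensorProduct.induction_on with
  | zero => simp only [map_zero]; rfl
  | tmul s b => rfl
  | add x y hx hy => rw [map_add, hx, hy, map_add, map_add]; rfl

theorem Psi_nat {S S' : Type u} [CommSemiring S] [Algebra A S] [CommSemiring S'] [Algebra A S']
    (φ : S →ₐ[A] S') (x : S ⊗[A] (B₁ × B₂)) :
    Psi S' (φ.toLinearMap.rTensor (B₁ × B₂) x) =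
      (φ.toLinearMap.rTensor B₁ (Psi S x).1, φ.toLinearMap.rTensor B₂ (Psi S x).2) := by
  induction x using TensorProduct.induction_on with
  | zero => simp only [map_zero]; rfl
  | tmul s b => rfl
  | add x y hx hy =>
    rw [map_add, map_add, hx, hy, map_add, Prod.fst_add, Prod.snd_add, map_add, map_add]
    rfl

theorem Psi_symm_nat {S S' : Type u} [CommSemiring S] [Algebra A S] [CommSemiring S']
    [Algebra A S'] (φ : S →ₐ[A] S') (y₁ : S ⊗[A] B₁) (y₂ : S ⊗[A] B₂) :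
    φ.toLinearMap.rTensor (B₁ × B₂) ((Psi S).symm (y₁, y₂)) =
      (Psi S').symm (φ.toLinearMap.rTensor B₁ y₁, φ.toLinearMap.rTensor B₂ y₂) := by
  apply (Psi S').injective
  rw [Psi_nat, AlgEquiv.apply_symm_apply, AlgEquiv.apply_symm_apply]

theorem rTensor_one {S S' : Type u} [CommSemiring S] [Algebra A S] [CommSemiring S']
    [Algebra A S'] (φ : S →ₐ[A] S') (M : Type u) [CommRing M] [Algebra A M] :
    φ.toLinearMap.rTensor M (1 : S ⊗[A] M) = 1 := by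
  rw [Algebra.TensorProduct.one_def, LinearMap.rTensor_tmul, AlgHom.toLinearMap_apply, map_one]
  rfl

/-- the first factor `x₁ ↦ F (x₁, 1)` -/
noncomputable def law₁ (F : (B₁ × B₂) →ₚₗ[A] A) : B₁ →ₚₗ[A] A where
  toFun' S _ _ := fun x => F.toFun' S ((Psi S).symm (x, 1))
  isCompat' {S} _ _ {S'} _ _ φ := by
    funext x
    simp only [Function.comp_apply]
    rw [← rTensor_one φ B₂, ← Psi_symm_nat]
    exact congrFun (F.isCompat' φ) _

/-- the second factor `x₂ ↦ F (1, x₂)` -/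
noncomputable def law₂ (F : (B₁ × B₂) →ₚₗ[A] A) : B₂ →ₚₗ[A] A where
  toFun' S _ _ := fun x => F.toFun' S ((Psi S).symm (1, x))
  isCompat' {S} _ _ {S'} _ _ φ := by
    funext x
    simp only [Function.comp_apply]
    rw [← rTensor_one φ B₁, ← Psi_symm_nat]
    exact congrFun (F.isCompat' φ) _

theorem Psi_uu₁ (S : Type u) [CommSemiring S] [Algebra A S] (s : S) :
    Psi (A := A) (B₁ := B₁) (B₂ := B₂) S
      ((1 : S) ⊗ₜ[A] (1 - ((1, 0) : B₁ × B₂)) + s ⊗ₜ[A] ((1, 0) : B₁ × B₂)) =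
      (s • (1 : S ⊗[A] B₁), 1) := by
  rw [map_add, Algebra.TensorProduct.prodRight_tmul, Algebra.TensorProduct.prodRight_tmul]
  simp only [Prod.fst_sub, Prod.snd_sub, Prod.fst_one, Prod.snd_one, sub_self, sub_zero,
    TensorProduct.tmul_zero, Prod.mk_add_mk, zero_add, add_zero]
  rw [Algebra.TensorProduct.one_def, Algebra.TensorProduct.one_def, TensorProduct.smul_tmul',
    smul_eq_mul, mul_one]

theorem Psi_uu₂ (S : Type u) [CommSemiring S] [Algebra A S] (s : S) :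
    Psi (A := A) (B₁ := B₁) (B₂ := B₂) S
      ((1 : S) ⊗ₜ[A] (1 - ((0, 1) : B₁ × B₂)) + s ⊗ₜ[A] ((0, 1) : B₁ × B₂)) =
      (1, s • (1 : S ⊗[A] B₂)) := by
  rw [map_add, Algebra.TensorProduct.prodRight_tmul, Algebra.TensorProduct.prodRight_tmul]
  simp only [Prod.fst_sub, Prod.snd_sub, Prod.fst_one, Prod.snd_one, sub_self, sub_zero,
    TensorProduct.tmul_zero, Prod.mk_add_mk, zero_add, add_zero]
  rw [Algebra.TensorProduct.one_def, Algebra.TensorProduct.one_def, TensorProduct.smul_tmul',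
    smul_eq_mul, mul_one]

/-- the first factor as a multiplicative law of degree `d₁` -/
noncomputable def mk₁ (F : MulLaw A (B₁ × B₂) A d) (d₁ : ℕ)
    (h : PP F ((1, 0) : B₁ × B₂) = X ^ d₁) : MulLaw A B₁ A d₁ where
  law := law₁ F.law
  homog S _ _ s x := by
    show F.law.toFun' S ((Psi S).symm (s • x, 1)) = s ^ d₁ • F.law.toFun' S ((Psi S).symm (x, 1))
    have h1 : ((s • x, 1) : (S ⊗[A] B₁) × (S ⊗[A] B₂)) = (x, 1) * (s • (1 : S ⊗[A] B₁), 1) := by
      rw [Prod.mk_mul_mk, mul_one, mul_smul_comm, mul_one]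
    rw [h1, map_mul, ← Psi_uu₁, AlgEquiv.symm_apply_apply, (F.mult S).2, toFun'_uuS, h, map_pow,
      aeval_X]
    have h2 : (s ^ d₁) ⊗ₜ[A] (1 : A) = s ^ d₁ • (1 : S ⊗[A] A) := by
      rw [Algebra.TensorProduct.one_def, TensorProduct.smul_tmul', smul_eq_mul, mul_one]
    rw [h2, mul_smul_comm, mul_one]
  mult S _ _ := by
    refine ⟨?_, fun x y => ?_⟩
    · show F.law.toFun' S ((Psi S).symm (1, 1)) = 1
      rw [← Prod.one_eq_mk, map_one, (F.mult S).1]
    · show F.law.toFun' S ((Psi S).symm (x * y, 1)) =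
        F.law.toFun' S ((Psi S).symm (x, 1)) * F.law.toFun' S ((Psi S).symm (y, 1))
      rw [← (F.mult S).2, ← map_mul, Prod.mk_mul_mk, one_mul]

/-- the second factor as a multiplicative law of degree `d₂` -/
noncomputable def mk₂ (F : MulLaw A (B₁ × B₂) A d) (d₂ : ℕ)
    (h : PP F ((0, 1) : B₁ × B₂) = X ^ d₂) : MulLaw A B₂ A d₂ where
  law := law₂ F.law
  homog S _ _ s x := by
    show F.law.toFun' S ((Psi S).symm (1, s • x)) = s ^ d₂ • F.law.toFun' S ((Psi S).symm (1, x))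
    have h1 : ((1, s • x) : (S ⊗[A] B₁) × (S ⊗[A] B₂)) = (1, x) * (1, s • (1 : S ⊗[A] B₂)) := by
      rw [Prod.mk_mul_mk, mul_one, mul_smul_comm, mul_one]
    rw [h1, map_mul, ← Psi_uu₂, AlgEquiv.symm_apply_apply, (F.mult S).2, toFun'_uuS, h, map_pow,
      aeval_X]
    have h2 : (s ^ d₂) ⊗ₜ[A] (1 : A) = s ^ d₂ • (1 : S ⊗[A] A) := by
      rw [Algebra.TensorProduct.one_def, TensorProduct.smul_tmul', smul_eq_mul, mul_one]
    rw [h2, mul_smul_comm, mul_one]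
  mult S _ _ := by
    refine ⟨?_, fun x y => ?_⟩
    · show F.law.toFun' S ((Psi S).symm (1, 1)) = 1
      rw [← Prod.one_eq_mk, map_one, (F.mult S).1]
    · show F.law.toFun' S ((Psi S).symm (1, x * y)) =
        F.law.toFun' S ((Psi S).symm (1, x)) * F.law.toFun' S ((Psi S).symm (1, y))
      rw [← (F.mult S).2, ← map_mul, Prod.mk_mul_mk, one_mul]

theorem factor (F : MulLaw A (B₁ × B₂) A d) (S : Type u) [CommSemiring S] [Algebra A S]
    (x : S ⊗[A] (B₁ × B₂)) :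
    F.law.toFun' S x = (law₁ F.law).toFun' S ((LinearMap.fst A B₁ B₂).lTensor S x) *
      (law₂ F.law).toFun' S ((LinearMap.snd A B₁ B₂).lTensor S x) := by
  show F.law.toFun' S x = F.law.toFun' S ((Psi S).symm (_, 1)) * F.law.toFun' S ((Psi S).symm (1, _))
  rw [← (F.mult S).2, ← map_mul, Prod.mk_mul_mk, one_mul, mul_one, ← Psi_apply,
    AlgEquiv.symm_apply_apply]

theorem X_pow_inj [Nontrivial A] {m n : ℕ} (h : (X : A[X]) ^ m = X ^ n) : m = n := by
  have := congrArg natDegree h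
  rwa [natDegree_X_pow, natDegree_X_pow] at this

theorem prod_decomp [ConnectedSpace (PrimeSpectrum A)] (F : MulLaw A (B₁ × B₂) A d) :
    ∃ d₁ d₂ : ℕ, d₁ + d₂ = d ∧
      (∃ (F₁ : PolLaw.MulLaw A B₁ A d₁) (F₂ : PolLaw.MulLaw A B₂ A d₂),
        ∀ (S : Type u) [CommSemiring S] [Algebra A S] (x : S ⊗[A] (B₁ × B₂)),
          F.law.toFun' S x = F₁.law.toFun' S (LinearMap.lTensor S (LinearMap.fst A B₁ B₂) x) *
            F₂.law.toFun' S (LinearMap.lTensor S (LinearMap.snd A B₁ B₂) x)) ∧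
      ∀ (e₁ e₂ : ℕ) (G₁ : PolLaw.MulLaw A B₁ A e₁) (G₂ : PolLaw.MulLaw A B₂ A e₂),
        (∀ (S : Type u) [CommSemiring S] [Algebra A S] (x : S ⊗[A] (B₁ × B₂)),
          F.law.toFun' S x = G₁.law.toFun' S (LinearMap.lTensor S (LinearMap.fst A B₁ B₂) x) *
            G₂.law.toFun' S (LinearMap.lTensor S (LinearMap.snd A B₁ B₂) x)) →
          e₁ = d₁ ∧ e₂ = d₂ := by
  have hnt : Nontrivial A := PrimeSpectrum.nonempty_iff_nontrivial.mp inferInstance
  have hi₁ : ((1, 0) : B₁ × B₂) * (1, 0) - (1, 0) ∈ PolLaw.ker F.law := by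
    rw [Prod.mk_mul_mk, mul_one, mul_zero, sub_self]; exact Ideal.zero_mem _
  have hi₂ : ((0, 1) : B₁ × B₂) * (0, 1) - (0, 1) ∈ PolLaw.ker F.law := by
    rw [Prod.mk_mul_mk, mul_one, mul_zero, sub_self]; exact Ideal.zero_mem _
  obtain ⟨d₁, h₁⟩ := exists_pow F hi₁
  obtain ⟨d₂, h₂⟩ := exists_pow F hi₂
  have horth : ((1, 0) : B₁ × B₂) * (0, 1) ∈ PolLaw.ker F.law := by
    rw [Prod.mk_mul_mk, mul_zero, zero_mul]; exact Ideal.zero_mem _
  have hsum : d₁ + d₂ = d := by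
    have h3 := PP_add F horth
    rw [Prod.mk_add_mk, add_zero, zero_add, ← Prod.one_eq_mk, PP_one, h₁, h₂, ← pow_add] at h3
    exact X_pow_inj h3
  refine ⟨d₁, d₂, hsum, ⟨mk₁ F d₁ h₁, mk₂ F d₂ h₂, fun S _ _ x => factor F S x⟩, ?_⟩
  intro e₁ e₂ G₁ G₂ hG
  constructor
  · have h3 := hG A[X] ((1 : A[X]) ⊗ₜ[A] (1 - ((1, 0) : B₁ × B₂)) + X ⊗ₜ[A] ((1, 0) : B₁ × B₂))
    have h4 := Psi_uu₁ (A := A) (B₁ := B₁) (B₂ := B₂) A[X] (X : A[X])
    rw [Psi_apply] at h4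
    have h4a : (LinearMap.fst A B₁ B₂).lTensor A[X]
        ((1 : A[X]) ⊗ₜ[A] (1 - ((1, 0) : B₁ × B₂)) + X ⊗ₜ[A] ((1, 0) : B₁ × B₂)) =
        (X : A[X]) • (1 : A[X] ⊗[A] B₁) := congrArg Prod.fst h4
    have h4b : (LinearMap.snd A B₁ B₂).lTensor A[X]
        ((1 : A[X]) ⊗ₜ[A] (1 - ((1, 0) : B₁ × B₂)) + X ⊗ₜ[A] ((1, 0) : B₁ × B₂)) =
        (1 : A[X] ⊗[A] B₂) := congrArg Prod.snd h4
    rw [h4a, h4b, toFun'_uuS, h₁, map_pow, aeval_X,
      G₁.homog, (G₁.mult _).1, (G₂.mult _).1, mul_one, Algebra.TensorProduct.one_def,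
      TensorProduct.smul_tmul', smul_eq_mul, mul_one] at h3
    have h5 := congrArg (TensorProduct.rid A A[X]) h3
    rw [TensorProduct.rid_tmul, TensorProduct.rid_tmul, one_smul, one_smul] at h5
    exact (X_pow_inj h5).symm
  · have h3 := hG A[X] ((1 : A[X]) ⊗ₜ[A] (1 - ((0, 1) : B₁ × B₂)) + X ⊗ₜ[A] ((0, 1) : B₁ × B₂))
    have h4 := Psi_uu₂ (A := A) (B₁ := B₁) (B₂ := B₂) A[X] (X : A[X])
    rw [Psi_apply] at h4
    have h4a : (LinearMap.fst A B₁ B₂).lTensor A[X]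
        ((1 : A[X]) ⊗ₜ[A] (1 - ((0, 1) : B₁ × B₂)) + X ⊗ₜ[A] ((0, 1) : B₁ × B₂)) =
        (1 : A[X] ⊗[A] B₁) := congrArg Prod.fst h4
    have h4b : (LinearMap.snd A B₁ B₂).lTensor A[X]
        ((1 : A[X]) ⊗ₜ[A] (1 - ((0, 1) : B₁ × B₂)) + X ⊗ₜ[A] ((0, 1) : B₁ × B₂)) =
        (X : A[X]) • (1 : A[X] ⊗[A] B₂) := congrArg Prod.snd h4
    rw [h4a, h4b, toFun'_uuS, h₂, map_pow, aeval_X,
      G₂.homog, (G₁.mult _).1, (G₂.mult _).1, one_mul, Algebra.TensorProduct.one_def,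
      TensorProduct.smul_tmul', smul_eq_mul, mul_one] at h3
    have h5 := congrArg (TensorProduct.rid A A[X]) h3
    rw [TensorProduct.rid_tmul, TensorProduct.rid_tmul, one_smul, one_smul] at h5
    exact (X_pow_inj h5).symm

end Prod

end Groth.Agent.Lib.Helper59.ProdDecomp
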