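import Mathlib
import Groth.Agent.Lib.Helper59.Ind
import Groth.Agent.S0198
import Groth.Agent.S0196
import Groth.Agent.S7745

/-!
# Quaternion algebras and central simple algebras of index two
-/

set_option autoImplicit false
set_option linter.style.haveILetI false
set_option linter.unusedSectionVars false

namespace Groth.Agent.Lib.Helper59.Quat

open TensorProduct Groth.Agent.Lib.Helper59.TPow Groth.Agent.Lib.Helper59.BrauerCalc
  Groth.Agent.Lib.Helper59.Brauer Groth.Agent.Lib.Helper59.Ind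
open scoped Quaternion

universe u v

variable {k : Type u} [Field k]

/-- In a division quaternion algebra `(a, b)` both parameters are nonzero. -/
theorem ne_zero_of_division {a b : k} (h : ∀ x : ℍ[k,a,0,b], x ≠ 0 → IsUnit x) :
    a ≠ 0 ∧ b ≠ 0 := by
  constructor
  · rintro rfl
    have hi : (⟨0, 1, 0, 0⟩ : ℍ[k,0,0,b]) ≠ 0 := by
      intro h0
      have := congrArg QuaternionAlgebra.imI h0
      simp at this
    have hu := h _ hi
    have hsq : (⟨0, 1, 0, 0⟩ : ℍ[k,0,0,b]) * ⟨0, 1, 0, 0⟩ = 0 := by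
      ext <;> simp
    have := hu.mul_left_cancel (b := (⟨0, 1, 0, 0⟩ : ℍ[k,0,0,b])) (c := 0) (by rw [hsq, mul_zero])
    exact hi this
  · rintro rfl
    have hj : (⟨0, 0, 1, 0⟩ : ℍ[k,a,0,0]) ≠ 0 := by
      intro h0
      have := congrArg QuaternionAlgebra.imJ h0
      simp at this
    have hu := h _ hj
    have hsq : (⟨0, 0, 1, 0⟩ : ℍ[k,a,0,0]) * ⟨0, 0, 1, 0⟩ = 0 := by
      ext <;> simp
    have := hu.mul_left_cancel (b := (⟨0, 0, 1, 0⟩ : ℍ[k,a,0,0])) (c := 0) (by rw [hsq, mul_zero])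
    exact hj this

/-- A quaternion algebra with nonzero parameters in characteristic `≠ 2` is central. -/
theorem isCentral (h2 : (2 : k) ≠ 0) {a b : k} (ha : a ≠ 0) (hb : b ≠ 0) :
    Algebra.IsCentral k ℍ[k,a,0,b] := by
  refine ⟨fun z hz => ?_⟩
  rw [Subalgebra.mem_center_iff] at hz
  have hi := hz ⟨0, 1, 0, 0⟩
  have hj := hz ⟨0, 0, 1, 0⟩
  obtain ⟨z0, z1, z2, z3⟩ := z
  rw [QuaternionAlgebra.mk_mul_mk, QuaternionAlgebra.mk_mul_mk] at hi hj
  rw [QuaternionAlgebra.mk.injEq] at hi hj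
  obtain ⟨-, -, hi3, hi4⟩ := hi
  obtain ⟨-, hj2, -, hj4⟩ := hj
  simp only [mul_zero, zero_mul, mul_one, one_mul, add_zero, zero_add, sub_zero, zero_sub] at hi3 hi4 hj2 hj4
  have hz2 : z2 = 0 := by
    have : (2 : k) * z2 = 0 := by linear_combination hi4
    exact (mul_eq_zero.mp this).resolve_left h2
  have hz3 : z3 = 0 := by
    have : (2 : k) * a * z3 = 0 := by linear_combination hi3
    rcases mul_eq_zero.mp this with h | h
    · exact absurd h (mul_ne_zero h2 ha)
    · exact h
  have hz1 : z1 = 0 := by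
    have : (2 : k) * z1 = 0 := by linear_combination -hj4
    exact (mul_eq_zero.mp this).resolve_left h2
  subst hz1 hz2 hz3
  exact Algebra.mem_bot.mpr ⟨z0, by rw [QuaternionAlgebra.algebraMap_eq]⟩

/-- A division quaternion algebra in characteristic `≠ 2` is central simple. -/
theorem isCSA_of_division (h2 : (2 : k) ≠ 0) {a b : k}
    (h : ∀ x : ℍ[k,a,0,b], x ≠ 0 → IsUnit x) : IsCSA k ℍ[k,a,0,b] := by
  obtain ⟨ha, hb⟩ := ne_zero_of_division h
  haveI := isCentral h2 ha hb
  letI : DivisionRing ℍ[k,a,0,b] := DivisionRing.ofIsUnitOrEqZero (fun x => by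
    by_cases hx : x = 0
    · exact Or.inr hx
    · exact Or.inl (h x hx))
  exact ⟨inferInstance, inferInstance, inferInstance⟩

/-- The index of a division quaternion algebra is `2`. -/
theorem ind_of_division (h2 : (2 : k) ≠ 0) {a b : k}
    (h : ∀ x : ℍ[k,a,0,b], x ≠ 0 → IsUnit x) : ind k ℍ[k,a,0,b] = 2 := by
  have hQ := isCSA_of_division h2 h
  letI : DivisionRing ℍ[k,a,0,b] := DivisionRing.ofIsUnitOrEqZero (fun x => by
    by_cases hx : x = 0
    · exact Or.inr hx
    · exact Or.inl (h x hx))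
  exact ind_division hQ (by rw [QuaternionAlgebra.finrank_eq_four]; norm_num)

/-- A central simple algebra which is a matrix algebra over a division quaternion algebra has
index `2` and period `2`. -/
theorem period_index_of_matrix (h2 : (2 : k) ≠ 0) {A : Type v} [Ring A] [Algebra k A]
    (hA : IsCSA k A) {a b : k} (h : ∀ x : ℍ[k,a,0,b], x ≠ 0 → IsUnit x) {m : ℕ}
    (e : A ≃ₐ[k] Matrix (Fin m) (Fin m) ℍ[k,a,0,b]) :
    CSAGal.IsPeriod k A 2 ∧ CSAGal.IsIndex k A 2 := by
  haveI := hA.simple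
  have hm : m ≠ 0 := by
    rintro rfl
    have : Subsingleton A := e.toEquiv.subsingleton
    exact not_subsingleton A this
  have hQ := isCSA_of_division h2 h
  have hind : ind k A = 2 := by
    rw [ind_eq_of_brEq hA hQ ((BrEq.of_algEquiv e).trans (BrEq.matrix m hm))]
    exact ind_of_division h2 h
  have hI : CSAGal.IsIndex k A 2 := hind ▸ isIndex_ind hA
  refine ⟨?_, hI⟩
  rw [isPeriod_iff]
  refine ⟨by norm_num, hind ▸ ind_mem_splitExp hA, ?_⟩
  intro e' he'0 he'2 hmem
  have he' : e' = 1 := by omega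
  subst he'
  have hsplit : IsSplit k A := IsSplit.of_algEquiv hmem (tpowOne k A)
  have := (ind_eq_one_iff hA).mpr hsplit
  omega

/-- In a Galois extension with cyclic group generated by `σ`, elements fixed by `σ` lie in the
base field. -/
theorem mem_range_of_fixed {L : Type v} [Field L] [Algebra k L] [FiniteDimensional k L]
    [IsGalois k L] (σ : L ≃ₐ[k] L) (hσ : ∀ τ : L ≃ₐ[k] L, τ ∈ Subgroup.zpowers σ) {x : L}
    (hx : σ x = x) : ∃ c : k, algebraMap k L c = x := by
  have h : x ∈ Set.range (algebraMap k L) := by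
    rw [IsGalois.mem_range_algebraMap_iff_fixed]
    intro τ
    have hle : Subgroup.zpowers σ ≤ MulAction.stabilizer (L ≃ₐ[k] L) x := by
      rw [Subgroup.zpowers_le]
      exact hx
    exact hle (hσ τ)
  exact h

/-- The structure of a quadratic Galois extension in characteristic `≠ 2`. -/
theorem exists_quadratic_generator (h2 : (2 : k) ≠ 0) {L : Type v} [Field L] [Algebra k L]
    [FiniteDimensional k L] [IsGalois k L] (hL : Module.finrank k L = 2) (σ : L ≃ₐ[k] L)
    (hσ : ∀ τ : L ≃ₐ[k] L, τ ∈ Subgroup.zpowers σ) :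
    ∃ (i₀ : L) (a : k), σ i₀ = -i₀ ∧ i₀ * i₀ = algebraMap k L a ∧
      ∀ l : L, ∃ c₀ c₁ : k, l = algebraMap k L c₀ + c₁ • i₀ := by
  have hcard : Nat.card (L ≃ₐ[k] L) = 2 := by rw [IsGalois.card_aut_eq_finrank, hL]
  have hσ2 : σ ^ 2 = 1 := by
    rw [← hcard]
    exact pow_card_eq_one'
  have hσne : σ ≠ 1 := by
    rintro rfl
    have hsub : Subsingleton (L ≃ₐ[k] L) := by
      refine ⟨fun τ₁ τ₂ => ?_⟩
      have h1 := hσ τ₁
      have h2 := hσ τ₂
      rw [Subgroup.zpowers_one_eq_bot, Subgroup.mem_bot] at h1 h2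
      rw [h1, h2]
    have : Nat.card (L ≃ₐ[k] L) = 1 := Nat.card_unique
    omega
  obtain ⟨θ, hθ⟩ : ∃ θ : L, σ θ ≠ θ := by
    by_contra hcon
    push Not at hcon
    exact hσne (AlgEquiv.ext hcon)
  have hσσ : ∀ x : L, σ (σ x) = x := by
    intro x
    have := congrArg (fun τ : L ≃ₐ[k] L => τ x) hσ2
    simpa [pow_two] using this
  set i₀ : L := θ - σ θ with hi₀
  have hi₀ne : i₀ ≠ 0 := by
    rw [hi₀]
    exact sub_ne_zero.mpr (Ne.symm hθ)
  have hσi : σ i₀ = -i₀ := by
    rw [hi₀, map_sub, hσσ]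
    ring
  obtain ⟨a, ha⟩ := mem_range_of_fixed σ hσ (x := i₀ * i₀) (by rw [map_mul, hσi]; ring)
  refine ⟨i₀, a, hσi, ha.symm, ?_⟩
  -- `1, i₀` is a basis
  have hli : LinearIndependent k ![(1 : L), i₀] := by
    rw [LinearIndependent.pair_iff]
    intro s t hst
    have ht : t = 0 := by
      by_contra ht
      have h1 : σ (s • (1 : L) + t • i₀) = 0 := by rw [hst, map_zero]
      rw [map_add, map_smul, map_smul, map_one, hσi] at h1
      have h3 : (2 * t) • i₀ = 0 := by
        have : (2 * t) • i₀ = (s • (1 : L) + t • i₀) - (s • (1 : L) + t • -i₀) := by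
          rw [mul_smul, smul_neg]
          simp only [two_smul]
          abel
        rw [this, hst, h1, sub_zero]
      rcases smul_eq_zero.mp h3 with h | h
      · exact ht ((mul_eq_zero.mp h).resolve_left h2)
      · exact hi₀ne h
    refine ⟨?_, ht⟩
    rw [ht, zero_smul, add_zero] at hst
    simpa using hst
  have hspan : Submodule.span k (Set.range ![(1 : L), i₀]) = ⊤ := by
    apply hli.span_eq_top_of_card_eq_finrank'
    rw [hL]
    simp
  intro l
  have hl : l ∈ Submodule.span k (Set.range ![(1 : L), i₀]) := by rw [hspan]; trivial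
  rw [Matrix.range_cons, Matrix.range_cons, Matrix.range_empty, Set.union_empty,
    ← Set.insert_eq, Submodule.mem_span_pair] at hl
  obtain ⟨c₀, c₁, rfl⟩ := hl
  exact ⟨c₀, c₁, by rw [Algebra.algebraMap_eq_smul_one]⟩

/-- A central division algebra of dimension `4` in characteristic `≠ 2` is a quaternion algebra. -/
theorem exists_quaternion_of_division (h2 : (2 : k) ≠ 0) {D : Type v} [DivisionRing D]
    [Algebra k D] (hD : IsCSA k D) (hdim : Module.finrank k D = 2 ^ 2) :
    ∃ a b : k, Nonempty (ℍ[k,a,0,b] ≃ₐ[k] D) := by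
  haveI := hD.central
  haveI := hD.fd
  obtain ⟨L, hcomm, hmax, hsep⟩ := Groth.Agent.S0198.result k D
  have hdimL := Groth.Agent.S0196.result k D L hcomm hmax
  have hL : Module.finrank k L = 2 := by
    rw [hdim] at hdimL
    exact (Nat.pow_left_injective (by norm_num : 2 ≠ 0) hdimL).symm
  letI : Field L := { divisionRingOfFiniteDimensional k L with
    mul_comm := fun a b => Subtype.ext (hcomm a a.2 b b.2) }
  haveI : Algebra.IsSeparable k L := hsep
  haveI : Algebra.IsQuadraticExtension k L := { finrank_eq_two' := hL }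
  haveI : IsGalois k L := inferInstance
  obtain ⟨σ, hσ⟩ := IsCyclic.exists_generator (α := L ≃ₐ[k] L)
  obtain ⟨y, hy1, ⟨b, hy2⟩, hy3⟩ := Groth.Agent.S7745.result k D L 2 hdim hL σ hσ L.val
  obtain ⟨i₀, a, hσi, hi₀sq, hgen⟩ := exists_quadratic_generator h2 hL σ hσ
  have hII : (i₀ : D) * (i₀ : D) = a • (1 : D) + (0 : k) • (i₀ : D) := by
    have := congrArg (fun l : L => (l : D)) hi₀sq
    simp only [Subalgebra.coe_mul, Subalgebra.coe_algebraMap] at this
    rw [this, zero_smul, add_zero, Algebra.algebraMap_eq_smul_one]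
  have hJJ : (y : D) * (y : D) = b • (1 : D) := by
    rw [← pow_two, hy2, Algebra.algebraMap_eq_smul_one]
  have hJI : (y : D) * (i₀ : D) = (0 : k) • (y : D) - (i₀ : D) * (y : D) := by
    have := hy1 i₀
    rw [hσi] at this
    simp only [Subalgebra.coe_val, map_neg, mul_neg] at this
    rw [zero_smul, zero_sub, this, neg_neg]
  let q : QuaternionAlgebra.Basis D a 0 b :=
    { i := (i₀ : D), j := (y : D), k := (i₀ : D) * (y : D),
      i_mul_i := hII, j_mul_j := hJJ, i_mul_j := rfl, j_mul_i := hJI }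
  let φ : ℍ[k,a,0,b] →ₐ[k] D := q.liftHom
  have hφi : φ ⟨0, 1, 0, 0⟩ = (i₀ : D) := by
    show q.lift _ = _
    simp [QuaternionAlgebra.Basis.lift, q]
  have hφj : φ ⟨0, 0, 1, 0⟩ = (y : D) := by
    show q.lift _ = _
    simp [QuaternionAlgebra.Basis.lift, q]
  have hsurj : Function.Surjective φ := by
    rw [← AlgHom.range_eq_top, eq_top_iff, ← hy3]
    apply Algebra.adjoin_le
    rintro x (⟨l, rfl⟩ | hx)
    · obtain ⟨c₀, c₁, rfl⟩ := hgen l
      rw [SetLike.mem_coe, AlgHom.mem_range]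
      refine ⟨algebraMap k _ c₀ + c₁ • ⟨0, 1, 0, 0⟩, ?_⟩
      rw [map_add, map_smul, hφi, AlgHom.commutes]
      simp
    · rw [Set.mem_singleton_iff] at hx
      rw [hx, SetLike.mem_coe, AlgHom.mem_range]
      exact ⟨_, hφj⟩
  have hfr : Module.finrank k ℍ[k,a,0,b] = Module.finrank k D := by
    rw [QuaternionAlgebra.finrank_eq_four, hdim]
    norm_num
  have hinj : Function.Injective φ :=
    (LinearMap.injective_iff_surjective_of_finrank_eq_finrank (f := φ.toLinearMap) hfr).mpr hsurj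
  exact ⟨a, b, ⟨AlgEquiv.ofBijective φ ⟨hinj, hsurj⟩⟩⟩

end Groth.Agent.Lib.Helper59.Quat
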