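import Groth.Agent.Lib.Helper59.FibreCount

/-!
# Finiteness of algebra maps into a field from finiteness of a fibre
-/

set_option autoImplicit false

namespace Groth.Agent.Lib.Helper59.ResEmb

open scoped TensorProduct

universe u

section

variable {K L R : Type*} [Field K] [Field L] [Algebra K L] [CommRing R] [Algebra K R]

/-- the `L`-point of `L ⊗ R` defined by `g : R → L` -/
noncomputable def pt (g : R →ₐ[K] L) : L ⊗[K] R →ₐ[L] L :=
  Algebra.TensorProduct.lift (AlgHom.id L L) g (fun _ _ => Commute.all _ _)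

theorem pt_tmul (g : R →ₐ[K] L) (c : L) (r : R) : pt g (c ⊗ₜ[K] r) = c * g r := by
  simp [pt]

theorem finite_algHom_of_finite_spec (h : Finite (PrimeSpectrum (L ⊗[K] R))) :
    Finite (R →ₐ[K] L) := by
  let φ : (R →ₐ[K] L) → PrimeSpectrum (L ⊗[K] R) := fun g =>
    ⟨RingHom.ker (pt g).toRingHom, RingHom.ker_isPrime _⟩
  apply Finite.of_injective φ
  intro g₁ g₂ h12
  have hker : RingHom.ker (pt g₁).toRingHom = RingHom.ker (pt g₂).toRingHom :=
    congrArg PrimeSpectrum.asIdeal h12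
  refine AlgHom.ext fun b => ?_
  have h1 : ((1 : L) ⊗ₜ[K] b - (g₁ b) ⊗ₜ[K] (1 : R)) ∈ RingHom.ker (pt g₁).toRingHom := by
    rw [RingHom.mem_ker]
    show pt g₁ _ = 0
    rw [map_sub, pt_tmul, pt_tmul, map_one, one_mul, mul_one, sub_self]
  rw [hker, RingHom.mem_ker] at h1
  have h2 : pt g₂ ((1 : L) ⊗ₜ[K] b - (g₁ b) ⊗ₜ[K] (1 : R)) = 0 := h1
  rw [map_sub, pt_tmul, pt_tmul, map_one, one_mul, mul_one, sub_eq_zero] at h2
  exact h2.symm

end

end Groth.Agent.Lib.Helper59.ResEmb
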