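import Groth.Agent.Lib.Helper59.GammaTSLaw

/-!
# Lifting field-valued points of `Γ^d(B)` to `TS^d(B)`
-/

set_option autoImplicit false

namespace Groth.Agent.Lib.Helper59.ResLift

open scoped TensorProduct
open PolLaw Groth.Agent.Lib.Helper59.KerPoly Groth.Agent.Lib.Helper59.LawReduced
  Groth.Agent.Lib.Helper59.CHCore Groth.Agent.Lib.Helper59.GammaGen
  Groth.Agent.Lib.Helper59.PolarGamma Groth.Agent.Lib.Helper59.SymN
  Groth.Agent.Lib.Helper59.GammaTS Groth.Agent.Lib.Helper59.SymLaw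

universe u

section Inv

variable {A : Type u} [CommRing A] {P : Type u} [CommRing P] [Algebra A P] {I : Type u}
  (e : Module.Basis I A P) (d : ℕ)

/-- over any test algebra, the invariant tensors are fixed by `Φ` -/
theorem PhiS_of_inv (S : Type u) [CommSemiring S] [Algebra A S]
    (y : S ⊗[A] (⨂[A] _ : Fin d, P))
    (h : ∀ σ, Algebra.TensorProduct.map (AlgHom.id A S) (SymTen.perm A P d σ) y = y) :
    (GRoby.Phi e d).lTensor S y = y := by
  classical
  apply (TensorProduct.equivFinsuppOfBasisRight (GRoby.bT e d)).injective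
  ext c'
  rw [TensorProduct.equivFinsuppOfBasisRight_apply, TensorProduct.equivFinsuppOfBasisRight_apply]
  congr 1
  rw [← LinearMap.comp_apply, ← LinearMap.lTensor_comp, GRoby.coord_Phi]
  obtain ⟨σ, hσ⟩ := GRoby.exists_perm d c' (GRoby.rp d c') (GRoby.cls_rp d c').symm
  rw [hσ, ← GRoby.coord_perm, LinearMap.lTensor_comp, LinearMap.comp_apply, lTensor_eq_map, h σ]

end Inv

section Single

variable {A : Type u} [CommRing A] {Q : Type u} [CommRing Q] [Algebra A Q] (d : ℕ)

theorem perm_single (τ : Equiv.Perm (Fin d)) (j : Fin d) (p : Q) :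
    SymTen.perm A Q d τ (PiTensorProduct.singleAlgHom (R := A) (A := fun _ : Fin d => Q) j p) =
      PiTensorProduct.singleAlgHom (R := A) (A := fun _ : Fin d => Q) (τ j) p := by
  rw [PiTensorProduct.singleAlgHom_apply, PiTensorProduct.singleAlgHom_apply, SymTen.perm_tprod]
  congr 1
  funext i
  simp only [MonoidHom.mulSingle_apply]
  by_cases h : i = τ j
  · subst h
    simp
  · rw [Pi.mulSingle_eq_of_ne h, Pi.mulSingle_eq_of_ne]
    intro h2
    apply h
    rw [← h2]
    simp

end Single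

section Lift

variable {A B C : Type u} [CommRing A] [CommRing B] [Algebra A B] [CommRing C] [Algebra A C]
  {d : ℕ} (γ : MulLaw A B C d) {κ : Type u} (π : MvPolynomial κ A →ₐ[A] B)
  (k : Type u) [Field k] [Algebra A k]

/-- the `k`-algebra map `k ⊗ Q → k ⊗ T^d(Q)` on the `j`-th factor -/
noncomputable def iotaK (A : Type u) [CommRing A] (k : Type u) [Field k] [Algebra A k]
    (Q : Type u) [CommRing Q] [Algebra A Q] (d : ℕ) (j : Fin d) :
    k ⊗[A] Q →ₐ[k] k ⊗[A] (⨂[A] _ : Fin d, Q) :=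
  Algebra.TensorProduct.map (AlgHom.id k k)
    (PiTensorProduct.singleAlgHom (R := A) (A := fun _ : Fin d => Q) j)

theorem iotaK_tmul (Q : Type u) [CommRing Q] [Algebra A Q] (j : Fin d) (c : k) (p : Q) :
    iotaK A k Q d j (c ⊗ₜ[A] p) =
      c ⊗ₜ[A] PiTensorProduct.singleAlgHom (R := A) (A := fun _ : Fin d => Q) j p := rfl

theorem perm_iotaK (Q : Type u) [CommRing Q] [Algebra A Q] (τ : Equiv.Perm (Fin d)) (j : Fin d)
    (v : k ⊗[A] Q) :
    Algebra.TensorProduct.map (AlgHom.id A k) (SymTen.perm A Q d τ) (iotaK A k Q d j v) =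
      iotaK A k Q d (τ j) v := by
  induction v using TensorProduct.induction_on with
  | zero => simp only [map_zero]
  | tmul c p => rw [iotaK_tmul, iotaK_tmul, Algebra.TensorProduct.map_tmul, perm_single,
      AlgHom.id_apply]
  | add a b ha hb => simp only [map_add, ha, hb]

theorem tmap_iotaK (j : Fin d) (v : k ⊗[A] MvPolynomial κ A) :
    Algebra.TensorProduct.map (AlgHom.id A k) (SymTen.tmap A d π)
        (iotaK A k (MvPolynomial κ A) d j v) =
      iotaK A k B d j (Algebra.TensorProduct.map (AlgHom.id k k) π v) := by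
  induction v using TensorProduct.induction_on with
  | zero => simp only [map_zero]
  | tmul c p => rw [iotaK_tmul, Algebra.TensorProduct.map_tmul, Algebra.TensorProduct.map_tmul,
      iotaK_tmul, tmap_single, AlgHom.id_apply, AlgHom.id_apply]
  | add a b ha hb => simp only [map_add, ha, hb]

variable (σ : k ⊗[A] B →ₗ[k] k ⊗[A] MvPolynomial κ A)

/-- the multilinear map underlying the equivariant section -/
noncomputable def sMul : MultilinearMap A (fun _ : Fin d => B)
    (k ⊗[A] (⨂[A] _ : Fin d, MvPolynomial κ A)) :=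
  (MultilinearMap.mkPiAlgebra A (Fin d) (k ⊗[A] (⨂[A] _ : Fin d, MvPolynomial κ A))).compLinearMap
    (fun j => ((iotaK A k (MvPolynomial κ A) d j).toLinearMap.restrictScalars A) ∘ₗ
      (σ.restrictScalars A) ∘ₗ
      (Algebra.TensorProduct.includeRight : B →ₐ[A] k ⊗[A] B).toLinearMap)

/-- the equivariant section `T^d(B) → k ⊗ T^d(P)` -/
noncomputable def sA : (⨂[A] _ : Fin d, B) →ₗ[A] k ⊗[A] (⨂[A] _ : Fin d, MvPolynomial κ A) :=
  PiTensorProduct.lift (sMul k σ)

theorem sA_tprod (b : Fin d → B) :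
    sA k σ (PiTensorProduct.tprod A b) =
      ∏ j, iotaK A k (MvPolynomial κ A) d j (σ ((1 : k) ⊗ₜ[A] b j)) := by
  rw [sA, PiTensorProduct.lift.tprod]
  simp [sMul]

theorem tmap_sA (hσ : ∀ w, Algebra.TensorProduct.map (AlgHom.id k k) π (σ w) = w)
    (t : ⨂[A] _ : Fin d, B) :
    Algebra.TensorProduct.map (AlgHom.id A k) (SymTen.tmap A d π) (sA k σ t) =
      (1 : k) ⊗ₜ[A] t := by
  induction t using PiTensorProduct.induction_on with
  | smul_tprod r b =>
      rw [map_smul, sA_tprod, map_smul, map_prod]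
      simp only [tmap_iotaK, hσ, iotaK_tmul]
      rw [prod_tmul, Finset.prod_const_one, TPow.prod_single_eq_tprod, TensorProduct.tmul_smul]
  | add x y hx hy => rw [map_add, map_add, hx, hy, TensorProduct.tmul_add]

theorem perm_sA (τ : Equiv.Perm (Fin d)) (t : ⨂[A] _ : Fin d, B) :
    Algebra.TensorProduct.map (AlgHom.id A k) (SymTen.perm A (MvPolynomial κ A) d τ) (sA k σ t) =
      sA k σ (SymTen.perm A B d τ t) := by
  induction t using PiTensorProduct.induction_on with
  | smul_tprod r b =>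
      rw [map_smul, sA_tprod, map_smul, map_prod, map_smul, SymTen.perm_tprod, map_smul, sA_tprod]
      simp only [perm_iotaK]
      congr 1
      refine Fintype.prod_equiv τ _ _ fun j => ?_
      rw [Equiv.symm_apply_apply]
  | add x y hx hy => rw [map_add, map_add, hx, hy, map_add, map_add]

theorem perm_sA_of_mem_TS (t : ⨂[A] _ : Fin d, B) (ht : t ∈ SymTen.TS A B d)
    (τ : Equiv.Perm (Fin d)) :
    Algebra.TensorProduct.map (AlgHom.id A k) (SymTen.perm A (MvPolynomial κ A) d τ) (sA k σ t) =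
      sA k σ t := by
  rw [perm_sA, SymTen.perm_apply, ht τ]

end Lift

section Ell

variable {A B C : Type u} [CommRing A] [CommRing B] [Algebra A B] [CommRing C] [Algebra A C]
  {d : ℕ} (γ : MulLaw A B C d) {κ : Type u} (π : MvPolynomial κ A →ₐ[A] B)
  (k : Type u) [Field k] [Algebra A k] (z : C →ₐ[A] k)

/-- `c ⊗ x ↦ c * z x` -/
noncomputable def mz : k ⊗[A] C →ₐ[A] k :=
  (Algebra.TensorProduct.lmul' A).comp (Algebra.TensorProduct.map (AlgHom.id A k) z)

theorem mz_tmul (c : k) (x : C) : mz k z (c ⊗ₜ[A] x) = c * z x := by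
  simp [mz]

/-- the `k`-point of the invariants of `k ⊗ T^d(P)` -/
noncomputable def ell : k ⊗[A] (⨂[A] _ : Fin d, MvPolynomial κ A) →ₗ[A] k :=
  (mz k z).toLinearMap ∘ₗ (ff γ π).lTensor k

theorem ell_apply (u : k ⊗[A] (⨂[A] _ : Fin d, MvPolynomial κ A)) :
    ell γ π k z u = mz k z ((ff γ π).lTensor k u) := rfl

theorem ell_mul (u u' : k ⊗[A] (⨂[A] _ : Fin d, MvPolynomial κ A))
    (h : ∀ σ, Algebra.TensorProduct.map (AlgHom.id A k)
      (SymTen.perm A (MvPolynomial κ A) d σ) u = u)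
    (h' : ∀ σ, Algebra.TensorProduct.map (AlgHom.id A k)
      (SymTen.perm A (MvPolynomial κ A) d σ) u' = u') :
    ell γ π k z (u * u') = ell γ π k z u * ell γ π k z u' := by
  have h1 := PhiS_of_inv (MvPolynomial.basisMonomials κ A) d k u h
  have h2 := PhiS_of_inv (MvPolynomial.basisMonomials κ A) d k u' h'
  have e := ffS_mul_Phi γ π k u u'
  rw [h1, h2] at e
  rw [ell_apply, e, map_mul]
  rfl

theorem ell_pow (u : k ⊗[A] (⨂[A] _ : Fin d, MvPolynomial κ A))
    (h : ∀ σ, Algebra.TensorProduct.map (AlgHom.id A k)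
      (SymTen.perm A (MvPolynomial κ A) d σ) u = u) (n : ℕ) :
    ell γ π k z (u ^ (n + 1)) = ell γ π k z u ^ (n + 1) := by
  induction n with
  | zero => rw [zero_add, pow_one, pow_one]
  | succ n ih =>
      rw [pow_succ, ell_mul γ π k z _ _ (fun σ => by rw [map_pow, h σ]) h, ih, ← pow_succ]

theorem ell_one_tmul (r : ⨂[A] _ : Fin d, MvPolynomial κ A) :
    ell γ π k z ((1 : k) ⊗ₜ[A] r) = z (ff γ π r) := by
  rw [ell_apply, LinearMap.lTensor_tmul, mz_tmul, one_mul]

theorem ell_eq_zero (F : MulLaw A (⨂[A] _ : Fin d, B) C d.factorial)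
    (hF : ∀ (S : Type u) [CommSemiring S] [Algebra A S]
      (z : S ⊗[A] (⨂[A] _ : Fin d, MvPolynomial κ A)),
      F.law.toFun' S (Algebra.TensorProduct.map (AlgHom.id A S) (SymTen.tmap A d π) z) =
        (ff γ π).lTensor S ((SymTen.symmLaw A (MvPolynomial κ A) d).law.toFun' S z))
    (u : k ⊗[A] (⨂[A] _ : Fin d, MvPolynomial κ A))
    (h : ∀ σ, Algebra.TensorProduct.map (AlgHom.id A k)
      (SymTen.perm A (MvPolynomial κ A) d σ) u = u)
    (hu : Algebra.TensorProduct.map (AlgHom.id A k) (SymTen.tmap A d π) u = 0) :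
    ell γ π k z u = 0 := by
  obtain ⟨n, hn⟩ := Nat.exists_eq_succ_of_ne_zero (Nat.factorial_ne_zero d)
  have hn' : d.factorial = n + 1 := hn
  have h1 : ell γ π k z u ^ (n + 1) = 0 := by
    rw [← ell_pow γ π k z u h n, ← hn', ← symm_of_inv d k u h, ell_apply, ← hF, hu]
    have h0 := F.homog k (0 : k) 0
    rw [zero_smul, zero_pow (Nat.factorial_ne_zero d), zero_smul] at h0
    rw [h0, map_zero]
  exact pow_eq_zero_iff (Nat.succ_ne_zero n) |>.mp h1

theorem ell_eq (F : MulLaw A (⨂[A] _ : Fin d, B) C d.factorial)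
    (hF : ∀ (S : Type u) [CommSemiring S] [Algebra A S]
      (z : S ⊗[A] (⨂[A] _ : Fin d, MvPolynomial κ A)),
      F.law.toFun' S (Algebra.TensorProduct.map (AlgHom.id A S) (SymTen.tmap A d π) z) =
        (ff γ π).lTensor S ((SymTen.symmLaw A (MvPolynomial κ A) d).law.toFun' S z))
    (u u' : k ⊗[A] (⨂[A] _ : Fin d, MvPolynomial κ A))
    (h : ∀ σ, Algebra.TensorProduct.map (AlgHom.id A k)
      (SymTen.perm A (MvPolynomial κ A) d σ) u = u)
    (h' : ∀ σ, Algebra.TensorProduct.map (AlgHom.id A k)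
      (SymTen.perm A (MvPolynomial κ A) d σ) u' = u')
    (hu : Algebra.TensorProduct.map (AlgHom.id A k) (SymTen.tmap A d π) u =
      Algebra.TensorProduct.map (AlgHom.id A k) (SymTen.tmap A d π) u') :
    ell γ π k z u = ell γ π k z u' := by
  have h1 := ell_eq_zero γ π k z F hF (u - u') (fun σ => by rw [map_sub, h σ, h' σ])
    (by rw [map_sub, hu, sub_self])
  rw [map_sub, sub_eq_zero] at h1
  exact h1

/-- **lifting field-valued points** from `Γ^d(B)` to `TS^d(B)` -/
theorem exists_lift (hγ : IsGammaD γ) (hπ : Function.Surjective π)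
    (φ : C →ₐ[A] SymTen.TS A B d)
    (hΦ : ∀ (S : Type u) [CommRing S] [Algebra A S] (z : S ⊗[A] B),
      ((SymTen.TS A B d).val.comp φ).toLinearMap.lTensor S (γ.law.toFun' S z) =
        (SymTen.tpowLaw A B d).law.toFun' S z) :
    ∃ x' : SymTen.TS A B d →+* k, ∀ c : C, x' (φ c) = z c := by
  obtain ⟨F, hF⟩ := exists_F γ π hπ
  -- a `k`-linear section of `k ⊗ P → k ⊗ B`
  have hsurj : Function.Surjective (Algebra.TensorProduct.map (AlgHom.id k k) π) := by
    intro w
    obtain ⟨w', hw'⟩ := LinearMap.lTensor_surjective k (g := π.toLinearMap) hπ w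
    refine ⟨w', ?_⟩
    rw [← hw', lTensor_eq_map]
    exact map_id_eq π k w'
  obtain ⟨σ, hσ'⟩ := (Algebra.TensorProduct.map (AlgHom.id k k) π).toLinearMap.exists_rightInverse_of_surjective
    (LinearMap.range_eq_top.mpr hsurj)
  have hσ : ∀ w, Algebra.TensorProduct.map (AlgHom.id k k) π (σ w) = w := fun w =>
    LinearMap.congr_fun hσ' w
  -- invariance and lifting properties of the section
  have hinv : ∀ y : SymTen.TS A B d, ∀ τ, Algebra.TensorProduct.map (AlgHom.id A k)
      (SymTen.perm A (MvPolynomial κ A) d τ) (sA k σ y.1) = sA k σ y.1 := fun y τ =>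
    perm_sA_of_mem_TS k σ y.1 y.2 τ
  have hq : ∀ t : ⨂[A] _ : Fin d, B,
      Algebra.TensorProduct.map (AlgHom.id A k) (SymTen.tmap A d π) (sA k σ t) =
        (1 : k) ⊗ₜ[A] t := fun t => tmap_sA π k σ hσ t
  have hinv1 : ∀ τ, Algebra.TensorProduct.map (AlgHom.id A k)
      (SymTen.perm A (MvPolynomial κ A) d τ)
      (1 : k ⊗[A] (⨂[A] _ : Fin d, MvPolynomial κ A)) = 1 := fun τ => map_one _
  refine ⟨{ toFun := fun y => ell γ π k z (sA k σ y.1)
            map_one' := ?_
            map_mul' := ?_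
            map_zero' := ?_
            map_add' := ?_ }, ?_⟩
  · have e := ell_eq γ π k z F hF (sA k σ (1 : SymTen.TS A B d).1) 1 (hinv 1) hinv1
      (by rw [hq, map_one]; rfl)
    rw [e, Algebra.TensorProduct.one_def, ell_one_tmul, ff_one, map_one]
  · intro y y'
    have e := ell_eq γ π k z F hF (sA k σ (y * y').1) (sA k σ y.1 * sA k σ y'.1) (hinv _)
      (fun τ => by rw [map_mul, hinv y τ, hinv y' τ])
      (by
        rw [hq, map_mul, hq, hq, Algebra.TensorProduct.tmul_mul_tmul, one_mul]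
        rfl)
    rw [e, ell_mul γ π k z _ _ (hinv y) (hinv y')]
  · show ell γ π k z (sA k σ (0 : ⨂[A] _ : Fin d, B)) = 0
    rw [map_zero, map_zero]
  · intro y y'
    show ell γ π k z (sA k σ (y.1 + y'.1)) = _
    rw [map_add, map_add]
  · intro c
    obtain ⟨r, hr, rfl⟩ := ff_surj γ π hγ hπ c
    show ell γ π k z (sA k σ (φ (ff γ π r)).1) = _
    have hr' : ∀ τ, Algebra.TensorProduct.map (AlgHom.id A k)
        (SymTen.perm A (MvPolynomial κ A) d τ) ((1 : k) ⊗ₜ[A] r) = (1 : k) ⊗ₜ[A] r := by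
      intro τ
      rw [Algebra.TensorProduct.map_tmul, AlgHom.id_apply, SymTen.perm_apply, hr τ]
    have e := ell_eq γ π k z F hF (sA k σ (φ (ff γ π r)).1) ((1 : k) ⊗ₜ[A] r) (hinv _) hr'
      (by
        rw [hq, Algebra.TensorProduct.map_tmul, AlgHom.id_apply, ← Phi_ff γ π _ hΦ r hr]
        rfl)
    rw [e, ell_one_tmul]

end Ell

end Groth.Agent.Lib.Helper59.ResLift
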