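import Groth.Agent.Lib.Helper59.TSGamma

/-!
# The symmetric tensors of a polynomial ring in finitely many variables are of finite type
-/

set_option autoImplicit false

namespace Groth.Agent.Lib.Helper59.TSFinType

open scoped TensorProduct
open PolLaw Groth.Agent.Lib.Helper59.SymN

universe u

/-- **Noether**: the invariants of a finite group acting on a finitely generated commutative ring
form a finitely generated ring -/
theorem fixed_fg (R : Type u) [CommRing R] (G : Type) [Group G] [Finite G] [MulSemiringAction G R]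
    [Algebra.FiniteType ℤ R] : (⊤ : Subalgebra ℤ (FixedPoints.subring R G)).FG := by
  have : Algebra.IsInvariant (FixedPoints.subring R G) R G := ⟨fun b hb => ⟨⟨b, hb⟩, rfl⟩⟩
  have hint : Algebra.IsIntegral (FixedPoints.subring R G) R :=
    Algebra.IsInvariant.isIntegral _ _ G
  have hft2 : Algebra.FiniteType (FixedPoints.subring R G) R :=
    Algebra.FiniteType.of_restrictScalars_finiteType ℤ _ _
  have hfin : Module.Finite (FixedPoints.subring R G) R := Algebra.IsIntegral.finite
  exact fg_of_fg_of_fg ℤ (FixedPoints.subring R G) R (Algebra.FiniteType.out) hfin.fg_top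
    Subtype.val_injective

section Action

variable {A : Type u} [CommRing A] {B : Type u} [CommRing B] [Algebra A B] (d : ℕ)

theorem perm_one (z : ⨂[A] _ : Fin d, B) : SymTen.perm A B d 1 z = z := by
  induction z using PiTensorProduct.induction_on with
  | smul_tprod r f =>
      rw [map_smul, SymTen.perm_tprod]
      rfl
  | add x y hx hy => rw [map_add, hx, hy]

theorem perm_single (σ : Equiv.Perm (Fin d)) (j : Fin d) (b : B) :
    SymTen.perm A B d σ (PiTensorProduct.singleAlgHom (R := A) (A := fun _ : Fin d => B) j b) =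
      PiTensorProduct.singleAlgHom (R := A) (A := fun _ : Fin d => B) (σ j) b := by
  classical
  rw [PiTensorProduct.singleAlgHom_apply, PiTensorProduct.singleAlgHom_apply, SymTen.perm_tprod]
  congr 1
  funext i
  simp only [MonoidHom.mulSingle_apply, Pi.mulSingle_apply]
  by_cases h : i = σ j
  · subst h
    simp
  · rw [if_neg h, if_neg]
    intro h2
    apply h
    rw [← h2]
    simp

end Action

section Main

variable {A : Type u} [CommRing A] {κ : Type u} [Finite κ] (d : ℕ)

/-- the generators `1 ⊗ ⋯ ⊗ X_i ⊗ ⋯ ⊗ 1` -/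
def Gen : Set (⨂[A] _ : Fin d, MvPolynomial κ A) :=
  Set.range (fun p : Fin d × κ =>
    PiTensorProduct.singleAlgHom (R := A) (A := fun _ : Fin d => MvPolynomial κ A) p.1
      (MvPolynomial.X p.2))

theorem Gen_finite : (Gen (A := A) (κ := κ) d).Finite := Set.finite_range _

/-- the subring generated by the variables -/
noncomputable def R0 : Subalgebra ℤ (⨂[A] _ : Fin d, MvPolynomial κ A) :=
  Algebra.adjoin ℤ (Gen (A := A) (κ := κ) d)

theorem R0_fg : (R0 (A := A) (κ := κ) d).FG :=
  ⟨(Gen_finite d).toFinset, by rw [Set.Finite.coe_toFinset]; rfl⟩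

omit [Finite κ] in
theorem perm_mem_R0 (σ : Equiv.Perm (Fin d)) (z : ⨂[A] _ : Fin d, MvPolynomial κ A)
    (hz : z ∈ R0 (A := A) (κ := κ) d) : SymTen.perm A (MvPolynomial κ A) d σ z ∈ R0 (A := A) (κ := κ) d := by
  refine Algebra.adjoin_induction (p := fun z _ => SymTen.perm A (MvPolynomial κ A) d σ z ∈
    R0 (A := A) (κ := κ) d) ?_ ?_ ?_ ?_ hz
  · rintro _ ⟨p, rfl⟩
    rw [perm_single]
    exact Algebra.subset_adjoin ⟨(σ p.1, p.2), rfl⟩
  · intro r
    rw [eq_intCast (algebraMap ℤ (⨂[A] _ : Fin d, MvPolynomial κ A)) r, map_intCast]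
    exact intCast_mem _ r
  · intro x y _ _ hx hy
    rw [map_add]
    exact add_mem hx hy
  · intro x y _ _ hx hy
    rw [map_mul]
    exact mul_mem hx hy

/-- the permutation action on the subring `R0` -/
noncomputable instance actR0 : MulSemiringAction (Equiv.Perm (Fin d)) (R0 (A := A) (κ := κ) d) where
  smul σ z := ⟨SymTen.perm A (MvPolynomial κ A) d σ z.1, perm_mem_R0 d σ z.1 z.2⟩
  one_smul z := Subtype.ext (perm_one d z.1)
  mul_smul σ τ z := Subtype.ext (perm_perm d τ σ z.1).symm
  smul_zero _ := Subtype.ext (map_zero _)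
  smul_add _ _ _ := Subtype.ext (map_add _ _ _)
  smul_one _ := Subtype.ext (map_one _)
  smul_mul _ _ _ := Subtype.ext (map_mul _ _ _)

omit [Finite κ] in
theorem smul_val (σ : Equiv.Perm (Fin d)) (z : R0 (A := A) (κ := κ) d) :
    (σ • z).1 = SymTen.perm A (MvPolynomial κ A) d σ z.1 := rfl

theorem R0_finiteType :
    @Algebra.FiniteType ℤ (R0 (A := A) (κ := κ) d) _ _ (Ring.toIntAlgebra _) := by
  have h : Algebra.FiniteType ℤ (R0 (A := A) (κ := κ) d) := ⟨(Subalgebra.fg_top _).mpr (R0_fg d)⟩
  convert h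
  · rfl
  · exact Subsingleton.elim _ _

omit [Finite κ] in
theorem mem_fixed_iff (z : R0 (A := A) (κ := κ) d) :
    z ∈ FixedPoints.subring (R0 (A := A) (κ := κ) d) (Equiv.Perm (Fin d)) ↔
      z.1 ∈ SymTen.TS A (MvPolynomial κ A) d := by
  rw [SymTen.mem_TS_iff]
  constructor
  · intro h σ
    rw [← SymTen.perm_apply, ← smul_val]
    exact congrArg Subtype.val (h σ)
  · intro h σ
    apply Subtype.ext
    rw [smul_val, SymTen.perm_apply]
    exact h σ

omit [Finite κ] in
theorem single_monomial_mem (j : Fin d) (m : κ →₀ ℕ) :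
    PiTensorProduct.singleAlgHom (R := A) (A := fun _ : Fin d => MvPolynomial κ A) j
      (MvPolynomial.monomial m 1) ∈ R0 (A := A) (κ := κ) d := by
  rw [MvPolynomial.monomial_eq, map_one, one_mul, Finsupp.prod, map_prod]
  refine Subalgebra.prod_mem _ fun i _ => ?_
  rw [map_pow]
  refine Subalgebra.pow_mem _ ?_ _
  show _ ∈ Algebra.adjoin ℤ (Gen (A := A) (κ := κ) d)
  exact Algebra.subset_adjoin ⟨(j, i), rfl⟩

omit [Finite κ] in
theorem bT_mem (c : Fin d → (κ →₀ ℕ)) :
    GRoby.bT (MvPolynomial.basisMonomials κ A) d c ∈ R0 (A := A) (κ := κ) d := by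
  rw [GRoby.bT_apply, ← TPow.prod_single_eq_tprod]
  refine Subalgebra.prod_mem _ fun j _ => ?_
  rw [MvPolynomial.coe_basisMonomials]
  exact single_monomial_mem d j _

omit [Finite κ] in
theorem Oa_mem (α : (κ →₀ ℕ) →₀ ℕ) :
    GRoby.Oa (MvPolynomial.basisMonomials κ A) d α ∈ R0 (A := A) (κ := κ) d := by
  classical
  rw [← (GRoby.bT (MvPolynomial.basisMonomials κ A) d).linearCombination_repr
    (GRoby.Oa (MvPolynomial.basisMonomials κ A) d α), Finsupp.linearCombination_apply, Finsupp.sum]
  refine Subalgebra.sum_mem _ fun c hc => ?_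
  rw [GRoby.repr_Oa]
  split_ifs with h
  · rw [one_smul]
    exact bT_mem d c
  · rw [zero_smul]
    exact Subalgebra.zero_mem _

/-- the symmetric tensors of a polynomial ring in finitely many variables are finitely generated -/
theorem TS_fg : (SymTen.TS A (MvPolynomial κ A) d).FG := by
  classical
  have := R0_finiteType (A := A) (κ := κ) d
  obtain ⟨s₀, hs₀⟩ := fixed_fg (R0 (A := A) (κ := κ) d) (Equiv.Perm (Fin d))
  let s : Finset (⨂[A] _ : Fin d, MvPolynomial κ A) := s₀.image (fun x => x.1.1)
  refine ⟨s, le_antisymm ?_ ?_⟩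
  · rw [Algebra.adjoin_le_iff]
    intro y hy
    obtain ⟨x, _, rfl⟩ := Finset.mem_image.mp (Finset.mem_coe.mp hy)
    exact (mem_fixed_iff d x.1).mp x.2
  · -- every invariant of `R0` lies in the `A`-algebra generated by `s`
    have key : ∀ x : FixedPoints.subring (R0 (A := A) (κ := κ) d) (Equiv.Perm (Fin d)),
        x.1.1 ∈ Algebra.adjoin A (s : Set (⨂[A] _ : Fin d, MvPolynomial κ A)) := by
      intro x
      have hx : x ∈ Algebra.adjoin ℤ (s₀ : Set _) := by rw [hs₀]; trivial
      refine Algebra.adjoin_induction (p := fun x _ => x.1.1 ∈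
        Algebra.adjoin A (s : Set (⨂[A] _ : Fin d, MvPolynomial κ A))) ?_ ?_ ?_ ?_ hx
      · intro y hy
        exact Algebra.subset_adjoin (Finset.mem_coe.mpr (Finset.mem_image.mpr ⟨y, hy, rfl⟩))
      · intro r
        have e : algebraMap ℤ (FixedPoints.subring (R0 (A := A) (κ := κ) d)
            (Equiv.Perm (Fin d))) r = (r : FixedPoints.subring (R0 (A := A) (κ := κ) d)
            (Equiv.Perm (Fin d))) := eq_intCast _ r
        rw [e]
        exact intCast_mem _ r
      · intro a b _ _ ha hb
        exact Subalgebra.add_mem _ ha hb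
      · intro a b _ _ ha hb
        exact Subalgebra.mul_mem _ ha hb
    intro y hy
    have h1 : GRoby.Phi (MvPolynomial.basisMonomials κ A) d y =
        ((GRoby.bT (MvPolynomial.basisMonomials κ A) d).repr y).sum fun c a =>
          a • GRoby.Phi (MvPolynomial.basisMonomials κ A) d
            (GRoby.bT (MvPolynomial.basisMonomials κ A) d c) := by
      conv_lhs => rw [← (GRoby.bT (MvPolynomial.basisMonomials κ A) d).linearCombination_repr y,
        Finsupp.linearCombination_apply, map_finsuppSum]
      simp only [map_smul]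
    rw [← GRoby.Phi_of_mem_TS (MvPolynomial.basisMonomials κ A) d y hy, h1]
    refine Subalgebra.sum_mem _ fun c _ => Subalgebra.smul_mem _ ?_ _
    have hR : GRoby.Phi (MvPolynomial.basisMonomials κ A) d
        (GRoby.bT (MvPolynomial.basisMonomials κ A) d c) ∈ R0 (A := A) (κ := κ) d := by
      rw [GRoby.Phi_bT]
      split_ifs
      · exact Oa_mem d _
      · exact Subalgebra.zero_mem _
    have hT := SymLaw.Phi_mem_TS (MvPolynomial.basisMonomials κ A) d
      (GRoby.bT (MvPolynomial.basisMonomials κ A) d c)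
    exact key ⟨⟨_, hR⟩, (mem_fixed_iff d ⟨_, hR⟩).mpr hT⟩

end Main

/-- the divided power algebra of a finite type algebra is of finite type -/
theorem finiteType_of_isGammaD {A : Type u} [CommRing A] {B : Type u} [CommRing B] [Algebra A B]
    {C : Type u} [CommRing C] [Algebra A C] {d : ℕ} (γ : MulLaw A B C d) (hγ : IsGammaD γ)
    [Algebra.FiniteType A B] : Algebra.FiniteType A C := by
  obtain ⟨κ, hκ, q, hq⟩ := Algebra.FiniteType.iff_quotient_mvPolynomial'.mp
    (inferInstance : Algebra.FiniteType A B)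
  obtain ⟨f, hf, -⟩ := TSGamma.isGammaD_tau_of_flat (A := A) (B := MvPolynomial κ A) d C
    (γ.precomp q)
  have hsurj : Function.Surjective f :=
    GammaGen.surjective_of_surjective (TSGamma.tau A (MvPolynomial κ A) d) γ hγ q hq f hf
  have : Algebra.FiniteType A (SymTen.TS A (MvPolynomial κ A) d) :=
    ⟨(Subalgebra.fg_top _).mpr (TS_fg d)⟩
  exact Algebra.FiniteType.of_surjective f hsurj

end Groth.Agent.Lib.Helper59.TSFinType
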