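import Groth.Agent.Lib.Helper59.SegreCore
import Groth.Agent.Lib.Helper59.TSFinType

/-!
# Symmetric products of `Proj B`: the opens `D_+(f ⊗ ⋯ ⊗ f)` cover
-/

set_option autoImplicit false

namespace Groth.Agent.Lib.Helper59.SegreDescent

open scoped TensorProduct
open Groth.Agent.Lib.Helper59.SymN

universe u

section Abstract

/-- descending radical membership along the inclusion of the invariants of a finite group -/
theorem radical_descent {A T : Type*} [CommRing A] [CommRing T] [Algebra A T]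
    (C D : Subalgebra A T) (hDC : D ≤ C)
    (G : Type*) [Group G] [Finite G] [MulSemiringAction G C]
    (hfix : ∀ z : C, (∀ g : G, g • z = z) → z.1 ∈ D)
    (S : Set D) (x : D)
    (h : ∀ 𝔓 : Ideal C, 𝔓.IsPrime → (∀ s ∈ S, Subalgebra.inclusion hDC s ∈ 𝔓) →
      Subalgebra.inclusion hDC x ∈ 𝔓) :
    ∃ m : ℕ, 0 < m ∧ x ^ m ∈ Ideal.span S := by
  let : Algebra D C := (Subalgebra.inclusion hDC).toRingHom.toAlgebra
  have hinv : Algebra.IsInvariant D C G :=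
    ⟨fun b hb => ⟨⟨b.1, hfix b hb⟩, Subtype.ext rfl⟩⟩
  have hint : Algebra.IsIntegral D C := Algebra.IsInvariant.isIntegral D C G
  have hrad : x ∈ (Ideal.span S).radical := by
    rw [Ideal.radical_eq_sInf, Ideal.mem_sInf]
    rintro q ⟨hSq, hq⟩
    have := hq
    obtain ⟨𝔓, -, h𝔓, h𝔓q⟩ := Ideal.exists_ideal_over_prime_of_isIntegral q (⊥ : Ideal C) (by
      intro y hy
      rw [Ideal.mem_comap, Ideal.mem_bot] at hy
      have : y = 0 := by
        apply Subalgebra.inclusion_injective hDC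
        rw [map_zero]; exact hy
      rw [this]; exact zero_mem _)
    rw [← h𝔓q, Ideal.mem_comap]
    apply h 𝔓 h𝔓
    intro s hs
    have : s ∈ q := hSq (Ideal.subset_span hs)
    rw [← h𝔓q, Ideal.mem_comap] at this
    exact this
  obtain ⟨m, hm⟩ := hrad
  refine ⟨m + 1, Nat.succ_pos m, ?_⟩
  rw [pow_succ]
  exact Ideal.mul_mem_right _ _ hm

theorem natCast_le_mk_of_isFractionRing (D : Type u) [CommRing D] [IsDomain D] (F : Type u)
    [Field F] [Algebra D F] [IsFractionRing D F] (n : ℕ) (h : (n : Cardinal) ≤ Cardinal.mk F) :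
    (n : Cardinal) ≤ Cardinal.mk D := by
  rcases finite_or_infinite D with hfin | hinf
  · have hfield : IsField D := Finite.isField_of_domain D
    have hsurj : Function.Surjective (algebraMap D F) :=
      IsFractionRing.surjective_iff_isField.2 hfield
    exact h.trans (Cardinal.mk_le_of_surjective hsurj)
  · exact (Cardinal.natCast_lt_aleph0 (n := n)).le.trans (Cardinal.aleph0_le_mk D)

end Abstract

section Inst

variable {A B : Type u} [CommRing A] [CommRing B] [Algebra A B] (𝒜 : ℕ → Submodule A B) (d : ℕ)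

/-- the Segre product inside the tensor power -/
noncomputable def Cc : Subalgebra A (⨂[A] _ : Fin d, B) :=
  Algebra.adjoin A {t | ∃ (k : ℕ) (b : Fin d → B), (∀ i, b i ∈ 𝒜 k) ∧
    t = PiTensorProduct.tprod A b}

variable {𝒜 d}

theorem tprod_mem_Cc {n : ℕ} (b : Fin d → B) (hb : ∀ i, b i ∈ 𝒜 n) :
    PiTensorProduct.tprod A b ∈ Cc 𝒜 d :=
  Algebra.subset_adjoin ⟨n, b, hb, rfl⟩

theorem perm_mem_Cc (σ : Equiv.Perm (Fin d)) (z : ⨂[A] _ : Fin d, B) (hz : z ∈ Cc 𝒜 d) :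
    SymTen.perm A B d σ z ∈ Cc 𝒜 d := by
  induction hz using Algebra.adjoin_induction with
  | mem x hx =>
    obtain ⟨k, b, hb, rfl⟩ := hx
    rw [SymTen.perm_tprod]
    exact tprod_mem_Cc _ (fun i => hb _)
  | algebraMap r =>
    rw [AlgHom.commutes]
    exact Subalgebra.algebraMap_mem _ r
  | add x y _ _ hx hy =>
    rw [map_add]
    exact add_mem hx hy
  | mul x y _ _ hx hy =>
    rw [map_mul]
    exact mul_mem hx hy

/-- the permutation action on the Segre product -/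
noncomputable instance actCc : MulSemiringAction (Equiv.Perm (Fin d)) (Cc 𝒜 d) where
  smul σ z := ⟨SymTen.perm A B d σ z.1, perm_mem_Cc σ z.1 z.2⟩
  one_smul z := Subtype.ext (TSFinType.perm_one d z.1)
  mul_smul σ τ z := Subtype.ext (perm_perm d τ σ z.1).symm
  smul_zero _ := Subtype.ext (map_zero _)
  smul_add _ _ _ := Subtype.ext (map_add _ _ _)
  smul_one _ := Subtype.ext (map_one _)
  smul_mul _ _ _ := Subtype.ext (map_mul _ _ _)

theorem smul_val (σ : Equiv.Perm (Fin d)) (z : Cc 𝒜 d) :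
    (σ • z).1 = SymTen.perm A B d σ z.1 := rfl

theorem fixed_mem (z : Cc 𝒜 d) (hz : ∀ σ : Equiv.Perm (Fin d), σ • z = z) :
    z.1 ∈ Cc 𝒜 d ⊓ SymTen.TS A B d := by
  refine ⟨z.2, ?_⟩
  change z.1 ∈ SymTen.TS A B d
  rw [SymTen.mem_TS_iff]
  intro σ
  rw [← SymTen.perm_apply, ← smul_val]
  exact congrArg Subtype.val (hz σ)

/-- the image of an ideal of the Segre product in the tensor power -/
noncomputable def img (𝔓 : Ideal (Cc 𝒜 d)) : Submodule A (⨂[A] _ : Fin d, B) :=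
  Submodule.map (Cc 𝒜 d).val.toLinearMap (𝔓.restrictScalars A)

theorem mem_img (𝔓 : Ideal (Cc 𝒜 d)) (x : ⨂[A] _ : Fin d, B) (hx : x ∈ Cc 𝒜 d) :
    x ∈ img 𝔓 ↔ (⟨x, hx⟩ : Cc 𝒜 d) ∈ 𝔓 := by
  constructor
  · rintro ⟨y, hy, rfl⟩
    exact hy
  · intro h
    exact ⟨⟨x, hx⟩, h, rfl⟩

theorem tprod_mul_eq (b c : Fin d → B) :
    PiTensorProduct.tprod A (fun i => b i * c i) =
      PiTensorProduct.tprod A b * PiTensorProduct.tprod A c := by
  rw [PiTensorProduct.tprod_mul_tprod]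
  rfl

theorem hmul_img (𝔓 : Ideal (Cc 𝒜 d)) (n m : ℕ) (b c : Fin d → B) (hb : ∀ i, b i ∈ 𝒜 n)
    (hc : ∀ i, c i ∈ 𝒜 m) (h : PiTensorProduct.tprod A b ∈ img 𝔓) :
    PiTensorProduct.tprod A (fun i => b i * c i) ∈ img 𝔓 := by
  rw [mem_img 𝔓 _ (tprod_mem_Cc b hb)] at h
  have h2 := 𝔓.mul_mem_right (⟨_, tprod_mem_Cc c hc⟩ : Cc 𝒜 d) h
  refine ⟨_, h2, ?_⟩
  rw [tprod_mul_eq]
  rfl

theorem hprime_img (𝔓 : Ideal (Cc 𝒜 d)) [𝔓.IsPrime] (n m : ℕ) (b c : Fin d → B)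
    (hb : ∀ i, b i ∈ 𝒜 n) (hc : ∀ i, c i ∈ 𝒜 m)
    (h : PiTensorProduct.tprod A (fun i => b i * c i) ∈ img 𝔓) :
    PiTensorProduct.tprod A b ∈ img 𝔓 ∨ PiTensorProduct.tprod A c ∈ img 𝔓 := by
  obtain ⟨y, hy, hyx⟩ := h
  have e : y = (⟨_, tprod_mem_Cc b hb⟩ : Cc 𝒜 d) * ⟨_, tprod_mem_Cc c hc⟩ := by
    apply Subtype.ext
    rw [tprod_mul_eq] at hyx
    exact hyx
  have hy' : (⟨_, tprod_mem_Cc b hb⟩ : Cc 𝒜 d) * ⟨_, tprod_mem_Cc c hc⟩ ∈ 𝔓 := e ▸ hy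
  rcases Ideal.IsPrime.mem_or_mem ‹_› hy' with h1 | h1
  · exact Or.inl ⟨_, h1, rfl⟩
  · exact Or.inr ⟨_, h1, rfl⟩

theorem hone_img (𝔓 : Ideal (Cc 𝒜 d)) [𝔓.IsPrime] :
    PiTensorProduct.tprod A (fun _ : Fin d => (1 : B)) ∉ img 𝔓 := by
  rintro ⟨y, hy, hyx⟩
  have e : y = 1 := by
    apply Subtype.ext
    exact hyx.trans (PiTensorProduct.one_def (R := A) (A := fun _ : Fin d => B)).symm
  rw [e] at hy
  exact Ideal.IsPrime.ne_top ‹_› ((Ideal.eq_top_iff_one _).2 hy)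

end Inst

section Main

variable {A B : Type u} [CommRing A] [CommRing B] [Algebra A B] (𝒜 : ℕ → Submodule A B)
  [GradedAlgebra 𝒜]

theorem main1 (hgen : Algebra.adjoin A (𝒜 1 : Set B) = ⊤) (d : ℕ)
    (D : Subalgebra A (⨂[A] _ : Fin d, B))
    (hD : D = Algebra.adjoin A {t | ∃ (k : ℕ) (b : Fin d → B), (∀ i, b i ∈ 𝒜 k) ∧
      t = PiTensorProduct.tprod A b} ⊓ SymTen.TS A B d)
    (k : ℕ) (hk : 0 < k) (t : ⨂[A] _ : Fin d, B) (htD : t ∈ D)
    (htk : t ∈ Submodule.span A {s | ∃ b : Fin d → B, (∀ i, b i ∈ 𝒜 k) ∧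
      s = PiTensorProduct.tprod A b}) :
    ∃ m : ℕ, 0 < m ∧ (⟨t, htD⟩ : D) ^ m ∈
      Ideal.span {x : D | ∃ (n : ℕ) (f : B), 0 < n ∧ f ∈ 𝒜 n ∧
        (x : ⨂[A] _ : Fin d, B) = PiTensorProduct.tprod A (fun _ : Fin d => f)} := by
  have hD' : D = Cc 𝒜 d ⊓ SymTen.TS A B d := hD
  clear hD
  subst hD'
  refine radical_descent (Cc 𝒜 d) (Cc 𝒜 d ⊓ SymTen.TS A B d) inf_le_left (Equiv.Perm (Fin d))
    fixed_mem _ _ ?_
  intro 𝔓 h𝔓 hS
  have := h𝔓
  have hcore := SegreCore.core1 (𝒜 := 𝒜) (d := d) (𝔓 := img 𝔓) (hmul_img 𝔓) (hprime_img 𝔓)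
    (hone_img 𝔓) hgen (by
      intro n hn f hf
      have hmemC : PiTensorProduct.tprod A (fun _ : Fin d => f) ∈ Cc 𝒜 d :=
        tprod_mem_Cc _ (fun _ => hf)
      have hmemD : PiTensorProduct.tprod A (fun _ : Fin d => f) ∈
          Cc 𝒜 d ⊓ SymTen.TS A B d := ⟨hmemC, (SymTen.tpow A B d f).2⟩
      have := hS ⟨_, hmemD⟩ ⟨n, f, hn, hf, rfl⟩
      exact ⟨_, this, rfl⟩)
  have hle : Submodule.span A {s | ∃ b : Fin d → B, (∀ i, b i ∈ 𝒜 k) ∧
      s = PiTensorProduct.tprod A b} ≤ img 𝔓 := by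
    rw [Submodule.span_le]
    rintro _ ⟨b, hb, rfl⟩
    exact hcore k hk b hb
  exact (mem_img 𝔓 t htD.1).1 (hle htk)

theorem main2 (hgen : Algebra.adjoin A (𝒜 1 : Set B) = ⊤) (d : ℕ)
    (hres : ∀ p : PrimeSpectrum A, (d : Cardinal) ≤ Cardinal.mk p.asIdeal.ResidueField)
    (D : Subalgebra A (⨂[A] _ : Fin d, B))
    (hD : D = Algebra.adjoin A {t | ∃ (k : ℕ) (b : Fin d → B), (∀ i, b i ∈ 𝒜 k) ∧
      t = PiTensorProduct.tprod A b} ⊓ SymTen.TS A B d)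
    (k : ℕ) (hk : 0 < k) (t : ⨂[A] _ : Fin d, B) (htD : t ∈ D)
    (htk : t ∈ Submodule.span A {s | ∃ b : Fin d → B, (∀ i, b i ∈ 𝒜 k) ∧
      s = PiTensorProduct.tprod A b}) :
    ∃ m : ℕ, 0 < m ∧ (⟨t, htD⟩ : D) ^ m ∈
      Ideal.span {x : D | ∃ f : B, f ∈ 𝒜 1 ∧
        (x : ⨂[A] _ : Fin d, B) = PiTensorProduct.tprod A (fun _ : Fin d => f)} := by
  have hD' : D = Cc 𝒜 d ⊓ SymTen.TS A B d := hD
  clear hD
  subst hD'
  refine radical_descent (Cc 𝒜 d) (Cc 𝒜 d ⊓ SymTen.TS A B d) inf_le_left (Equiv.Perm (Fin d))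
    fixed_mem _ _ ?_
  intro 𝔓 h𝔓 hS
  have := h𝔓
  let p : Ideal A := 𝔓.comap (algebraMap A (Cc 𝒜 d))
  have hpprime : p.IsPrime := Ideal.comap_isPrime _ _
  have hle : ((d : ℕ) : Cardinal) ≤ Cardinal.mk (A ⧸ p) :=
    natCast_le_mk_of_isFractionRing (A ⧸ p) p.ResidueField d (hres ⟨p, hpprime⟩)
  obtain ⟨e⟩ : Nonempty (Fin d ↪ A ⧸ p) := by
    rw [← Cardinal.lift_mk_le']
    simpa using hle
  have hcore := SegreCore.core2 (𝒜 := 𝒜) (d := d) (𝔓 := img 𝔓) (hmul_img 𝔓) (hprime_img 𝔓)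
    (hone_img 𝔓) hgen p (by
      rintro a ⟨y, hy, hyx⟩
      change algebraMap A (Cc 𝒜 d) a ∈ 𝔓
      have e : y = algebraMap A (Cc 𝒜 d) a := by
        apply Subtype.ext
        refine hyx.trans ?_
        have h1 : PiTensorProduct.tprod A (fun _ : Fin d => (1 : B)) = 1 :=
          (PiTensorProduct.one_def (R := A) (A := fun _ : Fin d => B)).symm
        rw [h1, ← Algebra.algebraMap_eq_smul_one]
        rfl
      rw [← e]
      exact hy) e (by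
      intro f hf
      have hmemC : PiTensorProduct.tprod A (fun _ : Fin d => f) ∈ Cc 𝒜 d :=
        tprod_mem_Cc _ (fun _ => hf)
      have hmemD : PiTensorProduct.tprod A (fun _ : Fin d => f) ∈
          Cc 𝒜 d ⊓ SymTen.TS A B d := ⟨hmemC, (SymTen.tpow A B d f).2⟩
      have := hS ⟨_, hmemD⟩ ⟨f, hf, rfl⟩
      exact ⟨_, this, rfl⟩)
  have hle : Submodule.span A {s | ∃ b : Fin d → B, (∀ i, b i ∈ 𝒜 k) ∧
      s = PiTensorProduct.tprod A b} ≤ img 𝔓 := by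
    rw [Submodule.span_le]
    rintro _ ⟨b, hb, rfl⟩
    exact hcore k hk b hb
  exact (mem_img 𝔓 t htD.1).1 (hle htk)

end Main

end Groth.Agent.Lib.Helper59.SegreDescent
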