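import Groth.Agent.Lib.Helper59.SegreDescent

/-!
# Products of linear forms and the degree one covering of the symmetric product
-/

set_option autoImplicit false

namespace Groth.Agent.Lib.Helper59.SegreLin

open scoped TensorProduct
open Groth.Agent.Lib.Helper59.SymN Groth.Agent.Lib.Helper59.SegreDescent

universe u

section Abstract

/-- the type (multiset of values) of a function `Fin d → Fin d` -/
noncomputable def ty {d : ℕ} (c : Fin d → Fin d) : Fin d →₀ ℕ := ∑ i, Finsupp.single (c i) 1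

theorem ty_comp {d : ℕ} (c : Fin d → Fin d) (σ : Equiv.Perm (Fin d)) :
    ty (fun i => c (σ i)) = ty c := by
  unfold ty
  exact Equiv.sum_comp σ (fun i => Finsupp.single (c i) 1)

open MvPolynomial in
theorem exists_coeff_ne_zero {R : Type*} [CommRing R] [IsDomain R] (d : ℕ)
    (u : Fin d → Fin d → R) (hu : ∀ i, u i i ≠ 0) :
    ∃ m : Fin d →₀ ℕ,
      ∑ c ∈ Finset.univ.filter (fun c : Fin d → Fin d => ty c = m), ∏ i, u i (c i) ≠ 0 := by
  classical
  set P : MvPolynomial (Fin d) R := ∏ i, ∑ j, C (u i j) * X j with hP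
  have hP0 : P ≠ 0 := by
    rw [hP, Finset.prod_ne_zero_iff]
    intro i _ h0
    have := congrArg (coeff (Finsupp.single i 1)) h0
    rw [coeff_sum, coeff_zero] at this
    simp only [coeff_C_mul, coeff_X, Finsupp.single_left_inj (one_ne_zero), mul_ite, mul_one,
      mul_zero, Finset.sum_ite_eq', Finset.mem_univ, if_true] at this
    exact hu i this
  have hexp : P = ∑ c : Fin d → Fin d, monomial (ty c) (∏ i, u i (c i)) := by
    rw [hP, Finset.prod_univ_sum, Fintype.piFinset_univ]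
    refine Finset.sum_congr rfl fun c _ => ?_
    rw [Finset.prod_mul_distrib, ← map_prod, ty, monomial_sum_index]
    rfl
  rw [MvPolynomial.ne_zero_iff] at hP0
  obtain ⟨m, hm⟩ := hP0
  refine ⟨m, ?_⟩
  rw [hexp, coeff_sum] at hm
  simp only [coeff_monomial] at hm
  rwa [← Finset.sum_filter] at hm

theorem exists_sum_notMem {R : Type*} [CommRing R] (𝔓 : Ideal R) [𝔓.IsPrime] (d : ℕ)
    (U : Fin d → Fin d → R) (hU : ∀ i, U i i ∉ 𝔓) :
    ∃ m : Fin d →₀ ℕ,
      ∑ c ∈ Finset.univ.filter (fun c : Fin d → Fin d => ty c = m), ∏ i, U i (c i) ∉ 𝔓 := by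
  classical
  obtain ⟨m, hm⟩ := exists_coeff_ne_zero (R := R ⧸ 𝔓) d
    (fun i j => Ideal.Quotient.mk 𝔓 (U i j))
    (fun i h => hU i (Ideal.Quotient.eq_zero_iff_mem.1 h))
  refine ⟨m, fun hmem => hm ?_⟩
  have := Ideal.Quotient.eq_zero_iff_mem.2 hmem
  rw [map_sum] at this
  simp only [map_prod] at this
  exact this

end Abstract

section Concrete

variable {A B : Type u} [CommRing A] [CommRing B] [Algebra A B] (𝒜 : ℕ → Submodule A B) (d : ℕ)

theorem tprod_finset_prod {κ : Type*} (s : Finset κ) (γ : κ → Fin d → B) :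
    ∏ l ∈ s, PiTensorProduct.tprod A (γ l) =
      PiTensorProduct.tprod A (fun j => ∏ l ∈ s, γ l j) := by
  classical
  induction s using Finset.induction_on with
  | empty =>
    simp only [Finset.prod_empty]
    exact PiTensorProduct.one_def (R := A) (A := fun _ : Fin d => B)
  | insert a s ha ih =>
    rw [Finset.prod_insert ha, ih, ← tprod_mul_eq]
    congr 1
    funext j
    rw [Finset.prod_insert ha]

theorem tprod_pow (g : Fin d → B) (n : ℕ) :
    PiTensorProduct.tprod A g ^ n = PiTensorProduct.tprod A (fun j => g j ^ n) := by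
  induction n with
  | zero =>
    simp only [pow_zero]
    exact PiTensorProduct.one_def (R := A) (A := fun _ : Fin d => B)
  | succ n ih =>
    rw [pow_succ, ih, ← tprod_mul_eq]
    congr 1
    funext j
    rw [pow_succ]

/-- the orbit sums of pure tensors of the `g i` -/
noncomputable def W (g : Fin d → B) (m : Fin d →₀ ℕ) : ⨂[A] _ : Fin d, B :=
  ∑ c ∈ Finset.univ.filter (fun c : Fin d → Fin d => ty c = m),
    PiTensorProduct.tprod A (fun i => g (c i))

theorem W_mem_TS (g : Fin d → B) (m : Fin d →₀ ℕ) : W (A := A) d g m ∈ SymTen.TS A B d := by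
  classical
  rw [SymTen.mem_TS_iff]
  intro σ
  rw [← SymTen.perm_apply, W, map_sum]
  simp only [SymTen.perm_tprod]
  refine Finset.sum_nbij' (fun c => fun i => c (σ.symm i)) (fun c => fun i => c (σ i))
    ?_ ?_ ?_ ?_ ?_
  · intro c hc
    rw [Finset.mem_filter] at hc ⊢
    exact ⟨Finset.mem_univ _, (ty_comp c σ.symm).trans hc.2⟩
  · intro c hc
    rw [Finset.mem_filter] at hc ⊢
    exact ⟨Finset.mem_univ _, (ty_comp c σ).trans hc.2⟩
  · intro c _
    funext i
    simp
  · intro c _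
    funext i
    simp
  · intro c _
    rfl

theorem W_mem_span {g : Fin d → B} (hg : ∀ i, g i ∈ 𝒜 1) (m : Fin d →₀ ℕ) :
    W (A := A) d g m ∈ Submodule.span A {s | ∃ b : Fin d → B, (∀ i, b i ∈ 𝒜 1) ∧
      s = PiTensorProduct.tprod A b} := by
  refine Submodule.sum_mem _ fun c _ => Submodule.subset_span ⟨_, fun i => hg (c i), rfl⟩

theorem key_identity (g : Fin d → B) (c : Fin d → Fin d) :
    PiTensorProduct.tprod A g ^ (d - 1) * PiTensorProduct.tprod A (fun i => g (c i)) =
      ∏ i, PiTensorProduct.tprod A (Function.update g i (g (c i))) := by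
  classical
  rw [tprod_pow, ← tprod_mul_eq, tprod_finset_prod]
  congr 1
  funext j
  rw [← Finset.mul_prod_erase Finset.univ _ (Finset.mem_univ j), Function.update_self, mul_comm]
  congr 1
  have : ∀ i ∈ Finset.univ.erase j, Function.update g i (g (c i)) j = g j := by
    intro i hi
    rw [Function.update_of_ne (Finset.ne_of_mem_erase hi).symm]
  rw [Finset.prod_congr rfl this, Finset.prod_const, Finset.card_erase_of_mem (Finset.mem_univ j),
    Finset.card_univ, Fintype.card_fin]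

end Concrete

section Main

variable {A B : Type u} [CommRing A] [CommRing B] [Algebra A B] (𝒜 : ℕ → Submodule A B)
  [GradedAlgebra 𝒜]

theorem main3 (hgen : Algebra.adjoin A (𝒜 1 : Set B) = ⊤) (d : ℕ)
    (D : Subalgebra A (⨂[A] _ : Fin d, B))
    (hD : D = Algebra.adjoin A {t | ∃ (k : ℕ) (b : Fin d → B), (∀ i, b i ∈ 𝒜 k) ∧
      t = PiTensorProduct.tprod A b} ⊓ SymTen.TS A B d)
    (k : ℕ) (hk : 0 < k) (t : ⨂[A] _ : Fin d, B) (htD : t ∈ D)
    (htk : t ∈ Submodule.span A {s | ∃ b : Fin d → B, (∀ i, b i ∈ 𝒜 k) ∧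
      s = PiTensorProduct.tprod A b}) :
    ∃ m : ℕ, 0 < m ∧ (⟨t, htD⟩ : D) ^ m ∈
      Ideal.span {x : D | (x : ⨂[A] _ : Fin d, B) ∈
        Submodule.span A {s | ∃ b : Fin d → B, (∀ i, b i ∈ 𝒜 1) ∧
          s = PiTensorProduct.tprod A b}} := by
  classical
  have hD' : D = Cc 𝒜 d ⊓ SymTen.TS A B d := hD
  clear hD
  subst hD'
  refine radical_descent (Cc 𝒜 d) (Cc 𝒜 d ⊓ SymTen.TS A B d) inf_le_left (Equiv.Perm (Fin d))
    fixed_mem _ _ ?_
  intro 𝔓 h𝔓 hS
  have := h𝔓
  have hex : ∃ i, 𝒜 1 ≤ SegreCore.Q 𝒜 d (img 𝔓) i 1 := by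
    by_contra hcon
    have hN : ∀ i : Fin d, ∃ h ∈ 𝒜 1, h ∉ SegreCore.Q 𝒜 d (img 𝔓) i 1 := by
      intro i
      by_contra h
      apply hcon
      refine ⟨i, fun x hx => ?_⟩
      by_contra hx'
      exact h ⟨x, hx, hx'⟩
    choose g hg hgQ using hN
    have hG : PiTensorProduct.tprod A g ∉ img 𝔓 := by
      intro h
      obtain ⟨i, hi⟩ := SegreCore.exists_entry_mem (hmul_img 𝔓) (hprime_img 𝔓) (hone_img 𝔓)
        g hg h
      exact hgQ i hi
    have hUmem : ∀ i j : Fin d, PiTensorProduct.tprod A (Function.update g i (g j)) ∈ Cc 𝒜 d := by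
      intro i j
      refine tprod_mem_Cc (n := 1) _ (fun l => ?_)
      by_cases hl : l = i
      · subst hl; rw [Function.update_self]; exact hg j
      · rw [Function.update_of_ne hl]; exact hg l
    obtain ⟨m, hm⟩ := exists_sum_notMem 𝔓 d (fun i j => ⟨_, hUmem i j⟩) (by
      intro i hmem
      apply hG
      refine ⟨_, hmem, ?_⟩
      change PiTensorProduct.tprod A (Function.update g i (g i)) = _
      rw [Function.update_eq_self])
    apply hm
    have hWC : W (A := A) d g m ∈ Cc 𝒜 d := by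
      refine Subalgebra.sum_mem _ fun c _ => tprod_mem_Cc (n := 1) _ (fun i => hg (c i))
    have hWD : W (A := A) d g m ∈ Cc 𝒜 d ⊓ SymTen.TS A B d := ⟨hWC, W_mem_TS d g m⟩
    have hW𝔓 : (⟨_, hWC⟩ : Cc 𝒜 d) ∈ 𝔓 := hS ⟨_, hWD⟩ (W_mem_span 𝒜 d hg m)
    have e : (∑ c ∈ Finset.univ.filter (fun c : Fin d → Fin d => ty c = m),
        ∏ i, (⟨_, hUmem i (c i)⟩ : Cc 𝒜 d)) =
        (⟨_, tprod_mem_Cc (n := 1) g hg⟩ : Cc 𝒜 d) ^ (d - 1) * ⟨_, hWC⟩ := by
      apply Subtype.ext
      rw [Subalgebra.coe_mul, Subalgebra.coe_pow, AddSubmonoidClass.coe_finsetSum]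
      simp only [SubmonoidClass.coe_finsetProd]
      change _ = PiTensorProduct.tprod A g ^ (d - 1) * W (A := A) d g m
      rw [W, Finset.mul_sum]
      refine Finset.sum_congr rfl fun c _ => ?_
      exact (key_identity d g c).symm
    rw [e]
    exact 𝔓.mul_mem_left _ hW𝔓
  obtain ⟨i, hi⟩ := hex
  have hle : Submodule.span A {s | ∃ b : Fin d → B, (∀ i, b i ∈ 𝒜 k) ∧
      s = PiTensorProduct.tprod A b} ≤ img 𝔓 := by
    rw [Submodule.span_le]
    rintro _ ⟨b, hb, rfl⟩
    exact SegreCore.of_degOne_le (hmul_img 𝔓) hgen i hi k hk b hb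
  exact (mem_img 𝔓 t htD.1).1 (hle htk)

end Main

end Groth.Agent.Lib.Helper59.SegreLin
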