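import Groth.Agent.Lib.Helper59.GRoby

/-!
# Combinatorics of tuples for the generation of symmetric tensors by elementary ones
-/

set_option autoImplicit false

namespace Groth.Agent.Lib.Helper59.SigComb

open Groth.Agent.Lib.Helper59.CHCore Groth.Agent.Lib.Helper59.GRoby

variable {I : Type*} [AddCommMonoid I] [DecidableEq I] {n : ℕ}

/-- add `m` to the entries in `J` -/
def shift (c : Fin n → I) (J : Finset (Fin n)) (m : I) : Fin n → I :=
  fun i => if i ∈ J then c i + m else c i

/-- replace the entries equal to `m` by `0` -/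
def zap (c : Fin n → I) (m : I) : Fin n → I := fun i => if c i = m then 0 else c i

/-- the positions of `m` -/
def fib (c : Fin n → I) (m : I) : Finset (Fin n) := Finset.univ.filter (fun i => c i = m)

/-- the number of nonzero entries -/
def wt (c : Fin n → I) : ℕ := (Finset.univ.filter (fun i => c i ≠ 0)).card

omit [AddCommMonoid I] in
theorem mem_fib (c : Fin n → I) (m : I) (i : Fin n) : i ∈ fib c m ↔ c i = m := by
  simp [fib]

omit [DecidableEq I] in
theorem cls_shift (c : Fin n → I) (J : Finset (Fin n)) (m : I) (hJ : ∀ i ∈ J, c i = 0) :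
    cls n (shift c J m) + J.card • Finsupp.single (0 : I) 1 =
      cls n c + J.card • Finsupp.single m 1 := by
  have h1 : cls n (shift c J m) = J.card • Finsupp.single m 1 +
      ∑ i ∈ Finset.univ.filter (fun i => i ∉ J), Finsupp.single (c i) 1 := by
    rw [cls, ← Finset.sum_filter_add_sum_filter_not Finset.univ (fun i => i ∈ J)]
    congr 1
    · rw [Finset.filter_mem_eq_inter, Finset.univ_inter, ← Finset.sum_const]
      refine Finset.sum_congr rfl fun i hi => ?_
      rw [shift, if_pos hi, hJ i hi, zero_add]
    · refine Finset.sum_congr rfl fun i hi => ?_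
      rw [shift, if_neg (Finset.mem_filter.1 hi).2]
  have h2 : cls n c = J.card • Finsupp.single (0 : I) 1 +
      ∑ i ∈ Finset.univ.filter (fun i => i ∉ J), Finsupp.single (c i) 1 := by
    rw [cls, ← Finset.sum_filter_add_sum_filter_not Finset.univ (fun i => i ∈ J)]
    congr 1
    rw [Finset.filter_mem_eq_inter, Finset.univ_inter, ← Finset.sum_const]
    refine Finset.sum_congr rfl fun i hi => ?_
    rw [hJ i hi]
  rw [h1, h2]
  abel

theorem shift_zap (c : Fin n → I) (m : I) : shift (zap c m) (fib c m) m = c := by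
  funext i
  by_cases h : c i = m
  · rw [shift, if_pos ((mem_fib c m i).2 h), zap, if_pos h, zero_add, h]
  · rw [shift, if_neg (fun h' => h ((mem_fib c m i).1 h')), zap, if_neg h]

theorem zap_eq_zero_of_mem_fib (c : Fin n → I) (m : I) (i : Fin n) (hi : i ∈ fib c m) :
    zap c m i = 0 := by
  rw [zap, if_pos ((mem_fib c m i).1 hi)]

theorem zap_ne (c : Fin n → I) (m : I) (hm : m ≠ 0) (i : Fin n) : zap c m i ≠ m := by
  rw [zap]
  split_ifs with h
  · exact fun h' => hm h'.symm
  · exact h

theorem cls_zap (c : Fin n → I) (m : I) :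
    cls n c + (fib c m).card • Finsupp.single (0 : I) 1 =
      cls n (zap c m) + (fib c m).card • Finsupp.single m 1 := by
  have := cls_shift (zap c m) (fib c m) m (zap_eq_zero_of_mem_fib c m)
  rwa [shift_zap] at this

theorem zap_shift (c : Fin n → I) (J : Finset (Fin n)) (m : I) (hJ : ∀ i ∈ J, c i = 0)
    (hc : ∀ i, c i ≠ m) : zap (shift c J m) m = c := by
  funext i
  by_cases h : i ∈ J
  · rw [zap, shift, if_pos h, hJ i h, zero_add, if_pos rfl]
  · rw [zap, shift, if_neg h, if_neg (hc i)]

theorem fib_shift (c : Fin n → I) (J : Finset (Fin n)) (m : I) (hJ : ∀ i ∈ J, c i = 0)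
    (hc : ∀ i, c i ≠ m) : fib (shift c J m) m = J := by
  ext i
  rw [mem_fib, shift]
  by_cases h : i ∈ J
  · rw [if_pos h, hJ i h, zero_add]
    exact ⟨fun _ => h, fun _ => rfl⟩
  · rw [if_neg h]
    exact ⟨fun h' => absurd h' (hc i), fun h' => absurd h' h⟩

omit [AddCommMonoid I] in
theorem card_fib (c : Fin n → I) (m : I) : (fib c m).card = cls n c m := by
  rw [cls_apply, Fintype.card_subtype, fib]

theorem wt_add (c : Fin n → I) : wt c + cls n c 0 = n := by
  rw [← card_fib, wt, fib, add_comm]
  have := Finset.card_filter_add_card_filter_not (s := (Finset.univ : Finset (Fin n)))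
    (fun i => c i = 0)
  simp only [Finset.card_univ, Fintype.card_fin] at this
  exact this

theorem wt_congr (c c' : Fin n → I) (h : cls n c = cls n c') : wt c = wt c' := by
  have h1 := wt_add c
  have h2 := wt_add c'
  rw [h] at h1
  omega

theorem wt_zap (c : Fin n → I) (m : I) (hm : m ≠ 0) : wt c = wt (zap c m) + (fib c m).card := by
  rw [wt, wt, fib, ← Finset.card_union_of_disjoint]
  · congr 1
    ext i
    rw [Finset.mem_union, Finset.mem_filter, Finset.mem_filter, Finset.mem_filter]
    by_cases h : c i = m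
    · have hz : zap c m i = 0 := by rw [zap, if_pos h]
      constructor
      · intro _
        exact Or.inr ⟨Finset.mem_univ i, h⟩
      · intro _
        exact ⟨Finset.mem_univ i, h ▸ hm⟩
    · have hz : zap c m i = c i := by rw [zap, if_neg h]
      rw [hz]
      constructor
      · intro h'
        exact Or.inl h'
      · rintro (h' | h')
        · exact h'
        · exact absurd h'.2 h
  · rw [Finset.disjoint_filter]
    intro i _ h1 h2
    rw [zap, if_pos h2] at h1
    exact h1 rfl

theorem wt_shift_lt (c : Fin n → I) (J : Finset (Fin n)) (m : I) (h : ∃ i ∈ J, c i ≠ 0) :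
    wt (shift c J m) < wt c + J.card := by
  obtain ⟨i₀, hi₀, hc₀⟩ := h
  have hsub : Finset.univ.filter (fun i => shift c J m i ≠ 0) ⊆
      Finset.univ.filter (fun i => c i ≠ 0) ∪ J := by
    intro i hi
    rw [Finset.mem_filter] at hi
    rw [Finset.mem_union, Finset.mem_filter]
    by_cases hJ : i ∈ J
    · exact Or.inr hJ
    · left
      refine ⟨Finset.mem_univ i, ?_⟩
      have := hi.2
      rwa [shift, if_neg hJ] at this
  have h1 := Finset.card_le_card hsub
  have h2 := Finset.card_union_add_card_inter (Finset.univ.filter (fun i => c i ≠ 0)) J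
  have h3 : 0 < (Finset.univ.filter (fun i => c i ≠ 0) ∩ J).card := by
    rw [Finset.card_pos]
    exact ⟨i₀, Finset.mem_inter.2 ⟨Finset.mem_filter.2 ⟨Finset.mem_univ _, hc₀⟩, hi₀⟩⟩
  rw [wt, wt]
  omega

end Groth.Agent.Lib.Helper59.SigComb
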