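import Groth.Agent.Lib.Helper59.GammaTS
import Groth.Agent.Lib.Helper59.LawDescend

/-!
# The symmetrization law on a tensor power, over test algebras
-/

set_option autoImplicit false

namespace Groth.Agent.Lib.Helper59.SymLaw

open scoped TensorProduct
open PolLaw Groth.Agent.Lib.Helper59.KerPoly Groth.Agent.Lib.Helper59.LawReduced
  Groth.Agent.Lib.Helper59.CHCore Groth.Agent.Lib.Helper59.GammaGen
  Groth.Agent.Lib.Helper59.PolarGamma Groth.Agent.Lib.Helper59.SymN
  Groth.Agent.Lib.Helper98.PolyLawRestrict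

universe u

section General

variable {A : Type u} [CommRing A] {P : Type u} [CommRing P] [Algebra A P] (d : ℕ)

theorem map_id_eq {B C : Type u} [CommRing B] [Algebra A B] [CommRing C] [Algebra A C]
    (g : B →ₐ[A] C) (S : Type u) [CommSemiring S] [Algebra A S] (x : S ⊗[A] B) :
    Algebra.TensorProduct.map (AlgHom.id S S) g x =
      Algebra.TensorProduct.map (AlgHom.id A S) g x := by
  induction x using TensorProduct.induction_on with
  | zero => simp
  | tmul a b => rfl
  | add a b ha hb => simp only [map_add, ha, hb]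

theorem map_id_comp {B C D : Type u} [CommRing B] [Algebra A B] [CommRing C] [Algebra A C]
    [CommRing D] [Algebra A D] (g : B →ₐ[A] C) (h : C →ₐ[A] D) (S : Type u) [CommSemiring S]
    [Algebra A S] (x : S ⊗[A] B) :
    Algebra.TensorProduct.map (AlgHom.id A S) h (Algebra.TensorProduct.map (AlgHom.id A S) g x) =
      Algebra.TensorProduct.map (AlgHom.id A S) (h.comp g) x := by
  induction x using TensorProduct.induction_on with
  | zero => simp
  | tmul a b => rfl
  | add a b ha hb => simp only [map_add, ha, hb]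

theorem symm_eq (S : Type u) [CommSemiring S] [Algebra A S] (z : S ⊗[A] (⨂[A] _ : Fin d, P)) :
    (SymTen.symmLaw A P d).law.toFun' S z =
      ∏ σ : Equiv.Perm (Fin d),
        Algebra.TensorProduct.map (AlgHom.id A S) (SymTen.perm A P d σ) z := by
  rw [SymTen.symmLaw, PolLaw.MulLaw.prodMap_toFun']
  simp only [map_id_eq]

theorem symm_tmap {P' : Type u} [CommRing P'] [Algebra A P'] (ε : P →ₐ[A] P') (S : Type u)
    [CommSemiring S] [Algebra A S] (z : S ⊗[A] (⨂[A] _ : Fin d, P)) :
    Algebra.TensorProduct.map (AlgHom.id A S) (SymTen.tmap A d ε)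
        ((SymTen.symmLaw A P d).law.toFun' S z) =
      (SymTen.symmLaw A P' d).law.toFun' S
        (Algebra.TensorProduct.map (AlgHom.id A S) (SymTen.tmap A d ε) z) := by
  rw [symm_eq, symm_eq, map_prod]
  refine Finset.prod_congr rfl fun σ _ => ?_
  rw [map_id_comp, map_id_comp]
  congr 2
  exact AlgHom.ext fun t => tmap_perm d ε σ t

theorem perm_symm (τ : Equiv.Perm (Fin d)) (S : Type u) [CommSemiring S] [Algebra A S]
    (z : S ⊗[A] (⨂[A] _ : Fin d, P)) :
    Algebra.TensorProduct.map (AlgHom.id A S) (SymTen.perm A P d τ)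
        ((SymTen.symmLaw A P d).law.toFun' S z) = (SymTen.symmLaw A P d).law.toFun' S z := by
  rw [symm_eq, map_prod]
  simp only [map_id_comp]
  refine Fintype.prod_equiv (Equiv.mulLeft τ) _ _ fun σ => ?_
  congr 2
  exact AlgHom.ext fun t => perm_perm d σ τ t

theorem symm_of_inv (S : Type u) [CommSemiring S] [Algebra A S]
    (z : S ⊗[A] (⨂[A] _ : Fin d, P))
    (h : ∀ σ, Algebra.TensorProduct.map (AlgHom.id A S) (SymTen.perm A P d σ) z = z) :
    (SymTen.symmLaw A P d).law.toFun' S z = z ^ d.factorial := by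
  rw [symm_eq]
  simp only [h]
  rw [Finset.prod_const, Finset.card_univ, Fintype.card_perm, Fintype.card_fin]

theorem symm_one_tmul (S : Type u) [CommSemiring S] [Algebra A S] (z : ⨂[A] _ : Fin d, P) :
    (SymTen.symmLaw A P d).law.toFun' S ((1 : S) ⊗ₜ[A] z) = (1 : S) ⊗ₜ[A] N d z := by
  rw [symm_eq]
  simp only [Algebra.TensorProduct.map_tmul, AlgHom.id_apply]
  rw [prod_tmul, Finset.prod_const_one, N]

theorem lTensor_smul {M N' : Type u} [AddCommGroup M] [Module A M] [AddCommGroup N']
    [Module A N'] (f : M →ₗ[A] N') (S : Type u) [CommSemiring S] [Algebra A S] (s : S)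
    (y : S ⊗[A] M) : f.lTensor S (s • y) = s • f.lTensor S y := by
  induction y using TensorProduct.induction_on with
  | zero => simp
  | tmul a m => rw [TensorProduct.smul_tmul', LinearMap.lTensor_tmul, LinearMap.lTensor_tmul,
      TensorProduct.smul_tmul']
  | add a b ha hb => simp only [smul_add, map_add, ha, hb]

end General

section Basis

variable {A : Type u} [CommRing A] {P : Type u} [CommRing P] [Algebra A P] {I : Type u}
  (e : Module.Basis I A P) (d : ℕ)

theorem Phi_mem_TS (t : ⨂[A] _ : Fin d, P) : GRoby.Phi e d t ∈ SymTen.TS A P d := by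
  classical
  have h1 : GRoby.Phi e d t =
      ((GRoby.bT e d).repr t).sum fun c a => a • GRoby.Phi e d (GRoby.bT e d c) := by
    conv_lhs => rw [← (GRoby.bT e d).linearCombination_repr t, Finsupp.linearCombination_apply,
      map_finsuppSum]
    simp only [map_smul]
  rw [h1]
  refine (Subalgebra.toSubmodule (SymTen.TS A P d)).sum_mem fun c _ =>
    (Subalgebra.toSubmodule (SymTen.TS A P d)).smul_mem _ ?_
  rw [GRoby.Phi_bT]
  split_ifs
  · exact GammaTS.coeff_mem_TS d _ _ _
  · exact (Subalgebra.toSubmodule (SymTen.TS A P d)).zero_mem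

theorem perm_Phi (σ : Equiv.Perm (Fin d)) (t : ⨂[A] _ : Fin d, P) :
    SymTen.perm A P d σ (GRoby.Phi e d t) = GRoby.Phi e d t := by
  rw [SymTen.perm_apply]
  exact Phi_mem_TS e d t σ

theorem Phi_Phi (t : ⨂[A] _ : Fin d, P) : GRoby.Phi e d (GRoby.Phi e d t) = GRoby.Phi e d t :=
  GRoby.Phi_of_mem_TS e d _ (Phi_mem_TS e d t)

/-- over a free test ring, the invariant tensors are fixed by `Φ` -/
theorem PhiS_of_inv_free {S : Type u} [CommRing S] [Algebra A S] {J : Type*}
    (bS : Module.Basis J A S) (y : S ⊗[A] (⨂[A] _ : Fin d, P))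
    (h : ∀ σ, Algebra.TensorProduct.map (AlgHom.id A S) (SymTen.perm A P d σ) y = y) :
    (GRoby.Phi e d).lTensor S y = y := by
  obtain ⟨Tset, hT⟩ := expand_left bS ((GRoby.Phi e d).lTensor S y - y)
  rw [← sub_eq_zero, hT]
  refine Finset.sum_eq_zero fun i _ => ?_
  have h1 : lamT (bS.coord i) y ∈ SymTen.TS A P d := by
    rw [SymTen.mem_TS_iff]
    intro σ
    rw [← SymTen.perm_apply, ← AlgHom.toLinearMap_apply, ← lamT_lTensor, lTensor_eq_map, h σ]
  rw [map_sub, lamT_lTensor, GRoby.Phi_of_mem_TS e d _ h1, sub_self, TensorProduct.tmul_zero]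

/-- the values of the symmetrization law are fixed by `Φ` -/
theorem PhiS_symm (S : Type u) [CommSemiring S] [Algebra A S]
    (z : S ⊗[A] (⨂[A] _ : Fin d, P)) :
    (GRoby.Phi e d).lTensor S ((SymTen.symmLaw A P d).law.toFun' S z) =
      (SymTen.symmLaw A P d).law.toFun' S z := by
  have h : PolLaw.postcomp (GRoby.Phi e d) (SymTen.symmLaw A P d).law =
      (SymTen.symmLaw A P d).law := by
    apply law_ext
    intro n
    funext p
    rw [postcomp_toFun']
    exact PhiS_of_inv_free e d (MvPolynomial.basisMonomials (Fin n) A) _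
      (fun σ => perm_symm d σ _ p)
  have := congrArg (fun L => L.toFun' S z) h
  simpa only [postcomp_toFun'] using this

theorem perm_PhiS (σ : Equiv.Perm (Fin d)) (S : Type u) [CommSemiring S] [Algebra A S]
    (y : S ⊗[A] (⨂[A] _ : Fin d, P)) :
    Algebra.TensorProduct.map (AlgHom.id A S) (SymTen.perm A P d σ)
      ((GRoby.Phi e d).lTensor S y) = (GRoby.Phi e d).lTensor S y := by
  induction y using TensorProduct.induction_on with
  | zero => simp
  | tmul s t => rw [LinearMap.lTensor_tmul, Algebra.TensorProduct.map_tmul, perm_Phi,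
      AlgHom.id_apply]
  | add a b ha hb => simp only [map_add, ha, hb]

end Basis

section Main

open Groth.Agent.Lib.Helper59.GammaTS

variable {A B C : Type u} [CommRing A] [CommRing B] [Algebra A B] [CommRing C] [Algebra A C]
  {d : ℕ} (γ : MulLaw A B C d) {κ : Type u} (π : MvPolynomial κ A →ₐ[A] B)

/-- `Φ` for the polynomial ring -/
noncomputable abbrev PhiP (κ : Type u) (A : Type u) [CommRing A] (d : ℕ) :
    (⨂[A] _ : Fin d, MvPolynomial κ A) →ₗ[A] (⨂[A] _ : Fin d, MvPolynomial κ A) :=
  GRoby.Phi (MvPolynomial.basisMonomials κ A) d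

theorem ffS_mul_Phi (S : Type u) [CommSemiring S] [Algebra A S]
    (y y' : S ⊗[A] (⨂[A] _ : Fin d, MvPolynomial κ A)) :
    (ff γ π).lTensor S ((PhiP κ A d).lTensor S y * (PhiP κ A d).lTensor S y') =
      (ff γ π).lTensor S ((PhiP κ A d).lTensor S y) *
        (ff γ π).lTensor S ((PhiP κ A d).lTensor S y') := by
  induction y using TensorProduct.induction_on with
  | zero =>
      rw [map_zero]
      have e := zero_mul ((PhiP κ A d).lTensor S y')
      rw [e, map_zero, zero_mul]
  | tmul s t =>
      induction y' using TensorProduct.induction_on with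
      | zero =>
          rw [map_zero]
          have e := mul_zero ((PhiP κ A d).lTensor S (s ⊗ₜ[A] t))
          rw [e, map_zero, mul_zero]
      | tmul s' t' =>
          simp only [LinearMap.lTensor_tmul, Algebra.TensorProduct.tmul_mul_tmul]
          rw [ff_mul γ π _ _ (Phi_mem_TS _ d t) (Phi_mem_TS _ d t')]
      | add a b ha hb => simp only [map_add, mul_add, ha, hb]
  | add a b ha hb => simp only [map_add, add_mul, ha, hb]

theorem ff_one : ff γ π 1 = 1 := by
  have h := ff_spec γ π A 1
  have e : π.toLinearMap.lTensor A (1 : A ⊗[A] MvPolynomial κ A) = 1 := by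
    rw [lTensor_eq_map, map_one]
  rw [((SymTen.tpowLaw A (MvPolynomial κ A) d).mult A).1, e, (γ.mult A).1,
    Algebra.TensorProduct.one_def, LinearMap.lTensor_tmul, Algebra.TensorProduct.one_def] at h
  have h2 := congrArg (TensorProduct.lid A C) h
  simpa using h2

/-- the law `z ↦ ff (∏ σ, σ z)` on the tensor power of the polynomial ring -/
noncomputable def G : MulLaw A (⨂[A] _ : Fin d, MvPolynomial κ A) C d.factorial where
  law := PolLaw.postcomp (ff γ π) (SymTen.symmLaw A (MvPolynomial κ A) d).law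
  homog := by
    intro S _ _ s z
    rw [postcomp_toFun', postcomp_toFun', (SymTen.symmLaw A (MvPolynomial κ A) d).homog,
      lTensor_smul]
  mult := by
    intro S _ _
    refine ⟨?_, fun x y => ?_⟩
    · rw [postcomp_toFun', ((SymTen.symmLaw A (MvPolynomial κ A) d).mult S).1,
        Algebra.TensorProduct.one_def, LinearMap.lTensor_tmul, ff_one,
        Algebra.TensorProduct.one_def]
    · rw [postcomp_toFun', postcomp_toFun', postcomp_toFun',
        ((SymTen.symmLaw A (MvPolynomial κ A) d).mult S).2,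
        ← PhiS_symm (MvPolynomial.basisMonomials κ A) d S x,
        ← PhiS_symm (MvPolynomial.basisMonomials κ A) d S y, ffS_mul_Phi]

theorem G_toFun' (S : Type u) [CommSemiring S] [Algebra A S]
    (z : S ⊗[A] (⨂[A] _ : Fin d, MvPolynomial κ A)) :
    (G γ π).law.toFun' S z =
      (ff γ π).lTensor S ((SymTen.symmLaw A (MvPolynomial κ A) d).law.toFun' S z) := rfl

/-- `ff ∘ tmap ε` only depends on `π ∘ ε`, on the values of the symmetrization law -/
theorem ffS_tmap_eq {κ' : Type u} (ε₁ ε₂ : MvPolynomial κ' A →ₐ[A] MvPolynomial κ A)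
    (h : π.comp ε₁ = π.comp ε₂) (S : Type u) [CommSemiring S] [Algebra A S]
    (U : S ⊗[A] (⨂[A] _ : Fin d, MvPolynomial κ' A)) :
    (ff γ π).lTensor S (Algebra.TensorProduct.map (AlgHom.id A S) (SymTen.tmap A d ε₁)
        ((SymTen.symmLaw A (MvPolynomial κ' A) d).law.toFun' S U)) =
      (ff γ π).lTensor S (Algebra.TensorProduct.map (AlgHom.id A S) (SymTen.tmap A d ε₂)
        ((SymTen.symmLaw A (MvPolynomial κ' A) d).law.toFun' S U)) := by
  have key : ∀ y : S ⊗[A] (⨂[A] _ : Fin d, MvPolynomial κ' A),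
      (ff γ π).lTensor S (Algebra.TensorProduct.map (AlgHom.id A S) (SymTen.tmap A d ε₁)
          ((PhiP κ' A d).lTensor S y)) =
        (ff γ π).lTensor S (Algebra.TensorProduct.map (AlgHom.id A S) (SymTen.tmap A d ε₂)
          ((PhiP κ' A d).lTensor S y)) := by
    intro y
    induction y using TensorProduct.induction_on with
    | zero => simp only [map_zero]
    | tmul s t =>
        simp only [LinearMap.lTensor_tmul, Algebra.TensorProduct.map_tmul, AlgHom.id_apply]
        rw [ff_tmap_eq γ π ε₁ ε₂ h _ (Phi_mem_TS _ d t)]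
    | add a b ha hb => simp only [map_add, ha, hb]
  rw [← PhiS_symm (MvPolynomial.basisMonomials κ' A) d S U]
  exact key _

theorem single_mem_ker (a : MvPolynomial κ A) (ha : π a = 0) (j : Fin d) :
    PiTensorProduct.singleAlgHom (R := A) (A := fun _ : Fin d => MvPolynomial κ A) j a ∈
      PolLaw.ker (G γ π).law := by
  intro S _ _ x w
  set U : S ⊗[A] (⨂[A] _ : Fin d, MvPolynomial (Option κ) A) :=
    Algebra.TensorProduct.map (AlgHom.id A S) (SymTen.tmap A d (incl κ)) x +
      Algebra.TensorProduct.map (AlgHom.id A S) (SymTen.tmap A d (incl κ)) w *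
        ((1 : S) ⊗ₜ[A] PiTensorProduct.singleAlgHom (R := A)
          (A := fun _ : Fin d => MvPolynomial (Option κ) A) j (MvPolynomial.X none)) with hU
  have h1 : ∀ a' : MvPolynomial κ A,
      Algebra.TensorProduct.map (AlgHom.id A S) (SymTen.tmap A d (ev κ a')) U =
        x + w * ((1 : S) ⊗ₜ[A] PiTensorProduct.singleAlgHom (R := A)
          (A := fun _ : Fin d => MvPolynomial κ A) j a') := by
    intro a'
    have e : (SymTen.tmap A d (ev κ a')).comp (SymTen.tmap A d (incl κ)) =
        AlgHom.id A (⨂[A] _ : Fin d, MvPolynomial κ A) := by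
      refine AlgHom.ext fun t => ?_
      rw [AlgHom.comp_apply, tmap_comp, ev_comp_incl, tmap_id, AlgHom.id_apply]
    rw [hU, map_add, map_mul, map_id_comp, map_id_comp, e, Algebra.TensorProduct.map_tmul,
      AlgHom.id_apply, tmap_single, ev_none]
    simp
  have h2 : π.comp (ev κ a) = π.comp (ev κ 0) := by
    apply MvPolynomial.algHom_ext
    intro o
    cases o with
    | none => simp [ev, ha]
    | some k => simp [ev]
  have h3 := ffS_tmap_eq γ π (ev κ a) (ev κ 0) h2 S U
  rw [symm_tmap, symm_tmap, h1, h1, map_zero, TensorProduct.tmul_zero, mul_zero, add_zero] at h3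
  exact h3

theorem ker_tmap_le_ker (hπ : Function.Surjective π) :
    RingHom.ker (SymTen.tmap A d π) ≤ PolLaw.ker (G γ π).law := by
  intro z hz
  have h1 : z ∈ Jd d π := mem_Jd_of_tmap_eq_zero d π hπ z hz
  refine (Ideal.span_le.mpr ?_ : Jd d π ≤ PolLaw.ker (G γ π).law) h1
  rintro _ ⟨j, a, ha, rfl⟩
  exact single_mem_ker γ π a ha j

theorem map_tmap_surjective (hπ : Function.Surjective π) (S : Type u) [CommSemiring S]
    [Algebra A S] :
    Function.Surjective (Algebra.TensorProduct.map (AlgHom.id A S) (SymTen.tmap A d π)) := by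
  intro z
  obtain ⟨z', hz'⟩ := LinearMap.lTensor_surjective S (g := (SymTen.tmap A d π).toLinearMap)
    (tmap_surjective d π hπ) z
  exact ⟨z', by rw [← lTensor_eq_map, hz']⟩

/-- the law `T^d(B) → C` of degree `d!` -/
theorem exists_F (hπ : Function.Surjective π) :
    ∃ F : MulLaw A (⨂[A] _ : Fin d, B) C d.factorial,
      ∀ (S : Type u) [CommSemiring S] [Algebra A S]
        (z : S ⊗[A] (⨂[A] _ : Fin d, MvPolynomial κ A)),
        F.law.toFun' S (Algebra.TensorProduct.map (AlgHom.id A S) (SymTen.tmap A d π) z) =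
          (ff γ π).lTensor S ((SymTen.symmLaw A (MvPolynomial κ A) d).law.toFun' S z) :=
  LawDescend.descend (G γ π) (SymTen.tmap A d π) (tmap_surjective d π hπ)
    (ker_tmap_le_ker γ π hπ)

variable (Φ : C →ₗ[A] (⨂[A] _ : Fin d, B))
  (hΦ : ∀ (S : Type u) [CommRing S] [Algebra A S] (z : S ⊗[A] B),
    Φ.lTensor S (γ.law.toFun' S z) = (SymTen.tpowLaw A B d).law.toFun' S z)

include hΦ in
theorem Phi_ffS (S : Type u) [CommSemiring S] [Algebra A S]
    (y : S ⊗[A] (⨂[A] _ : Fin d, MvPolynomial κ A)) :
    Φ.lTensor S ((ff γ π).lTensor S ((PhiP κ A d).lTensor S y)) =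
      Algebra.TensorProduct.map (AlgHom.id A S) (SymTen.tmap A d π)
        ((PhiP κ A d).lTensor S y) := by
  induction y using TensorProduct.induction_on with
  | zero => simp only [map_zero]
  | tmul s t =>
      simp only [LinearMap.lTensor_tmul, Algebra.TensorProduct.map_tmul, AlgHom.id_apply]
      rw [Phi_ff γ π Φ hΦ _ (Phi_mem_TS _ d t)]
  | add a b ha hb => simp only [map_add, ha, hb]

include hΦ in
/-- `φ ∘ F` is the symmetrization law of `B` -/
theorem Phi_F (hπ : Function.Surjective π) (F : MulLaw A (⨂[A] _ : Fin d, B) C d.factorial)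
    (hF : ∀ (S : Type u) [CommSemiring S] [Algebra A S]
      (z : S ⊗[A] (⨂[A] _ : Fin d, MvPolynomial κ A)),
      F.law.toFun' S (Algebra.TensorProduct.map (AlgHom.id A S) (SymTen.tmap A d π) z) =
        (ff γ π).lTensor S ((SymTen.symmLaw A (MvPolynomial κ A) d).law.toFun' S z))
    (S : Type u) [CommSemiring S] [Algebra A S] (z : S ⊗[A] (⨂[A] _ : Fin d, B)) :
    Φ.lTensor S (F.law.toFun' S z) = (SymTen.symmLaw A B d).law.toFun' S z := by
  obtain ⟨z', rfl⟩ := map_tmap_surjective π hπ S z
  rw [hF, ← PhiS_symm (MvPolynomial.basisMonomials κ A) d S z', Phi_ffS γ π Φ hΦ,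
    PhiS_symm, symm_tmap]

end Main

end Groth.Agent.Lib.Helper59.SymLaw
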