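import Groth.Agent.Lib.Helper59.TSFlat
import Groth.Agent.Lib.Helper59.GammaTSLaw

/-!
# The tensor power law with values in the symmetric tensors, and its universality

For every `A`-algebra `B` we build the multiplicative law `τ : B → TS^d(B)` of degree `d`
lifting the tensor power law `B → T^d(B)`, and show that it is the universal multiplicative law
of degree `d` when `B` is flat over `A` or `d!` is invertible in `A`.
-/

set_option autoImplicit false

namespace Groth.Agent.Lib.Helper59.TSGamma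

open scoped TensorProduct
open PolLaw Groth.Agent.Lib.Helper59.KerPoly Groth.Agent.Lib.Helper59.LawReduced
  Groth.Agent.Lib.Helper59.CHCore Groth.Agent.Lib.Helper59.GammaGen
  Groth.Agent.Lib.Helper59.PolarGamma Groth.Agent.Lib.Helper59.SymN
  Groth.Agent.Lib.Helper59.LawDescend
  Groth.Agent.Lib.Helper98.PolyLawRestrict

universe u

section Tau

variable (A : Type u) [CommRing A] (B : Type u) [CommRing B] [Algebra A B] (d : ℕ)

/-- `id ⊗ val : S ⊗ TS^d(B) → S ⊗ T^d(B)` -/
noncomputable abbrev iotaS (S : Type u) [CommSemiring S] [Algebra A S] :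
    S ⊗[A] SymTen.TS A B d →ₐ[A] S ⊗[A] (⨂[A] _ : Fin d, B) :=
  Algebra.TensorProduct.map (AlgHom.id A S) (SymTen.TS A B d).val

theorem iotaS_injective (S : Type u) [CommRing S] [Algebra A S] [Module.Flat A S] :
    Function.Injective (iotaS A B d S) := by
  have h := Module.Flat.lTensor_preserves_injective_linearMap (M := S)
    (SymTen.TS A B d).val.toLinearMap Subtype.val_injective
  intro x y hxy
  apply h
  rw [lTensor_eq_map, lTensor_eq_map]
  exact hxy

theorem mem_range_of_coord {S : Type u} [CommRing S] [Algebra A S] {J : Type*}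
    (bS : Module.Basis J A S) (v : S ⊗[A] (⨂[A] _ : Fin d, B))
    (h : ∀ j, lamT (bS.coord j) v ∈ SymTen.TS A B d) : ∃ y, iotaS A B d S y = v := by
  classical
  let E := TensorProduct.equivFinsuppOfBasisLeft (N := ⨂[A] _ : Fin d, B) bS
  have hE : ∀ j, E v j = lamT (bS.coord j) v := fun j =>
    TensorProduct.equivFinsuppOfBasisLeft_apply bS v j
  refine ⟨∑ j ∈ (E v).support, bS j ⊗ₜ[A] (⟨lamT (bS.coord j) v, h j⟩ : SymTen.TS A B d), ?_⟩
  rw [map_sum]
  simp only [Algebra.TensorProduct.map_tmul, AlgHom.id_apply, Subalgebra.coe_val]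
  have h2 : v = E.symm (E v) := (E.symm_apply_apply v).symm
  conv_rhs => rw [h2, TensorProduct.equivFinsuppOfBasisLeft_symm_apply, Finsupp.sum]
  exact Finset.sum_congr rfl fun j _ => by rw [hE]

theorem exists_tau_val (n : ℕ) (z : MvPolynomial (Fin n) A ⊗[A] B) :
    ∃ y, iotaS A B d (MvPolynomial (Fin n) A) y =
      (SymTen.tpowLaw A B d).law.toFun' (MvPolynomial (Fin n) A) z :=
  mem_range_of_coord A B d (MvPolynomial.basisMonomials (Fin n) A) _
    (fun _ => GammaTS.coeff_mem_TS d _ _ z)

/-- the family defining `τ` on polynomial rings -/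
noncomputable def Tn (n : ℕ) (z : MvPolynomial (Fin n) A ⊗[A] B) :
    MvPolynomial (Fin n) A ⊗[A] SymTen.TS A B d :=
  (exists_tau_val A B d n z).choose

theorem iotaS_Tn (n : ℕ) (z : MvPolynomial (Fin n) A ⊗[A] B) :
    iotaS A B d (MvPolynomial (Fin n) A) (Tn A B d n z) =
      (SymTen.tpowLaw A B d).law.toFun' (MvPolynomial (Fin n) A) z :=
  (exists_tau_val A B d n z).choose_spec

theorem Tn_compat : Compat (Tn A B d) := by
  intro n m φ
  funext z
  simp only [Function.comp_apply]
  apply iotaS_injective A B d (MvPolynomial (Fin m) A)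
  rw [rTensor_algHom_apply, rTensor_algHom_apply, iotaS_Tn, ← compat_map, ← iotaS_Tn]
  exact (CHCore.map_map_comm _ _ _).symm

theorem Tn_one (n : ℕ) : Tn A B d n 1 = 1 := by
  apply iotaS_injective A B d (MvPolynomial (Fin n) A)
  rw [iotaS_Tn, ((SymTen.tpowLaw A B d).mult _).1, map_one]

theorem Tn_mul (n : ℕ) (p q : MvPolynomial (Fin n) A ⊗[A] B) :
    Tn A B d n (p * q) = Tn A B d n p * Tn A B d n q := by
  apply iotaS_injective A B d (MvPolynomial (Fin n) A)
  rw [map_mul, iotaS_Tn, iotaS_Tn, iotaS_Tn, ((SymTen.tpowLaw A B d).mult _).2]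

theorem Tn_smul (n : ℕ) (s : MvPolynomial (Fin n) A) (p : MvPolynomial (Fin n) A ⊗[A] B) :
    Tn A B d n (s • p) = s ^ d • Tn A B d n p := by
  apply iotaS_injective A B d (MvPolynomial (Fin n) A)
  rw [lmap_smul, iotaS_Tn, iotaS_Tn, (SymTen.tpowLaw A B d).homog]

/-- the tensor power law with values in the symmetric tensors -/
noncomputable def tau : MulLaw A B (SymTen.TS A B d) d :=
  mulLawOf (Tn_compat A B d) d (Tn_one A B d) (Tn_mul A B d) (Tn_smul A B d)

theorem iotaS_tau (S : Type u) [CommSemiring S] [Algebra A S] (x : S ⊗[A] B) :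
    iotaS A B d S ((tau A B d).law.toFun' S x) = (SymTen.tpowLaw A B d).law.toFun' S x := by
  obtain ⟨n, ψ, p, rfl⟩ := PolynomialLaw.exists_lift x
  rw [rTensor_algHom_apply]
  show iotaS A B d S ((lawOf (Tn_compat A B d)).toFun' S _) = _
  rw [lawOf_apply, ← compat_map, ← iotaS_Tn]
  exact (CHCore.map_map_comm _ _ _).symm

theorem val_tau (S : Type u) [CommSemiring S] [Algebra A S] (x : S ⊗[A] B) :
    (SymTen.TS A B d).val.toLinearMap.lTensor S ((tau A B d).law.toFun' S x) =
      (SymTen.tpowLaw A B d).law.toFun' S x := by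
  rw [lTensor_eq_map]
  exact iotaS_tau A B d S x

theorem tau_formula (S : Type u) [CommSemiring S] [Algebra A S] (n : ℕ) (s : Fin n → S)
    (b : Fin n → B) :
    (SymTen.TS A B d).val.toLinearMap.lTensor S ((tau A B d).law.toFun' S (∑ j, s j ⊗ₜ[A] b j)) =
      ∑ c : Fin d → Fin n, (∏ i, s (c i)) ⊗ₜ[A] PiTensorProduct.tprod A (fun i => b (c i)) := by
  rw [val_tau, TPow.tpow_sum]

/-- two laws with values in the symmetric tensors agree as soon as they agree in the tensor
power -/
theorem law_ext_TS {M : Type u} [AddCommGroup M] [Module A M] (F G : M →ₚₗ[A] SymTen.TS A B d)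
    (h : ∀ (n : ℕ) (z : MvPolynomial (Fin n) A ⊗[A] M),
      iotaS A B d _ (F.toFun' (MvPolynomial (Fin n) A) z) =
        iotaS A B d _ (G.toFun' (MvPolynomial (Fin n) A) z)) : F = G := by
  apply law_ext
  intro n
  funext z
  exact iotaS_injective A B d (MvPolynomial (Fin n) A) (h n z)

end Tau

section Univ

variable {A : Type u} [CommRing A] {B : Type u} [CommRing B] [Algebra A B] (d : ℕ)

theorem val_TSmap {P : Type u} [CommRing P] [Algebra A P] (q : P →ₐ[A] B) :
    (SymTen.TS A B d).val.comp (SymTen.TSmap A d q) =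
      (SymTen.tmap A d q).comp (SymTen.TS A P d).val := by
  ext r
  rfl

/-- naturality of `τ` in the algebra -/
theorem tau_natural {P : Type u} [CommRing P] [Algebra A P] (q : P →ₐ[A] B) (S : Type u)
    [CommSemiring S] [Algebra A S] (z : S ⊗[A] P) :
    (tau A B d).law.toFun' S (Algebra.TensorProduct.map (AlgHom.id A S) q z) =
      Algebra.TensorProduct.map (AlgHom.id A S) (SymTen.TSmap A d q)
        ((tau A P d).law.toFun' S z) := by
  have h : ((tau A B d).precomp q).law = (MulLaw.postcomp (SymTen.TSmap A d q) (tau A P d)).law := by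
    apply law_ext_TS
    intro n z
    show iotaS A B d _ ((tau A B d).law.toFun' _ (q.toLinearMap.lTensor _ z)) =
      iotaS A B d _ ((SymTen.TSmap A d q).toLinearMap.lTensor _ ((tau A P d).law.toFun' _ z))
    rw [iotaS_tau, lTensor_eq_map, lTensor_eq_map, SymLaw.map_id_comp, val_TSmap,
      ← SymLaw.map_id_comp, iotaS_tau, TPow.tpow_tmap]
  have h2 := congrArg (fun F => F.toFun' S z) h
  beta_reduce at h2
  rw [← lTensor_eq_map, ← lTensor_eq_map]
  exact h2

variable {C' : Type u} [CommRing C'] [Algebra A C'] (F : MulLaw A B C' d) {κ : Type u}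
  (q : MvPolynomial κ A →ₐ[A] B)

/-- Roby's linear form of `F ∘ q` restricted to the symmetric tensors, as an algebra map -/
noncomputable def ffTS : SymTen.TS A (MvPolynomial κ A) d →ₐ[A] C' where
  toFun r := GammaTS.ff F q r.1
  map_one' := SymLaw.ff_one F q
  map_mul' r r' := GammaTS.ff_mul F q r.1 r'.1 r.2 r'.2
  map_zero' := map_zero _
  map_add' r r' := map_add _ _ _
  commutes' a := by
    show GammaTS.ff F q (algebraMap A _ a) = _
    rw [Algebra.algebraMap_eq_smul_one, map_smul, SymLaw.ff_one F q, ← Algebra.algebraMap_eq_smul_one]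

theorem ffTS_apply (r : SymTen.TS A (MvPolynomial κ A) d) : ffTS d F q r = GammaTS.ff F q r.1 := rfl

theorem ffTS_tau (S : Type u) [CommSemiring S] [Algebra A S] (z : S ⊗[A] MvPolynomial κ A) :
    (ffTS d F q).toLinearMap.lTensor S ((tau A (MvPolynomial κ A) d).law.toFun' S z) =
      F.law.toFun' S (q.toLinearMap.lTensor S z) := by
  rw [← GammaTS.ff_spec F q S z, ← val_tau, ← LinearMap.lTensor_comp_apply]
  rfl

theorem map_q_surjective (hq : Function.Surjective q) (S : Type u) [CommSemiring S]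
    [Algebra A S] : Function.Surjective (Algebra.TensorProduct.map (AlgHom.id A S) q) := by
  intro z
  obtain ⟨z', hz'⟩ := LinearMap.lTensor_surjective S (g := q.toLinearMap) hq z
  exact ⟨z', by rw [← lTensor_eq_map, hz']⟩

/-- any algebra map out of `TS^d` of a polynomial ring inducing the law `F ∘ q` is `ffTS` -/
theorem eq_ffTS (g : SymTen.TS A (MvPolynomial κ A) d →ₐ[A] C')
    (hg : ∀ (S : Type u) [CommRing S] [Algebra A S] (z : S ⊗[A] MvPolynomial κ A),
      g.toLinearMap.lTensor S ((tau A (MvPolynomial κ A) d).law.toFun' S z) =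
        F.law.toFun' S (q.toLinearMap.lTensor S z)) : g = ffTS d F q := by
  let K : Submodule A (⨂[A] _ : Fin d, MvPolynomial κ A) :=
    Submodule.map (SymTen.TS A (MvPolynomial κ A) d).val.toLinearMap
      (LinearMap.eqLocus g.toLinearMap (ffTS d F q).toLinearMap)
  have hK : ∀ (S : Type u) [CommRing S] [Algebra A S] (lam : S →ₗ[A] A)
      (z : S ⊗[A] MvPolynomial κ A),
      lamT lam ((SymTen.tpowLaw A (MvPolynomial κ A) d).law.toFun' S z) ∈ K := by
    intro S _ _ lam z
    rw [← val_tau, lamT_lTensor]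
    refine Submodule.mem_map_of_mem ?_
    rw [LinearMap.mem_eqLocus, ← lamT_lTensor, ← lamT_lTensor, hg, ffTS_tau]
  apply AlgHom.ext
  intro r
  obtain ⟨r', hr', hrr'⟩ := GRoby.TS_le d (MvPolynomial.basisMonomials κ A) K hK r.1 r.2
  have : r' = r := Subtype.ext hrr'
  rw [← this]
  exact hr'

/-- **Universality of `τ` from a presentation**: if symmetric tensors lift along `q` and the
kernel of `TS^d(q)` is killed by Roby's linear forms, then `(TS^d(B), τ)` is universal. -/
theorem isGammaD_tau (q : MvPolynomial κ A →ₐ[A] B) (hq : Function.Surjective q)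
    (h1 : ∀ t ∈ SymTen.TS A B d, ∃ r ∈ SymTen.TS A (MvPolynomial κ A) d, SymTen.tmap A d q r = t)
    (h2 : ∀ (C' : Type u) [CommRing C'] [Algebra A C'] (F : MulLaw A B C' d),
      ∀ r ∈ SymTen.TS A (MvPolynomial κ A) d, SymTen.tmap A d q r = 0 → GammaTS.ff F q r = 0) :
    IsGammaD (tau A B d) := by
  intro C' _ _ F
  have hsurj : Function.Surjective (SymTen.TSmap A d q) := by
    intro t
    obtain ⟨r, hr, hrt⟩ := h1 t.1 t.2
    exact ⟨⟨r, hr⟩, Subtype.ext hrt⟩
  have hker : RingHom.ker (SymTen.TSmap A d q).toRingHom ≤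
      RingHom.ker (ffTS d F q).toRingHom := by
    intro r hr
    rw [RingHom.mem_ker] at hr ⊢
    exact h2 C' F r.1 r.2 (congrArg Subtype.val hr)
  let f := AlgHom.liftOfSurjective (SymTen.TSmap A d q) hsurj (ffTS d F q) hker
  have hf : f.comp (SymTen.TSmap A d q) = ffTS d F q := AlgHom.liftOfSurjective_comp _ _ _ _
  refine ⟨f, ?_, ?_⟩
  · show PolLaw.postcomp f.toLinearMap (tau A B d).law = F.law
    ext S _ _ x
    obtain ⟨z, rfl⟩ := map_q_surjective q hq S x
    show f.toLinearMap.lTensor S ((tau A B d).law.toFun' S _) = _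
    rw [tau_natural, lTensor_eq_map, SymLaw.map_id_comp, hf, ← lTensor_eq_map, ffTS_tau,
      lTensor_eq_map]
  · intro f' hf'
    have key : f'.comp (SymTen.TSmap A d q) = ffTS d F q := by
      apply eq_ffTS
      intro S _ _ z
      have h3 := congrArg (fun G => G.toFun' S (Algebra.TensorProduct.map (AlgHom.id A S) q z)) hf'
      beta_reduce at h3
      change f'.toLinearMap.lTensor S ((tau A B d).law.toFun' S _) = _ at h3
      rw [tau_natural, lTensor_eq_map, SymLaw.map_id_comp] at h3
      rw [lTensor_eq_map, lTensor_eq_map, h3]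
    apply AlgHom.ext
    intro t
    obtain ⟨r, rfl⟩ := hsurj t
    rw [← AlgHom.comp_apply, ← AlgHom.comp_apply, key, hf]

end Univ

section Sm

variable {A : Type u} [CommRing A] {P : Type u} [CommRing P] [Algebra A P] (d : ℕ)

/-- the additive symmetrizer -/
noncomputable def Sm (z : ⨂[A] _ : Fin d, P) : ⨂[A] _ : Fin d, P :=
  ∑ σ : Equiv.Perm (Fin d), SymTen.perm A P d σ z

theorem Sm_add (x y : ⨂[A] _ : Fin d, P) : Sm d (x + y) = Sm d x + Sm d y := by
  simp only [Sm, map_add, Finset.sum_add_distrib]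

theorem Sm_zero : Sm d (0 : ⨂[A] _ : Fin d, P) = 0 := by
  simp only [Sm, map_zero, Finset.sum_const_zero]

theorem Sm_smul (a : A) (x : ⨂[A] _ : Fin d, P) : Sm d (a • x) = a • Sm d x := by
  simp only [Sm, map_smul, Finset.smul_sum]

theorem perm_Sm (τ : Equiv.Perm (Fin d)) (z : ⨂[A] _ : Fin d, P) :
    SymTen.perm A P d τ (Sm d z) = Sm d z := by
  rw [Sm, map_sum]
  simp only [perm_perm]
  exact Fintype.sum_equiv (Equiv.mulLeft τ) _ _ fun σ => rfl

theorem Sm_mem_TS (z : ⨂[A] _ : Fin d, P) : Sm d z ∈ SymTen.TS A P d := by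
  rw [SymTen.mem_TS_iff]
  intro σ
  rw [← SymTen.perm_apply, perm_Sm]

theorem Sm_of_mem_TS (z : ⨂[A] _ : Fin d, P) (hz : z ∈ SymTen.TS A P d) :
    Sm d z = ((d.factorial : ℕ) : A) • z := by
  rw [Sm]
  have : ∀ σ : Equiv.Perm (Fin d), SymTen.perm A P d σ z = z := fun σ => by
    rw [SymTen.perm_apply]
    exact hz σ
  simp only [this]
  rw [Finset.sum_const, Finset.card_univ, Fintype.card_perm, Fintype.card_fin, Nat.cast_smul_eq_nsmul]

theorem tmap_Sm {P' : Type u} [CommRing P'] [Algebra A P'] (ε : P →ₐ[A] P')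
    (z : ⨂[A] _ : Fin d, P) : SymTen.tmap A d ε (Sm d z) = Sm d (SymTen.tmap A d ε z) := by
  rw [Sm, map_sum, Sm]
  simp only [tmap_perm]

end Sm

section Factorial

variable {A : Type u} [CommRing A] {B : Type u} [CommRing B] [Algebra A B] (d : ℕ)
  {C' : Type u} [CommRing C'] [Algebra A C'] (F : MulLaw A B C' d) {κ : Type u}
  (q : MvPolynomial κ A →ₐ[A] B)

theorem ff_Sm_mul_single (a : MvPolynomial κ A) (ha : q a = 0) (j : Fin d)
    (w : ⨂[A] _ : Fin d, MvPolynomial κ A) :
    GammaTS.ff F q (Sm d (w *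
        PiTensorProduct.singleAlgHom (R := A) (A := fun _ : Fin d => MvPolynomial κ A) j a)) = 0 := by
  set U : ⨂[A] _ : Fin d, MvPolynomial (Option κ) A :=
    SymTen.tmap A d (GammaTS.incl κ) w *
      PiTensorProduct.singleAlgHom (R := A) (A := fun _ : Fin d => MvPolynomial (Option κ) A) j
        (MvPolynomial.X none) with hU
  have h1 : ∀ a' : MvPolynomial κ A, SymTen.tmap A d (GammaTS.ev κ a') U = w *
      PiTensorProduct.singleAlgHom (R := A) (A := fun _ : Fin d => MvPolynomial κ A) j a' := by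
    intro a'
    rw [hU, map_mul, tmap_comp, GammaTS.ev_comp_incl, tmap_id, tmap_single, GammaTS.ev_none]
  have h2 : q.comp (GammaTS.ev κ a) = q.comp (GammaTS.ev κ 0) := by
    apply MvPolynomial.algHom_ext
    intro o
    cases o with
    | none => simp [GammaTS.ev, ha]
    | some k => simp [GammaTS.ev]
  have h3 := GammaTS.ff_tmap_eq F q (GammaTS.ev κ a) (GammaTS.ev κ 0) h2 (Sm d U) (Sm_mem_TS d U)
  rw [tmap_Sm, tmap_Sm, h1, h1, map_zero, mul_zero, Sm_zero, map_zero] at h3
  exact h3

theorem ff_Sm_of_mem_Jd (r : ⨂[A] _ : Fin d, MvPolynomial κ A) (hr : r ∈ Jd d q) :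
    GammaTS.ff F q (Sm d r) = 0 := by
  have key : ∀ r ∈ Jd d q, ∀ w : ⨂[A] _ : Fin d, MvPolynomial κ A,
      GammaTS.ff F q (Sm d (w * r)) = 0 := by
    intro r hr
    refine Submodule.span_induction ?_ ?_ ?_ ?_ hr
    · rintro _ ⟨j, a, ha, rfl⟩ w
      exact ff_Sm_mul_single d F q a ha j w
    · intro w
      rw [mul_zero, Sm_zero, map_zero]
    · intro x y _ _ hx hy w
      rw [mul_add, Sm_add, map_add, hx, hy, add_zero]
    · intro t x _ hx w
      rw [smul_eq_mul, ← mul_assoc, hx]
  have := key r hr 1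
  rwa [one_mul] at this

/-- the two conditions of `isGammaD_tau` when `d!` is invertible -/
theorem isGammaD_tau_of_isUnit (h : IsUnit ((d.factorial : ℕ) : A)) : IsGammaD (tau A B d) := by
  obtain ⟨u, hu⟩ := h.exists_left_inv
  let q : MvPolynomial B A →ₐ[A] B := MvPolynomial.aeval id
  have hq : Function.Surjective q := fun b => ⟨MvPolynomial.X b, by simp [q]⟩
  refine isGammaD_tau d q hq ?_ ?_
  · intro t ht
    obtain ⟨w, hw⟩ := tmap_surjective d q hq t
    refine ⟨u • Sm d w, Subalgebra.smul_mem _ (Sm_mem_TS d w) u, ?_⟩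
    rw [map_smul, tmap_Sm, hw, Sm_of_mem_TS d t ht, smul_smul, hu, one_smul]
  · intro C' _ _ F r hr hr0
    have e : r = u • Sm d r := by
      rw [Sm_of_mem_TS d r hr, smul_smul, hu, one_smul]
    rw [e, map_smul, ff_Sm_of_mem_Jd d F q r (mem_Jd_of_tmap_eq_zero d q hq r hr0), smul_zero]

end Factorial

section FlatCase

variable {A : Type u} [CommRing A] {B : Type u} [CommRing B] [Algebra A B] (d : ℕ)

theorem tmap_eq_map {P : Type u} [CommRing P] [Algebra A P] (q : P →ₐ[A] B)
    (z : ⨂[A] _ : Fin d, P) :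
    SymTen.tmap A d q z = PiTensorProduct.map (fun _ : Fin d => q.toLinearMap) z := by
  induction z using PiTensorProduct.induction_on with
  | smul_tprod r f =>
      rw [map_smul, map_smul, SymTen.tmap_tprod, PiTensorProduct.map_tprod]
      rfl
  | add x y hx hy => simp only [map_add, hx, hy]

/-- naturality of the tensor power law with respect to linear maps -/
theorem tpow_map_lin {P P' : Type u} [CommRing P] [Algebra A P] [CommRing P'] [Algebra A P']
    (g : P →ₗ[A] P') (S : Type u) [CommRing S] [Algebra A S] (z : S ⊗[A] P) :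
    (PiTensorProduct.map (fun _ : Fin d => g)).lTensor S
        ((SymTen.tpowLaw A P d).law.toFun' S z) =
      (SymTen.tpowLaw A P' d).law.toFun' S (g.lTensor S z) := by
  obtain ⟨n, s, b, rfl⟩ := exists_fin_repr z
  rw [TPow.tpow_sum, map_sum, map_sum]
  simp only [LinearMap.lTensor_tmul, PiTensorProduct.map_tprod]
  rw [TPow.tpow_sum d S n s (fun j => g (b j))]

variable {C' : Type u} [CommRing C'] [Algebra A C'] (F : MulLaw A B C' d) {κ : Type u}
  (q : MvPolynomial κ A →ₐ[A] B)

/-- Roby's linear form is invariant under `T^d(π)` on symmetric tensors when `q π = q` -/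
theorem ff_map_lin (πl : MvPolynomial κ A →ₗ[A] MvPolynomial κ A)
    (h : q.toLinearMap ∘ₗ πl = q.toLinearMap) (r : ⨂[A] _ : Fin d, MvPolynomial κ A)
    (hr : r ∈ SymTen.TS A (MvPolynomial κ A) d) :
    GammaTS.ff F q (PiTensorProduct.map (fun _ : Fin d => πl) r) = GammaTS.ff F q r := by
  let K : Submodule A (⨂[A] _ : Fin d, MvPolynomial κ A) :=
    LinearMap.eqLocus (GammaTS.ff F q ∘ₗ PiTensorProduct.map (fun _ : Fin d => πl)) (GammaTS.ff F q)
  refine GRoby.TS_le d (MvPolynomial.basisMonomials κ A) K ?_ r hr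
  intro S _ _ lam z
  rw [LinearMap.mem_eqLocus, LinearMap.comp_apply, ← lamT_lTensor, tpow_map_lin, GammaTS.ff_coeff,
    GammaTS.ff_coeff, ← LinearMap.lTensor_comp_apply, h]

theorem isGammaD_tau_of_flat [Module.Flat A B] : IsGammaD (tau A B d) := by
  classical
  let q : MvPolynomial B A →ₐ[A] B := MvPolynomial.aeval id
  have hq : Function.Surjective q := fun b => ⟨MvPolynomial.X b, by simp [q]⟩
  refine isGammaD_tau d q hq ?_ ?_
  · intro t ht
    obtain ⟨s, hs, hst⟩ := TSFlatMod.exists_symm_lift q.toLinearMap hq d t ht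
    exact ⟨s, hs, by rw [tmap_eq_map]; exact hst⟩
  · intro C' _ _ F r hr hr0
    obtain ⟨πl, hπ, hπ'⟩ := TSFlatMod.exists_proj_kills (MvPolynomial.basisMonomials B A)
      q.toLinearMap hq d {r} (by
        intro w hw
        rw [Finset.mem_singleton] at hw
        rw [hw, ← tmap_eq_map]
        exact hr0)
    rw [← ff_map_lin d F q πl hπ r hr, hπ' r (Finset.mem_singleton_self r), map_zero]

end FlatCase

/-- **`TS^d(B)` with the tensor power law is the divided power algebra** when `B` is flat or `d!`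
is invertible. -/
theorem main {A B : Type u} [CommRing A] [CommRing B] [Algebra A B] (d : ℕ)
    (h : Module.Flat A B ∨ IsUnit ((d.factorial : ℕ) : A)) :
    ∃ τ : PolLaw.MulLaw A B (SymTen.TS A B d) d,
      (∀ (S : Type u) [CommSemiring S] [Algebra A S] (n : ℕ) (s : Fin n → S) (b : Fin n → B),
        (SymTen.TS A B d).val.toLinearMap.lTensor S (τ.law.toFun' S (∑ j, s j ⊗ₜ[A] b j)) =
          ∑ c : Fin d → Fin n, (∏ i, s (c i)) ⊗ₜ[A] PiTensorProduct.tprod A (fun i => b (c i))) ∧
      PolLaw.IsGammaD τ := by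
  refine ⟨tau A B d, fun S _ _ n s b => tau_formula A B d S n s b, ?_⟩
  rcases h with h | h
  · exact isGammaD_tau_of_flat d
  · exact isGammaD_tau_of_isUnit d h

end Groth.Agent.Lib.Helper59.TSGamma
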