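import Groth.Agent.Lib.Helper59.SigComb
import Groth.Agent.Lib.Helper59.SymLaw
import Groth.Agent.Lib.Helper59.TSGamma

/-!
# Symmetric tensors of a polynomial ring are generated by the elementary symmetric tensors
-/

set_option autoImplicit false

namespace Groth.Agent.Lib.Helper59.SigGen

open scoped TensorProduct
open Groth.Agent.Lib.Helper59.CHCore Groth.Agent.Lib.Helper59.GRoby
  Groth.Agent.Lib.Helper59.SigComb

universe u

section General

variable (R : Type u) [CommRing R] (A : Type u) [CommRing A] [Algebra R A] (n : ℕ)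

/-- the elementary symmetric tensors -/
noncomputable def sig (k : ℕ) (a : A) : ⨂[R] _ : Fin n, A :=
  ∑ I ∈ (Finset.univ : Finset (Fin n)).powersetCard k,
    PiTensorProduct.tprod R (fun i : Fin n => if i ∈ I then a else (1 : A))

/-- the subalgebra they generate -/
noncomputable def G : Subalgebra R (⨂[R] _ : Fin n, A) :=
  Algebra.adjoin R {t : ⨂[R] _ : Fin n, A | ∃ (a : A) (j : ℕ),
    t = ∑ I ∈ (Finset.univ : Finset (Fin n)).powersetCard j,
      PiTensorProduct.tprod R (fun i : Fin n => if i ∈ I then a else (1 : A))}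

variable {R A n}

theorem tprod_mul_eq (b c : Fin n → A) :
    PiTensorProduct.tprod R (fun i => b i * c i) =
      PiTensorProduct.tprod R b * PiTensorProduct.tprod R c := by
  rw [PiTensorProduct.tprod_mul_tprod]
  rfl

theorem sig_mem_G (k : ℕ) (a : A) : sig R A n k a ∈ G R A n :=
  Algebra.subset_adjoin ⟨a, k, rfl⟩

theorem sig_mem_TS (k : ℕ) (a : A) : sig R A n k a ∈ SymTen.TS R A n := by
  classical
  rw [SymTen.mem_TS_iff]
  intro σ
  rw [← SymTen.perm_apply, sig, map_sum]
  simp only [SymTen.perm_tprod]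
  refine Finset.sum_nbij' (fun J => J.map σ.toEmbedding) (fun J => J.map σ.symm.toEmbedding)
    ?_ ?_ ?_ ?_ ?_
  · intro J hJ
    rw [Finset.mem_powersetCard] at hJ ⊢
    exact ⟨Finset.subset_univ _, by rw [Finset.card_map]; exact hJ.2⟩
  · intro J hJ
    rw [Finset.mem_powersetCard] at hJ ⊢
    exact ⟨Finset.subset_univ _, by rw [Finset.card_map]; exact hJ.2⟩
  · intro J _
    ext i
    simp
  · intro J _
    ext i
    simp
  · intro J _
    congr 1
    funext i
    have : σ.symm i ∈ J ↔ i ∈ J.map σ.toEmbedding := by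
      rw [Finset.mem_map_equiv]
    by_cases h : σ.symm i ∈ J
    · rw [if_pos h, if_pos (this.1 h)]
    · rw [if_neg h, if_neg (fun h' => h (this.2 h'))]

end General

section Poly

variable {R : Type u} [CommRing R] {κ : Type u} {n : ℕ}

local notation "𝔢" => MvPolynomial.basisMonomials κ R

theorem E_eq (c : Fin n → (κ →₀ ℕ)) :
    bT 𝔢 n c = PiTensorProduct.tprod R (fun i => MvPolynomial.monomial (c i) (1 : R)) := by
  rw [bT_apply, MvPolynomial.coe_basisMonomials]

open Classical in
theorem E_mul_sig (c : Fin n → (κ →₀ ℕ)) (k : ℕ) (m : κ →₀ ℕ) :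
    bT 𝔢 n c * sig R (MvPolynomial κ R) n k (MvPolynomial.monomial m 1) =
      ∑ J ∈ (Finset.univ : Finset (Fin n)).powersetCard k, bT 𝔢 n (shift c J m) := by
  rw [sig, Finset.mul_sum]
  refine Finset.sum_congr rfl fun J _ => ?_
  rw [E_eq, E_eq, ← tprod_mul_eq]
  congr 1
  funext i
  rw [shift]
  split_ifs
  · rw [MvPolynomial.monomial_mul, one_mul]
  · rw [mul_one]

open Classical in
/-- the tuples of a given class -/
noncomputable def S (n : ℕ) (α : (κ →₀ ℕ) →₀ ℕ) : Finset (Fin n → (κ →₀ ℕ)) :=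
  (Fintype.piFinset (fun _ : Fin n => α.support)).filter (fun c => cls n c = α)

theorem mem_S (α : (κ →₀ ℕ) →₀ ℕ) (c : Fin n → (κ →₀ ℕ)) : c ∈ S n α ↔ cls n c = α := by
  classical
  rw [S, Finset.mem_filter, Fintype.mem_piFinset]
  constructor
  · exact fun h => h.2
  · intro h
    refine ⟨fun i => ?_, h⟩
    rw [← h]
    exact mem_support_cls n c i

theorem Oa_eq_sum (α : (κ →₀ ℕ) →₀ ℕ) : Oa 𝔢 n α = ∑ c ∈ S n α, bT 𝔢 n c := by
  classical
  apply (bT 𝔢 n).repr.injective
  ext c'
  rw [repr_Oa, map_sum, Finsupp.coe_finsetSum, Finset.sum_apply]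
  simp only [Module.Basis.repr_self, Finsupp.single_apply]
  rw [Finset.sum_ite_eq' (S n α) c' (fun _ => (1 : R))]
  by_cases h : cls n c' = α
  · rw [if_pos h, if_pos ((mem_S α c').2 h)]
  · rw [if_neg h, if_neg (fun h' => h ((mem_S α c').1 h'))]

theorem Oa_mem_TS (c : Fin n → (κ →₀ ℕ)) :
    Oa 𝔢 n (cls n c) ∈ SymTen.TS R (MvPolynomial κ R) n := by
  classical
  have h := SymLaw.Phi_mem_TS 𝔢 n (bT 𝔢 n (rp n c))
  rw [Phi_bT, if_pos (rp_rp n c).symm, cls_rp] at h
  exact h

open Classical in
/-- span of the basis tensors of weight `< W` -/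
noncomputable def Fspan (W : ℕ) : Submodule R (⨂[R] _ : Fin n, MvPolynomial κ R) :=
  Submodule.span R {t | ∃ c : Fin n → (κ →₀ ℕ), wt c < W ∧ t = bT 𝔢 n c}

open Classical in
theorem repr_eq_zero_of_mem_Fspan (W : ℕ) (y : ⨂[R] _ : Fin n, MvPolynomial κ R)
    (hy : y ∈ Fspan (κ := κ) (n := n) W) (c' : Fin n → (κ →₀ ℕ)) (hc' : W ≤ wt c') :
    (bT 𝔢 n).repr y c' = 0 := by
  induction hy using Submodule.span_induction with
  | mem t ht =>
    obtain ⟨c, hc, rfl⟩ := ht
    rw [Module.Basis.repr_self, Finsupp.single_apply, if_neg]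
    rintro rfl
    omega
  | zero => simp
  | add x y _ _ hx hy => rw [map_add, Finsupp.add_apply, hx, hy, add_zero]
  | smul r x _ hx => rw [map_smul, Finsupp.smul_apply, hx, smul_zero]

/-- a symmetric tensor lies in `G` as soon as the orbit sums of its support do -/
theorem mem_G_of_TS (y : ⨂[R] _ : Fin n, MvPolynomial κ R)
    (hy : y ∈ SymTen.TS R (MvPolynomial κ R) n)
    (hO : ∀ c, (bT 𝔢 n).repr y c ≠ 0 → Oa 𝔢 n (cls n c) ∈ G R (MvPolynomial κ R) n) :
    y ∈ G R (MvPolynomial κ R) n := by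
  classical
  rw [← Phi_of_mem_TS 𝔢 n y hy]
  have h1 : Phi 𝔢 n y = ((bT 𝔢 n).repr y).sum fun c a => a • Phi 𝔢 n (bT 𝔢 n c) := by
    conv_lhs => rw [← (bT 𝔢 n).linearCombination_repr y, Finsupp.linearCombination_apply,
      map_finsuppSum]
    simp only [map_smul]
  rw [h1]
  refine Subalgebra.sum_mem _ fun c hc => Subalgebra.smul_mem _ ?_ _
  rw [Phi_bT]
  split_ifs
  · exact hO c (Finsupp.mem_support_iff.1 hc)
  · exact Subalgebra.zero_mem _

open Classical in
/-- the main product formula -/
theorem Oa_mul_sig (c : Fin n → (κ →₀ ℕ)) (m : κ →₀ ℕ) (hm : m ≠ 0) :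
    ∃ bad ∈ Fspan (κ := κ) (n := n) (R := R) (wt c),
      Oa 𝔢 n (cls n (zap c m)) *
          sig R (MvPolynomial κ R) n (fib c m).card (MvPolynomial.monomial m 1) =
        Oa 𝔢 n (cls n c) + bad := by
  set k := (fib c m).card with hk
  set α₁ := cls n (zap c m) with hα₁
  set α := cls n c with hα
  have hrel : α + k • Finsupp.single (0 : κ →₀ ℕ) 1 = α₁ + k • Finsupp.single m 1 := cls_zap c m
  have hne : ∀ c₁ ∈ S n α₁, ∀ i, c₁ i ≠ m := by
    intro c₁ hc₁ i
    rw [mem_S] at hc₁
    have h1 : c₁ i ∈ α₁.support := by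
      rw [← hc₁]; exact mem_support_cls n c₁ i
    obtain ⟨i', hi'⟩ := exists_of_mem_support_cls n (zap c m) _ h1
    rw [← hi']
    exact zap_ne c m hm i'
  let good : (Fin n → (κ →₀ ℕ)) × Finset (Fin n) → Prop := fun p => ∀ i ∈ p.2, p.1 i = 0
  refine ⟨∑ p ∈ ((S n α₁) ×ˢ (Finset.univ : Finset (Fin n)).powersetCard k).filter
      (fun p => ¬ good p), bT 𝔢 n (shift p.1 p.2 m), ?_, ?_⟩
  · refine Submodule.sum_mem _ fun p hp => Submodule.subset_span ⟨_, ?_, rfl⟩
    rw [Finset.mem_filter, Finset.mem_product, Finset.mem_powersetCard] at hp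
    obtain ⟨⟨hp1, -, hp2⟩, hp3⟩ := hp
    have hex : ∃ i ∈ p.2, p.1 i ≠ 0 := by
      by_contra hcon
      apply hp3
      intro i hi
      by_contra h0
      exact hcon ⟨i, hi, h0⟩
    have h1 := wt_shift_lt p.1 p.2 m hex
    have h2 : wt p.1 = wt (zap c m) := wt_congr _ _ ((mem_S α₁ p.1).1 hp1)
    have h3 := wt_zap c m hm
    omega
  · rw [Oa_eq_sum, Finset.sum_mul]
    simp only [E_mul_sig]
    rw [← Finset.sum_product' (S n α₁) ((Finset.univ : Finset (Fin n)).powersetCard k)
      (fun c₁ J => bT 𝔢 n (shift c₁ J m)),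
      ← Finset.sum_filter_add_sum_filter_not _ good]
    congr 1
    rw [Oa_eq_sum]
    refine Finset.sum_nbij' (fun p => shift p.1 p.2 m) (fun c'' => (zap c'' m, fib c'' m))
      ?_ ?_ ?_ ?_ ?_
    · intro p hp
      rw [Finset.mem_filter, Finset.mem_product, Finset.mem_powersetCard] at hp
      obtain ⟨⟨hp1, -, hp2⟩, hp3⟩ := hp
      rw [mem_S]
      have h1 := cls_shift p.1 p.2 m hp3
      rw [hp2, (mem_S α₁ p.1).1 hp1, ← hrel] at h1
      exact add_right_cancel h1
    · intro c'' hc''
      rw [mem_S] at hc''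
      have hcard : (fib c'' m).card = k := by
        rw [card_fib, hc'', hα, ← card_fib]
      rw [Finset.mem_filter, Finset.mem_product, Finset.mem_powersetCard]
      refine ⟨⟨?_, Finset.subset_univ _, hcard⟩, zap_eq_zero_of_mem_fib c'' m⟩
      rw [mem_S]
      have h1 := cls_zap c'' m
      rw [hcard, hc'', hrel] at h1
      exact (add_right_cancel h1).symm
    · intro p hp
      rw [Finset.mem_filter, Finset.mem_product] at hp
      obtain ⟨⟨hp1, -⟩, hp3⟩ := hp
      exact Prod.ext (zap_shift p.1 p.2 m hp3 (hne p.1 hp1))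
        (fib_shift p.1 p.2 m hp3 (hne p.1 hp1))
    · intro c'' _
      exact shift_zap c'' m
    · intro p _
      rfl

open Classical in
theorem Oa_mem_G (c : Fin n → (κ →₀ ℕ)) : Oa 𝔢 n (cls n c) ∈ G R (MvPolynomial κ R) n := by
  induction h : wt c using Nat.strong_induction_on generalizing c with
  | _ W ih =>
    by_cases hall : ∀ i, c i = 0
    · -- the orbit sum is `1`
      have hS : S n (cls n c) = {c} := by
        ext c'
        rw [mem_S, Finset.mem_singleton]
        constructor
        · intro hc'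
          funext i
          have h1 : c' i ∈ (cls n c).support := by
            rw [← hc']; exact mem_support_cls n c' i
          obtain ⟨i', hi'⟩ := exists_of_mem_support_cls n c _ h1
          rw [← hi', hall i', hall i]
        · rintro rfl; rfl
      rw [Oa_eq_sum, hS, Finset.sum_singleton, E_eq]
      have : (fun i => MvPolynomial.monomial (c i) (1 : R)) = fun _ => (1 : MvPolynomial κ R) := by
        funext i
        rw [hall i]
        rfl
      rw [this]
      have h1 : PiTensorProduct.tprod R (fun _ : Fin n => (1 : MvPolynomial κ R)) = 1 :=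
        (PiTensorProduct.one_def (R := R) (A := fun _ : Fin n => MvPolynomial κ R)).symm
      rw [h1]
      exact Subalgebra.one_mem _
    · have hex : ∃ i, c i ≠ 0 := by
        by_contra hcon
        apply hall
        intro i
        by_contra h0
        exact hcon ⟨i, h0⟩
      obtain ⟨i₀, hi₀⟩ := hex
      set m := c i₀ with hm
      have hkpos : 0 < (fib c m).card := Finset.card_pos.2 ⟨i₀, (mem_fib c m i₀).2 rfl⟩
      have hwt := wt_zap c m hi₀
      have h1 : Oa 𝔢 n (cls n (zap c m)) ∈ G R (MvPolynomial κ R) n :=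
        ih (wt (zap c m)) (by omega) (zap c m) rfl
      obtain ⟨bad, hbad, hprod⟩ := Oa_mul_sig (R := R) c m hi₀
      have hbadTS : bad ∈ SymTen.TS R (MvPolynomial κ R) n := by
        have e : bad = Oa 𝔢 n (cls n (zap c m)) *
            sig R (MvPolynomial κ R) n (fib c m).card (MvPolynomial.monomial m 1) -
            Oa 𝔢 n (cls n c) := by rw [hprod]; ring
        rw [e]
        refine Subalgebra.sub_mem _ (Subalgebra.mul_mem _ (Oa_mem_TS _) ?_) (Oa_mem_TS _)
        exact sig_mem_TS _ _
      have hbadG : bad ∈ G R (MvPolynomial κ R) n := by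
        refine mem_G_of_TS bad hbadTS fun c' hc' => ?_
        have hlt : wt c' < wt c := by
          by_contra hge
          exact hc' (repr_eq_zero_of_mem_Fspan (wt c) bad hbad c' (not_lt.1 hge))
        exact ih (wt c') (h ▸ hlt) c' rfl
      have e : Oa 𝔢 n (cls n c) = Oa 𝔢 n (cls n (zap c m)) *
          sig R (MvPolynomial κ R) n (fib c m).card (MvPolynomial.monomial m 1) - bad := by
        rw [hprod]; ring
      rw [e]
      exact Subalgebra.sub_mem _ (Subalgebra.mul_mem _ h1 (sig_mem_G _ _)) hbadG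

theorem TS_le_G : SymTen.TS R (MvPolynomial κ R) n ≤ G R (MvPolynomial κ R) n :=
  fun y hy => mem_G_of_TS y hy fun c _ => Oa_mem_G c

end Poly

section Flat

variable (R : Type u) [CommRing R] (A : Type u) [CommRing A] [Algebra R A] (n : ℕ)

theorem G_le_TS : G R A n ≤ SymTen.TS R A n := by
  refine Algebra.adjoin_le ?_
  rintro _ ⟨a, j, rfl⟩
  exact sig_mem_TS j a

theorem tmap_sig {P : Type u} [CommRing P] [Algebra R P] (q : P →ₐ[R] A) (k : ℕ) (p : P) :
    SymTen.tmap R n q (sig R P n k p) = sig R A n k (q p) := by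
  rw [sig, map_sum, sig]
  refine Finset.sum_congr rfl fun J _ => ?_
  rw [SymTen.tmap_tprod]
  congr 1
  funext i
  split_ifs
  · rfl
  · exact map_one q

theorem TS_eq_G [Module.Flat R A] : SymTen.TS R A n = G R A n := by
  refine le_antisymm ?_ (G_le_TS R A n)
  intro t ht
  let q : MvPolynomial A R →ₐ[R] A := MvPolynomial.aeval id
  have hq : Function.Surjective q := fun b => ⟨MvPolynomial.X b, by simp [q]⟩
  obtain ⟨s, hs, hst⟩ := TSFlatMod.exists_symm_lift q.toLinearMap hq n t ht
  have hsG : s ∈ G R (MvPolynomial A R) n := TS_le_G (n := n) hs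
  have hmap : ∀ z ∈ G R (MvPolynomial A R) n, SymTen.tmap R n q z ∈ G R A n := by
    intro z hz
    induction hz using Algebra.adjoin_induction with
    | mem x hx =>
      obtain ⟨a, j, rfl⟩ := hx
      have := tmap_sig R A n q j a
      rw [sig] at this
      rw [this]
      exact sig_mem_G j (q a)
    | algebraMap r =>
      rw [AlgHom.commutes]
      exact Subalgebra.algebraMap_mem _ r
    | add x y _ _ hx hy =>
      rw [map_add]
      exact Subalgebra.add_mem _ hx hy
    | mul x y _ _ hx hy =>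
      rw [map_mul]
      exact Subalgebra.mul_mem _ hx hy
  have := hmap s hsG
  rwa [TSGamma.tmap_eq_map, hst] at this

end Flat

end Groth.Agent.Lib.Helper59.SigGen
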