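import Groth.Agent.Lib.Helper59.BCLaw

/-!
# Multiplicative laws of degree `d` on a split algebra of rank `d`

If `B` has `d` complete orthogonal idempotents `e j` with `A e j` free of rank one, and `F : B → A`
is multiplicative of degree `d` with nil kernel, then `F (∑ s j ⊗ e j) = ∏ s j`.
-/

set_option autoImplicit false

namespace Groth.Agent.Lib.Helper59.SplitLaw

open scoped TensorProduct
open PolLaw Polynomial Groth.Agent.Lib.Helper59.KerPoly Groth.Agent.Lib.Helper59.CHCore
  Groth.Agent.Lib.Helper59.IdemCount Groth.Agent.Lib.Helper59.BCLaw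

universe u

section Base

variable {A : Type u} [CommRing A] {B : Type u} [CommRing B] [Algebra A B] {d : ℕ}

theorem eq_zero_of_idem_of_nilpotent {R : Type*} [CommRing R] {x : R} (hi : x * x = x)
    (hn : IsNilpotent x) : x = 0 := by
  obtain ⟨n, hn⟩ := hn
  have h : ∀ m : ℕ, x ^ (m + 1) = x := by
    intro m
    induction m with
    | zero => simp
    | succ m ih => rw [pow_succ, ih, hi]
  rcases Nat.eq_zero_or_pos n with rfl | hpos
  · rw [pow_zero] at hn
    rw [← mul_one x, hn, mul_zero]
  · obtain ⟨m, rfl⟩ : ∃ m, n = m + 1 := ⟨n - 1, by omega⟩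
    rw [h m] at hn
    exact hn

/-- the constant coefficient of `PP F e` times `e` lies in the kernel -/
theorem coeff_zero_smul_mem_ker (F : MulLaw A B A d) {e : B} (he : e * e = e) :
    (PP F e).coeff 0 • e ∈ PolLaw.ker F.law := by
  have hker : e * e - e ∈ PolLaw.ker F.law := by
    rw [he, sub_self]
    exact zero_mem _
  have hmul := coeff_mul_coeff F hker
  set a := (PP F e).coeff 0 with ha
  have haa : a * a = a := by
    have := hmul 0 0
    rw [if_pos rfl] at this
    exact this
  have h1 : (PP F e).eval (1 - a) = 1 := by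
    refine Eq.trans ?_ (eval_one_PP F e)
    rw [eval_eq_sum_range, eval_eq_sum_range]
    refine Finset.sum_congr rfl fun k _ => ?_
    rcases Nat.eq_zero_or_pos k with rfl | hk
    · simp
    · have hk1 : (PP F e).coeff k * (1 - a) = (PP F e).coeff k := by
        rw [mul_sub, mul_one, ha, hmul k 0, if_neg (by omega), sub_zero]
      have h2 : ∀ n : ℕ, (PP F e).coeff k * (1 - a) ^ n = (PP F e).coeff k := by
        intro n
        induction n with
        | zero => simp
        | succ n ih => rw [pow_succ, ← mul_assoc, ih, hk1]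
      rw [h2, one_pow, mul_one]
  have hc : uu (A := A) A (1 - a) e = (1 : A) ⊗ₜ[A] (1 - a • e) := by
    unfold uu
    have : ((1 - a) ⊗ₜ[A] e : A ⊗[A] B) = (1 : A) ⊗ₜ[A] ((1 - a) • e) := by
      rw [← TensorProduct.smul_tmul, smul_eq_mul, mul_one]
    rw [this, ← TensorProduct.tmul_add]
    congr 1
    rw [sub_smul, one_smul]
    abel
  have h0 : val F.law A ((1 : A) ⊗ₜ[A] (1 - a • e)) = 1 := by
    have h3 := val_uu F A (1 - a) e
    rw [hc, Polynomial.coe_aeval_eq_eval] at h3
    rw [h3]
    exact h1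
  have h3 : (a • e) * (1 - a • e) = 0 := by
    rw [mul_sub, mul_one, smul_mul_smul_comm, haa, he, sub_self]
  intro S _ _ x w
  have hS : F.law.toFun' S ((1 : S) ⊗ₜ[A] (1 - a • e)) = 1 := by
    have h4 := val_map F.law (Algebra.ofId A S) ((1 : A) ⊗ₜ[A] (1 - a • e))
    rw [h0, map_one, Algebra.TensorProduct.map_tmul, map_one, AlgHom.coe_id, id_eq] at h4
    have h5 : val F.law S ((1 : S) ⊗ₜ[A] (1 - a • e)) = val F.law S 1 := by
      rw [h4, val_one F.law F.mult]
    rw [toFun'_eq_of_val_eq F.law h5, (F.mult S).1]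
  calc F.law.toFun' S (x + w * (1 ⊗ₜ[A] (a • e)))
      = F.law.toFun' S (x + w * (1 ⊗ₜ[A] (a • e))) *
          F.law.toFun' S ((1 : S) ⊗ₜ[A] (1 - a • e)) := by rw [hS, mul_one]
    _ = F.law.toFun' S ((x + w * (1 ⊗ₜ[A] (a • e))) * ((1 : S) ⊗ₜ[A] (1 - a • e))) :=
        ((F.mult S).2 _ _).symm
    _ = F.law.toFun' S (x * ((1 : S) ⊗ₜ[A] (1 - a • e))) := by
        rw [add_mul, mul_assoc, Algebra.TensorProduct.tmul_mul_tmul, mul_one, h3,
          TensorProduct.tmul_zero, mul_zero, add_zero]
    _ = F.law.toFun' S x * F.law.toFun' S ((1 : S) ⊗ₜ[A] (1 - a • e)) := (F.mult S).2 _ _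
    _ = F.law.toFun' S x := by rw [hS, mul_one]

theorem PP_prod (F : MulLaw A B A d) {ι : Type*} [DecidableEq ι] (e : ι → B)
    (horth : ∀ j k, j ≠ k → e j * e k = 0) (T : Finset ι) :
    ∏ j ∈ T, PP F (e j) = PP F (∑ j ∈ T, e j) := by
  induction T using Finset.induction_on with
  | empty => rw [Finset.prod_empty, Finset.sum_empty, PP_zero]
  | insert j T hj ih =>
    rw [Finset.prod_insert hj, Finset.sum_insert hj, ih]
    apply PP_add
    rw [Finset.mul_sum, Finset.sum_eq_zero]
    · exact zero_mem _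
    · intro k hk
      exact horth j k (by rintro rfl; exact hj hk)

variable (F : MulLaw A B A d) (hker : PolLaw.ker F.law ≤ nilradical B) (e : Fin d → B)
  (hidem : ∀ j, e j * e j = e j) (horth : ∀ j k, j ≠ k → e j * e k = 0) (hsum : ∑ j, e j = 1)
  (hfaith : ∀ j (r : A), r • e j = 0 → r = 0)

include hker hidem horth hsum hfaith in
theorem PP_eq_X (j : Fin d) : PP F (e j) = X := by
  classical
  have hkerj : ∀ j, e j * e j - e j ∈ PolLaw.ker F.law := by
    intro j
    rw [hidem j, sub_self]
    exact zero_mem _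
  have hmul := fun j => coeff_mul_coeff F (hkerj j)
  have hq0 : ∀ j, (PP F (e j)).coeff 0 = 0 := by
    intro j
    apply hfaith j
    have h1 := coeff_zero_smul_mem_ker F (hidem j)
    have h2 : IsNilpotent ((PP F (e j)).coeff 0 • e j) := hker h1
    refine eq_zero_of_idem_of_nilpotent ?_ h2
    rw [smul_mul_smul_comm, hidem j]
    have := hmul j 0 0
    rw [if_pos rfl] at this
    rw [this]
  have hprod : ∏ j, PP F (e j) = X ^ d := by
    rw [PP_prod F e horth, hsum, PP_one]
  have hdiv : ∀ j, X * divX (PP F (e j)) = PP F (e j) := by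
    intro j
    have := X_mul_divX_add (PP F (e j))
    rw [hq0 j, map_zero, add_zero] at this
    exact this
  have hr1 : ∏ j, divX (PP F (e j)) = 1 := by
    have h1 : ∏ j, (X * divX (PP F (e j))) = X ^ d := by
      rw [← hprod]
      exact Finset.prod_congr rfl fun j _ => hdiv j
    rw [Finset.prod_mul_distrib, Finset.prod_const, Finset.card_univ, Fintype.card_fin] at h1
    have h2 : (X : A[X]) ^ d * ∏ j, divX (PP F (e j)) = X ^ d * 1 := by rw [h1, mul_one]
    exact (monic_X_pow d).isRegular.left h2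
  have hunit : ∀ j, IsUnit (divX (PP F (e j))) := by
    intro j
    apply isUnit_of_dvd_one
    rw [← hr1]
    exact Finset.dvd_prod_of_mem _ (Finset.mem_univ j)
  have hhigh : ∀ j k, 2 ≤ k → (PP F (e j)).coeff k = 0 := by
    intro j k hk
    have h1 := (isUnit_iff_coeff_isUnit_isNilpotent.mp (hunit j)).2 (k - 1) (by omega)
    rw [coeff_divX, show k - 1 + 1 = k by omega] at h1
    refine eq_zero_of_idem_of_nilpotent ?_ h1
    have := hmul j k k
    rw [if_pos rfl] at this
    exact this
  have hone : (PP F (e j)).coeff 1 = 1 := by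
    have h1 := eval_one_PP F (e j)
    have hsumc : (PP F (e j)).eval 1 =
        ∑ i ∈ Finset.range ((PP F (e j)).natDegree + 2), (PP F (e j)).coeff i := by
      conv_lhs => rw [as_sum_range' (PP F (e j)) ((PP F (e j)).natDegree + 2) (by omega)]
      rw [eval_finsetSum]
      refine Finset.sum_congr rfl fun i _ => ?_
      rw [eval_monomial, one_pow, mul_one]
    rw [hsumc, Finset.sum_eq_single 1] at h1
    · exact h1
    · intro k _ hk1
      rcases Nat.lt_or_ge k 2 with h | h
      · have : k = 0 := by omega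
        rw [this, hq0]
      · exact hhigh j k h
    · intro h
      exact absurd (Finset.mem_range.mpr (by omega)) h
  ext k
  rw [coeff_X]
  rcases Nat.lt_or_ge k 2 with h | h
  · rcases Nat.eq_zero_or_pos k with rfl | hk
    · rw [hq0, if_neg (by omega)]
    · have : k = 1 := by omega
      rw [this, hone, if_pos rfl]
  · rw [hhigh j k h, if_neg (by omega)]

include hidem horth hsum in
theorem prod_uu (S : Type u) [CommRing S] [Algebra A S] (s : Fin d → S) :
    ∏ j, uu (A := A) S (s j) (e j) = ∑ j, s j ⊗ₜ[A] e j := by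
  classical
  have key : ∀ (k : Fin d) (T : Finset (Fin d)),
      ((1 : S) ⊗ₜ[A] e k) * ∏ j ∈ T, uu (A := A) S (s j) (e j) =
        (if k ∈ T then s k else 1) ⊗ₜ[A] e k := by
    intro k T
    induction T using Finset.induction_on with
    | empty => simp
    | insert j₀ T hj ih =>
      rw [Finset.prod_insert hj, ← mul_assoc]
      by_cases hk : k = j₀
      · subst hk
        have h1 : ((1 : S) ⊗ₜ[A] e k) * uu (A := A) S (s k) (e k) = s k • ((1 : S) ⊗ₜ[A] e k) := by
          unfold uu
          have h0 : e k * (1 - e k) = 0 := by rw [mul_sub, mul_one, hidem k, sub_self]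
          rw [mul_add, Algebra.TensorProduct.tmul_mul_tmul, Algebra.TensorProduct.tmul_mul_tmul,
            h0, hidem k, TensorProduct.tmul_zero, zero_add, one_mul,
            TensorProduct.smul_tmul', smul_eq_mul, mul_one]
        rw [h1, smul_mul_assoc, ih, if_neg hj, if_pos (Finset.mem_insert_self _ _),
          TensorProduct.smul_tmul', smul_eq_mul, mul_one]
      · have h1 : ((1 : S) ⊗ₜ[A] e k) * uu (A := A) S (s j₀) (e j₀) = (1 : S) ⊗ₜ[A] e k := by
          unfold uu
          have h0 : e k * (1 - e j₀) = e k := by rw [mul_sub, mul_one, horth k j₀ hk, sub_zero]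
          rw [mul_add, Algebra.TensorProduct.tmul_mul_tmul, Algebra.TensorProduct.tmul_mul_tmul,
            h0, horth k j₀ hk, TensorProduct.tmul_zero, add_zero, one_mul]
        rw [h1, ih]
        congr 2
        simp [Finset.mem_insert, hk]
  have h1 : (∑ k, (1 : S) ⊗ₜ[A] e k : S ⊗[A] B) = 1 := by
    rw [← TensorProduct.tmul_sum, hsum, Algebra.TensorProduct.one_def]
  calc ∏ j, uu (A := A) S (s j) (e j)
      = (∑ k, (1 : S) ⊗ₜ[A] e k) * ∏ j, uu (A := A) S (s j) (e j) := by rw [h1, one_mul]
    _ = ∑ k, s k ⊗ₜ[A] e k := by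
        rw [Finset.sum_mul]
        refine Finset.sum_congr rfl fun k _ => ?_
        rw [key k Finset.univ, if_pos (Finset.mem_univ k)]

theorem val_prod (S : Type u) [CommRing S] [Algebra A S] {ι : Type*} (T : Finset ι)
    (x : ι → S ⊗[A] B) : val F.law S (∏ j ∈ T, x j) = ∏ j ∈ T, val F.law S (x j) := by
  classical
  induction T using Finset.induction_on with
  | empty => rw [Finset.prod_empty, Finset.prod_empty, val_one F.law F.mult]
  | insert j T hj ih => rw [Finset.prod_insert hj, Finset.prod_insert hj, val_mul F.law F.mult, ih]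

include hker hidem horth hsum hfaith in
theorem val_split (S : Type u) [CommRing S] [Algebra A S] (s : Fin d → S) :
    val F.law S (∑ j, s j ⊗ₜ[A] e j) = ∏ j, s j := by
  rw [← prod_uu e hidem horth hsum, val_prod]
  refine Finset.prod_congr rfl fun j _ => ?_
  rw [val_uu, PP_eq_X F hker e hidem horth hsum hfaith, aeval_X]

end Base

section Mixed

variable {A : Type u} [CommRing A] {B : Type u} [CommRing B] [Algebra A B] {d : ℕ}

/-- the value of a law with nil kernel over a ring over which `B` splits completely -/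
theorem val_split_mixed (F : MulLaw A B A d) (h : PolLaw.ker F.law ≤ nilradical B)
    (A' : Type u) [CommRing A'] [Algebra A A'] (e : Fin d → A' ⊗[A] B)
    (hidem : ∀ j, e j * e j = e j) (horth : ∀ j k, j ≠ k → e j * e k = 0) (hsum : ∑ j, e j = 1)
    (hfaith : ∀ j (r : A'), r • e j = 0 → r = 0) (r : Fin d → A') :
    val F.law A' (∑ j, r j • e j) = ∏ j, r j := by
  have hc : ∀ z : A' ⊗[A] B, canc (A := A) (B := B) A' A' ((1 : A') ⊗ₜ z) = z := by
    intro z
    rw [canc_one_tmul]
    have : IsScalarTower.toAlgHom A A' A' = AlgHom.id A A' := AlgHom.ext fun x => rfl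
    rw [this, Algebra.TensorProduct.map_id, AlgHom.id_apply]
  have hy : (∑ j, r j • e j) = canc (A := A) (B := B) A' A' (∑ j, r j ⊗ₜ[A'] e j) := by
    rw [map_sum]
    refine Finset.sum_congr rfl fun j _ => ?_
    have : (r j ⊗ₜ[A'] e j : A' ⊗[A'] (A' ⊗[A] B)) = r j • ((1 : A') ⊗ₜ[A'] e j) := by
      rw [TensorProduct.smul_tmul', smul_eq_mul, mul_one]
    rw [this, map_smul, hc]
  rw [hy, ← val_bc]
  rw [show bcLaw A' F.law = (bc A' F).law from rfl,
    val_split (bc A' F) (ker_bc_le_nilradical A' F h) e hidem horth hsum hfaith]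

/-- two multiplicative laws of degree `d` with nil kernels agree over a ring over which `B`
splits completely -/
theorem eq_of_split (F₁ F₂ : MulLaw A B A d) (h₁ : PolLaw.ker F₁.law ≤ nilradical B)
    (h₂ : PolLaw.ker F₂.law ≤ nilradical B)
    (A' : Type u) [CommRing A'] [Algebra A A'] (e : Fin d → A' ⊗[A] B)
    (hidem : ∀ j, e j * e j = e j) (horth : ∀ j k, j ≠ k → e j * e k = 0) (hsum : ∑ j, e j = 1)
    (hfaith : ∀ j (r : A'), r • e j = 0 → r = 0)
    (hspan : ∀ y : A' ⊗[A] B, ∃ r : Fin d → A', y = ∑ j, r j • e j)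
    (y : A' ⊗[A] B) : F₁.law.toFun' A' y = F₂.law.toFun' A' y := by
  obtain ⟨r, rfl⟩ := hspan y
  apply (TensorProduct.rid A A').injective
  show val F₁.law A' _ = val F₂.law A' _
  rw [val_split_mixed F₁ h₁ A' e hidem horth hsum hfaith,
    val_split_mixed F₂ h₂ A' e hidem horth hsum hfaith]

end Mixed

end Groth.Agent.Lib.Helper59.SplitLaw
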