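import Groth.Prelude.Def_PolLaw2
import Groth.Prelude.Def_W4c5normfunctorschNorm
import Groth.Agent.Lib.Helper59.AltSpan
import Mathlib

/-!
# Symmetric tensors act on the top exterior power through the norm

For `R'` free of rank `d` over `R` with basis `e`, `Dmap e : T^d(R') → R` is the determinant
functional, `omega e = e_0 ⊗ ⋯ ⊗ e_{d-1}`; `T^d(R') = R·omega ⊕ altSpan`.
Main result `tpowAct_sub_norm_smul_mem`: S19898.
-/

set_option autoImplicit false

namespace Groth.Agent.Lib.Helper59.SymNorm

open scoped TensorProduct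
open PiTensorProduct
open Groth.Agent.Lib.Helper59.AltSpan

universe u

section Det

variable {R : Type u} [CommRing R] {R' : Type u} [CommRing R'] [Algebra R R'] {d : ℕ}
  (e : Module.Basis (Fin d) R R')

/-- the determinant functional on the tensor power -/
noncomputable def Dmap : (⨂[R] _ : Fin d, R') →ₗ[R] R :=
  PiTensorProduct.lift e.det.toMultilinearMap

theorem Dmap_tprod (p : Fin d → R') : Dmap e (tprod R p) = e.det p := by
  rw [Dmap, lift.tprod]; rfl

/-- the generator of the top exterior power -/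
noncomputable def omega : ⨂[R] _ : Fin d, R' := tprod R (fun k => e k)

theorem Dmap_omega : Dmap e (omega e) = 1 := by
  rw [omega, Dmap_tprod]
  exact e.det_self

theorem Dmap_eq_zero_of_mem (x : ⨂[R] _ : Fin d, R') (hx : x ∈ SymTen.altSpan R R' d) :
    Dmap e x = 0 := by
  induction hx using Submodule.span_induction with
  | mem y hy =>
    obtain ⟨p, i, j, hij, h, rfl⟩ := hy
    rw [Dmap_tprod]
    exact e.det.map_eq_zero_of_eq p h hij
  | zero => rw [map_zero]
  | add y z _ _ hy hz => rw [map_add, hy, hz, add_zero]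
  | smul r y _ hy => rw [map_smul, hy, smul_zero]

theorem sub_Dmap_smul_omega_mem (x : ⨂[R] _ : Fin d, R') :
    x - Dmap e x • omega e ∈ SymTen.altSpan R R' d := by
  classical
  let L : (⨂[R] _ : Fin d, R') →ₗ[R] (⨂[R] _ : Fin d, R') ⧸ SymTen.altSpan R R' d :=
    (SymTen.altSpan R R' d).mkQ ∘ₗ (LinearMap.id - (Dmap e).smulRight (omega e))
  have hL : L = 0 := by
    refine (pB R R' d e).ext fun f => ?_
    simp only [L, LinearMap.comp_apply, LinearMap.sub_apply, LinearMap.id_apply,
      LinearMap.smulRight_apply, LinearMap.zero_apply, Submodule.mkQ_apply,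
      Submodule.Quotient.mk_eq_zero]
    rw [pB_apply, Dmap_tprod]
    by_cases hf : Function.Injective f
    · let σ : Equiv.Perm (Fin d) := Equiv.ofBijective f (Finite.injective_iff_bijective.mp hf)
      have h1 := tprod_perm_sub_sign_mem R R' d σ (fun k => e k)
      have h2 : e.det (fun k => e (f k)) = ((Equiv.Perm.sign σ : ℤˣ) : ℤ) := by
        have := e.det.map_perm (fun k => e k) σ
        have h3 : ((fun k => e k) ∘ ⇑σ) = fun k => e (f k) := rfl
        rw [h3] at this
        rw [this, e.det_self, Units.smul_def, zsmul_eq_mul, mul_one]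
      rw [h2, Int.cast_smul_eq_zsmul]
      exact h1
    · rw [Function.Injective] at hf
      push Not at hf
      obtain ⟨i, j, hij, hne⟩ := hf
      have h0 : e.det (fun k => e (f k)) = 0 :=
        e.det.map_eq_zero_of_eq _ (by rw [hij]) hne
      rw [h0, zero_smul, sub_zero]
      exact tprod_mem R R' d _ hne (by rw [hij])
  have := LinearMap.congr_fun hL x
  simpa only [L, LinearMap.comp_apply, LinearMap.sub_apply, LinearMap.id_apply,
    LinearMap.smulRight_apply, LinearMap.zero_apply, Submodule.mkQ_apply,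
    Submodule.Quotient.mk_eq_zero] using this

theorem mem_altSpan_of_Dmap_eq_zero (x : ⨂[R] _ : Fin d, R') (hx : Dmap e x = 0) :
    x ∈ SymTen.altSpan R R' d := by
  have := sub_Dmap_smul_omega_mem e x
  rwa [hx, zero_smul, sub_zero] at this

end Det


section Act

variable (R : Type u) [CommRing R] (A : Type u) [CommRing A] [Algebra R A]
  (P : Type u) [AddCommGroup P] [Module R P] [Module A P] [IsScalarTower R A P] (d : ℕ)

theorem tpowAct_one (x : ⨂[R] _ : Fin d, P) : SymTen.tpowAct R A P d 1 x = x := by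
  induction x using PiTensorProduct.induction_on with
  | smul_tprod r p =>
    rw [map_smul, PiTensorProduct.one_def, tpowAct_tprod_tprod]
    simp
  | add x y hx hy => rw [map_add, hx, hy]

theorem tpowAct_mul (a b : ⨂[R] _ : Fin d, A) (x : ⨂[R] _ : Fin d, P) :
    SymTen.tpowAct R A P d (a * b) x = SymTen.tpowAct R A P d a (SymTen.tpowAct R A P d b x) := by
  induction a using PiTensorProduct.induction_on with
  | smul_tprod r a =>
    induction b using PiTensorProduct.induction_on with
    | smul_tprod s b =>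
      induction x using PiTensorProduct.induction_on with
      | smul_tprod t p =>
        simp only [smul_mul_smul_comm, PiTensorProduct.tprod_mul_tprod, map_smul,
          LinearMap.smul_apply, tpowAct_tprod_tprod, Pi.mul_apply, mul_smul]
        rw [smul_comm r s]
      | add x y hx hy => simp only [map_add, hx, hy]
    | add b b' hb hb' => simp only [mul_add, map_add, LinearMap.add_apply, hb, hb']
  | add a a' ha ha' => simp only [add_mul, map_add, LinearMap.add_apply, ha, ha']

end Act


section LawExt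

variable {A : Type u} [CommRing A] {M N : Type u} [AddCommGroup M] [Module A M]
  [AddCommGroup N] [Module A N]

/-- Two polynomial laws agreeing on all test algebras that are rings are equal. -/
theorem polLaw_ext_of_rings (F G : M →ₚₗ[A] N)
    (h : ∀ (S : Type u) [CommRing S] [Algebra A S] (z : S ⊗[A] M), F.toFun' S z = G.toFun' S z) :
    F = G := by
  apply PolynomialLaw.ext
  funext S _ _ z
  let ψ : S →ₐ[A] A ⊗[A] S := (Algebra.TensorProduct.lid A S).symm.toAlgHom
  let ψi : A ⊗[A] S →ₐ[A] S := (Algebra.TensorProduct.lid A S).toAlgHom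
  have hψ : ψi.comp ψ = AlgHom.id A S := by
    ext x
    simp [ψ, ψi]
  have key : ∀ (H : M →ₚₗ[A] N), H.toFun' S z =
      ψi.toLinearMap.rTensor N (H.toFun' (A ⊗[A] S) (ψ.toLinearMap.rTensor M z)) := by
    intro H
    have h1 := congrFun (H.isCompat' ψ) z
    simp only [Function.comp_apply] at h1
    rw [← h1, ← LinearMap.comp_apply, ← LinearMap.rTensor_comp, ← AlgHom.comp_toLinearMap, hψ]
    simp
  rw [key F, key G, h]

end LawExt


section Main

variable (R : Type u) [CommRing R] (R' : Type u) [CommRing R'] [Algebra R R'] (d : ℕ)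

theorem postcomp_toFun' {M N Q : Type u} [AddCommGroup M] [Module R M] [AddCommGroup N] [Module R N]
    [AddCommGroup Q] [Module R Q] (g : N →ₗ[R] Q) (F : M →ₚₗ[R] N)
    (S : Type u) [CommSemiring S] [Algebra R S] (z : S ⊗[R] M) :
    (PolLaw.postcomp g F).toFun' S z = g.lTensor S (F.toFun' S z) := by
  rw [PolLaw.postcomp, PolynomialLaw.comp_toFun']
  rfl

theorem perm_comp_single (σ : Equiv.Perm (Fin d)) (j : Fin d) :
    (SymTen.perm R R' d σ).comp
        (PiTensorProduct.singleAlgHom (R := R) (A := fun _ : Fin d => R') j) =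
      PiTensorProduct.singleAlgHom (R := R) (A := fun _ : Fin d => R') (σ j) := by
  ext b
  simp only [AlgHom.comp_apply, PiTensorProduct.singleAlgHom_apply, SymTen.perm_tprod]
  congr 1
  funext i
  simp only [MonoidHom.mulSingle_apply, Pi.mulSingle_apply]
  by_cases h : i = σ j
  · subst h; simp
  · have : σ.symm i ≠ j := fun h' => h (by rw [← h', Equiv.apply_symm_apply])
    simp [h, this]

theorem map_id_comp {B C D : Type u} [CommRing B] [Algebra R B] [CommRing C] [Algebra R C]
    [CommRing D] [Algebra R D] (g : C →ₐ[R] D) (f : B →ₐ[R] C)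
    (S : Type u) [CommSemiring S] [Algebra R S] (z : S ⊗[R] B) :
    Algebra.TensorProduct.map (AlgHom.id S S) g (Algebra.TensorProduct.map (AlgHom.id S S) f z) =
      Algebra.TensorProduct.map (AlgHom.id S S) (g.comp f) z := by
  induction z using TensorProduct.induction_on with
  | zero => simp
  | tmul s b => simp
  | add x y hx hy => simp only [map_add, hx, hy]

/-- the tensor power law takes symmetric values -/
theorem perm_tpowLaw (σ : Equiv.Perm (Fin d)) (S : Type u) [CommSemiring S] [Algebra R S]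
    (z : S ⊗[R] R') :
    (SymTen.perm R R' d σ).toLinearMap.lTensor S ((SymTen.tpowLaw R R' d).law.toFun' S z) =
      (SymTen.tpowLaw R R' d).law.toFun' S z := by
  rw [PolLaw.lTensor_algHom_apply, SymTen.tpowLaw, PolLaw.MulLaw.prodMap_toFun', map_prod]
  simp_rw [map_id_comp, perm_comp_single]
  exact Equiv.prod_comp σ (fun j => Algebra.TensorProduct.map (AlgHom.id S S)
    (PiTensorProduct.singleAlgHom (R := R) (A := fun _ : Fin d => R') j) z)

variable {R R' d}
variable {C : Type u} [CommRing C] [Algebra R C] (γ : PolLaw.MulLaw R R' C d)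
  (hγ : PolLaw.IsGammaD γ) (φ : C →ₐ[R] (⨂[R] _ : Fin d, R'))
  (hφ : PolLaw.MulLaw.postcomp φ γ = SymTen.tpowLaw R R' d)

include hφ in
theorem hφ_apply (S : Type u) [CommSemiring S] [Algebra R S] (z : S ⊗[R] R') :
    φ.toLinearMap.lTensor S (γ.law.toFun' S z) = (SymTen.tpowLaw R R' d).law.toFun' S z := by
  rw [← hφ, ← postcomp_toFun']
  rfl

include hγ hφ in
theorem phi_mem_TS (c : C) : φ c ∈ SymTen.TS R R' d := by
  intro σ
  rw [← SymTen.perm_apply]
  obtain ⟨f, -, huniq⟩ := hγ _ (SymTen.tpowLaw R R' d)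
  have h1 : φ = f := huniq φ (by rw [← hφ]; rfl)
  have h2 : (SymTen.perm R R' d σ).comp φ = f := by
    refine huniq _ ?_
    apply PolynomialLaw.ext
    funext S _ _ z
    rw [postcomp_toFun', AlgHom.comp_toLinearMap, LinearMap.lTensor_comp, LinearMap.comp_apply,
      hφ_apply γ φ hφ, perm_tpowLaw]
  have := DFunLike.congr_fun (h2.trans h1.symm) c
  simpa using this

end Main


section Chi

variable {R : Type u} [CommRing R] {R' : Type u} [CommRing R'] [Algebra R R'] {d : ℕ}
  (e : Module.Basis (Fin d) R R')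

/-- `a ↦ D(a · ω)`: the scalar by which `a` acts on the top exterior power. -/
noncomputable def chiT : (⨂[R] _ : Fin d, R') →ₗ[R] R :=
  (Dmap e) ∘ₗ (LinearMap.applyₗ (omega e)) ∘ₗ (SymTen.tpowAct R R' R' d)

theorem chiT_apply (a : ⨂[R] _ : Fin d, R') :
    chiT e a = Dmap e (SymTen.tpowAct R R' R' d a (omega e)) := rfl

theorem chiT_tprod (a : Fin d → R') : chiT e (tprod R a) = e.det (fun k => a k * e k) := by
  rw [chiT_apply, omega, tpowAct_tprod_tprod, Dmap_tprod]
  rfl

theorem chiT_one : chiT e 1 = 1 := by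
  rw [chiT_apply, tpowAct_one, Dmap_omega]

include e in
theorem Dmap_tpowAct (a : ⨂[R] _ : Fin d, R') (ha : a ∈ SymTen.TS R R' d)
    (x : ⨂[R] _ : Fin d, R') :
    Dmap e (SymTen.tpowAct R R' R' d a x) = Dmap e x * chiT e a := by
  have : Module.Finite R R' := Module.Finite.of_basis e
  have : Module.Free R R' := Module.Free.of_basis e
  have h1 := tpowAct_mem_altSpan R R' R' d a ha _ (sub_Dmap_smul_omega_mem e x)
  have h2 := Dmap_eq_zero_of_mem e _ h1
  rw [map_sub, map_sub, map_smul, map_smul, sub_eq_zero] at h2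
  rw [h2, chiT_apply, smul_eq_mul]

theorem chiT_mul (a b : ⨂[R] _ : Fin d, R') (ha : a ∈ SymTen.TS R R' d) :
    chiT e (a * b) = chiT e a * chiT e b := by
  rw [chiT_apply, tpowAct_mul, Dmap_tpowAct e a ha, ← chiT_apply, mul_comm]

theorem prod_tmul {ι : Type*} {S B : Type u} [CommSemiring S] [Algebra R S] [CommRing B]
    [Algebra R B] (t : Finset ι) (a : ι → S) (b : ι → B) :
    ∏ j ∈ t, (a j ⊗ₜ[R] b j) = (∏ j ∈ t, a j) ⊗ₜ[R] (∏ j ∈ t, b j) := by
  classical
  induction t using Finset.induction_on with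
  | empty => simp [Algebra.TensorProduct.one_def]
  | insert j s hj ih =>
    rw [Finset.prod_insert hj, Finset.prod_insert hj, Finset.prod_insert hj, ih,
      Algebra.TensorProduct.tmul_mul_tmul]

theorem prod_single (b : Fin d → R') :
    ∏ j, PiTensorProduct.singleAlgHom (R := R) (A := fun _ : Fin d => R') j (b j) =
      tprod R b := by
  simp only [PiTensorProduct.singleAlgHom_apply, MonoidHom.mulSingle_apply]
  rw [← PiTensorProduct.tprod_prod]
  exact congrArg _ (Finset.univ_prod_mulSingle b)

theorem det_basis_tmul (S : Type u) [CommRing S] [Algebra R S] (w : Fin d → R') :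
    (Algebra.TensorProduct.basis S e).det (fun k => (1 : S) ⊗ₜ[R] w k) =
      algebraMap R S (e.det w) := by
  rw [Module.Basis.det_apply, Module.Basis.det_apply, RingHom.map_det]
  congr 1
  ext i j
  simp [Module.Basis.toMatrix_apply, Algebra.TensorProduct.basis_repr_tmul]

theorem norm_eq_det (S : Type u) [CommRing S] [Algebra R S] (z : S ⊗[R] R') :
    Algebra.norm S z =
      (Algebra.TensorProduct.basis S e).det
        (fun k => z * Algebra.TensorProduct.basis S e k) := by
  rw [Algebra.norm_apply, ← LinearMap.det_toMatrix (Algebra.TensorProduct.basis S e),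
    Module.Basis.det_apply]
  congr 1
  ext i j
  simp [LinearMap.toMatrix_apply, Module.Basis.toMatrix_apply]

theorem chiT_tpowLaw (S : Type u) [CommRing S] [Algebra R S] (z : S ⊗[R] R') :
    (chiT e).lTensor S ((SymTen.tpowLaw R R' d).law.toFun' S z) =
      Algebra.norm S z ⊗ₜ[R] (1 : R) := by
  classical
  set E := Algebra.TensorProduct.basis S e with hE
  have hz : z = ∑ k, (E.repr z k) ⊗ₜ[R] e k := by
    conv_lhs => rw [← E.sum_repr z]
    refine Finset.sum_congr rfl fun k _ => ?_
    rw [hE, Algebra.TensorProduct.basis_apply, TensorProduct.smul_tmul', smul_eq_mul, mul_one]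
  generalize E.repr z = s at hz
  subst hz
  -- left-hand side
  have hL : (SymTen.tpowLaw R R' d).law.toFun' S (∑ k, (s k) ⊗ₜ[R] e k) =
      ∑ f : Fin d → Fin d, (∏ j, s (f j)) ⊗ₜ[R] tprod R (fun j => e (f j)) := by
    rw [SymTen.tpowLaw, PolLaw.MulLaw.prodMap_toFun']
    simp only [map_sum, Algebra.TensorProduct.map_tmul, AlgHom.id_apply]
    rw [Finset.prod_univ_sum, Fintype.piFinset_univ]
    refine Finset.sum_congr rfl fun f _ => ?_
    rw [prod_tmul, prod_single]
  rw [hL, map_sum]
  simp only [LinearMap.lTensor_tmul, chiT_tprod]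
  -- right-hand side
  have hcol : ∀ k, (∑ m, (s m) ⊗ₜ[R] e m) * E k =
      ∑ m, s m • ((1 : S) ⊗ₜ[R] (e m * e k)) := by
    intro k
    rw [hE, Algebra.TensorProduct.basis_apply, Finset.sum_mul]
    refine Finset.sum_congr rfl fun m _ => ?_
    rw [Algebra.TensorProduct.tmul_mul_tmul, mul_one, TensorProduct.smul_tmul', smul_eq_mul,
      mul_one]
  rw [norm_eq_det e, ← hE]
  simp_rw [hcol]
  have hsum : E.det (fun k => ∑ m, s m • ((1 : S) ⊗ₜ[R] (e m * e k))) =
      ∑ f : Fin d → Fin d, E.det (fun k => s (f k) • ((1 : S) ⊗ₜ[R] (e (f k) * e k))) :=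
    E.det.toMultilinearMap.map_sum (fun k m => s m • ((1 : S) ⊗ₜ[R] (e m * e k)))
  rw [hsum, TensorProduct.sum_tmul]
  refine Finset.sum_congr rfl fun f _ => ?_
  have hsm : E.det (fun k => s (f k) • ((1 : S) ⊗ₜ[R] (e (f k) * e k))) =
      (∏ k, s (f k)) • E.det (fun k => (1 : S) ⊗ₜ[R] (e (f k) * e k)) :=
    E.det.toMultilinearMap.map_smul_univ (fun k => s (f k))
      (fun k => (1 : S) ⊗ₜ[R] (e (f k) * e k))
  rw [hsm, hE, det_basis_tmul, smul_eq_mul, mul_comm, ← Algebra.smul_def, TensorProduct.smul_tmul,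
    smul_eq_mul, mul_one]

end Chi


section Final

variable {R : Type u} [CommRing R] {R' : Type u} [CommRing R'] [Algebra R R']
  [Module.Free R R'] [Module.Finite R R'] {d : ℕ} (hd : Module.finrank R R' = d)
  {C : Type u} [CommRing C] [Algebra R C] (γ : PolLaw.MulLaw R R' C d) (hγ : PolLaw.IsGammaD γ)
  (φ : C →ₐ[R] (⨂[R] _ : Fin d, R')) (hφ : PolLaw.MulLaw.postcomp φ γ = SymTen.tpowLaw R R' d)
  (π : C →ₐ[R] R) (hπ : PolLaw.MulLaw.postcomp π γ = PolLaw.normLaw R R' d hd)
  (e : Module.Basis (Fin d) R R')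

/-- the algebra map `c ↦ chiT (φ c)` -/
noncomputable def chiAlg : C →ₐ[R] R :=
  AlgHom.ofLinearMap (chiT e ∘ₗ φ.toLinearMap)
    (by rw [LinearMap.comp_apply, AlgHom.toLinearMap_apply, map_one, chiT_one])
    (fun c c' => by
      rw [LinearMap.comp_apply, LinearMap.comp_apply, LinearMap.comp_apply,
        AlgHom.toLinearMap_apply, AlgHom.toLinearMap_apply, AlgHom.toLinearMap_apply, map_mul,
        chiT_mul e _ _ (phi_mem_TS γ hγ φ hφ c)])

omit [Module.Free R R'] [Module.Finite R R'] in
theorem chiAlg_apply (c : C) : chiAlg γ hγ φ hφ e c = chiT e (φ c) := rfl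

include hπ in
theorem chiAlg_eq_pi : chiAlg γ hγ φ hφ e = π := by
  obtain ⟨f, -, huniq⟩ := hγ R (PolLaw.normLaw R R' d hd)
  have h1 : π = f := huniq π (by rw [← hπ]; rfl)
  have h2 : chiAlg γ hγ φ hφ e = f := huniq _ (by
    apply polLaw_ext_of_rings
    intro S _ _ z
    rw [postcomp_toFun', PolLaw.normLaw_apply,
      show (chiAlg γ hγ φ hφ e).toLinearMap = chiT e ∘ₗ φ.toLinearMap from rfl,
      LinearMap.lTensor_comp, LinearMap.comp_apply, hφ_apply γ φ hφ, chiT_tpowLaw])
  exact h2.trans h1.symm

include hγ hφ hπ in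
/-- **S19898**: the symmetric tensor `φ c` acts on the top exterior power of `R'` as
multiplication by the norm `π c`. -/
theorem tpowAct_sub_norm_smul_mem (c : C) (x : ⨂[R] _ : Fin d, R') :
    SymTen.tpowAct R R' R' d (φ c) x - π c • x ∈ SymTen.altSpan R R' d := by
  rcases subsingleton_or_nontrivial R with hR | hR
  · have : Subsingleton (⨂[R] _ : Fin d, R') := Module.subsingleton R _
    rw [Subsingleton.elim (SymTen.tpowAct R R' R' d (φ c) x - π c • x) 0]
    exact Submodule.zero_mem _
  · let e := Module.finBasisOfFinrankEq R R' hd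
    apply mem_altSpan_of_Dmap_eq_zero e
    rw [map_sub, map_smul, Dmap_tpowAct e _ (phi_mem_TS γ hγ φ hφ c),
      ← chiAlg_eq_pi hd γ hγ φ hφ π hπ e, chiAlg_apply, smul_eq_mul, mul_comm, sub_self]

end Final

end Groth.Agent.Lib.Helper59.SymNorm
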