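import Mathlib

/-!
# Kernels of tensor powers of surjective linear maps, and local splittings of flat quotients

* `ker_map_le` : the kernel of `T^d(q)` for a surjective linear map `q` is spanned by the pure
  tensors having a factor in `ker q`.
* `exists_finset_of_mem_Jm` : every element of this span is killed by `T^d(π)` for every linear
  map `π` killing a suitable finite subset of `ker q`.
* `exists_proj` : for a surjection `q : P → N` from a free module to a flat module and a finite
  subset `X` of `ker q` there is an endomorphism `π` of `P` with `q ∘ π = q` and `π X = 0`.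
-/

set_option autoImplicit false

namespace Groth.Agent.Lib.Helper59.TKer

open scoped TensorProduct

universe u

section Ker

variable {A : Type u} [CommRing A] {M N : Type u} [AddCommGroup M] [Module A M] [AddCommGroup N]
  [Module A N] (d : ℕ) (q : M →ₗ[A] N)

/-- span of the pure tensors having a factor in `ker q` -/
def Jm : Submodule A (⨂[A] _ : Fin d, M) :=
  Submodule.span A {z | ∃ (p : Fin d → M) (j : Fin d), q (p j) = 0 ∧ z = PiTensorProduct.tprod A p}

theorem tprod_mem_Jm (p : Fin d → M) (j : Fin d) (h : q (p j) = 0) :
    PiTensorProduct.tprod A p ∈ Jm d q :=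
  Submodule.subset_span ⟨p, j, h, rfl⟩

theorem tprod_sub_mem (p p' : Fin d → M) (h : ∀ j, q (p j) = q (p' j)) :
    PiTensorProduct.tprod A p - PiTensorProduct.tprod A p' ∈ Jm d q := by
  classical
  have key : ∀ s : Finset (Fin d), PiTensorProduct.tprod A p -
      PiTensorProduct.tprod A (fun j => if j ∈ s then p' j else p j) ∈ Jm d q := by
    intro s
    induction s using Finset.induction_on with
    | empty => simp
    | insert k s hk ih =>
        set ps : Fin d → M := fun j => if j ∈ s then p' j else p j with hps
        have e : (fun j => if j ∈ insert k s then p' j else p j) = Function.update ps k (p' k) := by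
          funext j
          by_cases hj : j = k
          · subst hj
            simp
          · simp [Function.update, hj, Finset.mem_insert, hps]
        have e2 : ps = Function.update ps k (p k) := by
          funext j
          by_cases hj : j = k
          · subst hj
            simp [hps, hk]
          · simp [Function.update, hj]
        have e3 : PiTensorProduct.tprod A ps - PiTensorProduct.tprod A (Function.update ps k (p' k)) =
            PiTensorProduct.tprod A (Function.update ps k (p k - p' k)) := by
          rw [MultilinearMap.map_update_sub, ← e2]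
        have e4 : PiTensorProduct.tprod A (Function.update ps k (p k - p' k)) ∈ Jm d q := by
          apply tprod_mem_Jm d q _ k
          rw [Function.update_self, map_sub, h k, sub_self]
        rw [e]
        have : PiTensorProduct.tprod A p - PiTensorProduct.tprod A (Function.update ps k (p' k)) =
            (PiTensorProduct.tprod A p - PiTensorProduct.tprod A ps) +
            (PiTensorProduct.tprod A ps - PiTensorProduct.tprod A (Function.update ps k (p' k))) := by
          abel
        rw [this, e3]
        exact Submodule.add_mem _ ih e4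
  have := key Finset.univ
  simpa using this

variable (hq : Function.Surjective q)

/-- the multilinear map `N^d → T^d(M)/J` given by lifting factors -/
noncomputable def Psi : MultilinearMap A (fun _ : Fin d => N) ((⨂[A] _ : Fin d, M) ⧸ Jm d q) where
  toFun b := Submodule.Quotient.mk (PiTensorProduct.tprod A (fun j => Function.surjInv hq (b j)))
  map_update_add' := by
    intro _ b j x y
    rw [← Submodule.Quotient.mk_add, eq_comm, ← sub_eq_zero, ← Submodule.Quotient.mk_sub,
      Submodule.Quotient.mk_eq_zero]
    have e : ∀ v : N, (fun i => Function.surjInv hq (Function.update b j v i)) =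
        Function.update (fun i => Function.surjInv hq (b i)) j (Function.surjInv hq v) := by
      intro v
      funext i
      by_cases hi : i = j
      · subst hi
        simp
      · simp [Function.update, hi]
    rw [e, e, e, ← MultilinearMap.map_update_add, ← MultilinearMap.map_update_sub]
    apply tprod_mem_Jm d q _ j
    rw [Function.update_self, map_sub, map_add, Function.surjInv_eq hq, Function.surjInv_eq hq,
      Function.surjInv_eq hq, sub_self]
  map_update_smul' := by
    intro _ b j c x
    rw [← Submodule.Quotient.mk_smul, eq_comm, ← sub_eq_zero, ← Submodule.Quotient.mk_sub,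
      Submodule.Quotient.mk_eq_zero]
    have e : ∀ v : N, (fun i => Function.surjInv hq (Function.update b j v i)) =
        Function.update (fun i => Function.surjInv hq (b i)) j (Function.surjInv hq v) := by
      intro v
      funext i
      by_cases hi : i = j
      · subst hi
        simp
      · simp [Function.update, hi]
    rw [e, e, ← MultilinearMap.map_update_smul, ← MultilinearMap.map_update_sub]
    apply tprod_mem_Jm d q _ j
    rw [Function.update_self, map_sub, map_smul, Function.surjInv_eq hq, Function.surjInv_eq hq,
      sub_self]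

theorem lift_Psi_map (z : ⨂[A] _ : Fin d, M) :
    PiTensorProduct.lift (Psi d q hq) (PiTensorProduct.map (fun _ : Fin d => q) z) =
      Submodule.Quotient.mk z := by
  induction z using PiTensorProduct.induction_on with
  | smul_tprod r p =>
      rw [map_smul, map_smul, PiTensorProduct.map_tprod, PiTensorProduct.lift.tprod,
        Submodule.Quotient.mk_smul]
      congr 1
      change Submodule.Quotient.mk _ = _
      rw [← sub_eq_zero, ← Submodule.Quotient.mk_sub, Submodule.Quotient.mk_eq_zero]
      apply tprod_sub_mem
      intro j
      rw [Function.surjInv_eq hq]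
  | add x y hx hy => rw [map_add, map_add, hx, hy, Submodule.Quotient.mk_add]

include hq in
/-- the kernel of `T^d(q)` is spanned by the pure tensors with a factor in `ker q` -/
theorem ker_map_le (z : ⨂[A] _ : Fin d, M) (hz : PiTensorProduct.map (fun _ : Fin d => q) z = 0) :
    z ∈ Jm d q := by
  rw [← Submodule.Quotient.mk_eq_zero, ← lift_Psi_map d q hq, hz, map_zero]

/-- elements of `Jm` die under `T^d(π)` as soon as `π` kills a suitable finite part of `ker q` -/
theorem exists_finset_of_mem_Jm (z : ⨂[A] _ : Fin d, M) (hz : z ∈ Jm d q) :
    ∃ X : Finset M, (∀ x ∈ X, q x = 0) ∧ ∀ (M' : Type u) [AddCommGroup M'] [Module A M']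
      (π : M →ₗ[A] M'), (∀ x ∈ X, π x = 0) → PiTensorProduct.map (fun _ : Fin d => π) z = 0 := by
  classical
  refine Submodule.span_induction ?_ ?_ ?_ ?_ hz
  · rintro _ ⟨p, j, hj, rfl⟩
    refine ⟨{p j}, ?_, ?_⟩
    · intro x hx
      rw [Finset.mem_singleton] at hx
      rw [hx, hj]
    · intro M' _ _ π hπ
      rw [PiTensorProduct.map_tprod]
      exact MultilinearMap.map_coord_zero _ j (hπ _ (Finset.mem_singleton_self _))
  · exact ⟨∅, by simp, fun M' _ _ π _ => map_zero _⟩
  · rintro x y _ _ ⟨X, hX, hX'⟩ ⟨Y, hY, hY'⟩
    refine ⟨X ∪ Y, ?_, ?_⟩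
    · intro x hx
      rcases Finset.mem_union.mp hx with h | h
      · exact hX x h
      · exact hY x h
    · intro M' _ _ π hπ
      rw [map_add, hX' M' π (fun x hx => hπ x (Finset.mem_union_left _ hx)),
        hY' M' π (fun x hx => hπ x (Finset.mem_union_right _ hx)), add_zero]
  · rintro a x _ ⟨X, hX, hX'⟩
    refine ⟨X, hX, ?_⟩
    intro M' _ _ π hπ
    rw [map_smul, hX' M' π hπ, smul_zero]

end Ker

section Proj

variable {A : Type u} [CommRing A] {P N : Type u} [AddCommGroup P] [Module A P] [AddCommGroup N]
  [Module A N]

/-- local splitting of a flat quotient of a free module -/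
theorem exists_proj {ι : Type*} (e : Module.Basis ι A P) [Module.Flat A N] (q : P →ₗ[A] N)
    (hq : Function.Surjective q) (X : Finset P) (hX : ∀ x ∈ X, q x = 0) :
    ∃ π : P →ₗ[A] P, q ∘ₗ π = q ∧ ∀ x ∈ X, π x = 0 := by
  classical
  let ι₀ : Finset ι := X.biUnion (fun x => (e.repr x).support)
  let g : P →ₗ[A] ((ι₀ : Set ι) →₀ A) :=
    (Finsupp.lsubtypeDomain (ι₀ : Set ι)).comp e.repr.toLinearMap
  let inc : ((ι₀ : Set ι) →₀ A) →ₗ[A] P := Finsupp.linearCombination A (fun i => e i.1)
  have hinc : ∀ x ∈ X, inc (g x) = x := by
    intro x hx
    change Finsupp.linearCombination A (fun i : (ι₀ : Set ι) => e i.1)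
      ((e.repr x).subtypeDomain (fun i => i ∈ (ι₀ : Set ι))) = x
    rw [Finsupp.linearCombination_apply]
    have h1 : ∀ i ∈ (e.repr x).support, i ∈ (ι₀ : Set ι) := by
      intro i hi
      exact Finset.mem_coe.mpr (Finset.mem_biUnion.mpr ⟨x, hx, hi⟩)
    have h2 := Finsupp.sum_subtypeDomain_index (v := e.repr x) (p := fun i => i ∈ (ι₀ : Set ι))
      (h := fun i a => a • e i) h1
    rw [h2, ← Finsupp.linearCombination_apply, e.linearCombination_repr]
  let f : ((X : Set P) →₀ A) →ₗ[A] ((ι₀ : Set ι) →₀ A) :=
    Finsupp.linearCombination A (fun x => g x.1)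
  have hf : (q ∘ₗ inc) ∘ₗ f = 0 := by
    apply Finsupp.lhom_ext
    intro x b
    simp only [LinearMap.comp_apply, LinearMap.zero_apply, f, Finsupp.linearCombination_single,
      map_smul]
    rw [hinc x.1 (Finset.mem_coe.mp x.2), hX x.1 (Finset.mem_coe.mp x.2), smul_zero]
  obtain ⟨k, a, y, hy, ha⟩ := Module.Flat.exists_factorization_of_comp_eq_zero_of_free hf
  let yt : (Fin k →₀ A) →ₗ[A] P :=
    Finsupp.linearCombination A (fun i => Function.surjInv hq (y (Finsupp.single i 1)))
  have hyt : q ∘ₗ yt = y := by
    apply Finsupp.lhom_ext
    intro i b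
    simp only [LinearMap.comp_apply, yt, Finsupp.linearCombination_single, map_smul,
      Function.surjInv_eq hq]
    rw [← map_smul, Finsupp.smul_single, smul_eq_mul, mul_one]
  refine ⟨yt ∘ₗ a ∘ₗ g + (LinearMap.id - inc ∘ₗ g), ?_, ?_⟩
  · rw [LinearMap.comp_add, LinearMap.comp_sub, LinearMap.comp_id, ← LinearMap.comp_assoc, hyt,
      ← LinearMap.comp_assoc, ← hy, LinearMap.comp_assoc]
    abel
  · intro x hx
    have h3 : g x = f (Finsupp.single ⟨x, Finset.mem_coe.mpr hx⟩ 1) := by
      simp [f]
    simp only [LinearMap.add_apply, LinearMap.comp_apply, LinearMap.sub_apply, LinearMap.id_apply]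
    rw [hinc x hx, sub_self, add_zero, h3]
    have := LinearMap.congr_fun ha (Finsupp.single ⟨x, Finset.mem_coe.mpr hx⟩ 1)
    simp only [LinearMap.comp_apply, LinearMap.zero_apply] at this
    rw [this, map_zero]

end Proj

end Groth.Agent.Lib.Helper59.TKer
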