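import Groth.Agent.Lib.Helper59.PolarGamma

/-!
# The tensor power law `x ↦ x ⊗ ⋯ ⊗ x` on sums
-/

set_option autoImplicit false

namespace Groth.Agent.Lib.Helper59.TPow

open scoped TensorProduct
open PolLaw Groth.Agent.Lib.Helper59.KerPoly Groth.Agent.Lib.Helper59.LawReduced
  Groth.Agent.Lib.Helper59.CHCore Groth.Agent.Lib.Helper59.GammaGen

universe u

variable {A : Type u} [CommRing A] {B : Type u} [CommRing B] [Algebra A B] (d : ℕ)

theorem prod_single_eq_tprod (b : Fin d → B) :
    ∏ i : Fin d, PiTensorProduct.singleAlgHom (R := A) (A := fun _ : Fin d => B) i (b i) =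
      PiTensorProduct.tprod A b := by
  simp only [PiTensorProduct.singleAlgHom_apply, MonoidHom.mulSingle_apply]
  rw [← PiTensorProduct.tprod_prod]
  exact congrArg _ (Finset.univ_prod_mulSingle b)

/-- the tensor power law on a finite sum -/
theorem tpow_sum_finset (S : Type u) [CommSemiring S] [Algebra A S] {ι' : Type*} [DecidableEq ι']
    (J : Finset ι') (s : ι' → S) (b : ι' → B) :
    (SymTen.tpowLaw A B d).law.toFun' S (∑ j ∈ J, s j ⊗ₜ[A] b j) =
      ∑ c ∈ Fintype.piFinset (fun _ : Fin d => J),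
        (∏ i, s (c i)) ⊗ₜ[A] PiTensorProduct.tprod A (fun i => b (c i)) := by
  rw [SymTen.tpowLaw, PolLaw.MulLaw.prodMap_toFun']
  simp only [map_sum, Algebra.TensorProduct.map_tmul, AlgHom.coe_id, id_eq]
  rw [Finset.prod_univ_sum]
  refine Finset.sum_congr rfl fun c _ => ?_
  rw [prod_tmul, prod_single_eq_tprod]

theorem tpow_sum (S : Type u) [CommSemiring S] [Algebra A S] (n : ℕ) (s : Fin n → S)
    (b : Fin n → B) :
    (SymTen.tpowLaw A B d).law.toFun' S (∑ j, s j ⊗ₜ[A] b j) =
      ∑ c : Fin d → Fin n,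
        (∏ i, s (c i)) ⊗ₜ[A] PiTensorProduct.tprod A (fun i => b (c i)) := by
  rw [tpow_sum_finset d S Finset.univ s b, Fintype.piFinset_univ]

/-- naturality of the tensor power law in the algebra -/
theorem tpow_tmap {B' : Type u} [CommRing B'] [Algebra A B'] (ε : B →ₐ[A] B') (S : Type u)
    [CommRing S] [Algebra A S] (z : S ⊗[A] B) :
    Algebra.TensorProduct.map (AlgHom.id A S) (SymTen.tmap A d ε)
        ((SymTen.tpowLaw A B d).law.toFun' S z) =
      (SymTen.tpowLaw A B' d).law.toFun' S (Algebra.TensorProduct.map (AlgHom.id A S) ε z) := by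
  obtain ⟨n, s, b, rfl⟩ := Groth.Agent.Lib.Helper59.PolarGamma.exists_fin_repr z
  rw [tpow_sum, map_sum, map_sum]
  simp only [Algebra.TensorProduct.map_tmul, AlgHom.id_apply, SymTen.tmap_tprod]
  rw [tpow_sum d S n s (fun j => ε (b j))]

/-- the values of the tensor power law are symmetric -/
theorem tpow_perm (σ : Equiv.Perm (Fin d)) (S : Type u) [CommRing S] [Algebra A S]
    (z : S ⊗[A] B) :
    Algebra.TensorProduct.map (AlgHom.id A S) (SymTen.perm A B d σ)
        ((SymTen.tpowLaw A B d).law.toFun' S z) =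
      (SymTen.tpowLaw A B d).law.toFun' S z := by
  obtain ⟨n, s, b, rfl⟩ := Groth.Agent.Lib.Helper59.PolarGamma.exists_fin_repr z
  rw [tpow_sum, map_sum]
  simp only [Algebra.TensorProduct.map_tmul, AlgHom.id_apply, SymTen.perm_tprod]
  refine Fintype.sum_equiv (Equiv.arrowCongr σ (Equiv.refl (Fin n))) _ _ fun c => ?_
  have h1 : ∏ i, s (c i) = ∏ i, s ((Equiv.arrowCongr σ (Equiv.refl (Fin n))) c i) := by
    refine (Fintype.prod_equiv σ _ _ fun i => ?_)
    simp [Equiv.arrowCongr]
  rw [h1]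
  congr 2

end Groth.Agent.Lib.Helper59.TPow
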