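import Groth.Agent.Lib.Helper59.TSFlat

/-!
# Purity of the symmetric tensors of a flat algebra inside the tensor power
-/

set_option autoImplicit false

namespace Groth.Agent.Lib.Helper59.TSPure

open scoped TensorProduct
open Groth.Agent.Lib.Helper59.TKer Groth.Agent.Lib.Helper59.TSFlatMod

universe u

variable {A : Type u} [CommRing A]

section TSlin

variable (M : Type u) {N L : Type u} [CommRing M] [Algebra A M] [CommRing N] [Algebra A N]
  [CommRing L] [Algebra A L] (d : ℕ)

/-- inclusion of symmetric tensors as a linear map -/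
noncomputable def incl : SymTen.TS A M d →ₗ[A] (⨂[A] _ : Fin d, M) :=
  (SymTen.TS A M d).val.toLinearMap

variable {M}

/-- map on symmetric tensors induced by a linear map -/
noncomputable def TSlin (f : M →ₗ[A] N) : SymTen.TS A M d →ₗ[A] SymTen.TS A N d where
  toFun t := ⟨PiTensorProduct.map (fun _ : Fin d => f) t.1, fun σ => by
    rw [← map_reindex', t.2 σ]⟩
  map_add' x y := Subtype.ext (map_add _ _ _)
  map_smul' a x := Subtype.ext (map_smul _ _ _)

theorem incl_TSlin (f : M →ₗ[A] N) :
    incl N d ∘ₗ TSlin d f = PiTensorProduct.map (fun _ : Fin d => f) ∘ₗ incl M d := rfl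

theorem TSlin_comp (f : M →ₗ[A] N) (g : N →ₗ[A] L) :
    TSlin d g ∘ₗ TSlin d f = TSlin d (g ∘ₗ f) := by
  ext t
  exact map_map d f g t.1

end TSlin

section Pure

variable (B : Type u) [CommRing B] [Algebra A B] [Module.Flat A B] (d : ℕ)
  (S : Type u) [AddCommGroup S] [Module A S]

omit [Module.Flat A B] in
theorem exists_finset_kills {P : Type u} [AddCommGroup P] [Module A P]
    (K' : Submodule A (⨂[A] _ : Fin d, P)) (v : S ⊗[A] K') :
    ∃ W : Finset (⨂[A] _ : Fin d, P), (∀ w ∈ W, w ∈ K') ∧
      ∀ π : P →ₗ[A] P, (∀ w ∈ W, PiTensorProduct.map (fun _ : Fin d => π) w = 0) →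
        LinearMap.lTensor S (PiTensorProduct.map (fun _ : Fin d => π))
          (LinearMap.lTensor S K'.subtype v) = 0 := by
  classical
  induction v using TensorProduct.induction_on with
  | zero => exact ⟨∅, by simp, fun π _ => by simp⟩
  | tmul s x =>
    refine ⟨{x.1}, ?_, fun π hπ => ?_⟩
    · intro w hw
      rw [Finset.mem_singleton] at hw
      rw [hw]
      exact x.2
    · rw [LinearMap.lTensor_tmul, LinearMap.lTensor_tmul, Submodule.subtype_apply,
        hπ x.1 (Finset.mem_singleton_self _), TensorProduct.tmul_zero]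
  | add v₁ v₂ h₁ h₂ =>
    obtain ⟨W₁, hW₁, hk₁⟩ := h₁
    obtain ⟨W₂, hW₂, hk₂⟩ := h₂
    refine ⟨W₁ ∪ W₂, ?_, fun π hπ => ?_⟩
    · intro w hw
      rcases Finset.mem_union.1 hw with h | h
      · exact hW₁ w h
      · exact hW₂ w h
    · rw [map_add, map_add, hk₁ π (fun w hw => hπ w (Finset.mem_union_left _ hw)),
        hk₂ π (fun w hw => hπ w (Finset.mem_union_right _ hw)), add_zero]

omit [Module.Flat A B] in
theorem exists_finset_kills' {P N : Type u} [AddCommGroup P] [Module A P] [AddCommGroup N]
    [Module A N] (q : P →ₗ[A] N) (hq : Function.Surjective q) (w' : S ⊗[A] (⨂[A] _ : Fin d, P))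
    (h2 : LinearMap.lTensor S (PiTensorProduct.map (fun _ : Fin d => q)) w' = 0) :
    ∃ W : Finset (⨂[A] _ : Fin d, P),
      (∀ w ∈ W, PiTensorProduct.map (fun _ : Fin d => q) w = 0) ∧
      ∀ π : P →ₗ[A] P, (∀ w ∈ W, PiTensorProduct.map (fun _ : Fin d => π) w = 0) →
        LinearMap.lTensor S (PiTensorProduct.map (fun _ : Fin d => π)) w' = 0 := by
  have hexact : Function.Exact
      (LinearMap.ker (PiTensorProduct.map (R := A) (fun _ : Fin d => q))).subtype
      (PiTensorProduct.map (R := A) (fun _ : Fin d => q)) :=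
    LinearMap.exact_subtype_ker_map _
  have hex := lTensor_exact S hexact (map_surjective d q hq)
  obtain ⟨v, hv⟩ := (hex _).1 h2
  obtain ⟨W, hW, hk⟩ := exists_finset_kills d S
    (LinearMap.ker (PiTensorProduct.map (R := A) (fun _ : Fin d => q))) v
  refine ⟨W, fun w hw => hW w hw, fun π hπ => ?_⟩
  have := hk π hπ
  rwa [hv] at this

/-- **Purity**: for a flat `A`-algebra `B`, `S ⊗ TS^d(B) → S ⊗ T^d(B)` is injective. -/
theorem lTensor_incl_injective : Function.Injective (LinearMap.lTensor S (incl (A := A) B d)) := by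
  classical
  rw [injective_iff_map_eq_zero]
  intro z hz
  let e := MvPolynomial.basisMonomials B A
  let g : (B →₀ ℕ) → B := fun m => if h : ∃ x, m = Finsupp.single x 1 then h.choose else 0
  let q : MvPolynomial B A →ₗ[A] B := e.constr A g
  have hq : Function.Surjective q := by
    intro x
    refine ⟨e (Finsupp.single x 1), ?_⟩
    rw [Module.Basis.constr_basis]
    have h : ∃ y, Finsupp.single x 1 = Finsupp.single y 1 := ⟨x, rfl⟩
    simp only [g, dif_pos h]
    exact (Finsupp.single_left_injective one_ne_zero h.choose_spec).symm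
  -- the retraction for `P`
  let r : (⨂[A] _ : Fin d, MvPolynomial B A) →ₗ[A] SymTen.TS A (MvPolynomial B A) d :=
    { toFun := fun t => ⟨GRoby.Phi e d t, SymLaw.Phi_mem_TS e d t⟩
      map_add' := fun x y => Subtype.ext (map_add _ _ _)
      map_smul' := fun a x => Subtype.ext (map_smul _ _ _) }
  have hr : r ∘ₗ incl (MvPolynomial B A) d = LinearMap.id := by
    ext t
    exact GRoby.Phi_of_mem_TS e d t.1 t.2
  have hinjP : Function.Injective (LinearMap.lTensor S (incl (A := A) (MvPolynomial B A) d)) := by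
    apply Function.LeftInverse.injective (g := LinearMap.lTensor S r)
    intro y
    rw [← LinearMap.comp_apply, ← LinearMap.lTensor_comp, hr, LinearMap.lTensor_id,
      LinearMap.id_apply]
  -- step 1: lift `z`
  have hTSq : Function.Surjective (TSlin d q) := by
    intro t
    obtain ⟨s, hs, hst⟩ := exists_symm_lift q hq d t.1 t.2
    exact ⟨⟨s, hs⟩, Subtype.ext hst⟩
  obtain ⟨z', rfl⟩ := LinearMap.lTensor_surjective S hTSq z
  -- step 2
  have h2 : LinearMap.lTensor S (PiTensorProduct.map (fun _ : Fin d => q))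
      (LinearMap.lTensor S (incl (MvPolynomial B A) d) z') = 0 := by
    rw [← LinearMap.comp_apply, ← LinearMap.lTensor_comp, ← incl_TSlin, LinearMap.lTensor_comp,
      LinearMap.comp_apply]
    exact hz
  -- steps 3, 4
  obtain ⟨W, hW, hk⟩ := exists_finset_kills' d S q hq _ h2
  -- step 5
  obtain ⟨π, hπ, hπ'⟩ := exists_proj_kills e q hq d W hW
  have h5 := hk π hπ'
  -- step 6
  have h6 : LinearMap.lTensor S (TSlin d π) z' = 0 := by
    apply hinjP
    rw [map_zero, ← LinearMap.comp_apply, ← LinearMap.lTensor_comp, incl_TSlin,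
      LinearMap.lTensor_comp, LinearMap.comp_apply]
    exact h5
  -- step 7
  have h7 : TSlin d q = TSlin d q ∘ₗ TSlin d π := by
    rw [TSlin_comp, hπ]
  rw [h7, LinearMap.lTensor_comp, LinearMap.comp_apply, h6, map_zero]

end Pure

end Groth.Agent.Lib.Helper59.TSPure
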