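import Groth.Agent.Lib.Helper59.SigGen
import Groth.Agent.Lib.Helper59.TSPure
import Groth.Agent.Lib.Helper59.TSFinType

/-!
# Symmetric tensors of a polynomial ring under change of the base ring
-/

set_option autoImplicit false

namespace Groth.Agent.Lib.Helper59.TSCross

open scoped TensorProduct
open Groth.Agent.Lib.Helper59.CHCore Groth.Agent.Lib.Helper59.GRoby

universe u

section Theta

variable {A₀ A : Type u} [CommRing A₀] [CommRing A] [Algebra A₀ A]
  {P₀ P : Type u} [CommRing P₀] [Algebra A₀ P₀] [CommRing P] [Algebra A P] [Algebra A₀ P]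
  [IsScalarTower A₀ A P] (ι : P₀ →ₐ[A₀] P) (d : ℕ)

variable (A) in
/-- the cross-ring map on tensor powers -/
noncomputable def thetaT : (⨂[A₀] _ : Fin d, P₀) →ₗ[A₀] (⨂[A] _ : Fin d, P) :=
  PiTensorProduct.lift
    (((PiTensorProduct.tprod A (s := fun _ : Fin d => P)).restrictScalars A₀).compLinearMap
      (fun _ => ι.toLinearMap))

theorem thetaT_tprod (f : Fin d → P₀) :
    thetaT A ι d (PiTensorProduct.tprod A₀ f) = PiTensorProduct.tprod A (fun i => ι (f i)) := by
  rw [thetaT, PiTensorProduct.lift.tprod]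
  rfl

theorem thetaT_one : thetaT A ι d 1 = 1 := by
  rw [PiTensorProduct.one_def, thetaT_tprod, PiTensorProduct.one_def]
  congr 1
  funext i
  exact map_one ι

theorem thetaT_mul (x y : ⨂[A₀] _ : Fin d, P₀) :
    thetaT A ι d (x * y) = thetaT A ι d x * thetaT A ι d y := by
  induction x using PiTensorProduct.induction_on with
  | smul_tprod r f =>
    induction y using PiTensorProduct.induction_on with
    | smul_tprod r' g =>
      rw [smul_mul_smul_comm, PiTensorProduct.tprod_mul_tprod, map_smul, map_smul, map_smul,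
        thetaT_tprod, thetaT_tprod, thetaT_tprod, smul_mul_smul_comm,
        PiTensorProduct.tprod_mul_tprod]
      congr 2
      funext i
      exact map_mul ι _ _
    | add y1 y2 h1 h2 => rw [mul_add, map_add, h1, h2, map_add, mul_add]
  | add x1 x2 h1 h2 => rw [add_mul, map_add, h1, h2, map_add, add_mul]

theorem thetaT_perm (σ : Equiv.Perm (Fin d)) (y : ⨂[A₀] _ : Fin d, P₀) :
    thetaT A ι d (SymTen.perm A₀ P₀ d σ y) = SymTen.perm A P d σ (thetaT A ι d y) := by
  induction y using PiTensorProduct.induction_on with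
  | smul_tprod r f =>
    have h1 : thetaT A ι d (SymTen.perm A₀ P₀ d σ (r • PiTensorProduct.tprod A₀ f)) =
        r • PiTensorProduct.tprod A (fun i => ι (f (σ.symm i))) := by
      rw [map_smul, map_smul, SymTen.perm_tprod, thetaT_tprod]
    have h2 : SymTen.perm A P d σ (thetaT A ι d (r • PiTensorProduct.tprod A₀ f)) =
        r • PiTensorProduct.tprod A (fun i => ι (f (σ.symm i))) := by
      rw [map_smul, thetaT_tprod, ← AlgHom.toLinearMap_apply (SymTen.perm A P d σ),
        LinearMap.map_smul_of_tower, AlgHom.toLinearMap_apply, SymTen.perm_tprod]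
    rw [h1, h2]
  | add y1 y2 h1 h2 => rw [map_add, map_add, h1, h2, map_add, map_add]

theorem thetaT_mem (y : ⨂[A₀] _ : Fin d, P₀) (hy : y ∈ SymTen.TS A₀ P₀ d) :
    thetaT A ι d y ∈ SymTen.TS A P d := by
  intro σ
  have h := thetaT_perm (A := A) ι d σ y
  rw [SymTen.perm_apply, hy σ, SymTen.perm_apply] at h
  exact h.symm

variable (A) in
/-- the cross-ring map on symmetric tensors -/
noncomputable def theta0 : SymTen.TS A₀ P₀ d →ₐ[A₀] SymTen.TS A P d :=
  AlgHom.ofLinearMap
    { toFun := fun y => ⟨thetaT A ι d y.1, thetaT_mem (A := A) ι d y.1 y.2⟩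
      map_add' := fun x y => Subtype.ext (map_add (thetaT A ι d) x.1 y.1)
      map_smul' := fun a x => Subtype.ext (map_smul (thetaT A ι d) a x.1) }
    (Subtype.ext (thetaT_one (A := A) ι d))
    (fun x y => Subtype.ext (thetaT_mul (A := A) ι d x.1 y.1))

theorem theta0_val (y : SymTen.TS A₀ P₀ d) : (theta0 A ι d y).1 = thetaT A ι d y.1 := rfl

end Theta

section Bases

variable {A₀ A : Type u} [CommRing A₀] [CommRing A] [Algebra A₀ A]
  {P₀ P : Type u} [CommRing P₀] [Algebra A₀ P₀] [CommRing P] [Algebra A P] [Algebra A₀ P]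
  [IsScalarTower A₀ A P] (ι : P₀ →ₐ[A₀] P) (d : ℕ)
  {I : Type u} (e₀ : Module.Basis I A₀ P₀) (e : Module.Basis I A P) (he : ∀ i, ι (e₀ i) = e i)

include he in
theorem thetaT_bT (c : Fin d → I) : thetaT A ι d (bT e₀ d c) = bT e d c := by
  rw [bT_apply, bT_apply, thetaT_tprod]
  congr 1
  funext i
  exact he _

open Classical in
/-- the tuples of a given class -/
noncomputable def Sc (α : I →₀ ℕ) : Finset (Fin d → I) :=
  (Fintype.piFinset (fun _ : Fin d => α.support)).filter (fun c => cls d c = α)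

theorem mem_Sc (α : I →₀ ℕ) (c : Fin d → I) : c ∈ Sc d α ↔ cls d c = α := by
  classical
  rw [Sc, Finset.mem_filter, Fintype.mem_piFinset]
  constructor
  · exact fun h => h.2
  · intro h
    refine ⟨fun i => ?_, h⟩
    rw [← h]
    exact mem_support_cls d c i

omit [Algebra A₀ A] [Algebra A₀ P] [IsScalarTower A₀ A P] in
theorem Oa_eq_sum (α : I →₀ ℕ) : Oa e d α = ∑ c ∈ Sc d α, bT e d c := by
  classical
  apply (bT e d).repr.injective
  ext c'
  rw [repr_Oa, map_sum, Finsupp.coe_finsetSum, Finset.sum_apply]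
  simp only [Module.Basis.repr_self, Finsupp.single_apply]
  rw [Finset.sum_ite_eq' (Sc d α) c' (fun _ => (1 : A))]
  by_cases h : cls d c' = α
  · rw [if_pos h, if_pos ((mem_Sc d α c').2 h)]
  · rw [if_neg h, if_neg (fun h' => h ((mem_Sc d α c').1 h'))]

include he in
theorem thetaT_Oa (α : I →₀ ℕ) : thetaT A ι d (Oa e₀ d α) = Oa e d α := by
  rw [Oa_eq_sum, Oa_eq_sum, map_sum]
  exact Finset.sum_congr rfl fun c _ => thetaT_bT ι d e₀ e he c

omit [Algebra A₀ A] [Algebra A₀ P] [IsScalarTower A₀ A P] in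
theorem Oa_cls_mem_TS (c : Fin d → I) : Oa e d (cls d c) ∈ SymTen.TS A P d := by
  classical
  have h := SymLaw.Phi_mem_TS e d (bT e d (rp d c))
  rw [Phi_bT, if_pos (rp_rp d c).symm, cls_rp] at h
  exact h

variable (A) in
/-- lift of the cross-ring map to `A ⊗ T₀` -/
noncomputable def PsiT : A ⊗[A₀] (⨂[A₀] _ : Fin d, P₀) →ₗ[A] (⨂[A] _ : Fin d, P) :=
  LinearMap.liftBaseChange A (thetaT A ι d)

theorem PsiT_tmul (a : A) (y : ⨂[A₀] _ : Fin d, P₀) :
    PsiT A ι d (a ⊗ₜ[A₀] y) = a • thetaT A ι d y := rfl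

include he in
theorem PsiT_bijective : Function.Bijective (PsiT A ι d) := by
  have : PsiT A ι d =
      ((Algebra.TensorProduct.basis A (bT e₀ d)).equiv (bT e d) (Equiv.refl _)).toLinearMap := by
    refine (Algebra.TensorProduct.basis A (bT e₀ d)).ext fun c => ?_
    rw [Algebra.TensorProduct.basis_apply, PsiT_tmul, one_smul, thetaT_bT ι d e₀ e he,
      LinearEquiv.coe_coe, ← Algebra.TensorProduct.basis_apply, Module.Basis.equiv_apply]
    rfl
  rw [this]
  exact LinearEquiv.bijective _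

variable (A) in
/-- the base change comparison map for symmetric tensors -/
noncomputable def Psi : A ⊗[A₀] SymTen.TS A₀ P₀ d →ₐ[A] SymTen.TS A P d :=
  Algebra.TensorProduct.lift (Algebra.ofId A (SymTen.TS A P d)) (theta0 A ι d)
    (fun _ _ => Commute.all _ _)

theorem Psi_tmul (a : A) (y : SymTen.TS A₀ P₀ d) :
    Psi A ι d (a ⊗ₜ[A₀] y) = a • theta0 A ι d y := by
  rw [Psi, Algebra.TensorProduct.lift_tmul, Algebra.ofId_apply, Algebra.smul_def]

theorem val_Psi (x : A ⊗[A₀] SymTen.TS A₀ P₀ d) :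
    (Psi A ι d x).1 = PsiT A ι d (LinearMap.lTensor A (TSPure.incl (A := A₀) P₀ d) x) := by
  induction x using TensorProduct.induction_on with
  | zero => simp
  | tmul a y =>
    rw [Psi_tmul, LinearMap.lTensor_tmul, PsiT_tmul]
    rfl
  | add x y hx hy =>
    rw [map_add, map_add, map_add, ← hx, ← hy]
    rfl

include he in
theorem Psi_injective [Module.Flat A₀ P₀] : Function.Injective (Psi A ι d) := by
  intro x y hxy
  have h1 : PsiT A ι d (LinearMap.lTensor A (TSPure.incl (A := A₀) P₀ d) x) =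
      PsiT A ι d (LinearMap.lTensor A (TSPure.incl (A := A₀) P₀ d) y) := by
    rw [← val_Psi, ← val_Psi, hxy]
  exact TSPure.lTensor_incl_injective P₀ d A ((PsiT_bijective ι d e₀ e he).1 h1)

include he in
theorem Psi_surjective : Function.Surjective (Psi A ι d) := by
  classical
  intro y
  have h1 : Phi e d y.1 = ((bT e d).repr y.1).sum fun c a => a • Phi e d (bT e d c) := by
    conv_lhs => rw [← (bT e d).linearCombination_repr y.1, Finsupp.linearCombination_apply,
      map_finsuppSum]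
    simp only [map_smul]
  have h2 : y.1 = ((bT e d).repr y.1).sum fun c a => a • Phi e d (bT e d c) := by
    rw [← h1, Phi_of_mem_TS e d y.1 y.2]
  refine ⟨((bT e d).repr y.1).sum fun c a =>
    if c = rp d c then a ⊗ₜ[A₀] (⟨Oa e₀ d (cls d c), Oa_cls_mem_TS d e₀ c⟩ : SymTen.TS A₀ P₀ d)
    else 0, ?_⟩
  apply Subtype.ext
  conv_rhs => rw [h2]
  rw [Finsupp.sum, Finsupp.sum, map_sum]
  rw [show ((∑ c ∈ ((bT e d).repr y.1).support, (Psi A ι d)
      (if c = rp d c then ((bT e d).repr y.1) c ⊗ₜ[A₀]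
        (⟨Oa e₀ d (cls d c), Oa_cls_mem_TS d e₀ c⟩ : SymTen.TS A₀ P₀ d) else 0) :
        SymTen.TS A P d) : ⨂[A] _ : Fin d, P) =
      ∑ c ∈ ((bT e d).repr y.1).support, ((Psi A ι d)
      (if c = rp d c then ((bT e d).repr y.1) c ⊗ₜ[A₀]
        (⟨Oa e₀ d (cls d c), Oa_cls_mem_TS d e₀ c⟩ : SymTen.TS A₀ P₀ d) else 0)).1 from
    map_sum (Subalgebra.val (SymTen.TS A P d)) _ _]
  refine Finset.sum_congr rfl fun c _ => ?_
  rw [Phi_bT]
  split_ifs with hc
  · rw [Psi_tmul]
    show ((bT e d).repr y.1) c • (theta0 A ι d _).1 = _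
    rw [theta0_val, thetaT_Oa ι d e₀ e he]
  · rw [map_zero, smul_zero]
    rfl

end Bases

section FP

variable (A₀ A : Type u) [CommRing A₀] [CommRing A] [Algebra A₀ A]
  (κ : Type u) [Finite κ] (d : ℕ)

/-- the inclusion of polynomial rings -/
noncomputable def iotaP : MvPolynomial κ A₀ →ₐ[A₀] MvPolynomial κ A :=
  MvPolynomial.mapAlgHom (Algebra.ofId A₀ A)

omit [Finite κ] in
theorem iotaP_apply (p : MvPolynomial κ A₀) :
    iotaP A₀ A κ p = MvPolynomial.map (algebraMap A₀ A) p := rfl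

omit [Finite κ] in
theorem iotaP_basis (m : κ →₀ ℕ) :
    iotaP A₀ A κ (MvPolynomial.basisMonomials κ A₀ m) = MvPolynomial.basisMonomials κ A m := by
  rw [iotaP_apply, MvPolynomial.coe_basisMonomials, MvPolynomial.coe_basisMonomials,
    MvPolynomial.map_monomial, map_one]

theorem Psi_bijective :
    Function.Bijective (Psi A (iotaP A₀ A κ) d) :=
  ⟨Psi_injective (iotaP A₀ A κ) d _ _ (iotaP_basis A₀ A κ),
    Psi_surjective (iotaP A₀ A κ) d _ _ (iotaP_basis A₀ A κ)⟩

/-- symmetric tensors of a polynomial ring in finitely many variables are finitely presented -/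
theorem finitePresentation_TS [IsNoetherianRing A₀] :
    Algebra.FinitePresentation A (SymTen.TS A (MvPolynomial κ A) d) := by
  have hft : Algebra.FiniteType A₀ (SymTen.TS A₀ (MvPolynomial κ A₀) d) :=
    ⟨(Subalgebra.fg_top _).mpr (TSFinType.TS_fg d)⟩
  have hfp : Algebra.FinitePresentation A₀ (SymTen.TS A₀ (MvPolynomial κ A₀) d) :=
    Algebra.FinitePresentation.of_finiteType.mp hft
  exact Algebra.FinitePresentation.equiv
    (AlgEquiv.ofBijective (Psi A (iotaP A₀ A κ) d) (Psi_bijective A₀ A κ d))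

end FP

end Groth.Agent.Lib.Helper59.TSCross
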