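import Groth.Agent.Lib.Helper59.TKer

/-!
# Symmetric tensors of flat modules (module level)

* `exists_symm_lift` : symmetric tensors lift along a surjection onto a flat module.
-/

set_option autoImplicit false

namespace Groth.Agent.Lib.Helper59.TSFlatMod

open scoped TensorProduct
open Groth.Agent.Lib.Helper59.TKer

universe u

variable {A : Type u} [CommRing A]

theorem map_surjective {M N : Type u} [AddCommGroup M] [Module A M] [AddCommGroup N] [Module A N]
    (d : ℕ) (q : M →ₗ[A] N) (hq : Function.Surjective q) :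
    Function.Surjective (PiTensorProduct.map (R := A) (fun _ : Fin d => q)) := by
  intro t
  induction t using PiTensorProduct.induction_on with
  | smul_tprod r b =>
      refine ⟨r • PiTensorProduct.tprod A (fun j => Function.surjInv hq (b j)), ?_⟩
      rw [map_smul, PiTensorProduct.map_tprod]
      congr 2
      funext j
      exact Function.surjInv_eq hq _
  | add x y hx hy =>
      obtain ⟨x', rfl⟩ := hx
      obtain ⟨y', rfl⟩ := hy
      exact ⟨x' + y', map_add _ _ _⟩

theorem map_reindex' {M N : Type u} [AddCommGroup M] [Module A M] [AddCommGroup N] [Module A N]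
    (d : ℕ) (q : M →ₗ[A] N) (σ : Equiv.Perm (Fin d)) (x : ⨂[A] _ : Fin d, M) :
    PiTensorProduct.map (fun _ : Fin d => q) (PiTensorProduct.reindex A (fun _ : Fin d => M) σ x) =
      PiTensorProduct.reindex A (fun _ : Fin d => N) σ (PiTensorProduct.map (fun _ : Fin d => q) x) :=
  PiTensorProduct.map_reindex (fun _ : Fin d => q) σ x

theorem map_map {M N L : Type u} [AddCommGroup M] [Module A M] [AddCommGroup N] [Module A N]
    [AddCommGroup L] [Module A L]
    (d : ℕ) (q : M →ₗ[A] N) (r : N →ₗ[A] L) (x : ⨂[A] _ : Fin d, M) :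
    PiTensorProduct.map (fun _ : Fin d => r) (PiTensorProduct.map (fun _ : Fin d => q) x) =
      PiTensorProduct.map (fun _ : Fin d => r ∘ₗ q) x := by
  rw [PiTensorProduct.map_comp]
  rfl

/-- Let `q : P → N` be a surjection from a free module onto a flat module and `W` a finite set of
elements of `ker T^d(q)`. Then there is an endomorphism `π` of `P` with `q π = q` and
`T^d(π) W = 0`. -/
theorem exists_proj_kills {P N : Type u} [AddCommGroup P] [Module A P] [AddCommGroup N] [Module A N]
    {ι : Type*} (e : Module.Basis ι A P) [Module.Flat A N] (q : P →ₗ[A] N)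
    (hq : Function.Surjective q) (d : ℕ) (W : Finset (⨂[A] _ : Fin d, P))
    (hW : ∀ w ∈ W, PiTensorProduct.map (fun _ : Fin d => q) w = 0) :
    ∃ π : P →ₗ[A] P, q ∘ₗ π = q ∧ ∀ w ∈ W, PiTensorProduct.map (fun _ : Fin d => π) w = 0 := by
  classical
  have h1 : ∀ w : W, ∃ X : Finset P, (∀ x ∈ X, q x = 0) ∧ ∀ (M' : Type u) [AddCommGroup M']
      [Module A M'] (π : P →ₗ[A] M'), (∀ x ∈ X, π x = 0) →
        PiTensorProduct.map (fun _ : Fin d => π) w.1 = 0 :=
    fun w => exists_finset_of_mem_Jm d q w.1 (ker_map_le d q hq w.1 (hW w.1 w.2))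
  choose X hX hX' using h1
  obtain ⟨π, hπ, hπ'⟩ := exists_proj e q hq (Finset.univ.biUnion X) (by
    intro x hx
    obtain ⟨w, _, hw⟩ := Finset.mem_biUnion.mp hx
    exact hX w x hw)
  refine ⟨π, hπ, ?_⟩
  intro w hw
  exact hX' ⟨w, hw⟩ P π (fun x hx => hπ' x (Finset.mem_biUnion.mpr ⟨⟨w, hw⟩, Finset.mem_univ _, hx⟩))

/-- symmetric tensors lift along a surjection onto a flat module -/
theorem exists_symm_lift {M N : Type u} [AddCommGroup M] [Module A M] [AddCommGroup N] [Module A N]
    [Module.Flat A N] (f : M →ₗ[A] N) (hf : Function.Surjective f) (n : ℕ)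
    (t : ⨂[A] _ : Fin n, N)
    (ht : ∀ σ : Equiv.Perm (Fin n), PiTensorProduct.reindex A (fun _ : Fin n => N) σ t = t) :
    ∃ s : ⨂[A] _ : Fin n, M,
      (∀ σ : Equiv.Perm (Fin n), PiTensorProduct.reindex A (fun _ : Fin n => M) σ s = s) ∧
      PiTensorProduct.map (fun _ : Fin n => f) s = t := by
  classical
  let e : Module.Basis M A (M →₀ A) := Finsupp.basisSingleOne
  let p : (M →₀ A) →ₗ[A] M := Finsupp.linearCombination A id
  have hp : Function.Surjective p := fun m => ⟨Finsupp.single m 1, by simp [p]⟩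
  let q : (M →₀ A) →ₗ[A] N := f ∘ₗ p
  have hq : Function.Surjective q := hf.comp hp
  obtain ⟨w, hw⟩ := map_surjective n q hq t
  let W : Finset (⨂[A] _ : Fin n, (M →₀ A)) :=
    Finset.univ.image (fun σ : Equiv.Perm (Fin n) =>
      PiTensorProduct.reindex A (fun _ : Fin n => (M →₀ A)) σ w - w)
  obtain ⟨π, hπ, hπ'⟩ := exists_proj_kills e q hq n W (by
    intro z hz
    obtain ⟨σ, _, rfl⟩ := Finset.mem_image.mp hz
    rw [map_sub, map_reindex', hw, ht σ, sub_self])
  let w' := PiTensorProduct.map (fun _ : Fin n => π) w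
  have hw' : ∀ σ : Equiv.Perm (Fin n),
      PiTensorProduct.reindex A (fun _ : Fin n => (M →₀ A)) σ w' = w' := by
    intro σ
    have := hπ' _ (Finset.mem_image.mpr ⟨σ, Finset.mem_univ _, rfl⟩)
    rw [map_sub, sub_eq_zero, map_reindex'] at this
    exact this
  refine ⟨PiTensorProduct.map (fun _ : Fin n => p) w', ?_, ?_⟩
  · intro σ
    rw [← map_reindex', hw' σ]
  · rw [map_map, map_map]
    change PiTensorProduct.map (fun _ : Fin n => q ∘ₗ π) w = t
    rw [hπ, hw]

end Groth.Agent.Lib.Helper59.TSFlatMod
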