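import Groth.Agent.Lib.Helper59.SymLaw
import Groth.Agent.Lib.Helper59.TSFlatMod

/-!
# Flatness of the symmetric tensors of a flat module
-/

set_option autoImplicit false

namespace Groth.Agent.Lib.Helper59.TSFlat

open scoped TensorProduct
open Groth.Agent.Lib.Helper59.TKer Groth.Agent.Lib.Helper59.TSFlatMod

universe u

variable {A : Type u} [CommRing A]

/-- the symmetric tensors of an algebra with a basis are a direct summand of the tensor power -/
theorem flat_TS_free {P : Type u} [CommRing P] [Algebra A P] {I : Type u}
    (e : Module.Basis I A P) (d : ℕ) : Module.Flat A (SymTen.TS A P d) := by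
  have : Module.Free A (⨂[A] _ : Fin d, P) := Module.Free.of_basis (GRoby.bT e d)
  let i : SymTen.TS A P d →ₗ[A] (⨂[A] _ : Fin d, P) := (SymTen.TS A P d).val.toLinearMap
  let r : (⨂[A] _ : Fin d, P) →ₗ[A] SymTen.TS A P d :=
    { toFun := fun t => ⟨GRoby.Phi e d t, SymLaw.Phi_mem_TS e d t⟩
      map_add' := fun x y => Subtype.ext (map_add _ _ _)
      map_smul' := fun a x => Subtype.ext (map_smul _ _ _) }
  refine Module.Flat.of_retract i r ?_
  ext t
  exact GRoby.Phi_of_mem_TS e d t.1 t.2

/-- **Symmetric tensors of a flat module are flat.** -/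
theorem flat_TSM (M : Type u) [AddCommGroup M] [Module A M] [Module.Flat A M] (n : ℕ) :
    Module.Flat A ↥(⨅ σ : Equiv.Perm (Fin n),
      LinearMap.eqLocus (PiTensorProduct.reindex A (fun _ : Fin n => M) σ).toLinearMap
        LinearMap.id) := by
  classical
  have hmem : ∀ t : ⨂[A] _ : Fin n, M, t ∈ (⨅ σ : Equiv.Perm (Fin n),
      LinearMap.eqLocus (PiTensorProduct.reindex A (fun _ : Fin n => M) σ).toLinearMap
        LinearMap.id) ↔
      ∀ σ : Equiv.Perm (Fin n), PiTensorProduct.reindex A (fun _ : Fin n => M) σ t = t := by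
    intro t
    simp [Submodule.mem_iInf, LinearMap.mem_eqLocus]
  apply Module.Flat.of_forall_isTrivialRelation
  intro l f x hfx
  let e := MvPolynomial.basisMonomials M A
  let g : (M →₀ ℕ) → M := fun m => if h : ∃ x, m = Finsupp.single x 1 then h.choose else 0
  let q : MvPolynomial M A →ₗ[A] M := e.constr A g
  have hq : Function.Surjective q := by
    intro x
    refine ⟨e (Finsupp.single x 1), ?_⟩
    rw [Module.Basis.constr_basis]
    have h : ∃ y, Finsupp.single x 1 = Finsupp.single y 1 := ⟨x, rfl⟩
    simp only [g, dif_pos h]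
    exact (Finsupp.single_left_injective one_ne_zero h.choose_spec).symm
  have h1 : ∀ i, ∃ w, PiTensorProduct.map (fun _ : Fin n => q) w = (x i).1 :=
    fun i => map_surjective n q hq _
  choose w hw using h1
  let W : Finset (⨂[A] _ : Fin n, MvPolynomial M A) :=
    (Finset.univ.image (fun p : Equiv.Perm (Fin n) × Fin l =>
      PiTensorProduct.reindex A (fun _ : Fin n => MvPolynomial M A) p.1 (w p.2) - w p.2)) ∪
      {∑ i, f i • w i}
  obtain ⟨π, hπ, hπ'⟩ := exists_proj_kills e q hq n W (by
    intro z hz
    rcases Finset.mem_union.mp hz with hz | hz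
    · obtain ⟨p, _, rfl⟩ := Finset.mem_image.mp hz
      rw [map_sub, map_reindex', hw, (hmem _).mp (x p.2).2 p.1, sub_self]
    · rw [Finset.mem_singleton] at hz
      rw [hz, map_sum]
      simp only [map_smul, hw]
      have := congrArg Subtype.val hfx
      simpa using this)
  have hw'TS : ∀ i, PiTensorProduct.map (fun _ : Fin n => π) (w i) ∈
      SymTen.TS A (MvPolynomial M A) n := by
    intro i σ
    have := hπ' _ (Finset.mem_union_left _ (Finset.mem_image.mpr ⟨(σ, i), Finset.mem_univ _, rfl⟩))
    rw [map_sub, sub_eq_zero, map_reindex'] at this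
    exact this
  have hw'0 : ∑ i, f i • PiTensorProduct.map (fun _ : Fin n => π) (w i) = 0 := by
    have := hπ' _ (Finset.mem_union_right _ (Finset.mem_singleton_self _))
    rw [map_sum] at this
    simpa only [map_smul] using this
  have hw'q : ∀ i, PiTensorProduct.map (fun _ : Fin n => q)
      (PiTensorProduct.map (fun _ : Fin n => π) (w i)) = (x i).1 := by
    intro i
    rw [map_map, hπ, hw]
  have hflat : Module.Flat A (SymTen.TS A (MvPolynomial M A) n) := flat_TS_free e n
  obtain ⟨k, a, y, hy, ha⟩ := Module.Flat.isTrivialRelation_of_sum_smul_eq_zero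
    (M := SymTen.TS A (MvPolynomial M A) n) (f := f)
    (x := fun i => ⟨PiTensorProduct.map (fun _ : Fin n => π) (w i), hw'TS i⟩) (by
      apply Subtype.ext
      have : ∀ (s : Finset (Fin l)) (v : Fin l → SymTen.TS A (MvPolynomial M A) n),
          ((∑ i ∈ s, f i • v i : SymTen.TS A (MvPolynomial M A) n) :
            ⨂[A] _ : Fin n, MvPolynomial M A) = ∑ i ∈ s, f i • (v i).1 := by
        intro s v
        induction s using Finset.induction_on with
        | empty => simp
        | insert b s hb ih => rw [Finset.sum_insert hb, Finset.sum_insert hb, ← ih]; rfl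
      rw [this]
      exact hw'0)
  refine ⟨k, a, fun j => ⟨PiTensorProduct.map (fun _ : Fin n => q) (y j).1, ?_⟩, ?_, ha⟩
  · rw [hmem]
    intro σ
    rw [← map_reindex', (y j).2 σ]
  · intro i
    apply Subtype.ext
    have h2 := congrArg (fun t : SymTen.TS A (MvPolynomial M A) n =>
      PiTensorProduct.map (fun _ : Fin n => q) t.1) (hy i)
    simp only at h2
    rw [hw'q] at h2
    rw [h2]
    have : ∀ (s : Finset (Fin k)),
        PiTensorProduct.map (fun _ : Fin n => q)
          ((∑ j ∈ s, a i j • y j : SymTen.TS A (MvPolynomial M A) n) :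
            ⨂[A] _ : Fin n, MvPolynomial M A) =
        ((∑ j ∈ s, a i j • (⟨PiTensorProduct.map (fun _ : Fin n => q) (y j).1, by
          rw [hmem]
          intro σ
          rw [← map_reindex', (y j).2 σ]⟩ : ↥(⨅ σ : Equiv.Perm (Fin n),
            LinearMap.eqLocus (PiTensorProduct.reindex A (fun _ : Fin n => M) σ).toLinearMap
              LinearMap.id)) : ↥(⨅ σ : Equiv.Perm (Fin n),
            LinearMap.eqLocus (PiTensorProduct.reindex A (fun _ : Fin n => M) σ).toLinearMap
              LinearMap.id)) : ⨂[A] _ : Fin n, M) := by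
      intro s
      induction s using Finset.induction_on with
      | empty => simp
      | insert b s hb ih =>
          rw [Finset.sum_insert hb, Finset.sum_insert hb]
          change PiTensorProduct.map (fun _ : Fin n => q) ((a i b • y b : SymTen.TS A _ n).1 +
            ((∑ j ∈ s, a i j • y j : SymTen.TS A (MvPolynomial M A) n) :
              ⨂[A] _ : Fin n, MvPolynomial M A)) = _
          rw [map_add, ih]
          change PiTensorProduct.map (fun _ : Fin n => q) (a i b • (y b).1) + _ = _
          rw [map_smul]
          rfl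
    exact this Finset.univ

end Groth.Agent.Lib.Helper59.TSFlat
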