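import Groth.Agent.Lib.Helper59.ResLift
import Groth.Agent.Lib.Helper69.SpecResidue

/-!
# `Spec TS^d(B) → Spec Γ^d(B)` is a universal homeomorphism with trivial residue field extensions
-/

set_option autoImplicit false

namespace Groth.Agent.Lib.Helper59.UnivHomeoTS

open scoped TensorProduct
open PolLaw Groth.Agent.Lib.Helper59.KerPoly Groth.Agent.Lib.Helper59.LawReduced
  Groth.Agent.Lib.Helper59.CHCore Groth.Agent.Lib.Helper59.GammaGen
  Groth.Agent.Lib.Helper59.PolarGamma Groth.Agent.Lib.Helper59.SymN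
  Groth.Agent.Lib.Helper59.GammaTS Groth.Agent.Lib.Helper59.SymLaw

universe u

section Ring

variable {A C E : Type u} [CommRing A] [CommRing C] [Algebra A C] [CommRing E] [Algebra A E]
  {n : ℕ} (φ : C →ₐ[A] E) (F : MulLaw A E C n)
  (hF1 : MulLaw.postcomp φ F = MulLaw.pow A E n)

include hF1 in
theorem phi_F (S : Type u) [CommSemiring S] [Algebra A S] (u : S ⊗[A] E) :
    Algebra.TensorProduct.map (AlgHom.id A S) φ (F.law.toFun' S u) = u ^ n := by
  have h := congrArg (fun G => G.law.toFun' S u) hF1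
  rw [← lTensor_eq_map]
  exact h

include hF1 in
theorem pow_mem_range (y : E) : y ^ n ∈ φ.range := by
  have h := phi_F φ F hF1 A ((1 : A) ⊗ₜ[A] y)
  have h2 := congrArg (TensorProduct.lid A E) h
  rw [← lTensor_eq_map, lid_lTensor] at h2
  refine ⟨TensorProduct.lid A C (F.law.toFun' A ((1 : A) ⊗ₜ[A] y)), ?_⟩
  rw [AlgHom.toLinearMap_apply] at h2
  show φ _ = _
  rw [h2, Algebra.TensorProduct.tmul_pow, one_pow, TensorProduct.lid_tmul, one_smul]

include hF1 in
/-- two field-valued points of `E` agreeing on `C` are equal -/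
theorem field_pts (hn : n ≠ 0) (K : Type u) [Field K] (χ₁ χ₂ : E →+* K)
    (h : χ₁.comp φ.toRingHom = χ₂.comp φ.toRingHom) : χ₁ = χ₂ := by
  let ψ : C →+* K := χ₁.comp φ.toRingHom
  let _ : Algebra A K := (ψ.comp (algebraMap A C)).toAlgebra
  have hχ₂ : ∀ c, χ₂ (φ c) = ψ c := fun c => (RingHom.congr_fun h c).symm
  let χa₁ : E →ₐ[A] K :=
    { χ₁ with
      commutes' := fun a => by
        show χ₁ (algebraMap A E a) = χ₁ (φ (algebraMap A C a))
        rw [φ.commutes] }
  let χa₂ : E →ₐ[A] K :=
    { χ₂ with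
      commutes' := fun a => by
        show χ₂ (algebraMap A E a) = ψ (algebraMap A C a)
        rw [← hχ₂, φ.commutes] }
  let ψa : C →ₐ[A] K := { ψ with commutes' := fun a => rfl }
  let cK : K →ₐ[A] Polynomial K := Polynomial.CAlgHom
  let X₁ : Polynomial K ⊗[A] E →ₐ[A] Polynomial K :=
    Algebra.TensorProduct.productMap (AlgHom.id A (Polynomial K)) (cK.comp χa₁)
  let X₂ : Polynomial K ⊗[A] E →ₐ[A] Polynomial K :=
    Algebra.TensorProduct.productMap (AlgHom.id A (Polynomial K)) (cK.comp χa₂)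
  let Ψ : Polynomial K ⊗[A] C →ₐ[A] Polynomial K :=
    Algebra.TensorProduct.productMap (AlgHom.id A (Polynomial K)) (cK.comp ψa)
  have hX₁ : ∀ w, X₁ (Algebra.TensorProduct.map (AlgHom.id A (Polynomial K)) φ w) = Ψ w := by
    intro w
    induction w using TensorProduct.induction_on with
    | zero => simp only [map_zero]
    | tmul s c =>
        rw [Algebra.TensorProduct.map_tmul, Algebra.TensorProduct.productMap_apply_tmul,
          Algebra.TensorProduct.productMap_apply_tmul]
        rfl
    | add a b ha hb => simp only [map_add, ha, hb]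
  have hX₂ : ∀ w, X₂ (Algebra.TensorProduct.map (AlgHom.id A (Polynomial K)) φ w) = Ψ w := by
    intro w
    induction w using TensorProduct.induction_on with
    | zero => simp only [map_zero]
    | tmul s c =>
        rw [Algebra.TensorProduct.map_tmul, Algebra.TensorProduct.productMap_apply_tmul,
          Algebra.TensorProduct.productMap_apply_tmul]
        show s * Polynomial.C (χ₂ (φ c)) = s * Polynomial.C (ψ c)
        rw [hχ₂]
    | add a b ha hb => simp only [map_add, ha, hb]
  ext y
  set u : Polynomial K ⊗[A] E := (Polynomial.X : Polynomial K) ⊗ₜ[A] (1 : E) +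
    (1 : Polynomial K) ⊗ₜ[A] y with hu
  have e1 : X₁ u = Polynomial.X + Polynomial.C (χ₁ y) := by
    rw [hu, map_add, Algebra.TensorProduct.productMap_apply_tmul,
      Algebra.TensorProduct.productMap_apply_tmul, map_one, mul_one, AlgHom.id_apply,
      AlgHom.id_apply, one_mul]
    rfl
  have e2 : X₂ u = Polynomial.X + Polynomial.C (χ₂ y) := by
    rw [hu, map_add, Algebra.TensorProduct.productMap_apply_tmul,
      Algebra.TensorProduct.productMap_apply_tmul, map_one, mul_one, AlgHom.id_apply,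
      AlgHom.id_apply, one_mul]
    rfl
  have key : (Polynomial.X + Polynomial.C (χ₁ y)) ^ n = (Polynomial.X + Polynomial.C (χ₂ y)) ^ n := by
    rw [← e1, ← e2, ← map_pow, ← map_pow, ← phi_F φ F hF1 (Polynomial K) u, hX₁, hX₂]
  have h3 := congrArg (Polynomial.eval (-χ₁ y)) key
  rw [Polynomial.eval_pow, Polynomial.eval_pow, Polynomial.eval_add, Polynomial.eval_add,
    Polynomial.eval_X, Polynomial.eval_C, Polynomial.eval_C, neg_add_cancel, zero_pow hn] at h3
  have h4 := pow_eq_zero_iff hn |>.mp h3.symm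
  rw [neg_add_eq_zero] at h4
  exact h4

variable (hF2 : MulLaw.precomp F φ = MulLaw.pow A C n)

include hF2 in
theorem F_phi (x : C) : TensorProduct.lid A C (F.law.toFun' A ((1 : A) ⊗ₜ[A] φ x)) = x ^ n := by
  have h := congrArg (fun G => G.law.toFun' A ((1 : A) ⊗ₜ[A] x)) hF2
  have h' : F.law.toFun' A (φ.toLinearMap.lTensor A ((1 : A) ⊗ₜ[A] x)) =
      ((1 : A) ⊗ₜ[A] x) ^ n := h
  rw [LinearMap.lTensor_tmul, AlgHom.toLinearMap_apply] at h'
  rw [h', Algebra.TensorProduct.tmul_pow, one_pow, TensorProduct.lid_tmul, one_smul]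

include hF2 in
theorem ker_le_nilradical (hn : n ≠ 0) : RingHom.ker φ.toRingHom ≤ nilradical C := by
  intro x hx
  have hx' : φ x = 0 := hx
  rw [mem_nilradical]
  refine ⟨n, ?_⟩
  rw [← F_phi φ F hF2 x, hx']
  have h0 := F.homog A (0 : A) 0
  rw [zero_smul, zero_pow hn, zero_smul] at h0
  rw [TensorProduct.tmul_zero, h0, map_zero]

include hF1 in
theorem isIntegral (hn : n ≠ 0) : φ.toRingHom.IsIntegral := by
  intro y
  obtain ⟨c, hc⟩ := pow_mem_range φ F hF1 y
  have h1 : φ.toRingHom.IsIntegralElem (y ^ n) := by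
    rw [← hc]
    exact φ.toRingHom.isIntegralElem_map
  exact @IsIntegral.of_pow C E _ _ φ.toRingHom.toAlgebra y n (Nat.pos_of_ne_zero hn) h1

include hF1 hF2 in
theorem isUnivHomeo (hn : n ≠ 0) :
    FlatMor.IsUnivHomeo (AlgebraicGeometry.Spec.map (CommRingCat.ofHom φ.toRingHom)) := by
  have hint := isIntegral φ F hF1 hn
  refine Groth.Agent.Lib.Helper69.SpecResidue.isUnivHomeo_SpecMap_of φ.toRingHom hint ?_
    (fun K _ χ₁ χ₂ h => field_pts φ F hF1 hn K χ₁ χ₂ h)
  -- surjectivity on spectra (after helper69)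
  intro ⟨p, hp⟩
  let _ : Algebra C E := φ.toRingHom.toAlgebra
  have hI : Algebra.IsIntegral C E := ⟨hint⟩
  obtain ⟨Q, -, hQ, hQp⟩ := Ideal.exists_ideal_over_prime_of_isIntegral p (⊥ : Ideal E) (by
    refine le_trans ?_ (nilradical_le_prime p)
    exact ker_le_nilradical φ F hF2 hn)
  exact ⟨⟨Q, hQ⟩, PrimeSpectrum.ext hQp⟩

end Ring

section Residue

variable {A B C : Type u} [CommRing A] [CommRing B] [Algebra A B] [CommRing C] [Algebra A C]
  {d : ℕ} (γ : MulLaw A B C d) {κ : Type u} (π : MvPolynomial κ A →ₐ[A] B)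

theorem residue_surjective (hγ : IsGammaD γ) (hπ : Function.Surjective π)
    (φ : C →ₐ[A] SymTen.TS A B d)
    (hΦ : ∀ (S : Type u) [CommRing S] [Algebra A S] (z : S ⊗[A] B),
      ((SymTen.TS A B d).val.comp φ).toLinearMap.lTensor S (γ.law.toFun' S z) =
        (SymTen.tpowLaw A B d).law.toFun' S z)
    (hpts : ∀ (K : Type u) [Field K] (χ₁ χ₂ : SymTen.TS A B d →+* K),
      χ₁.comp φ.toRingHom = χ₂.comp φ.toRingHom → χ₁ = χ₂)
    (Q : Ideal (SymTen.TS A B d)) [Q.IsPrime] :
    Function.Surjective (Ideal.ResidueField.map (Q.comap φ.toRingHom) Q φ.toRingHom rfl) := by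
  let _ : Algebra A (Q.comap φ.toRingHom).ResidueField :=
    ((algebraMap C (Q.comap φ.toRingHom).ResidueField).comp (algebraMap A C)).toAlgebra
  let z : C →ₐ[A] (Q.comap φ.toRingHom).ResidueField :=
    { algebraMap C (Q.comap φ.toRingHom).ResidueField with commutes' := fun a => rfl }
  obtain ⟨x', hx'⟩ := ResLift.exists_lift γ π (Q.comap φ.toRingHom).ResidueField z hγ hπ φ hΦ
  have h1 : algebraMap (SymTen.TS A B d) Q.ResidueField =
      (Ideal.ResidueField.map (Q.comap φ.toRingHom) Q φ.toRingHom rfl).comp x' := by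
    apply hpts
    ext c
    rw [RingHom.comp_apply, RingHom.comp_apply, RingHom.comp_apply]
    show _ = Ideal.ResidueField.map (Q.comap φ.toRingHom) Q φ.toRingHom rfl (x' (φ c))
    rw [hx']
    exact (Ideal.ResidueField.map_algebraMap (Q.comap φ.toRingHom) Q φ.toRingHom rfl c).symm
  intro κ'
  obtain ⟨a, b, hb, rfl⟩ := IsFractionRing.div_surjective (A := SymTen.TS A B d ⧸ Q) κ'
  obtain ⟨a, rfl⟩ := Ideal.Quotient.mk_surjective a
  obtain ⟨b, rfl⟩ := Ideal.Quotient.mk_surjective b
  refine ⟨x' a / x' b, ?_⟩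
  rw [map_div₀, Ideal.algebraMap_quotient_residueField_mk,
    Ideal.algebraMap_quotient_residueField_mk, h1]
  rfl

end Residue

section Scheme

open AlgebraicGeometry CategoryTheory

set_option backward.isDefEq.respectTransparency.types false in
theorem residueFieldMap_surjective {R S : CommRingCat.{u}} (f : R ⟶ S) (y : Spec S)
    (h : Function.Surjective
      (Ideal.ResidueField.map ((Spec.map f) y).asIdeal y.asIdeal f.hom rfl)) :
    Function.Surjective ((Spec.map f).residueFieldMap y).hom := by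
  have e := Groth.Agent.Lib.Helper69.SpecResidue.residueFieldMap_SpecMap f y
  have e2 : (Spec.map f).residueFieldMap y =
      (Scheme.Spec.residueFieldIso R ((Spec.map f) y)).hom ≫
        CommRingCat.ofHom
          (Ideal.ResidueField.map ((Spec.map f) y).asIdeal y.asIdeal f.hom rfl) ≫
        (Scheme.Spec.residueFieldIso S y).inv := by
    rw [← e, ← Category.assoc, Iso.hom_inv_id, Category.id_comp]
  rw [e2]
  have h1 : Function.Surjective (Scheme.Spec.residueFieldIso R ((Spec.map f) y)).hom.hom :=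
    (ConcreteCategory.bijective_of_isIso (Scheme.Spec.residueFieldIso R ((Spec.map f) y)).hom).surjective
  have h2 : Function.Surjective (Scheme.Spec.residueFieldIso S y).inv.hom :=
    (ConcreteCategory.bijective_of_isIso (Scheme.Spec.residueFieldIso S y).inv).surjective
  exact (h2.comp h).comp h1

variable {A B C : Type u} [CommRing A] [CommRing B] [Algebra A B] [CommRing C] [Algebra A C]
  {d : ℕ} (γ : MulLaw A B C d) {κ : Type u} (π : MvPolynomial κ A →ₐ[A] B)

set_option backward.isDefEq.respectTransparency.types false in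
/-- **`Spec TS^d(B) → Spec Γ^d(B)` is a universal homeomorphism with trivial residue field
extensions** -/
theorem main (hγ : IsGammaD γ) (hπ : Function.Surjective π) (φ : C →ₐ[A] SymTen.TS A B d)
    (hΦ : ∀ (S : Type u) [CommRing S] [Algebra A S] (z : S ⊗[A] B),
      ((SymTen.TS A B d).val.comp φ).toLinearMap.lTensor S (γ.law.toFun' S z) =
        (SymTen.tpowLaw A B d).law.toFun' S z) :
    FlatMor.IsUnivHomeo (Spec.map (CommRingCat.ofHom φ.toRingHom)) ∧
      ∀ x : ↥(Spec (CommRingCat.of (SymTen.TS A B d))),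
        Function.Surjective ((Spec.map (CommRingCat.ofHom φ.toRingHom)).residueFieldMap x).hom := by
  obtain ⟨F, hF1, hF2⟩ := GammaTSLaw.main γ π hγ hπ φ hΦ
  have hn := Nat.factorial_ne_zero d
  refine ⟨isUnivHomeo φ F hF1 hF2 hn, fun x => ?_⟩
  apply residueFieldMap_surjective
  exact residue_surjective γ π hγ hπ φ hΦ
    (fun K _ χ₁ χ₂ h => field_pts φ F hF1 hn K χ₁ χ₂ h) x.asIdeal

end Scheme

end Groth.Agent.Lib.Helper59.UnivHomeoTS
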