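import Groth.Agent.Lib.Helper59.CHRel4

/-!
# `Spec (A' ⊗ B / ker F) → Spec A'` is open

The image of the basic open set `D(ū)` is the union of the `D(c_k)`, `k < d`, where the `c_k` are
the lower coefficients of the relative characteristic polynomial of a lift `u` of `ū`.
-/

set_option autoImplicit false

namespace Groth.Agent.Lib.Helper59.UnivOpen

open scoped TensorProduct
open PolLaw Polynomial Groth.Agent.Lib.Helper59.KerPoly Groth.Agent.Lib.Helper59.CHCore
  Groth.Agent.Lib.Helper59.CHRel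

universe u

section Theta

variable {A : Type u} [CommRing A] {B : Type u} [CommRing B] [Algebra A B]

/-- `A' ⊗ B → A' ⊗ B / K` -/
noncomputable def Theta (K : Ideal B) (A' : Type u) [CommRing A'] [Algebra A A'] :
    A' ⊗[A] B →ₐ[A'] A' ⊗[A] (B ⧸ K) :=
  Algebra.TensorProduct.map (AlgHom.id A' A') (Ideal.Quotient.mkₐ A K)

theorem Theta_tmul (K : Ideal B) (A' : Type u) [CommRing A'] [Algebra A A'] (a : A') (b : B) :
    Theta K A' (a ⊗ₜ[A] b) = a ⊗ₜ[A] (Ideal.Quotient.mk K b) := rfl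

theorem Theta_eq_lTensor (K : Ideal B) (A' : Type u) [CommRing A'] [Algebra A A']
    (v : A' ⊗[A] B) :
    Theta K A' v = (Ideal.Quotient.mkₐ A K).toLinearMap.lTensor A' v := by
  induction v using TensorProduct.induction_on with
  | zero => simp
  | tmul a b => rfl
  | add x y hx hy => rw [map_add, map_add, hx, hy]

theorem Theta_surjective (K : Ideal B) (A' : Type u) [CommRing A'] [Algebra A A'] :
    Function.Surjective (Theta (A := A) K A') := by
  intro y
  obtain ⟨x, hx⟩ := LinearMap.lTensor_surjective A' (g := (Ideal.Quotient.mkₐ A K).toLinearMap)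
    (Ideal.Quotient.mkₐ_surjective A K) y
  exact ⟨x, by rw [Theta_eq_lTensor, hx]⟩

theorem Theta_eq_zero_of_mem (K : Ideal B) (A' : Type u) [CommRing A'] [Algebra A A']
    {v : A' ⊗[A] B}
    (hv : v ∈ K.map (Algebra.TensorProduct.includeRight : B →ₐ[A] A' ⊗[A] B)) :
    Theta K A' v = 0 := by
  have hle : K.map (Algebra.TensorProduct.includeRight : B →ₐ[A] A' ⊗[A] B) ≤
      RingHom.ker ((Theta (A := A) K A' : A' ⊗[A] B →ₐ[A'] A' ⊗[A] (B ⧸ K)) :
        A' ⊗[A] B →+* A' ⊗[A] (B ⧸ K)) := by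
    rw [Ideal.map_le_iff_le_comap]
    intro b hb
    rw [Ideal.mem_comap, RingHom.mem_ker]
    show Theta K A' ((1 : A') ⊗ₜ[A] b) = 0
    rw [Theta_tmul, Ideal.Quotient.eq_zero_iff_mem.mpr hb, TensorProduct.tmul_zero]
  exact hle hv

theorem mem_of_Theta_eq_zero (K : Ideal B) (A' : Type u) [CommRing A'] [Algebra A A']
    {v : A' ⊗[A] B} (hv : Theta K A' v = 0) :
    v ∈ K.map (Algebra.TensorProduct.includeRight : B →ₐ[A] A' ⊗[A] B) := by
  have hex : Function.Exact (K.restrictScalars A).subtype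
      (Ideal.Quotient.mkₐ A K).toLinearMap := by
    intro b
    constructor
    · intro hb
      exact ⟨⟨b, Ideal.Quotient.eq_zero_iff_mem.mp hb⟩, rfl⟩
    · rintro ⟨y, rfl⟩
      exact Ideal.Quotient.eq_zero_iff_mem.mpr y.2
  have h2 := lTensor_exact A' hex (Ideal.Quotient.mkₐ_surjective A K)
  rw [Theta_eq_lTensor] at hv
  obtain ⟨y, hy⟩ := (h2 v).mp hv
  have h3 : v ∈ (K.map (Algebra.TensorProduct.includeRight :
      B →ₐ[A] A' ⊗[A] B)).restrictScalars A := by
    rw [Ideal.map_includeRight_eq]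
    exact ⟨y, hy⟩
  exact h3

theorem Theta_nat (K : Ideal B) {A' A'' : Type u} [CommRing A'] [Algebra A A'] [CommRing A'']
    [Algebra A A''] (f : A' →ₐ[A] A'') (v : A' ⊗[A] B) :
    Theta K A'' (Algebra.TensorProduct.map f (AlgHom.id A B) v) =
      Algebra.TensorProduct.map f (AlgHom.id A (B ⧸ K)) (Theta K A' v) := by
  induction v using TensorProduct.induction_on with
  | zero => simp
  | tmul a b => rfl
  | add x y hx hy => rw [map_add, map_add, hx, hy, map_add, map_add]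

end Theta

section LemmaN

variable {A : Type u} [CommRing A] {B : Type u} [CommRing B] [Algebra A B] {d : ℕ}

/-- over a domain, an element that is nilpotent modulo the kernel of the base change has
characteristic polynomial `(-X)^d` -/
theorem chiRelB_of_pow_mem_kerBC (F : MulLaw A B A d) (κ : Type u) [CommRing κ] [IsDomain κ]
    [Algebra A κ] (v : κ ⊗[A] B) (N : ℕ) (h : v ^ N ∈ PolLaw.kerBC F.law κ) :
    chiRelB F κ v = (-X) ^ d := by
  set V : κ[X] ⊗[A] B :=
    Algebra.TensorProduct.map (Polynomial.CAlgHom (R := A) (A := κ)) (AlgHom.id A B) v with hV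
  set Xb : κ[X] ⊗[A] B := (X : κ[X]) ⊗ₜ[A] (1 : B) with hXb
  have h1 : (Polynomial.CAlgHom (R := A) (A := κ)) = IsScalarTower.toAlgHom A κ κ[X] := by
    refine AlgHom.ext fun s => ?_
    rfl
  have hVN : val F.law κ[X] (Xb ^ N - V ^ N) = val F.law κ[X] (Xb ^ N) := by
    have h2 := h κ[X] (Xb ^ N) (-1)
    rw [map_pow, ← h1, ← hV] at h2
    have h3 : Xb ^ N + -1 * V ^ N = Xb ^ N - V ^ N := by ring
    rw [h3] at h2
    unfold val
    rw [h2]
  have hXbN : val F.law κ[X] (Xb ^ N) = X ^ (N * d) := by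
    have h2 : Xb ^ N = ((X : κ[X]) ^ N) • (1 : κ[X] ⊗[A] B) := by
      rw [hXb, Algebra.TensorProduct.tmul_pow, one_pow, Algebra.TensorProduct.one_def,
        TensorProduct.smul_tmul', smul_eq_mul, mul_one]
    rw [h2, val_smul F.law F.homog, val_one F.law F.mult, mul_one, ← pow_mul]
  have hg := geom_sum₂_mul Xb V N
  have hprod : val F.law κ[X] (∑ i ∈ Finset.range N, Xb ^ i * V ^ (N - 1 - i)) *
      val F.law κ[X] (Xb - V) = X ^ (N * d) := by
    rw [← val_mul F.law F.mult, hg, hVN, hXbN]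
  have hχ : chiRelB F κ v = (-1) ^ d * val F.law κ[X] (Xb - V) := by
    unfold chiRelB zuB
    rw [← hV, ← hXb]
    have h2 : V - Xb = ((-1 : κ[X]) • (1 : κ[X] ⊗[A] B)) * (Xb - V) := by
      rw [Algebra.TensorProduct.one_def, TensorProduct.smul_tmul', smul_eq_mul, mul_one,
        TensorProduct.neg_tmul, ← Algebra.TensorProduct.one_def]
      ring
    rw [h2, val_mul F.law F.mult, val_smul F.law F.homog, val_one F.law F.mult, mul_one]
  have hsq : ((-1 : κ[X]) ^ d) * ((-1 : κ[X]) ^ d) = 1 := by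
    rw [← mul_pow]; simp
  have hdvd : chiRelB F κ v ∣ X ^ (N * d) := by
    refine ⟨(-1) ^ d * val F.law κ[X] (∑ i ∈ Finset.range N, Xb ^ i * V ^ (N - 1 - i)), ?_⟩
    rw [hχ, ← hprod]
    linear_combination (-(val F.law κ[X] (∑ i ∈ Finset.range N, Xb ^ i * V ^ (N - 1 - i)) *
      val F.law κ[X] (Xb - V))) * hsq
  obtain ⟨m, _, hassoc⟩ := (dvd_prime_pow Polynomial.prime_X (N * d)).mp hdvd
  obtain ⟨w, hw⟩ := hassoc
  obtain ⟨c, hc, hcw⟩ := Polynomial.isUnit_iff.mp w.isUnit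
  rw [← hcw] at hw
  have hcoeff : ∀ k, (chiRelB F κ v).coeff k * c = if k = m then 1 else 0 := by
    intro k
    have := congrArg (fun q => q.coeff k) hw
    simpa [coeff_mul_C, coeff_X_pow] using this
  have hc0 : c ≠ 0 := hc.ne_zero
  have hdm : d = m := by
    by_contra hne
    have h2 := hcoeff d
    rw [if_neg hne, chiRelB_coeff_d] at h2
    rcases mul_eq_zero.mp h2 with h3 | h3
    · exact absurd h3 (pow_ne_zero d (neg_ne_zero.mpr one_ne_zero))
    · exact hc0 h3
  subst hdm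
  ext k
  have h2 : ((-X : κ[X]) ^ d).coeff k = if k = d then (-1) ^ d else 0 := by
    rw [neg_pow, ← map_one (C : κ →+* κ[X]), ← map_neg, ← map_pow, coeff_C_mul, coeff_X_pow]
    split_ifs <;> simp
  rw [h2]
  split_ifs with hk
  · rw [hk, chiRelB_coeff_d]
  · have h3 := hcoeff k
    rw [if_neg hk] at h3
    exact (mul_eq_zero.mp h3).resolve_right hc0

end LemmaN

section Open

variable {A : Type u} [CommRing A] {B : Type u} [CommRing B] [Algebra A B] {d : ℕ}

/-- easy inclusion: if `ū ∉ Q` then some lower coefficient of `χ_u` is outside `Q ∩ A'` -/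
theorem exists_coeff_notMem (F : MulLaw A B A d) (A' : Type u) [CommRing A'] [Algebra A A']
    (u : A' ⊗[A] B) (Q : Ideal (A' ⊗[A] (B ⧸ PolLaw.ker F.law))) [Q.IsPrime]
    (hQ : Theta (PolLaw.ker F.law) A' u ∉ Q) :
    ∃ k < d, (chiRelB F A' u).coeff k ∉
      Q.comap (algebraMap A' (A' ⊗[A] (B ⧸ PolLaw.ker F.law))) := by
  by_contra hcon
  have hall : ∀ k < d, (chiRelB F A' u).coeff k ∈
      Q.comap (algebraMap A' (A' ⊗[A] (B ⧸ PolLaw.ker F.law))) := by
    intro k hk
    by_contra hne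
    exact hcon ⟨k, hk, hne⟩
  apply hQ
  set ub := Theta (PolLaw.ker F.law) A' u with hub
  have h0 : Polynomial.aeval ub (chiRelB F A' u) = 0 := by
    rw [hub, Polynomial.aeval_algHom_apply]
    exact Theta_eq_zero_of_mem _ _ (relCH F A' u)
  rw [Polynomial.aeval_def, Polynomial.eval₂_eq_sum_range' _
    (Nat.lt_succ_of_le (natDegree_chiRelB_le F A' u)), Finset.sum_range_succ,
    chiRelB_coeff_d] at h0
  have h1 : ∑ k ∈ Finset.range d, algebraMap A' (A' ⊗[A] (B ⧸ PolLaw.ker F.law))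
      ((chiRelB F A' u).coeff k) * ub ^ k ∈ Q := by
    refine Ideal.sum_mem _ fun k hk => ?_
    exact Ideal.mul_mem_right _ _ (hall k (Finset.mem_range.mp hk))
  have h2 : algebraMap A' (A' ⊗[A] (B ⧸ PolLaw.ker F.law)) ((-1) ^ d) * ub ^ d ∈ Q := by
    have : algebraMap A' (A' ⊗[A] (B ⧸ PolLaw.ker F.law)) ((-1) ^ d) * ub ^ d =
        -(∑ k ∈ Finset.range d, algebraMap A' (A' ⊗[A] (B ⧸ PolLaw.ker F.law))
          ((chiRelB F A' u).coeff k) * ub ^ k) := by
      rw [eq_neg_iff_add_eq_zero, add_comm]; exact h0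
    rw [this]
    exact Q.neg_mem h1
  have h3 : ub ^ d ∈ Q := by
    have h4 := Q.mul_mem_left (algebraMap A' (A' ⊗[A] (B ⧸ PolLaw.ker F.law)) ((-1) ^ d)) h2
    rw [← mul_assoc, ← map_mul, ← mul_pow, neg_mul_neg, one_mul, one_pow, map_one, one_mul] at h4
    exact h4
  exact Ideal.IsPrime.mem_of_pow_mem inferInstance d h3

/-- hard inclusion, abstract residue field -/
theorem exists_prime_of_coeff_notMem (F : MulLaw A B A d) (A' : Type u) [CommRing A']
    [Algebra A A'] (u : A' ⊗[A] B) (q : Ideal A') [q.IsPrime]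
    (κ : Type u) [Field κ] [Algebra A κ] [Algebra A' κ] [IsScalarTower A A' κ]
    (hκ : ∀ a : A', algebraMap A' κ a = 0 ↔ a ∈ q)
    (k : ℕ) (hk : k < d) (hck : (chiRelB F A' u).coeff k ∉ q) :
    ∃ Q : Ideal (A' ⊗[A] (B ⧸ PolLaw.ker F.law)), Q.IsPrime ∧
      Theta (PolLaw.ker F.law) A' u ∉ Q ∧
      Q.comap (algebraMap A' (A' ⊗[A] (B ⧸ PolLaw.ker F.law))) = q := by
  set K := PolLaw.ker F.law with hK
  let f : A' →ₐ[A] κ := IsScalarTower.toAlgHom A A' κ
  let ρ : A' ⊗[A] (B ⧸ K) →ₐ[A] κ ⊗[A] (B ⧸ K) :=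
    Algebra.TensorProduct.map f (AlgHom.id A (B ⧸ K))
  let v : κ ⊗[A] B := Algebra.TensorProduct.map f (AlgHom.id A B) u
  have hρ : ρ (Theta K A' u) = Theta K κ v := (Theta_nat K f u).symm
  -- `ρ ū` is not nilpotent
  have hnil : ¬ IsNilpotent (ρ (Theta K A' u)) := by
    rintro ⟨N, hN⟩
    rw [hρ, ← map_pow] at hN
    have h1 := mem_of_Theta_eq_zero K κ hN
    have h2 := map_ker_le_kerBC F.law κ h1
    have h3 := chiRelB_of_pow_mem_kerBC F κ v N h2
    have h4 : chiRelB F κ v = Polynomial.map (f : A' →+* κ) (chiRelB F A' u) :=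
      chiRelB_map F f u
    rw [h4] at h3
    have h5 := congrArg (fun p => p.coeff k) h3
    simp only [Polynomial.coeff_map] at h5
    have h6 : ((-X : κ[X]) ^ d).coeff k = 0 := by
      rw [neg_pow, ← map_one (C : κ →+* κ[X]), ← map_neg, ← map_pow, coeff_C_mul, coeff_X_pow,
        if_neg (Nat.ne_of_lt hk), mul_zero]
    rw [h6] at h5
    exact hck ((hκ _).mp h5)
  rw [nilpotent_iff_mem_prime] at hnil
  obtain ⟨QT, hQT⟩ := not_forall.mp hnil
  obtain ⟨hQTp, hQTn⟩ := Classical.not_imp.mp hQT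
  refine ⟨QT.comap (ρ : A' ⊗[A] (B ⧸ K) →+* κ ⊗[A] (B ⧸ K)), Ideal.comap_isPrime _ _, ?_, ?_⟩
  · intro hmem
    exact hQTn hmem
  · ext a
    rw [Ideal.mem_comap, Ideal.mem_comap]
    have h1 : ρ (algebraMap A' (A' ⊗[A] (B ⧸ K)) a) =
        algebraMap κ (κ ⊗[A] (B ⧸ K)) (algebraMap A' κ a) := by
      rw [Algebra.TensorProduct.algebraMap_apply, Algebra.TensorProduct.algebraMap_apply]
      show ρ (a ⊗ₜ[A] 1) = _
      rfl
    show ρ (algebraMap A' (A' ⊗[A] (B ⧸ K)) a) ∈ QT ↔ a ∈ q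
    rw [h1, ← hκ]
    have hbot : QT.comap (algebraMap κ (κ ⊗[A] (B ⧸ K))) = ⊥ := Ideal.eq_bot_of_prime _
    constructor
    · intro hmem
      have : algebraMap A' κ a ∈ QT.comap (algebraMap κ (κ ⊗[A] (B ⧸ K))) := hmem
      rwa [hbot, Ideal.mem_bot] at this
    · intro h0
      rw [h0, map_zero]
      exact QT.zero_mem

theorem image_basicOpen (F : MulLaw A B A d) (A' : Type u) [CommRing A'] [Algebra A A']
    (u : A' ⊗[A] B) :
    PrimeSpectrum.comap (algebraMap A' (A' ⊗[A] (B ⧸ PolLaw.ker F.law))) ''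
      (PrimeSpectrum.basicOpen (Theta (PolLaw.ker F.law) A' u) : Set _) =
      ⋃ k ∈ Finset.range d,
        (PrimeSpectrum.basicOpen ((chiRelB F A' u).coeff k) : Set (PrimeSpectrum A')) := by
  ext q
  simp only [Set.mem_image, Set.mem_iUnion, Finset.mem_range, SetLike.mem_coe,
    PrimeSpectrum.mem_basicOpen, exists_prop]
  constructor
  · rintro ⟨Q, hQ, rfl⟩
    obtain ⟨k, hk, hck⟩ := exists_coeff_notMem F A' u Q.asIdeal hQ
    exact ⟨k, hk, hck⟩
  · rintro ⟨k, hk, hck⟩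
    let _ : Algebra A q.asIdeal.ResidueField :=
      ((algebraMap A' q.asIdeal.ResidueField).comp (algebraMap A A')).toAlgebra
    have : IsScalarTower A A' q.asIdeal.ResidueField :=
      IsScalarTower.of_algebraMap_eq fun _ => rfl
    obtain ⟨Q, hQp, hQn, hQc⟩ := exists_prime_of_coeff_notMem F A' u q.asIdeal
      q.asIdeal.ResidueField (fun a => Ideal.algebraMap_residueField_eq_zero) k hk hck
    refine ⟨⟨Q, hQp⟩, hQn, ?_⟩
    ext1
    exact hQc

theorem isOpenMap_comap (F : MulLaw A B A d) (A' : Type u) [CommRing A'] [Algebra A A'] :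
    IsOpenMap (PrimeSpectrum.comap (algebraMap A' (A' ⊗[A] PolLaw.image F.law))) := by
  rw [PrimeSpectrum.isTopologicalBasis_basic_opens.isOpenMap_iff]
  rintro _ ⟨ub, rfl⟩
  obtain ⟨u, rfl⟩ := Theta_surjective (PolLaw.ker F.law) A' ub
  rw [image_basicOpen]
  exact isOpen_biUnion fun k _ => (PrimeSpectrum.basicOpen _).isOpen

end Open

end Groth.Agent.Lib.Helper59.UnivOpen
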